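/-
Vocabulary for the local analysis of the odd order theorem: `π`-numbers, `π`-cores and Hall subgroups
of a subgroup, seen in the ambient group.
-/
import Cfsg.Agent.Lib.Comp.CharL
import Cfsg.Agent.Lib.Solv.Prim
import Cfsg.Agent.Lib.Transfer.NPC
import Cfsg.Agent.Lib.Transfer.Rank
import Cfsg.Prelude.Def_OddOrderLocal

set_option autoImplicit false
set_option linter.unusedSectionVars false

namespace Cfsg.Agent.BG

open Subgroup Comp
open scoped commutatorElement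

universe u

/-- normalizer of a subgroup -/
scoped notation:max "Nm(" H ")" => Subgroup.normalizer (SetLike.coe H)
/-- centralizer of a subgroup -/
scoped notation:max "Ct(" H ")" => Subgroup.centralizer (SetLike.coe H)
/-- centralizer of an element -/
scoped notation:max "C1(" x ")" => Subgroup.centralizer (Singleton.singleton x : Set _)

/-! ### `π`-numbers -/

/-- every prime divisor of `n` lies in `π` -/
def PiN (π : Set ℕ) (n : ℕ) : Prop := ∀ p : ℕ, p.Prime → p ∣ n → p ∈ π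

/-- the set of prime divisors of `n` -/
def primesOf (n : ℕ) : Set ℕ := {p | p.Prime ∧ p ∣ n}

section
variable {π ρ : Set ℕ} {m n : ℕ}

theorem mem_primesOf {p : ℕ} : p ∈ primesOf n ↔ p.Prime ∧ p ∣ n := Iff.rfl

theorem PiN.of_dvd (h : PiN π n) (hd : m ∣ n) : PiN π m := fun p hp h' => h p hp (h'.trans hd)

theorem PiN.mono (h : PiN π n) (hs : π ⊆ ρ) : PiN ρ n := fun p hp h' => hs (h p hp h')

theorem PiN.mono' (h : PiN π n) (hs : ∀ p : ℕ, p.Prime → p ∣ n → p ∈ π → p ∈ ρ) : PiN ρ n :=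
  fun p hp h' => hs p hp h' (h p hp h')

theorem PiN.mul (h1 : PiN π m) (h2 : PiN π n) : PiN π (m * n) :=
  fun p hp h => ((Nat.Prime.dvd_mul hp).1 h).elim (h1 p hp) (h2 p hp)

theorem piN_mul : PiN π (m * n) ↔ PiN π m ∧ PiN π n :=
  ⟨fun h => ⟨h.of_dvd (dvd_mul_right _ _), h.of_dvd (dvd_mul_left _ _)⟩, fun h => h.1.mul h.2⟩

theorem piN_one : PiN π 1 := fun _ hp h => absurd (Nat.dvd_one.1 h) hp.ne_one

theorem PiN.pow (h : PiN π n) (k : ℕ) : PiN π (n ^ k) :=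
  fun p hp h' => h p hp (hp.dvd_of_dvd_pow h')

theorem piN_prime {p : ℕ} (hp : p.Prime) : PiN π p ↔ p ∈ π :=
  ⟨fun h => h p hp dvd_rfl, fun h q hq hd => by rwa [(Nat.prime_dvd_prime_iff_eq hq hp).1 hd]⟩

theorem piN_univ : PiN Set.univ n := fun _ _ _ => trivial

theorem PiN.inter (h1 : PiN π n) (h2 : PiN ρ n) : PiN (π ∩ ρ) n :=
  fun p hp h => ⟨h1 p hp h, h2 p hp h⟩

theorem PiN.coprime (h1 : PiN π m) (h2 : PiN πᶜ n) : m.Coprime n :=
  Nat.coprime_of_dvd fun p hp a b => h2 p hp b (h1 p hp a)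

theorem PiN.coprime' (h1 : PiN πᶜ m) (h2 : PiN π n) : m.Coprime n := (h2.coprime h1).symm

theorem PiN.coprime_of_disjoint (h1 : PiN π m) (h2 : PiN ρ n) (h : ∀ p, p ∈ π → p ∉ ρ) :
    m.Coprime n :=
  Nat.coprime_of_dvd fun p hp a b => h p (h1 p hp a) (h2 p hp b)

theorem PiN.eq_one (h1 : PiN π n) (h2 : PiN πᶜ n) : n = 1 := by
  simpa using h1.coprime h2

theorem PiN.not_dvd {p : ℕ} (h : PiN π n) (hp : p.Prime) (h' : p ∉ π) : ¬ p ∣ n :=
  fun hd => h' (h p hp hd)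

theorem piN_compl_iff : PiN πᶜ n ↔ ∀ p : ℕ, p.Prime → p ∈ π → ¬ p ∣ n :=
  ⟨fun h p hp h1 h2 => h p hp h2 h1, fun h p hp h1 h2 => h p hp h2 h1⟩

theorem piN_primesOf (n : ℕ) : PiN (primesOf n) n := fun _ hp h => ⟨hp, h⟩

theorem piN_iff_subset : PiN π n ↔ primesOf n ⊆ π :=
  ⟨fun h p hp => h p hp.1 hp.2, fun h _ hp hd => h ⟨hp, hd⟩⟩

theorem piN_compl_primesOf : PiN (primesOf m)ᶜ n ↔ n.Coprime m :=
  ⟨fun h => h.coprime' (piN_primesOf m), fun h p hp h1 h2 =>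
    hp.ne_one (Nat.eq_one_of_dvd_coprimes h h1 h2.2)⟩

theorem piN_primesNotDvd : PiN (primesNotDvd m) n ↔ n.Coprime m := by
  rw [← piN_compl_primesOf]
  exact ⟨fun h p hp h1 h2 => (h p hp h1).2 h2.2, fun h p hp h1 => ⟨hp, fun h2 => h p hp h1 ⟨hp, h2⟩⟩⟩

theorem piN_congr (h : ∀ p : ℕ, p.Prime → (p ∈ π ↔ p ∈ ρ)) : PiN π n ↔ PiN ρ n :=
  ⟨fun h1 p hp hd => (h p hp).1 (h1 p hp hd), fun h1 p hp hd => (h p hp).2 (h1 p hp hd)⟩

theorem piN_compl_singleton {p : ℕ} [hp : Fact p.Prime] : PiN {p}ᶜ n ↔ n.Coprime p :=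
  forall_prime_not_mem_singleton

theorem piN_compl_singleton' {p : ℕ} [hp : Fact p.Prime] : PiN {p}ᶜ n ↔ ¬ p ∣ n :=
  piN_compl_singleton.trans coprime_iff_not_dvd

theorem piN_singleton {p : ℕ} [hp : Fact p.Prime] (hn : n ≠ 0) : PiN {p} n ↔ ∃ k, n = p ^ k :=
  forall_prime_mem_singleton hn

theorem piN_pow_prime {p : ℕ} (hp : p.Prime) (h : p ∈ π) (k : ℕ) : PiN π (p ^ k) :=
  ((piN_prime hp).2 h).pow k

theorem PiN.coprime_prime {p : ℕ} (h : PiN π n) (hp : p.Prime) (h' : p ∉ π) : n.Coprime p :=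
  ((Nat.Prime.coprime_iff_not_dvd hp).2 (h.not_dvd hp h')).symm

end

variable {G : Type u} [Group G]

/-- `H` is a `π`-group -/
abbrev IsPi (π : Set ℕ) (H : Subgroup G) : Prop := PiN π (Nat.card H)

/-- `O_π(M)` in the ambient group -/
abbrev Opi (π : Set ℕ) (M : Subgroup G) : Subgroup G := (piCl π).radOf M

/-- `H` is a Hall `π`-subgroup of `M` -/
abbrev HallIn (π : Set ℕ) (H M : Subgroup G) : Prop := IsPiHallOf π H M

theorem piCoreOf_eq (π : Set ℕ) (M : Subgroup G) : piCoreOf π M = Opi π M := rfl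
theorem map_piCore (π : Set ℕ) (M : Subgroup G) : (piCore π M).map M.subtype = Opi π M := rfl
theorem fittingOf_eq (M : Subgroup G) : fittingOf M = Fit M := rfl
theorem sigmaCore_eq (M : Subgroup G) : sigmaCore M = Opi (sigma M) M := rfl
theorem alphaCore_eq (M : Subgroup G) : alphaCore M = Opi (alpha M) M := rfl
theorem res_eq [Finite G] {p : ℕ} [Fact p.Prime] (H : Subgroup G) : Transfer.res p H = Res p H :=
  map_pResidual H

theorem smul_eq_cj (g : G) (H : Subgroup G) :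
    (open scoped Pointwise in MulAut.conj g • H) = cj(g, H) := rfl

theorem comm_iff_le {A : Subgroup G} : IsMulCommutative A ↔ A ≤ Ct(A) :=
  Transfer.comm_iff_le_centralizer

theorem mem_C1 {x g : G} : g ∈ C1(x) ↔ x * g = g * x := Solv.mem_centralizer_singleton

theorem mem_Ct {H : Subgroup G} {g : G} : g ∈ Ct(H) ↔ ∀ h ∈ H, h * g = g * h := Iff.rfl

theorem le_Ct_comm {H K : Subgroup G} : H ≤ Ct(K) ↔ K ≤ Ct(H) := le_centralizer_iff

theorem Ct_le_Nm (H : Subgroup G) : Ct(H) ≤ Nm(H) := centralizer_le_normalizer _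

theorem le_Nm_of_le_Ct' {A K : Subgroup G} (h : K ≤ Ct(A)) : A ≤ Nm(K) :=
  (le_Ct_comm.1 h).trans (Ct_le_Nm K)

theorem commutator_eq_bot_iff_le {H K : Subgroup G} : ⁅H, K⁆ = ⊥ ↔ H ≤ Ct(K) :=
  commutator_eq_bot_iff_le_centralizer

theorem self_mem_C1 (x : G) : x ∈ C1(x) := mem_C1.2 rfl

theorem card_ne_zero [Finite G] (H : Subgroup G) : Nat.card H ≠ 0 := Nat.card_pos.ne'

theorem card_dvd_of_le' {H K : Subgroup G} (h : H ≤ K) : Nat.card H ∣ Nat.card K :=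
  card_dvd_of_le h

theorem odd_of_le {H K : Subgroup G} (h : H ≤ K) (hK : Odd (Nat.card K)) : Odd (Nat.card H) :=
  hK.of_dvd_nat (card_dvd_of_le h)

theorem odd_subgroup (hG : Odd (Nat.card G)) (H : Subgroup G) : Odd (Nat.card H) :=
  hG.of_dvd_nat H.card_subgroup_dvd_card

theorem odd_map {G' : Type*} [Group G'] (f : G →* G') {H : Subgroup G} (h : Odd (Nat.card H)) :
    Odd (Nat.card (H.map f)) := h.of_dvd_nat (card_map_dvd H f)

theorem ne_two_of_dvd {p n : ℕ} (hn : Odd n) (h : p ∣ n) : p ≠ 2 := by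
  rintro rfl; exact (Nat.not_even_iff_odd.2 hn) (even_iff_two_dvd.2 h)

theorem odd_of_isPGroup [Finite G] {p : ℕ} [hp : Fact p.Prime] (h2 : p ≠ 2) {P : Subgroup G}
    (h : IsPGroup p P) : Odd (Nat.card P) := by
  obtain ⟨n, hn⟩ := IsPGroup.iff_card.1 h
  rw [hn]; exact (hp.out.odd_of_ne_two h2).pow

theorem ne_two_of_isPGroup [Finite G] {p : ℕ} [hp : Fact p.Prime] {P : Subgroup G}
    (h : IsPGroup p P) (h1 : P ≠ ⊥) (ho : Odd (Nat.card P)) : p ≠ 2 :=
  ne_two_of_dvd ho (dvd_card_of_isPGroup h h1)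

theorem relIndex_cj (g : G) (H K : Subgroup G) : (cj(g, H)).relIndex cj(g, K) = H.relIndex K :=
  Transfer.relIndex_cj g H K

theorem relIndex_dvd_of_le {H K L : Subgroup G} (h1 : H ≤ K) (h2 : K ≤ L) :
    K.relIndex L ∣ H.relIndex L := Dvd.intro_left _ (relIndex_mul_relIndex H K L h1 h2)

theorem relIndex_dvd_of_le' {H K L : Subgroup G} (h1 : H ≤ K) (h2 : K ≤ L) :
    H.relIndex K ∣ H.relIndex L := Dvd.intro _ (relIndex_mul_relIndex H K L h1 h2)

theorem ne_bot_of_dvd {H : Subgroup G} {p : ℕ} (hp : p.Prime) (h : p ∣ Nat.card H) : H ≠ ⊥ := by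
  rintro rfl; rw [card_bot] at h; exact hp.ne_one (Nat.dvd_one.1 h)

theorem eq_of_le_of_card_eq [Finite G] {H K : Subgroup G} (h : H ≤ K)
    (hc : Nat.card H = Nat.card K) : H = K := Solv.eq_of_le_of_card_le h hc.ge

theorem eq_bot_or_eq_of_card_prime [Finite G] {X Y : Subgroup G} (hX : (Nat.card X).Prime)
    (h : Y ≤ X) : Y = ⊥ ∨ Y = X := by
  rcases (Nat.dvd_prime hX).1 (card_dvd_of_le h) with h1 | h1
  · exact Or.inl (card_eq_one.1 h1)
  · exact Or.inr (eq_of_le_of_card_eq h h1)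

theorem le_or_inf_eq_bot [Finite G] {X : Subgroup G} (hX : (Nat.card X).Prime) (Y : Subgroup G) :
    X ≤ Y ∨ X ⊓ Y = ⊥ := by
  rcases eq_bot_or_eq_of_card_prime hX (inf_le_left (b := Y)) with h | h
  · exact Or.inr h
  · exact Or.inl (inf_eq_left.1 h)

theorem le_of_inf_ne_bot [Finite G] {X Y : Subgroup G} (hX : (Nat.card X).Prime)
    (h : X ⊓ Y ≠ ⊥) : X ≤ Y := (le_or_inf_eq_bot hX Y).resolve_right h

/-! ### `π`-groups -/

section
variable {π ρ : Set ℕ} {p : ℕ}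

theorem IsPi.of_le {H K : Subgroup G} (hK : IsPi π K) (h : H ≤ K) : IsPi π H :=
  PiN.of_dvd hK (card_dvd_of_le h)

theorem isPi_bot : IsPi π (⊥ : Subgroup G) := by
  unfold IsPi; rw [card_bot]; exact piN_one

theorem IsPi.map {G' : Type u} [Group G'] {H : Subgroup G} (h : IsPi π H) (f : G →* G') :
    IsPi π (H.map f) := PiN.of_dvd h (card_map_dvd H f)

theorem isPi_cj {H : Subgroup G} {g : G} : IsPi π cj(g, H) ↔ IsPi π H := by
  unfold IsPi; rw [card_cj]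

theorem IsPi.cj {H : Subgroup G} (h : IsPi π H) (g : G) : IsPi π cj(g, H) := isPi_cj.2 h

theorem IsPi.subgroupOf {H : Subgroup G} (h : IsPi π H) (M : Subgroup G) :
    IsPi π (H.subgroupOf M) := by
  unfold IsPi; rw [Solv.card_subgroupOf]; exact h.of_le inf_le_left

theorem IsPi.sup {H K : Subgroup G} (hH : IsPi π H) (hK : IsPi π K) (h : H ≤ Nm(K)) :
    IsPi π (H ⊔ K) := PiN.of_dvd (PiN.mul hH hK) (card_sup_dvd h)

theorem IsPi.sup' {H K : Subgroup G} (hH : IsPi π H) (hK : IsPi π K) (h : K ≤ Nm(H)) :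
    IsPi π (H ⊔ K) := by rw [sup_comm]; exact hK.sup hH h

theorem IsPi.of_relIndex {H K : Subgroup G} (hH : IsPi π H) (h : PiN π (H.relIndex K)) :
    IsPi π K := by
  unfold IsPi; rw [← relIndex_mul_card_inf H K]; exact h.mul (hH.of_le inf_le_left)

theorem IsPi.relIndex {K : Subgroup G} (hK : IsPi π K) (H : Subgroup G) :
    PiN π (H.relIndex K) := PiN.of_dvd hK (relIndex_dvd_card' H K)

theorem IsPi.orderOf {H : Subgroup G} (h : IsPi π H) {x : G} (hx : x ∈ H) : PiN π (orderOf x) :=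
  PiN.of_dvd h (Solv.orderOf_dvd_card_of_mem hx)

theorem isPi_zpowers {x : G} : IsPi π (zpowers x) ↔ PiN π (orderOf x) := by
  unfold IsPi; rw [Nat.card_zpowers]

variable [Finite G]

theorem isPi_of_forall {H : Subgroup G} (h : ∀ x ∈ H, PiN π (orderOf x)) : IsPi π H := by
  intro p hp hd
  haveI := Fact.mk hp
  obtain ⟨x, hx, ho⟩ := exists_mem_orderOf_eq hd
  exact h x hx p hp (ho ▸ dvd_rfl)

theorem IsPi.inf_eq_bot {H K : Subgroup G} (hH : IsPi π H) (hK : IsPi πᶜ K) : H ⊓ K = ⊥ :=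
  eq_bot_of_coprime (PiN.coprime hH hK)

theorem IsPi.eq_bot {H : Subgroup G} (h1 : IsPi π H) (h2 : IsPi πᶜ H) : H = ⊥ :=
  card_eq_one.1 (PiN.eq_one h1 h2)

theorem isPi_singleton [Fact p.Prime] {H : Subgroup G} : IsPi {p} H ↔ IsPGroup p H := by
  unfold IsPi; rw [piN_singleton (card_ne_zero H), IsPGroup.iff_card]

theorem isPi_compl_singleton [Fact p.Prime] {H : Subgroup G} :
    IsPi {p}ᶜ H ↔ (Nat.card H).Coprime p := piN_compl_singleton

theorem isPi_of_isPGroup [Fact p.Prime] {H : Subgroup G} (h : IsPGroup p H) (hp : p ∈ π) :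
    IsPi π H := PiN.mono (isPi_singleton.2 h) (Set.singleton_subset_iff.2 hp)

theorem IsPi.mem_of_isPGroup [hp : Fact p.Prime] {H : Subgroup G} (h : IsPi π H) (h1 : IsPGroup p H)
    (h2 : H ≠ ⊥) : p ∈ π := h p hp.out (dvd_card_of_isPGroup h1 h2)

theorem IsPi.eq_bot_of_isPGroup [Fact p.Prime] {H : Subgroup G} (h : IsPi π H) (h1 : IsPGroup p H)
    (hp : p ∉ π) : H = ⊥ := by
  by_contra h2; exact hp (h.mem_of_isPGroup h1 h2)

theorem IsPi.of_map {G' : Type u} [Group G'] (f : G →* G') {H : Subgroup G}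
    (h1 : IsPi π (H.map f)) (h2 : IsPi π (H ⊓ f.ker)) : IsPi π H := by
  unfold IsPi; rw [← Solv.card_map_mul_card_inf_ker f H]; exact PiN.mul h1 h2

theorem IsPi.le_of_relIndex {H N X : Subgroup G} (hH : IsPi π H) (h1 : N ≤ X) (h2 : H ≤ X)
    (h : H ≤ Nm(N)) (hi : PiN πᶜ (N.relIndex X)) : H ≤ N :=
  le_of_coprime_relIndex h1 h2 h (PiN.coprime hH hi)

/-! ### `π`-cores -/

omit [Finite G] in
theorem Opi_le (π : Set ℕ) (M : Subgroup G) : Opi π M ≤ M := map_subtype_le _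

theorem isPi_Opi (π : Set ℕ) (M : Subgroup G) : IsPi π (Opi π M) := FClass.radOf_P (C := piCl π) M

theorem le_Opi {N M : Subgroup G} (h1 : N ≤ M) (h2 : M ≤ Nm(N)) (h : IsPi π N) : N ≤ Opi π M :=
  FClass.le_radOf (C := piCl π) h1 h2 h

theorem _root_.Cfsg.Agent.Comp.SubnIn.le_Opi {N M : Subgroup G} (h1 : SubnIn N M) (h : IsPi π N) :
    N ≤ Opi π M := FClass.le_radOf_of_subnIn (C := piCl π) h1 h

theorem le_normalizer_Opi {A M : Subgroup G} (h : A ≤ Nm(M)) : A ≤ Nm(Opi π M) :=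
  FClass.le_normalizer_radOf _ h

theorem le_normalizer_Opi_of_le {A M : Subgroup G} (h : A ≤ M) : A ≤ Nm(Opi π M) :=
  le_normalizer_Opi (h.trans le_normalizer)

theorem Opi_subnIn (π : Set ℕ) (M : Subgroup G) : SubnIn (Opi π M) M := FClass.radOf_subnIn _ M

theorem cj_Opi (g : G) (M : Subgroup G) : cj(g, Opi π M) = Opi π cj(g, M) := FClass.cj_radOf _ g M

theorem Opi_mono (h : π ⊆ ρ) (M : Subgroup G) : Opi π M ≤ Opi ρ M :=
  le_Opi (Opi_le _ _) (le_normalizer_Opi_of_le le_rfl) (PiN.mono (isPi_Opi π M) h)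

theorem Opi_mono' {M : Subgroup G} (h : ∀ p : ℕ, p.Prime → p ∣ Nat.card M → p ∈ π → p ∈ ρ) :
    Opi π M ≤ Opi ρ M :=
  le_Opi (Opi_le _ _) (le_normalizer_Opi_of_le le_rfl)
    (PiN.mono' (isPi_Opi π M) fun p hp hd => h p hp (hd.trans (card_dvd_of_le (Opi_le _ _))))

theorem Opi_congr {M : Subgroup G} (h : ∀ p : ℕ, p.Prime → p ∣ Nat.card M → (p ∈ π ↔ p ∈ ρ)) :
    Opi π M = Opi ρ M :=
  le_antisymm (Opi_mono' fun p a b => (h p a b).1) (Opi_mono' fun p a b => (h p a b).2)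

theorem Opi_inf_le {K M : Subgroup G} (h : K ≤ M) : Opi π M ⊓ K ≤ Opi π K := FClass.radOf_inf_le h

theorem Opi_le_Opi {K M : Subgroup G} (h : K ≤ M) (h2 : Opi π M ≤ K) : Opi π M ≤ Opi π K :=
  FClass.radOf_le_radOf_of_le h h2

theorem Opi_le_Opi_of_subnIn {N M : Subgroup G} (h : SubnIn N M) : Opi π N ≤ Opi π M :=
  FClass.radOf_le_radOf_of_subnIn h

theorem Opi_le_Opi_of_normal {N M : Subgroup G} (h1 : N ≤ M) (h2 : M ≤ Nm(N)) :
    Opi π N ≤ Opi π M := Opi_le_Opi_of_subnIn (SubnIn.of_normalizer h1 h2)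

theorem Opi_eq_inf_of_subnIn {N M : Subgroup G} (h : SubnIn N M) : Opi π N = Opi π M ⊓ N :=
  FClass.radOf_eq_inf_of_subnIn h

theorem Opi_eq_self {M : Subgroup G} (h : IsPi π M) : Opi π M = M :=
  FClass.radOf_eq_self (C := piCl π) h

theorem Opi_eq_bot {M : Subgroup G} (h : IsPi πᶜ M) : Opi π M = ⊥ :=
  (isPi_Opi π M).eq_bot (h.of_le (Opi_le _ _))

theorem Opi_singleton [Fact p.Prime] (M : Subgroup G) : Opi {p} M = Op p M :=
  le_antisymm (le_Op (Opi_le _ _) (le_normalizer_Opi_of_le le_rfl) (isPi_singleton.1 (isPi_Opi _ _)))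
    (le_Opi (Op_le _ _) (le_normalizer_Op_of_le le_rfl) (isPi_singleton.2 (isPGroup_Op _ _)))

theorem Opi_compl_singleton [Fact p.Prime] (M : Subgroup G) : Opi {p}ᶜ M = Opp p M :=
  le_antisymm
    (le_Opp (Opi_le _ _) (le_normalizer_Opi_of_le le_rfl) (isPi_compl_singleton.1 (isPi_Opi _ _)))
    (le_Opi (Opp_le _ _) (le_normalizer_Opp_of_le le_rfl) (isPi_compl_singleton.2 (coprime_Opp _ _)))

theorem Op_le_Opi [Fact p.Prime] (h : p ∈ π) (M : Subgroup G) : Op p M ≤ Opi π M := by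
  rw [← Opi_singleton]; exact Opi_mono (Set.singleton_subset_iff.2 h) M

theorem Opi_le_Opp [Fact p.Prime] (h : p ∉ π) (M : Subgroup G) : Opi π M ≤ Opp p M := by
  rw [← Opi_compl_singleton]; exact Opi_mono (Set.subset_compl_singleton_iff.2 h) M

theorem Opi_Opi (M : Subgroup G) : Opi π (Opi ρ M) = Opi (π ∩ ρ) M := by
  refine le_antisymm (le_Opi ((Opi_le _ _).trans (Opi_le _ _))
    (le_normalizer_Opi (le_normalizer_Opi_of_le le_rfl))
    (PiN.inter (isPi_Opi _ _) ((isPi_Opi ρ M).of_le (Opi_le _ _)))) ?_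
  exact le_Opi (Opi_mono Set.inter_subset_right M) (le_normalizer_Opi_of_le (Opi_le _ _))
    (PiN.mono (isPi_Opi _ _) Set.inter_subset_left)

theorem Op_Opi [Fact p.Prime] (h : p ∈ π) (M : Subgroup G) : Op p (Opi π M) = Op p M := by
  rw [← Opi_singleton, Opi_Opi, Set.inter_eq_left.2 (Set.singleton_subset_iff.2 h), Opi_singleton]

theorem map_Opi_le {G' : Type u} [Group G'] [Finite G'] (f : G →* G') (M : Subgroup G) :
    (Opi π M).map f ≤ Opi π (M.map f) := FClass.map_radOf_le _ f M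

theorem map_Opi {G' : Type u} [Group G'] [Finite G'] (f : G →* G') {M : Subgroup G}
    (hk : IsPi π (M ⊓ f.ker)) : (Opi π M).map f = Opi π (M.map f) :=
  FClass.map_radOf_of_ext (piCl_ext π) f M hk

theorem Opi_subgroupOf {M K : Subgroup G} (h : M ≤ K) :
    Opi π (M.subgroupOf K) = (Opi π M).subgroupOf K := FClass.radOf_subgroupOf _ h

theorem Opi_top : Opi π (⊤ : Subgroup G) = piCore π G := FClass.radOf_top (piCl π)

theorem commutator_le_inf' {A B : Subgroup G} (h1 : A ≤ Nm(B)) (h2 : B ≤ Nm(A)) : ⁅A, B⁆ ≤ A ⊓ B :=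
  le_inf (commutator_le_left_of_le_normalizer h2) (commutator_le_right_of_le_normalizer h1)

theorem le_Ct_of_coprime {A B : Subgroup G} (h1 : A ≤ Nm(B)) (h2 : B ≤ Nm(A))
    (h : (Nat.card A).Coprime (Nat.card B)) : A ≤ Ct(B) :=
  Solv.le_centralizer_of_inf_eq_bot h1 h2 (eq_bot_of_coprime h)

theorem Opi_le_Ct_Opi (h : ∀ p, p ∈ π → p ∉ ρ) (M : Subgroup G) : Opi π M ≤ Ct(Opi ρ M) :=
  le_Ct_of_coprime (le_normalizer_Opi_of_le (Opi_le _ _)) (le_normalizer_Opi_of_le (Opi_le _ _))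
    (PiN.coprime_of_disjoint (isPi_Opi _ _) (isPi_Opi _ _) h)

theorem Opi_le_Ct_Opi_compl (π : Set ℕ) (M : Subgroup G) : Opi π M ≤ Ct(Opi πᶜ M) :=
  Opi_le_Ct_Opi (π := π) (ρ := πᶜ) (fun _ h h' => h' h) M

theorem Opi_inf_Opi_compl (π : Set ℕ) (M : Subgroup G) : Opi π M ⊓ Opi πᶜ M = ⊥ :=
  (isPi_Opi _ _).inf_eq_bot (isPi_Opi _ _)

theorem le_Opi_of_isNilpotent {Q M : Subgroup G} (hM : Group.IsNilpotent M) (h1 : Q ≤ M)
    (h2 : IsPi π Q) : Q ≤ Opi π M := (subnIn_of_isNilpotent hM h1).le_Opi h2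

theorem Opi_sup_Opi_compl {M : Subgroup G} (hM : Group.IsNilpotent M) (π : Set ℕ) :
    Opi π M ⊔ Opi πᶜ M = M := by
  refine le_antisymm (sup_le (Opi_le _ _) (Opi_le _ _)) (le_of_isNilpotent_of_Op_le hM ?_)
  intro q hq _
  haveI := Fact.mk hq
  by_cases h : q ∈ π
  · exact (Op_le_Opi h M).trans le_sup_left
  · exact (Op_le_Opi (π := πᶜ) h M).trans le_sup_right

theorem Opi_Fit (π : Set ℕ) (M : Subgroup G) : Opi π (Fit M) = Fit (Opi π M) := by
  refine le_antisymm (le_Fit (Opi_le_Opi_of_subnIn (Fit_subnIn M))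
    (le_normalizer_Opi (le_normalizer_Fit_of_le (Opi_le _ _)))
    (isNilpotent_of_le (Opi_le _ _) (isNilpotent_Fit M))) ?_
  refine le_Opi_of_isNilpotent (isNilpotent_Fit M) ?_ ((isPi_Opi π M).of_le (Fit_le _))
  exact FClass.radOf_le_radOf_of_subnIn (Opi_subnIn π M)

theorem Fit_le_Fit_of_subnIn {N M : Subgroup G} (h : SubnIn N M) : Fit N ≤ Fit M :=
  FClass.radOf_le_radOf_of_subnIn h

theorem Fit_le_Fit_of_normal {N M : Subgroup G} (h1 : N ≤ M) (h2 : M ≤ Nm(N)) : Fit N ≤ Fit M :=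
  Fit_le_Fit_of_subnIn (SubnIn.of_normalizer h1 h2)

theorem Op_le_Op_of_subnIn {N M : Subgroup G} (h : SubnIn N M) : Op p N ≤ Op p M :=
  FClass.radOf_le_radOf_of_subnIn h

theorem Op_le_Op_of_normal {N M : Subgroup G} (h1 : N ≤ M) (h2 : M ≤ Nm(N)) : Op p N ≤ Op p M :=
  Op_le_Op_of_subnIn (SubnIn.of_normalizer h1 h2)

theorem Opp_le_Opp_of_subnIn {N M : Subgroup G} (h : SubnIn N M) : Opp p N ≤ Opp p M :=
  FClass.radOf_le_radOf_of_subnIn h

theorem Opp_le_Opp_of_normal {N M : Subgroup G} (h1 : N ≤ M) (h2 : M ≤ Nm(N)) :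
    Opp p N ≤ Opp p M := Opp_le_Opp_of_subnIn (SubnIn.of_normalizer h1 h2)

theorem inf_Ct_Fit_le {H : Subgroup G} (hH : Group.IsSolvable H) : H ⊓ Ct(Fit H) ≤ Fit H :=
  Solv.inf_centralizer_map_fitting_le hH

theorem Fit_ne_bot {H : Subgroup G} (hH : Group.IsSolvable H) (h : H ≠ ⊥) : Fit H ≠ ⊥ :=
  Fit_ne_bot_of_isSolvable hH h (SubnIn.of_normalizer le_rfl le_normalizer)

/-! ### Hall subgroups -/

omit [Finite G] in
theorem hallIn_iff {H M : Subgroup G} :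
    HallIn π H M ↔ H ≤ M ∧ IsPi π H ∧ PiN πᶜ (H.relIndex M) :=
  ⟨fun h => ⟨h.1, h.2.1, piN_compl_iff.2 h.2.2⟩, fun h => ⟨h.1, h.2.1, piN_compl_iff.1 h.2.2⟩⟩

omit [Finite G] in
theorem hallIn_mk {H M : Subgroup G} (h1 : H ≤ M) (h2 : IsPi π H) (h3 : PiN πᶜ (H.relIndex M)) :
    HallIn π H M := hallIn_iff.2 ⟨h1, h2, h3⟩

omit [Finite G] in
theorem hallIn_top_iff {H : Subgroup G} : HallIn π H ⊤ ↔ IsPiHall π H := by
  unfold HallIn IsPiHallOf IsPiHall; rw [relIndex_top_right]; simp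

end

namespace HallIn
variable {π ρ : Set ℕ} {p : ℕ} {H K M : Subgroup G}

theorem le (h : HallIn π H M) : H ≤ M := h.1
theorem isPi (h : HallIn π H M) : IsPi π H := h.2.1
theorem index (h : HallIn π H M) : PiN πᶜ (H.relIndex M) := piN_compl_iff.2 h.2.2
theorem coprime (h : HallIn π H M) : (Nat.card H).Coprime (H.relIndex M) :=
  PiN.coprime h.isPi h.index

theorem of_le (h : HallIn π H M) (h1 : H ≤ K) (h2 : K ≤ M) : HallIn π H K :=
  hallIn_mk h1 h.isPi (h.index.of_dvd (relIndex_dvd_of_le' h1 h2))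

theorem index_of_le (h : HallIn π H M) (h1 : H ≤ K) (h2 : K ≤ M) : PiN πᶜ (K.relIndex M) :=
  h.index.of_dvd (relIndex_dvd_of_le h1 h2)

theorem trans_index (h : HallIn π H K) (h1 : K ≤ M) (h2 : PiN πᶜ (K.relIndex M)) : HallIn π H M :=
  hallIn_mk (h.le.trans h1) h.isPi
    (by rw [← relIndex_mul_relIndex H K M h.le h1]; exact h.index.mul h2)

theorem trans (h : HallIn π H K) (h' : HallIn ρ K M) (hs : π ⊆ ρ) : HallIn π H M :=
  h.trans_index h'.le (h'.index.mono (Set.compl_subset_compl.2 hs))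

theorem congr (h : HallIn π H M) (hs : ∀ p : ℕ, p.Prime → p ∣ Nat.card M → (p ∈ π ↔ p ∈ ρ)) :
    HallIn ρ H M :=
  ⟨h.1, fun p hp hd => (hs p hp (hd.trans (card_dvd_of_le h.1))).1 (h.2.1 p hp hd),
    fun p hp h1 hd => h.2.2 p hp ((hs p hp (hd.trans (relIndex_dvd_card' _ _))).2 h1) hd⟩

theorem cj (h : HallIn π H M) (g : G) : HallIn π cj(g, H) cj(g, M) :=
  hallIn_mk (cj_mono g h.le) (h.isPi.cj g) (by rw [relIndex_cj]; exact h.index)

theorem cj_of_mem (h : HallIn π H M) {g : G} (hg : g ∈ Nm(M)) : HallIn π cj(g, H) M := by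
  have := h.cj g; rwa [cj_eq_self_iff.2 hg] at this

theorem mem_of_dvd (h : HallIn π H M) (hp : p.Prime) (hd : p ∣ Nat.card H) : p ∈ π := h.2.1 p hp hd

theorem dvd_card (h : HallIn π H M) (hp : p.Prime) (h1 : p ∈ π) (hd : p ∣ Nat.card M) :
    p ∣ Nat.card H := by
  rw [← relIndex_mul_card h.le] at hd
  exact ((Nat.Prime.dvd_mul hp).1 hd).resolve_left (h.2.2 p hp h1)

variable [Finite G]

theorem card_dvd (h : HallIn π H M) (h1 : K ≤ M) (h2 : IsPi π K) : Nat.card K ∣ Nat.card H := by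
  have := card_dvd_of_le h1
  rw [← relIndex_mul_card h.le] at this
  exact (PiN.coprime h2 h.index).dvd_of_dvd_mul_left this

theorem card_eq (h : HallIn π H M) (h' : HallIn π K M) : Nat.card H = Nat.card K :=
  Nat.dvd_antisymm (h'.card_dvd h.le h.isPi) (h.card_dvd h'.le h'.isPi)

theorem eq_of_le (h : HallIn π H M) (h1 : K ≤ M) (h2 : IsPi π K) (h3 : H ≤ K) : K = H :=
  (Solv.eq_of_le_of_card_le h3 (Nat.le_of_dvd Nat.card_pos (h.card_dvd h1 h2))).symm

theorem of_card_le (h : HallIn π H M) (h1 : K ≤ M) (h2 : IsPi π K) (h3 : Nat.card H ≤ Nat.card K) :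
    HallIn π K M := by
  have e : Nat.card K = Nat.card H :=
    le_antisymm (Nat.le_of_dvd Nat.card_pos (h.card_dvd h1 h2)) h3
  refine hallIn_mk h1 h2 ?_
  have a := relIndex_mul_card h1
  rw [← relIndex_mul_card h.le, e] at a
  rw [Nat.eq_of_mul_eq_mul_right Nat.card_pos a]; exact h.index

theorem le_of_normalizer (h : HallIn π H M) (h1 : K ≤ M) (h2 : IsPi π K) (h3 : K ≤ Nm(H)) :
    K ≤ H := h2.le_of_relIndex h.le h1 h3 h.index

theorem le_of_normalizer' (h : HallIn π H M) (h1 : K ≤ M) (h2 : IsPi π K) (h3 : H ≤ Nm(K)) :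
    K ≤ H := by
  rw [← h.eq_of_le (sup_le h.le h1) (h.isPi.sup h2 h3) le_sup_left]; exact le_sup_right

theorem Opi_le (h : HallIn π H M) : Opi π M ≤ H :=
  h.le_of_normalizer' (BG.Opi_le _ _) (isPi_Opi _ _) (le_normalizer_Opi_of_le h.le)

theorem eq_Opi (h : HallIn π H M) (hn : M ≤ Nm(H)) : H = Opi π M :=
  le_antisymm (le_Opi h.le hn h.isPi) h.Opi_le

theorem normalizer_le (h : HallIn π H M) (hn : M ≤ Nm(H)) : Nm(M) ≤ Nm(H) := by
  rw [h.eq_Opi hn]; exact le_normalizer_Opi le_rfl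

theorem inf_normal {N : Subgroup G} (h : HallIn π H M) (h1 : N ≤ M) (h2 : M ≤ Nm(N)) :
    HallIn π (H ⊓ N) N := Solv.isPiHallOf_inf_normal h h1 h2

/-- a normal Hall subgroup meets every subgroup in a Hall subgroup -/
theorem normal_inf (h : HallIn π H M) (hn : M ≤ Nm(H)) (h1 : K ≤ M) : HallIn π (H ⊓ K) K := by
  refine hallIn_mk inf_le_right (h.isPi.of_le inf_le_left) ?_
  rw [inf_relIndex_right]
  exact h.index.of_dvd (relIndex_dvd_of_le_of_normalizer h.le h1 (h1.trans hn))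

theorem map {G' : Type u} [Group G'] (f : G →* G') (h : HallIn π H M) :
    HallIn π (H.map f) (M.map f) := by
  refine hallIn_mk (map_mono h.le) (h.isPi.map f) (h.index.of_dvd ?_)
  rw [← relIndex_comap, comap_map_eq, ← inf_relIndex_right _ M]
  exact relIndex_dvd_of_le (le_inf le_sup_left h.le) inf_le_right

omit [Finite G] in
theorem subgroupOf (h : HallIn π H M) {L : Subgroup G} (hL : M ≤ L) :
    HallIn π (H.subgroupOf L) (M.subgroupOf L) :=
  hallIn_mk (comap_mono h.le) (h.isPi.subgroupOf L) (by rw [relIndex_subgroupOf hL]; exact h.index)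

theorem eq_bot_iff (h : HallIn π H M) : H = ⊥ ↔ IsPi πᶜ M := by
  constructor
  · rintro rfl; have := h.index; rwa [relIndex_bot_left] at this
  · exact fun h' => h.isPi.eq_bot (h'.of_le h.le)

theorem eq_iff (h : HallIn π H M) : H = M ↔ IsPi π M :=
  ⟨fun e => e ▸ h.isPi, fun h' => (h.eq_of_le le_rfl h' h.le).symm⟩

theorem sylIn [hp : Fact p.Prime] {P : Subgroup G} (h : HallIn π H M) (h1 : p ∈ π)
    (hP : SylIn p P H) : SylIn p P M := hP.trans_of_not_dvd h.le (h.2.2 p hp.out h1)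

theorem isProd (h : HallIn π H M) (h' : HallIn πᶜ K M) : Solv.IsProd M H K :=
  Solv.isProd_of_coprime h.le h'.le (PiN.coprime h.index h'.index)

theorem sup_eq (h : HallIn π H M) (h' : HallIn πᶜ K M) : H ⊔ K = M :=
  le_antisymm (sup_le h.le h'.le) (h.isProd h').le_sup

theorem inf_eq_bot (h : HallIn π H M) (h' : HallIn πᶜ K M) : H ⊓ K = ⊥ := h.isPi.inf_eq_bot h'.isPi

theorem card_eq_relIndex (h : HallIn π H M) (h' : HallIn πᶜ K M) : Nat.card K = H.relIndex M := by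
  have a := (h.isProd h').card_mul h.le h'.le
  rw [h.inf_eq_bot h', card_bot, mul_one, ← relIndex_mul_card h.le, mul_comm] at a
  exact (Nat.eq_of_mul_eq_mul_left Nat.card_pos a).symm

theorem isComplIn (h : HallIn π H M) (h' : HallIn πᶜ K M) : IsComplIn H K M :=
  ⟨h.le, h'.le, h.inf_eq_bot h', h.isProd h'⟩

/-- a complement of a Hall `π`-subgroup is a Hall `π'`-subgroup -/
theorem compl_of_card (h : HallIn π H M) (h1 : K ≤ M) (h2 : Nat.card K = H.relIndex M) :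
    HallIn πᶜ K M := by
  refine hallIn_mk h1 (by unfold IsPi; rw [h2]; exact h.index) ?_
  have a := relIndex_mul_card h1
  rw [← relIndex_mul_card h.le, h2, mul_comm] at a
  rw [Nat.eq_of_mul_eq_mul_left (Nat.pos_of_ne_zero (relIndex_ne_zero' H M)) a, compl_compl]
  exact h.isPi

theorem compl_of_isComplIn (h : HallIn π H M) (hc : IsComplIn H K M) : HallIn πᶜ K M := by
  refine h.compl_of_card hc.2.1 ?_
  have a := Solv.IsProd.card_mul (S := M) hc.2.2.2 hc.1 hc.2.1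
  rw [hc.2.2.1, card_bot, mul_one, ← relIndex_mul_card h.le, mul_comm] at a
  exact (Nat.eq_of_mul_eq_mul_left Nat.card_pos a).symm

theorem compl_of_sup (h : HallIn π H M) (hn : K ≤ Nm(H)) (h1 : H ⊔ K = M) (h2 : H ⊓ K = ⊥) :
    HallIn πᶜ K M := by
  refine h.compl_of_card (h1 ▸ le_sup_right) ?_
  rw [← h1, sup_comm, relIndex_sup_of_le_normalizer hn, ← inf_relIndex_right, h2, relIndex_bot_left]

theorem exists_cj_eq (hM : Group.IsSolvable M) (h : HallIn π H M) (h' : HallIn π K M) :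
    ∃ g ∈ M, cj(g, H) = K := Solv.isPiHallOf_conj hM h h'

theorem exists_le_cj (hM : Group.IsSolvable M) (h : HallIn π H M) (h1 : K ≤ M) (h2 : IsPi π K) :
    ∃ g ∈ M, K ≤ cj(g, H) := by
  obtain ⟨L, hL, hKL⟩ := Solv.exists_isPiHallOf_ge hM h1 h2
  obtain ⟨g, hg, e⟩ := exists_cj_eq hM h hL
  exact ⟨g, hg, e ▸ hKL⟩

theorem exists_cj_le (hM : Group.IsSolvable M) (h : HallIn π H M) (h1 : K ≤ M) (h2 : IsPi π K) :
    ∃ g ∈ M, cj(g, K) ≤ H := by
  obtain ⟨g, hg, e⟩ := h.exists_le_cj hM h1 h2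
  exact ⟨g⁻¹, inv_mem hg, le_cj_iff.1 e⟩

/-- Frattini argument for Hall subgroups -/
theorem frattini {N : Subgroup G} (hN : Group.IsSolvable N) (h : HallIn π H N) (h1 : N ≤ M)
    (h2 : M ≤ Nm(N)) : N ⊔ (M ⊓ Nm(H)) = M := by
  refine le_antisymm (sup_le h1 inf_le_left) fun g hg => ?_
  obtain ⟨k, hk, hn⟩ := Solv.isPiHallOf_frattini_elt hN h (h2 hg)
  have : g = k * (k⁻¹ * g) := by group
  rw [this]
  exact mul_mem_sup hk ⟨M.mul_mem (M.inv_mem (h1 hk)) hg, hn⟩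

/-- a `π`-element of `M` lies in a normal Hall `π`-subgroup -/
theorem mem_of_piN (h : HallIn π H M) (hn : M ≤ Nm(H)) {x : G} (hx : x ∈ M)
    (ho : PiN π (orderOf x)) : x ∈ H :=
  zpowers_le.1 (h.le_of_normalizer (zpowers_le.2 hx) (isPi_zpowers.2 ho) ((zpowers_le.2 hx).trans hn))

end HallIn

section
variable [Finite G] {π : Set ℕ} {p : ℕ}

theorem hallIn_self {H : Subgroup G} (h : IsPi π H) : HallIn π H H :=
  hallIn_mk le_rfl h (by rw [relIndex_self]; exact piN_one)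

theorem hallIn_bot {M : Subgroup G} (h : IsPi πᶜ M) : HallIn π ⊥ M :=
  hallIn_mk bot_le isPi_bot (by rwa [relIndex_bot_left])

theorem hallIn_of_coprime {H M : Subgroup G} (h1 : H ≤ M)
    (h : (Nat.card H).Coprime (H.relIndex M)) : HallIn (primesOf (Nat.card H)) H M :=
  hallIn_mk h1 (piN_primesOf _) (piN_compl_primesOf.2 h.symm)

theorem hallIn_singleton [Fact p.Prime] {P M : Subgroup G} : HallIn {p} P M ↔ SylIn p P M := by
  rw [hallIn_iff, sylIn_iff, isPi_singleton, piN_compl_singleton']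

theorem _root_.Cfsg.Agent.Comp.SylIn.hallIn [Fact p.Prime] {P M : Subgroup G} (h : SylIn p P M) :
    HallIn {p} P M := hallIn_singleton.2 h

theorem exists_hallIn {M : Subgroup G} (hM : Group.IsSolvable M) (π : Set ℕ) : ∃ H, HallIn π H M :=
  Solv.exists_isPiHallOf hM π

theorem exists_hallIn_ge {M K : Subgroup G} (hM : Group.IsSolvable M) (h1 : K ≤ M) (h2 : IsPi π K) :
    ∃ H, HallIn π H M ∧ K ≤ H := Solv.exists_isPiHallOf_ge hM h1 h2

theorem hallIn_Opi_of_isNilpotent {M : Subgroup G} (hM : Group.IsNilpotent M) (π : Set ℕ) :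
    HallIn π (Opi π M) M := by
  refine hallIn_mk (Opi_le _ _) (isPi_Opi _ _) (PiN.of_dvd (isPi_Opi πᶜ M) ?_)
  have := relIndex_sup_dvd_card' (H := Opi π M) (N := Opi πᶜ M)
    (le_normalizer_Opi_of_le (Opi_le _ _))
  rwa [Opi_sup_Opi_compl hM] at this

theorem HallIn.eq_Opi_of_isNilpotent {H M : Subgroup G} (h : HallIn π H M)
    (hM : Group.IsNilpotent M) : H = Opi π M :=
  le_antisymm (le_Opi_of_isNilpotent hM h.le h.isPi) h.Opi_le

theorem HallIn.le_normalizer_of_isNilpotent {H M : Subgroup G} (h : HallIn π H M)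
    (hM : Group.IsNilpotent M) : M ≤ Nm(H) := by
  rw [h.eq_Opi_of_isNilpotent hM]; exact le_normalizer_Opi_of_le le_rfl

/-- `H ⊔ K` with `H` a `π`-group and `K` a `π'`-group, one normalizing the other -/
theorem hallIn_sup_left {H K : Subgroup G} (hH : IsPi π H) (hK : IsPi πᶜ K)
    (h : H ≤ Nm(K) ∨ K ≤ Nm(H)) : HallIn π H (H ⊔ K) := by
  refine hallIn_mk le_sup_left hH (PiN.of_dvd hK ?_)
  exact h.elim relIndex_sup_dvd_card relIndex_sup_dvd_card'

theorem hallIn_sup_right {H K : Subgroup G} (hH : IsPi π H) (hK : IsPi πᶜ K)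
    (h : H ≤ Nm(K) ∨ K ≤ Nm(H)) : HallIn π H (K ⊔ H) := by
  rw [sup_comm]; exact hallIn_sup_left hH hK h

theorem sylIn_sup_left [Fact p.Prime] {P K : Subgroup G} (hP : IsPGroup p P)
    (hK : (Nat.card K).Coprime p) (h : P ≤ Nm(K) ∨ K ≤ Nm(P)) : SylIn p P (P ⊔ K) :=
  hallIn_singleton.1 (hallIn_sup_left (isPi_singleton.2 hP) (isPi_compl_singleton.2 hK) h)

theorem sylIn_sup_right [Fact p.Prime] {P K : Subgroup G} (hP : IsPGroup p P)
    (hK : (Nat.card K).Coprime p) (h : P ≤ Nm(K) ∨ K ≤ Nm(P)) : SylIn p P (K ⊔ P) := by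
  rw [sup_comm]; exact sylIn_sup_left hP hK h

/-- Schur-Zassenhaus inside `G`: a normal Hall subgroup has a Hall complement -/
theorem HallIn.exists_compl {H M : Subgroup G} (h : HallIn π H M) (hn : M ≤ Nm(H)) :
    ∃ K, HallIn πᶜ K M := by
  obtain ⟨K, h1, -, -, h4⟩ := exists_complement_of_coprime h.le hn h.coprime
  exact ⟨K, h.compl_of_card h1 h4⟩

theorem le_of_forall_sylIn {K L : Subgroup G}
    (h : ∀ q : ℕ, q.Prime → q ∣ Nat.card K → ∃ P, SylIn q P K ∧ P ≤ L) : K ≤ L := by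
  refine Solv.le_of_forall_isSylowIn fun q hq hd => ?_
  haveI := Fact.mk hq
  obtain ⟨P, h1, h2⟩ := h q hq hd
  exact ⟨P, h1.isSylowIn, h2⟩

theorem isNilpotent_of_forall_sylIn {H : Subgroup G}
    (h : ∀ q : ℕ, q.Prime → q ∣ Nat.card H → ∃ P, SylIn q P H ∧ H ≤ Nm(P)) : Group.IsNilpotent H := by
  refine Solv.isNilpotent_of_forall_sylowIn fun q hq hd => ?_
  haveI := Fact.mk hq
  obtain ⟨P, h1, h2⟩ := h q hq hd
  exact ⟨P, h1.isSylowIn, h2⟩

theorem _root_.Cfsg.Agent.Comp.SylIn.toSyl [Fact p.Prime] {P M : Subgroup G} (h : SylIn p P M) :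
    Transfer.IsSyl p P M := h.isSylowIn.toSyl

theorem sylIn_of_syl [Fact p.Prime] {P M : Subgroup G} (h : Transfer.IsSyl p P M) : SylIn p P M :=
  sylIn_of_isSylowIn (Solv.isSylowIn_of_syl h)

theorem _root_.Cfsg.Agent.Comp.SylIn.le_normalizer_of_isNilpotent [Fact p.Prime] {P M : Subgroup G}
    (h : SylIn p P M) (hM : Group.IsNilpotent M) : M ≤ Nm(P) :=
  h.hallIn.le_normalizer_of_isNilpotent hM

theorem _root_.Cfsg.Agent.Comp.SylIn.normalizer_le [Fact p.Prime] {P M : Subgroup G}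
    (h : SylIn p P M) (hn : M ≤ Nm(P)) : Nm(M) ≤ Nm(P) := h.hallIn.normalizer_le hn

theorem _root_.Cfsg.Agent.Comp.SylIn.normal_inf [Fact p.Prime] {P M K : Subgroup G}
    (h : SylIn p P M) (hn : M ≤ Nm(P)) (h1 : K ≤ M) : SylIn p (P ⊓ K) K :=
  hallIn_singleton.1 (h.hallIn.normal_inf hn h1)

theorem _root_.Cfsg.Agent.Comp.SylIn.ne_bot [Fact p.Prime] {P M : Subgroup G}
    (h : SylIn p P M) (hd : p ∣ Nat.card M) : P ≠ ⊥ := fun e => h.eq_bot_iff.1 e hd

end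

end Cfsg.Agent.BG
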