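/-
The quotient `M / N` of a subgroup `M` of the ambient group by a subgroup `N` normalized by `M`:
images and preimages of subgroups.
-/
import Cfsg.Agent.Lib.BG.Basic

set_option autoImplicit false
set_option linter.unusedSectionVars false

namespace Cfsg.Agent.BG

open Subgroup Comp
open scoped commutatorElement

universe u

variable {G : Type u} [Group G]

/-! ### passing to a subgroup -/

section
variable {H K M : Subgroup G}

theorem map_subgroupOf_subtype (h : H ≤ M) : (H.subgroupOf M).map M.subtype = H :=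
  map_subgroupOf_eq_of_le h

theorem subgroupOf_eq_of_map {X : Subgroup M} (h : X.map M.subtype = H) : H.subgroupOf M = X := by
  rw [← h, subgroupOf_map_subtype_self]

theorem subgroupOf_le_iff (h : H ≤ M) : H.subgroupOf M ≤ K.subgroupOf M ↔ H ≤ K :=
  ⟨fun h' x hx => h' (show (⟨x, h hx⟩ : M) ∈ H.subgroupOf M from hx), fun h' => comap_mono h'⟩

theorem subgroupOf_sup' (h1 : H ≤ M) (h2 : K ≤ M) :
    (H ⊔ K).subgroupOf M = H.subgroupOf M ⊔ K.subgroupOf M := subgroupOf_sup h1 h2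

theorem subgroupOf_commutator (h1 : H ≤ M) (h2 : K ≤ M) :
    ⁅H, K⁆.subgroupOf M = ⁅H.subgroupOf M, K.subgroupOf M⁆ :=
  subgroupOf_eq_of_map (by rw [map_commutator, map_subgroupOf_subtype h1, map_subgroupOf_subtype h2])

theorem subgroupOf_normalizer (h : H ≤ M) : Nm(H).subgroupOf M = Nm(H.subgroupOf M) :=
  subgroupOf_normalizer_eq h

theorem subgroupOf_le_normalizer {A : Subgroup G} (h : A ≤ Nm(H)) (M : Subgroup G) :
    A.subgroupOf M ≤ Nm(H.subgroupOf M) := by
  intro a ha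
  rw [mem_normalizer_iff]
  intro x
  exact (mem_normalizer_iff.1 (h ha)) x

theorem subgroupOf_le_centralizer {A : Subgroup G} (h : A ≤ Ct(H)) (M : Subgroup G) :
    A.subgroupOf M ≤ Ct(H.subgroupOf M) :=
  fun _ ha x hx => Subtype.ext (h ha x hx)

theorem subgroupOf_cj (H : Subgroup G) (g : M) :
    (cj((g : G), H)).subgroupOf M = cj(g, H.subgroupOf M) := by
  ext x; rw [mem_subgroupOf, mem_cj, mem_cj, mem_subgroupOf]; rfl

theorem subgroupOf_zpowers (g : M) : (zpowers (g : G)).subgroupOf M = zpowers g :=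
  subgroupOf_eq_of_map (MonoidHom.map_zpowers _ _)

theorem subgroupOf_omegaOne {p : ℕ} (h : H ≤ M) :
    (omegaOne p H).subgroupOf M = omegaOne p (H.subgroupOf M) :=
  subgroupOf_eq_of_map (by rw [map_omegaOne M.subtype_injective, map_subgroupOf_subtype h])

theorem subgroupOf_eq_bot_iff (h : H ≤ M) : H.subgroupOf M = ⊥ ↔ H = ⊥ := by
  rw [← le_bot_iff, ← bot_subgroupOf, subgroupOf_le_iff h, le_bot_iff]

theorem comm_subgroupOf (h : IsMulCommutative H) (M : Subgroup G) :
    IsMulCommutative (H.subgroupOf M) :=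
  comm_iff_le.2 (subgroupOf_le_centralizer (comm_iff_le.1 h) M)

theorem comm_map {G' : Type*} [Group G'] (f : G →* G') (h : IsMulCommutative H) :
    IsMulCommutative (H.map f) := map_isMulCommutative H f

theorem isCyclic_map {G' : Type*} [Group G'] (f : G →* G') (h : IsCyclic H) : IsCyclic (H.map f) :=
  isCyclic_of_surjective (f.subgroupMap H) (f.subgroupMap_surjective H)

theorem isCyclic_of_le (h : H ≤ K) (hK : IsCyclic K) : IsCyclic H := Subgroup.isCyclic_of_le h

theorem isCyclic_subgroupOf (h : IsCyclic H) (M : Subgroup G) : IsCyclic (H.subgroupOf M) := by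
  have := isCyclic_of_le (inf_le_left (b := M)) h
  rw [← inf_subgroupOf_right]
  exact isCyclic_of_surjective _ (subgroupOfEquivOfLe inf_le_right).symm.surjective

theorem isCyclic_map_iff {G' : Type*} [Group G'] {f : G →* G'} (hf : Function.Injective f) :
    IsCyclic (H.map f) ↔ IsCyclic H :=
  ⟨fun _ => isCyclic_of_surjective _ (equivMapOfInjective H f hf).symm.surjective, isCyclic_map f⟩

theorem isCyclic_cj {g : G} : IsCyclic cj(g, H) ↔ IsCyclic H :=
  isCyclic_map_iff (MulAut.conj g).injective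

theorem isCyclic_subgroupOf_iff (h : H ≤ M) : IsCyclic (H.subgroupOf M) ↔ IsCyclic H := by
  rw [← isCyclic_map_iff M.subtype_injective, map_subgroupOf_subtype h]

theorem comm_cj {g : G} : IsMulCommutative cj(g, H) ↔ IsMulCommutative H := by
  rw [comm_iff_le, comm_iff_le, ← cj_centralizer, cj_le_cj_iff]

theorem isNilpotent_cj {g : G} : Group.IsNilpotent cj(g, H) ↔ Group.IsNilpotent H :=
  ⟨fun _ => Group.nilpotent_of_mulEquiv (cjEquiv g H).symm, fun h => isNilpotent_map _ h⟩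

theorem map_le_normalizer {G' : Type*} [Group G'] (f : G →* G') {A : Subgroup G} (h : A ≤ Nm(H)) :
    A.map f ≤ Nm(H.map f) := (map_mono h).trans (le_normalizer_map f)

theorem map_le_centralizer {G' : Type*} [Group G'] (f : G →* G') {A : Subgroup G} (h : A ≤ Ct(H)) :
    A.map f ≤ Ct(H.map f) := by
  rintro _ ⟨a, ha, rfl⟩ _ ⟨x, hx, rfl⟩
  rw [← map_mul, ← map_mul, h ha x hx]

theorem comm_of_commutator_eq_bot (h : ⁅H, H⁆ = ⊥) : IsMulCommutative H :=
  comm_iff_le.2 (commutator_eq_bot_iff_le.1 h)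

theorem commutator_eq_bot_of_comm (h : IsMulCommutative H) : ⁅H, H⁆ = ⊥ :=
  commutator_eq_bot_iff_le.2 (comm_iff_le.1 h)

theorem comm_of_isCyclic (h : IsCyclic H) : IsMulCommutative H := inferInstance

variable [Finite G]

theorem subgroupOf_ResPi {π : Set ℕ} (h : H ≤ M) :
    (ResPi π H).subgroupOf M = ResPi π (H.subgroupOf M) :=
  subgroupOf_eq_of_map (by rw [map_ResPi, map_subgroupOf_subtype h])

theorem subgroupOf_Res {p : ℕ} (h : H ≤ M) : (Res p H).subgroupOf M = Res p (H.subgroupOf M) :=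
  subgroupOf_ResPi h

theorem subgroupOf_Resp {p : ℕ} (h : H ≤ M) : (Resp p H).subgroupOf M = Resp p (H.subgroupOf M) :=
  subgroupOf_ResPi h

theorem subgroupOf_Op' {p : ℕ} (h : H ≤ M) : (Op p H).subgroupOf M = Op p (H.subgroupOf M) :=
  (FClass.radOf_subgroupOf _ h).symm

theorem subgroupOf_Opp' {p : ℕ} (h : H ≤ M) : (Opp p H).subgroupOf M = Opp p (H.subgroupOf M) :=
  (FClass.radOf_subgroupOf _ h).symm

theorem subgroupOf_Fit' (h : H ≤ M) : (Fit H).subgroupOf M = Fit (H.subgroupOf M) :=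
  (FClass.radOf_subgroupOf _ h).symm

omit [Finite G] in
theorem Res_le (p : ℕ) (H : Subgroup G) : Res p H ≤ H := ResPi_le _ _

omit [Finite G] in
theorem Resp_le (p : ℕ) (H : Subgroup G) : Resp p H ≤ H := ResPi_le _ _

theorem subgroupOf_Oppp {p : ℕ} [Fact p.Prime] (h : H ≤ M) :
    (Oppp p H).subgroupOf M = Oppp p (H.subgroupOf M) :=
  subgroupOf_eq_of_map
    (by rw [map_Oppp_of_injective M.subtype_injective, map_subgroupOf_subtype h])

end

/-! ### the quotient -/

/-- the quotient `M / (N ⊓ M)` -/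
def Quo {M N : Subgroup G} (_h : M ≤ Nm(N)) : Type u := M ⧸ N.subgroupOf M

section
variable {M N : Subgroup G} (h : M ≤ Nm(N))

instance instGroupQuo : Group (Quo h) :=
  haveI := normal_subgroupOf_of_le_normalizer h
  QuotientGroup.Quotient.group (N.subgroupOf M)

instance instFiniteQuo [Finite G] : Finite (Quo h) := inferInstanceAs (Finite (M ⧸ N.subgroupOf M))

/-- the projection `M → M / N` -/
def qmap : M →* Quo h :=
  haveI := normal_subgroupOf_of_le_normalizer h
  QuotientGroup.mk' (N.subgroupOf M)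

theorem qmap_surjective : Function.Surjective (qmap h) :=
  haveI := normal_subgroupOf_of_le_normalizer h
  QuotientGroup.mk'_surjective (N.subgroupOf M)

theorem ker_qmap : (qmap h).ker = N.subgroupOf M :=
  haveI := normal_subgroupOf_of_le_normalizer h
  QuotientGroup.ker_mk' (N.subgroupOf M)

theorem qmap_eq_one {x : M} : qmap h x = 1 ↔ (x : G) ∈ N := by
  rw [← MonoidHom.mem_ker, ker_qmap, mem_subgroupOf]

theorem qmap_eq_iff {x y : M} : qmap h x = qmap h y ↔ (x : G)⁻¹ * y ∈ N := by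
  rw [← inv_mul_eq_one, ← map_inv, ← map_mul, qmap_eq_one]; rfl

theorem card_quo : Nat.card (Quo h) = N.relIndex M := rfl

/-- the image of a subgroup in `M / N` -/
def img (H : Subgroup G) : Subgroup (Quo h) := (H.subgroupOf M).map (qmap h)

/-- the preimage in `M` of a subgroup of `M / N` -/
def pre (X : Subgroup (Quo h)) : Subgroup G := (X.comap (qmap h)).map M.subtype

variable {h} {H K A : Subgroup G} {X Y : Subgroup (Quo h)}

theorem mem_img {y : Quo h} : y ∈ img h H ↔ ∃ x : M, (x : G) ∈ H ∧ qmap h x = y := Iff.rfl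

theorem qmap_mem_img {x : M} (hx : (x : G) ∈ H) : qmap h x ∈ img h H := ⟨x, hx, rfl⟩

theorem mem_pre {x : G} : x ∈ pre h X ↔ ∃ hx : x ∈ M, qmap h ⟨x, hx⟩ ∈ X :=
  ⟨by rintro ⟨y, hy, rfl⟩; exact ⟨y.2, hy⟩, fun ⟨hx, h'⟩ => ⟨⟨x, hx⟩, h', rfl⟩⟩

theorem coe_mem_pre {x : M} : (x : G) ∈ pre h X ↔ qmap h x ∈ X :=
  ⟨fun h' => (mem_pre.1 h').2, fun h' => mem_pre.2 ⟨x.2, h'⟩⟩

theorem pre_le (X : Subgroup (Quo h)) : pre h X ≤ M := map_subtype_le _

theorem subgroupOf_pre (X : Subgroup (Quo h)) : (pre h X).subgroupOf M = X.comap (qmap h) :=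
  subgroupOf_map_subtype_self _

theorem img_pre (X : Subgroup (Quo h)) : img h (pre h X) = X := by
  rw [img, subgroupOf_pre, map_comap_eq_self_of_surjective (qmap_surjective h)]

theorem img_mono (hHK : H ≤ K) : img h H ≤ img h K := map_mono (comap_mono hHK)

theorem pre_mono (hXY : X ≤ Y) : pre h X ≤ pre h Y := map_mono (comap_mono hXY)

theorem pre_le_pre_iff : pre h X ≤ pre h Y ↔ X ≤ Y :=
  ⟨fun h' => by simpa only [img_pre] using img_mono (h := h) h', pre_mono⟩

theorem pre_inj : pre h X = pre h Y ↔ X = Y := by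
  rw [le_antisymm_iff, le_antisymm_iff, pre_le_pre_iff, pre_le_pre_iff]

theorem le_pre_iff : H ≤ pre h X ↔ H ≤ M ∧ img h H ≤ X := by
  rw [pre, le_map_subtype_iff, img, map_le_iff_le_comap]

theorem le_pre (h1 : H ≤ M) (h2 : img h H ≤ X) : H ≤ pre h X := le_pre_iff.2 ⟨h1, h2⟩

theorem img_le_iff (h1 : H ≤ M) : img h H ≤ X ↔ H ≤ pre h X := by rw [le_pre_iff, and_iff_right h1]

theorem le_pre_img (h1 : H ≤ M) : H ≤ pre h (img h H) := le_pre h1 le_rfl

variable (h) in
theorem img_top : img h M = ⊤ := by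
  rw [img, subgroupOf_self, ← MonoidHom.range_eq_map, MonoidHom.range_eq_top]
  exact qmap_surjective h

variable (h) in
theorem pre_top : pre h ⊤ = M := by rw [pre, comap_top, map_subtype_top]

variable (h) in
theorem pre_bot : pre h ⊥ = N ⊓ M := by
  rw [pre, MonoidHom.comap_bot, ker_qmap, subgroupOf_map_subtype]

theorem pre_bot' (hN : N ≤ M) : pre h ⊥ = N := by rw [pre_bot, inf_eq_left.2 hN]

theorem ker_le_pre (hN : N ≤ M) (X : Subgroup (Quo h)) : N ≤ pre h X :=
  (pre_bot' (h := h) hN).ge.trans (pre_mono bot_le)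

variable (h) in
theorem img_bot : img h ⊥ = ⊥ := by rw [img, bot_subgroupOf, Subgroup.map_bot]

theorem img_eq_bot_iff (h1 : H ≤ M) : img h H = ⊥ ↔ H ≤ N := by
  rw [← le_bot_iff, img_le_iff h1, pre_bot, le_inf_iff, and_iff_left h1]

theorem img_eq_bot (h1 : H ≤ N) : img h H = ⊥ := by
  rw [img, Subgroup.map_eq_bot_iff, ker_qmap]; exact comap_mono h1

variable (h) in
theorem img_ker : img h N = ⊥ := img_eq_bot le_rfl

theorem img_inf_right (H : Subgroup G) : img h (H ⊓ M) = img h H := by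
  rw [img, inf_subgroupOf_right, img]

theorem pre_img (h1 : H ≤ M) (hN : N ≤ M) : pre h (img h H) = H ⊔ N := by
  rw [pre, img, comap_map_eq, ker_qmap, Subgroup.map_sup, map_subgroupOf_subtype h1,
    map_subgroupOf_subtype hN]

theorem pre_img_of_le (h1 : H ≤ M) (hN : N ≤ H) : pre h (img h H) = H := by
  rw [pre_img h1 (hN.trans h1), sup_eq_left.2 hN]

theorem img_le_img_iff (h1 : H ≤ M) (h2 : K ≤ M) (hN : N ≤ M) : img h H ≤ img h K ↔ H ≤ K ⊔ N := by
  rw [img_le_iff h1, pre_img h2 hN]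

theorem img_le_img_iff' (h1 : H ≤ M) (h2 : K ≤ M) (hN : N ≤ K) : img h H ≤ img h K ↔ H ≤ K := by
  rw [img_le_iff h1, pre_img_of_le h2 hN]

theorem img_eq_top_iff (h1 : H ≤ M) (hN : N ≤ M) : img h H = ⊤ ↔ H ⊔ N = M := by
  rw [← pre_inj, pre_top, pre_img h1 hN]

theorem pre_eq_top_iff : pre h X = M ↔ X = ⊤ := by
  rw [← pre_inj, pre_top]

theorem img_sup (h1 : H ≤ M) (h2 : K ≤ M) : img h (H ⊔ K) = img h H ⊔ img h K := by
  rw [img, subgroupOf_sup' h1 h2, Subgroup.map_sup]; rfl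

theorem img_sup_ker (h1 : H ≤ M) (hN : N ≤ M) : img h (H ⊔ N) = img h H := by
  rw [img_sup h1 hN, img_ker, sup_bot_eq]

theorem img_ker_sup (h1 : H ≤ M) (hN : N ≤ M) : img h (N ⊔ H) = img h H := by
  rw [sup_comm, img_sup_ker h1 hN]

theorem img_inf_le : img h (H ⊓ K) ≤ img h H ⊓ img h K :=
  le_inf (img_mono inf_le_left) (img_mono inf_le_right)

theorem pre_inf (X Y : Subgroup (Quo h)) : pre h (X ⊓ Y) = pre h X ⊓ pre h Y := by
  rw [pre, comap_inf, map_inf _ _ _ M.subtype_injective]; rfl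

theorem pre_sup (X Y : Subgroup (Quo h)) : pre h (X ⊔ Y) = pre h X ⊔ pre h Y := by
  rw [pre, ← comap_sup_eq _ _ _ (qmap_surjective h), Subgroup.map_sup]; rfl

theorem img_inf_pre (H : Subgroup G) (X : Subgroup (Quo h)) :
    img h (H ⊓ pre h X) = img h H ⊓ X := by
  refine le_antisymm (img_inf_le.trans (by rw [img_pre])) ?_
  rintro _ ⟨⟨x, hx, rfl⟩, h2⟩
  exact qmap_mem_img ⟨hx, coe_mem_pre.2 h2⟩

theorem img_inf_of_le (h2 : K ≤ M) (hN : N ≤ K) : img h (H ⊓ K) = img h H ⊓ img h K := by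
  rw [← img_inf_pre, pre_img_of_le h2 hN]

theorem img_commutator (h1 : H ≤ M) (h2 : K ≤ M) : img h ⁅H, K⁆ = ⁅img h H, img h K⁆ := by
  rw [img, subgroupOf_commutator h1 h2, map_commutator]; rfl

theorem commutator_pre_le (X Y : Subgroup (Quo h)) : ⁅pre h X, pre h Y⁆ ≤ pre h ⁅X, Y⁆ :=
  le_pre ((commutator_le_sup _ _).trans (sup_le (pre_le X) (pre_le Y)))
    (by rw [img_commutator (pre_le X) (pre_le Y), img_pre, img_pre])

theorem img_le_normalizer (h1 : A ≤ Nm(H)) : img h A ≤ Nm(img h H) :=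
  map_le_normalizer _ (subgroupOf_le_normalizer h1 M)

theorem img_le_centralizer (h1 : A ≤ Ct(H)) : img h A ≤ Ct(img h H) :=
  map_le_centralizer _ (subgroupOf_le_centralizer h1 M)

theorem img_normal (h1 : M ≤ Nm(H)) : (img h H).Normal := by
  rw [normal_iff_top_le_normalizer, ← img_top]; exact img_le_normalizer h1

theorem img_le_centralizer_iff (h1 : A ≤ M) (h2 : H ≤ M) : img h A ≤ Ct(img h H) ↔ ⁅A, H⁆ ≤ N := by
  rw [← commutator_eq_bot_iff_le, ← img_commutator h1 h2,
    img_eq_bot_iff ((commutator_le_sup _ _).trans (sup_le h1 h2))]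

theorem pre_le_normalizer (h1 : X ≤ Nm(Y)) : pre h X ≤ Nm(pre h Y) := by
  refine map_le_normalizer _ ((comap_mono h1).trans (le_normalizer_comap _))

theorem le_normalizer_pre (h1 : A ≤ M) (h2 : img h A ≤ Nm(Y)) : A ≤ Nm(pre h Y) :=
  (le_pre h1 h2).trans (pre_le_normalizer le_rfl)

theorem top_le_normalizer_pre (Y : Subgroup (Quo h)) [hY : Y.Normal] : M ≤ Nm(pre h Y) :=
  le_normalizer_pre le_rfl (le_top.trans (normal_iff_top_le_normalizer.1 hY))

theorem le_normalizer_of_img (h1 : A ≤ M) (h2 : H ≤ M) (hN : N ≤ H) (h3 : img h A ≤ Nm(img h H)) :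
    A ≤ Nm(H) := by
  have := le_normalizer_pre h1 h3; rwa [pre_img_of_le h2 hN] at this

theorem img_cj (H : Subgroup G) (g : M) : img h cj((g : G), H) = cj(qmap h g, img h H) := by
  rw [img, subgroupOf_cj, map_cj]; rfl

theorem pre_cj (X : Subgroup (Quo h)) (g : M) : pre h cj(qmap h g, X) = cj((g : G), pre h X) := by
  ext x
  rw [mem_cj, mem_pre, mem_pre]
  constructor
  · rintro ⟨hx, h'⟩
    refine ⟨M.mul_mem (M.mul_mem (M.inv_mem g.2) hx) g.2, ?_⟩
    rw [mem_cj, ← map_inv, ← map_mul, ← map_mul] at h'; exact h'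
  · rintro ⟨hx, h'⟩
    have hx' : x ∈ M := by
      have := M.mul_mem (M.mul_mem g.2 hx) (M.inv_mem g.2)
      simpa [mul_assoc] using this
    refine ⟨hx', ?_⟩
    rw [mem_cj, ← map_inv, ← map_mul, ← map_mul]; exact h'

theorem img_zpowers (g : M) : img h (zpowers (g : G)) = zpowers (qmap h g) := by
  rw [img, subgroupOf_zpowers, MonoidHom.map_zpowers]

theorem pre_zpowers (hN : N ≤ M) (g : M) : pre h (zpowers (qmap h g)) = zpowers (g : G) ⊔ N := by
  rw [← img_zpowers, pre_img (zpowers_le.2 g.2) hN]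

theorem inf_ker_qmap (H : Subgroup G) : H.subgroupOf M ⊓ (qmap h).ker = (H ⊓ N).subgroupOf M := by
  rw [ker_qmap, subgroupOf_inf']

theorem card_inf_ker_qmap (h1 : H ≤ M) :
    Nat.card (H.subgroupOf M ⊓ (qmap h).ker : Subgroup M) = Nat.card (H ⊓ N : Subgroup G) := by
  rw [inf_ker_qmap, card_subgroupOf (inf_le_left.trans h1)]

theorem card_img_mul (h1 : H ≤ M) :
    Nat.card (img h H) * Nat.card (H ⊓ N : Subgroup G) = Nat.card H := by
  rw [← card_inf_ker_qmap (h := h) h1, img, Solv.card_map_mul_card_inf_ker, card_subgroupOf h1]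

theorem card_img (h1 : H ≤ M) : Nat.card (img h H) = N.relIndex H := by
  rw [img, ← relIndex_ker, ker_qmap, relIndex_subgroupOf h1]

theorem card_img_of_disjoint (h1 : H ≤ M) (h2 : H ⊓ N = ⊥) : Nat.card (img h H) = Nat.card H := by
  rw [← card_img_mul (h := h) h1, h2, card_bot, mul_one]

theorem card_img_dvd (H : Subgroup G) : Nat.card (img h H) ∣ Nat.card H := by
  rw [← img_inf_right]
  exact (Dvd.intro _ (card_img_mul inf_le_right)).trans (card_dvd_of_le inf_le_left)

theorem relIndex_pre (X Y : Subgroup (Quo h)) : (pre h X).relIndex (pre h Y) = X.relIndex Y := by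
  rw [pre, pre, relIndex_map_map_of_injective _ _ M.subtype_injective, relIndex_comap,
    map_comap_eq_self_of_surjective (qmap_surjective h)]

theorem relIndex_pre_top (X : Subgroup (Quo h)) : (pre h X).relIndex M = X.index := by
  rw [← relIndex_top_right, ← relIndex_pre, pre_top]

theorem relIndex_img (h1 : H ≤ M) (h2 : K ≤ M) (hN : N ≤ H) :
    (img h H).relIndex (img h K) = H.relIndex K := by
  have : N.subgroupOf M ≤ H.subgroupOf M := comap_mono hN
  rw [img, img, ← relIndex_comap, comap_map_eq, ker_qmap, sup_eq_left.2 this,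
    relIndex_subgroupOf h2]

theorem index_img (h1 : H ≤ M) (hN : N ≤ H) : (img h H).index = H.relIndex M := by
  rw [← relIndex_top_right, ← img_top, relIndex_img h1 le_rfl hN]

theorem card_pre (hN : N ≤ M) (X : Subgroup (Quo h)) :
    Nat.card (pre h X) = Nat.card X * Nat.card N := by
  rw [← card_img_mul (h := h) (pre_le X), img_pre, inf_eq_right.2 (ker_le_pre hN X)]

theorem relIndex_ker_pre (X : Subgroup (Quo h)) : N.relIndex (pre h X) = Nat.card X := by
  rw [← card_img (h := h) (pre_le X), img_pre]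

theorem card_quo_dvd : Nat.card (Quo h) ∣ Nat.card M := relIndex_dvd_card' N M

theorem card_quo_lt [Finite G] (hN : N ≤ M) (h1 : N ≠ ⊥) : Nat.card (Quo h) < Nat.card M :=
  Solv.card_quotient_lt (Solv.subgroupOf_ne_bot hN h1)

theorem odd_quo (ho : Odd (Nat.card M)) : Odd (Nat.card (Quo h)) := ho.of_dvd_nat card_quo_dvd

theorem odd_img (ho : Odd (Nat.card H)) : Odd (Nat.card (img h H)) :=
  ho.of_dvd_nat (card_img_dvd H)

theorem coprime_img (hc : (Nat.card H).Coprime (Nat.card K)) :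
    (Nat.card (img h H)).Coprime (Nat.card (img h K)) :=
  Nat.Coprime.of_dvd (card_img_dvd H) (card_img_dvd K) hc

theorem coprime_img_left {n : ℕ} (hc : (Nat.card H).Coprime n) :
    (Nat.card (img h H)).Coprime n := Nat.Coprime.of_dvd_left (card_img_dvd H) hc

theorem IsPi.img {π : Set ℕ} (h1 : IsPi π H) : IsPi π (img h H) := PiN.of_dvd h1 (card_img_dvd H)

theorem isPi_img_iff {π : Set ℕ} (h1 : H ≤ M) : IsPi π (img h H) ↔ PiN π (N.relIndex H) := by
  unfold IsPi; rw [card_img h1]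

theorem IsPi.pre {π : Set ℕ} (h1 : IsPi π X) (hN : IsPi π N) : IsPi π (pre h X) :=
  hN.of_relIndex (by rw [relIndex_ker_pre]; exact h1)

theorem IsPi.of_img {π : Set ℕ} (h0 : H ≤ M) (h1 : IsPi π (BG.img h H)) (hN : IsPi π N) : IsPi π H :=
  (h1.pre hN).of_le (le_pre_img h0)

theorem isPGroup_img {p : ℕ} (h1 : IsPGroup p H) : IsPGroup p (img h H) :=
  (Solv.isPGroup_subgroupOf h1 M).map _

theorem isPGroup_quo {p : ℕ} (h1 : IsPGroup p M) : IsPGroup p (Quo h) :=
  h1.of_surjective _ (qmap_surjective h)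

theorem isPGroup_pre [Finite G] {p : ℕ} [Fact p.Prime] (h1 : IsPGroup p X) (hN : IsPGroup p N) :
    IsPGroup p (pre h X) := isPi_singleton.1 ((isPi_singleton.2 h1).pre (isPi_singleton.2 hN))

theorem isSolvable_img (h1 : Group.IsSolvable H) : Group.IsSolvable (img h H) :=
  isSolvable_map _ (Solv.isSolvable_subgroupOf h1 M)

theorem isSolvable_quo (h1 : Group.IsSolvable M) : Group.IsSolvable (Quo h) :=
  Group.isSolvable_of_surjective (qmap_surjective h)

theorem isSolvable_pre (h1 : Group.IsSolvable X) (hN : Group.IsSolvable N) :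
    Group.IsSolvable (pre h X) := by
  refine isSolvable_map _ (isSolvable_of_map (qmap h) ?_ ?_)
  · rwa [map_comap_eq_self_of_surjective (qmap_surjective h)]
  · exact isSolvable_of_le (inf_le_right.trans (ker_qmap h).le) (Solv.isSolvable_subgroupOf hN M)

theorem isNilpotent_img (h1 : Group.IsNilpotent H) : Group.IsNilpotent (img h H) :=
  isNilpotent_map _ (Solv.isNilpotent_subgroupOf h1 M)

theorem isNilpotent_quo (h1 : Group.IsNilpotent M) : Group.IsNilpotent (Quo h) :=
  Group.nilpotent_of_surjective _ (qmap_surjective h)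

theorem isCyclic_img (h1 : IsCyclic H) : IsCyclic (img h H) :=
  isCyclic_map _ (isCyclic_subgroupOf h1 M)

theorem comm_img (h1 : IsMulCommutative H) : IsMulCommutative (img h H) :=
  comm_map _ (comm_subgroupOf h1 M)

theorem comm_img_iff (h1 : H ≤ M) : IsMulCommutative (img h H) ↔ ⁅H, H⁆ ≤ N := by
  rw [comm_iff_le, img_le_centralizer_iff h1 h1]

theorem elem_img {p : ℕ} (h1 : IsElementaryAbelian p H) : IsElementaryAbelian p (img h H) :=
  Transfer.elem_map (Transfer.elem_subgroupOf h1 M) _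

theorem elem_img_iff {p : ℕ} (h1 : H ≤ M) :
    IsElementaryAbelian p (img h H) ↔ ⁅H, H⁆ ≤ N ∧ ∀ x ∈ H, x ^ p ∈ N := by
  unfold IsElementaryAbelian
  rw [comm_img_iff h1]
  refine and_congr Iff.rfl ⟨fun h2 x hx => ?_, ?_⟩
  · have := h2 _ (qmap_mem_img (x := ⟨x, h1 hx⟩) hx)
    rwa [← map_pow, qmap_eq_one] at this
  · rintro h2 _ ⟨x, hx, rfl⟩
    rw [← map_pow, qmap_eq_one]; exact h2 x hx

/-- a subgroup meeting `N` trivially is isomorphic to its image -/
noncomputable def imgEquiv (h1 : H ≤ M) (h2 : H ⊓ N = ⊥) : H ≃* img h H :=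
  (subgroupOfEquivOfLe h1).symm.trans (MulEquiv.ofBijective ((qmap h).subgroupMap (H.subgroupOf M))
    ⟨(injective_iff_map_eq_one ((qmap h).subgroupMap (H.subgroupOf M))).2 fun x hx => by
      have : ((x : M) : G) ∈ H ⊓ N := ⟨x.2, (qmap_eq_one h).1 (congrArg Subtype.val hx)⟩
      rw [h2, mem_bot] at this
      exact Subtype.ext (Subtype.ext this),
    (qmap h).subgroupMap_surjective _⟩)

theorem isCyclic_of_img (h1 : H ≤ M) (h2 : H ⊓ N = ⊥) (h3 : IsCyclic (img h H)) : IsCyclic H :=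
  isCyclic_of_surjective _ (imgEquiv h1 h2).symm.surjective

theorem isNilpotent_of_img (h1 : H ≤ M) (h2 : H ⊓ N = ⊥) (h3 : Group.IsNilpotent (img h H)) :
    Group.IsNilpotent H := Group.nilpotent_of_mulEquiv (imgEquiv h1 h2).symm

theorem comm_of_img (h1 : H ≤ M) (h2 : H ⊓ N = ⊥) (h3 : IsMulCommutative (img h H)) :
    IsMulCommutative H :=
  comm_of_commutator_eq_bot (le_bot_iff.1 (h2 ▸ le_inf
    (commutator_le_left_of_le_normalizer le_normalizer) ((comm_img_iff h1).1 h3)))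

/-- `H / N` cyclic, in terms of a generator -/
theorem isCyclic_img_iff (h1 : H ≤ M) (hN : N ≤ M) :
    IsCyclic (img h H) ↔ ∃ x ∈ H, H ≤ zpowers x ⊔ N := by
  rw [Solv.isCyclic_iff_exists_le_zpowers]
  constructor
  · rintro ⟨_, ⟨x, hx, rfl⟩, h2⟩
    refine ⟨x, hx, ?_⟩
    rwa [← img_zpowers, img_le_img_iff h1 (zpowers_le.2 x.2) hN] at h2
  · rintro ⟨x, hx, h2⟩
    refine ⟨_, qmap_mem_img (x := ⟨x, h1 hx⟩) hx, ?_⟩
    rwa [← img_zpowers, img_le_img_iff h1 (zpowers_le.2 (h1 hx)) hN]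

variable [Finite G]

theorem _root_.Cfsg.Agent.Comp.SylIn.img {p : ℕ} [Fact p.Prime] {P : Subgroup G} (h1 : SylIn p P H)
    (h2 : H ≤ M) : SylIn p (img h P) (img h H) := (h1.subgroupOf h2).map _

theorem HallIn.img {π : Set ℕ} {P : Subgroup G} (h1 : HallIn π P H) (h2 : H ≤ M) :
    HallIn π (img h P) (img h H) := (h1.subgroupOf h2).map _

theorem HallIn.pre {π : Set ℕ} (h1 : HallIn π X Y) (hN : IsPi π N) :
    HallIn π (pre h X) (pre h Y) :=
  hallIn_mk (pre_mono h1.le) (h1.isPi.pre hN) (by rw [relIndex_pre]; exact h1.index)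

theorem img_ResPi {π : Set ℕ} (h1 : H ≤ M) : img h (ResPi π H) = ResPi π (img h H) := by
  rw [img, subgroupOf_ResPi h1, map_ResPi]; rfl

theorem img_Res {p : ℕ} (h1 : H ≤ M) : img h (Res p H) = Res p (img h H) := img_ResPi h1

theorem img_Resp {p : ℕ} (h1 : H ≤ M) : img h (Resp p H) = Resp p (img h H) := img_ResPi h1

theorem img_radOf_le (C : FClass.{u}) (h1 : H ≤ M) : img h (C.radOf H) ≤ C.radOf (img h H) := by
  rw [img, ← FClass.radOf_subgroupOf C h1]; exact FClass.map_radOf_le C _ _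

theorem img_radOf {C : FClass.{u}} (hC : C.Ext) (h1 : H ≤ M) (h2 : C.P (H ⊓ N : Subgroup G)) :
    img h (C.radOf H) = C.radOf (img h H) := by
  rw [img, ← FClass.radOf_subgroupOf C h1]
  refine FClass.map_radOf_of_ext hC _ _ ?_
  rw [inf_ker_qmap]; exact FClass.subgroupOf h2 M

theorem img_Opi {π : Set ℕ} (h1 : H ≤ M) (h2 : IsPi π (H ⊓ N)) :
    img h (Opi π H) = Opi π (img h H) := img_radOf (piCl_ext π) h1 h2

theorem img_Op {p : ℕ} (h1 : H ≤ M) (h2 : IsPGroup p (H ⊓ N : Subgroup G)) :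
    img h (Op p H) = Op p (img h H) := img_radOf (pCl_ext p) h1 h2

theorem img_Opp {p : ℕ} (h1 : H ≤ M) (h2 : (Nat.card (H ⊓ N : Subgroup G)).Coprime p) :
    img h (Opp p H) = Opp p (img h H) := img_radOf (ppCl_ext p) h1 h2

theorem img_Fit_le (h1 : H ≤ M) : img h (Fit H) ≤ Fit (img h H) := img_radOf_le _ h1

theorem img_Oppp_le {p : ℕ} [Fact p.Prime] (h1 : H ≤ M) :
    img h (Oppp p H) ≤ Oppp p (img h H) := by
  rw [img, subgroupOf_Oppp h1]; exact map_Oppp_le _ _

theorem img_Oppp {p : ℕ} [Fact p.Prime] (h1 : H ≤ M)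
    (h2 : (Nat.card (H ⊓ N : Subgroup G)).Coprime p) : img h (Oppp p H) = Oppp p (img h H) := by
  rw [img, subgroupOf_Oppp h1]
  exact map_Oppp _ (by rwa [card_inf_ker_qmap h1])

theorem pre_Opi_top {π : Set ℕ} (hN : N ≤ M) (h2 : IsPi π N) : pre h (Opi π ⊤) = Opi π M := by
  rw [← img_top, ← img_Opi le_rfl (h2.of_le inf_le_right), pre_img_of_le (Opi_le _ _) (le_Opi hN h h2)]

/-- coprime action: fixed points in the quotient -/
theorem img_inf_centralizer (h1 : K ≤ M) (h2 : A ≤ M) (h3 : A ≤ Nm(K))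
    (hc : (Nat.card A).Coprime (Nat.card (K ⊓ N : Subgroup G)))
    (hs : Group.IsSolvable A ∨ Group.IsSolvable (K ⊓ N : Subgroup G)) :
    img h (K ⊓ Ct(A)) = img h K ⊓ Ct(img h A) := by
  rw [img, subgroupOf_inf', subgroupOf_centralizer h2]
  refine map_inf_centralizer _ (subgroupOf_le_normalizer h3 M) ?_ ?_
  · rwa [card_subgroupOf h2, card_inf_ker_qmap h1]
  · rw [inf_ker_qmap]
    exact hs.imp (Solv.isSolvable_subgroupOf · M) (Solv.isSolvable_subgroupOf · M)

theorem img_inf_C1 (h1 : K ≤ M) (a : M) (h3 : (a : G) ∈ Nm(K))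
    (hc : (orderOf (a : G)).Coprime (Nat.card (K ⊓ N : Subgroup G))) :
    img h (K ⊓ C1((a : G))) = img h K ⊓ C1(qmap h a) := by
  rw [← centralizer_zpowers, img_inf_centralizer h1 (zpowers_le.2 a.2) (zpowers_le.2 h3)
    (by rwa [Nat.card_zpowers]) (Or.inl (Solv.isSolvable_zpowers _)), img_zpowers,
    centralizer_zpowers]

/-- coprime action: normalizers in the quotient -/
theorem img_inf_normalizer (hN : N ≤ M) (h2 : A ≤ M) (hc : (Nat.card A).Coprime (Nat.card N))
    (hs : Group.IsSolvable A ∨ Group.IsSolvable N) : img h Nm(A) = Nm(img h A) := by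
  haveI := normal_subgroupOf_of_le_normalizer h
  rw [img, subgroupOf_normalizer h2]
  refine Solv.coprime_map_mk_normalizer (N := N.subgroupOf M) ?_ ?_
  · rwa [card_subgroupOf h2, card_subgroupOf hN]
  · exact hs.imp (Solv.isSolvable_subgroupOf · M) (Solv.isSolvable_subgroupOf · M)

end

end Cfsg.Agent.BG
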