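/-
Elementary abelian subgroups, ranks, self-centralizing normal subgroups, normal complements and
groups of `p`-length one.
-/
import Cfsg.Agent.Lib.BG.Quo

set_option autoImplicit false
set_option linter.unusedSectionVars false

namespace Cfsg.Agent.BG

open Subgroup Comp
open scoped commutatorElement

universe u

variable {G : Type u} [Group G] {p : ℕ}

/-! ### elementary abelian subgroups -/

/-- `A` is elementary abelian of order `p ^ n` -/
structure El (p n : ℕ) (A : Subgroup G) : Prop where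
  elem : IsElementaryAbelian p A
  card : Nat.card A = p ^ n

/-- `A` is a maximal elementary abelian `p`-subgroup of `H` -/
structure MaxEl (p : ℕ) (A H : Subgroup G) : Prop where
  elem : IsElementaryAbelian p A
  le : A ≤ H
  max : ∀ B : Subgroup G, IsElementaryAbelian p B → B ≤ H → A ≤ B → B = A

section
variable {n : ℕ} {A B H K : Subgroup G}

theorem elem_le_Ct (h : IsElementaryAbelian p A) : A ≤ Ct(A) := comm_iff_le.1 h.1
theorem elem_isP (h : IsElementaryAbelian p A) : IsPGroup p A := Transfer.elem_isPGroup h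
theorem elem_mono (h : IsElementaryAbelian p B) (hAB : A ≤ B) : IsElementaryAbelian p A :=
  Transfer.elem_mono h hAB
theorem elem_sup (hA : IsElementaryAbelian p A) (hB : IsElementaryAbelian p B) (h : A ≤ Ct(B)) :
    IsElementaryAbelian p (A ⊔ B) := Transfer.elem_sup hA hB h
theorem elem_cj {g : G} : IsElementaryAbelian p cj(g, A) ↔ IsElementaryAbelian p A :=
  ⟨fun h => by have := Transfer.elem_map h (MulAut.conj g⁻¹).toMonoidHom; rwa [cj_inv_cj] at this,
    fun h => Transfer.elem_map h _⟩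
theorem elem_of_comm (h : A ≤ Ct(A)) (h2 : ∀ x ∈ A, x ^ p = 1) : IsElementaryAbelian p A :=
  ⟨comm_iff_le.2 h, h2⟩

theorem El.isP (h : El p n A) : IsPGroup p A := elem_isP h.elem
theorem El.le_Ct (h : El p n A) : A ≤ Ct(A) := elem_le_Ct h.elem
theorem El.comm (h : El p n A) : IsMulCommutative A := h.elem.1
theorem El.pow (h : El p n A) {x : G} (hx : x ∈ A) : x ^ p = 1 := h.elem.2 x hx
theorem El.cj (h : El p n A) (g : G) : El p n cj(g, A) :=
  ⟨elem_cj.2 h.elem, (card_cj g A).trans h.card⟩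
theorem el_cj {g : G} : El p n cj(g, A) ↔ El p n A :=
  ⟨fun h => by have := h.cj g⁻¹; rwa [cj_inv_cj] at this, fun h => h.cj g⟩
theorem El.subgroupOf (h : El p n A) {M : Subgroup G} (hM : A ≤ M) : El p n (A.subgroupOf M) :=
  ⟨Transfer.elem_subgroupOf h.elem M, (card_subgroupOf hM).trans h.card⟩
theorem El.map_subtype {M : Subgroup G} {A : Subgroup M} (h : El p n A) : El p n (A.map M.subtype) :=
  ⟨Transfer.elem_map h.elem _, (card_map_subtype A).trans h.card⟩
theorem El.img (h : El p n A) {M N : Subgroup G} {hq : M ≤ Nm(N)} (h1 : A ≤ M) (h2 : A ⊓ N = ⊥) :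
    El p n (img hq A) := ⟨elem_img h.elem, (card_img_of_disjoint h1 h2).trans h.card⟩
theorem el_bot : El p 0 (⊥ : Subgroup G) := ⟨Transfer.elem_bot, by simp⟩

theorem El.ne_bot [hp : Fact p.Prime] (h : El p (n + 1) A) : A ≠ ⊥ :=
  ne_bot_of_dvd hp.out (h.card ▸ dvd_pow_self p n.succ_ne_zero)

theorem El.card_one (h : El p 1 A) : Nat.card A = p := h.card.trans (pow_one p)

theorem El.card_prime [hp : Fact p.Prime] (h : El p 1 A) : (Nat.card A).Prime := by
  rw [h.card_one]; exact hp.out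

theorem el_one_iff [hp : Fact p.Prime] : El p 1 A ↔ Nat.card A = p := by
  refine ⟨El.card_one, fun h => ⟨⟨?_, fun x hx => h ▸ Solv.pow_card_eq_one_of_mem hx⟩, by simpa⟩⟩
  haveI := isCyclic_of_prime_card h
  infer_instance

theorem el_one_zpowers [hp : Fact p.Prime] {x : G} (h : orderOf x = p) : El p 1 (zpowers x) :=
  el_one_iff.2 (by rwa [Nat.card_zpowers])

theorem el_one_zpowers' [hp : Fact p.Prime] {x : G} (h1 : x ≠ 1) (h : x ^ p = 1) :
    El p 1 (zpowers x) := el_one_zpowers (orderOf_eq_prime h h1)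

theorem El.isCyclic [hp : Fact p.Prime] (h : El p 1 A) : IsCyclic A :=
  isCyclic_of_prime_card h.card_one

theorem El.eq_zpowers [hp : Fact p.Prime] (h : El p 1 A) {x : G} (hx : x ∈ A) (h1 : x ≠ 1) :
    A = zpowers x := Solv.eq_of_card_prime_of_mem hp.out h.card_one hx h1

theorem El.exists_zpowers [hp : Fact p.Prime] (h : El p 1 A) :
    ∃ x, orderOf x = p ∧ A = zpowers x := by
  obtain ⟨x, hx, h1⟩ := Solv.exists_ne_one_of_ne_bot h.ne_bot
  exact ⟨x, orderOf_eq_prime (h.pow hx) h1, h.eq_zpowers hx h1⟩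

variable [Finite G]

theorem El.not_isCyclic [hp : Fact p.Prime] (h : El p n A) (hn : 2 ≤ n) : ¬ IsCyclic A :=
  IsElementaryAbelian.not_isCyclic h.elem (h.card ▸ Nat.pow_le_pow_right hp.out.pos hn)

theorem exists_el_of_elem [hp : Fact p.Prime] (h : IsElementaryAbelian p A) : ∃ n, El p n A := by
  obtain ⟨n, hn⟩ := IsPGroup.iff_card.1 (elem_isP h)
  exact ⟨n, h, hn⟩

theorem El.le_of_le [hp : Fact p.Prime] {m : ℕ} (h : El p n A) (h' : El p m B) (hle : A ≤ B) :
    n ≤ m := by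
  have := card_le_of_le hle
  rwa [h.card, h'.card, Nat.pow_le_pow_iff_right hp.out.one_lt] at this

theorem El.eq_of_le (h : El p n A) (h' : El p n B) (hle : A ≤ B) : A = B :=
  eq_of_le_of_card_eq hle (h.card.trans h'.card.symm)

theorem El.lt_of_lt [hp : Fact p.Prime] {m : ℕ} (h : El p n A) (h' : El p m B) (hle : A < B) :
    n < m := by
  have := card_lt_of_lt hle
  rwa [h.card, h'.card, Nat.pow_lt_pow_iff_right hp.out.one_lt] at this

theorem El.unique [hp : Fact p.Prime] {m : ℕ} (h : El p n A) (h' : El p m A) : n = m :=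
  le_antisymm (h.le_of_le h' le_rfl) (h'.le_of_le h le_rfl)

theorem El.sup {m : ℕ} (h : El p n A) (h' : El p m B) (hc : A ≤ Ct(B)) (hd : A ⊓ B = ⊥) :
    El p (n + m) (A ⊔ B) :=
  ⟨elem_sup h.elem h'.elem hc, by
    rw [Solv.card_sup_of_disjoint (hc.trans (Ct_le_Nm B)) hd, h.card, h'.card, pow_add]⟩

theorem El.sup_zpowers [hp : Fact p.Prime] (h : El p n A) {x : G} (hx : x ∈ Ct(A)) (h1 : x ∉ A)
    (h2 : x ^ p = 1) : El p (n + 1) (A ⊔ zpowers x) :=
  h.sup (el_one_zpowers' (fun e => h1 (e ▸ A.one_mem)) h2) (le_Ct_comm.1 (zpowers_le.2 hx))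
    (Solv.zpowers_inf_eq_bot_of_prime hp.out h2 h1)

/-- subgroups between, of each order -/
theorem El.exists_between [hp : Fact p.Prime] {m k : ℕ} (h : El p n A) (h' : El p m B) (hle : A ≤ B)
    (h1 : n ≤ k) (h2 : k ≤ m) : ∃ C, A ≤ C ∧ C ≤ B ∧ El p k C := by
  obtain ⟨C, a, b, c, -⟩ := Solv.exists_normal_between_card (L := B) (p := p)
    (Solv.isNilpotent_of_isMulCommutative h'.comm) h'.isP le_rfl le_normalizer
    (le_Nm_of_le_Ct' (hle.trans h'.le_Ct)) hle (k - n)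
    (by rw [h.card, h'.card, ← pow_add]; exact Nat.pow_le_pow_right hp.out.pos (by omega))
  refine ⟨C, a, b, elem_mono h'.elem b, ?_⟩
  rw [c, h.card, ← pow_add]; congr 1; omega

theorem El.exists_le [hp : Fact p.Prime] {k : ℕ} (h : El p n A) (hk : k ≤ n) :
    ∃ C, C ≤ A ∧ El p k C := by
  obtain ⟨C, -, b, c⟩ := el_bot.exists_between h bot_le (Nat.zero_le k) hk
  exact ⟨C, b, c⟩

theorem El.relIndex [hp : Fact p.Prime] {m : ℕ} (h : El p n A) (h' : El p m B) (hle : A ≤ B) :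
    A.relIndex B = p ^ (m - n) := by
  have a := relIndex_mul_card hle
  have b := h.le_of_le h' hle
  rw [h.card, h'.card, show m = (m - n) + n by omega, pow_add] at a
  exact Nat.eq_of_mul_eq_mul_right (pow_pos hp.out.pos n) a

/-- the intersection with a subgroup of index at most `p ^ j` -/
theorem El.exists_le_inf [hp : Fact p.Prime] {j k : ℕ} (h : El p n A) {T : Subgroup G}
    (hi : T.relIndex A ≤ p ^ j) (hk : k + j ≤ n) : ∃ C, C ≤ A ⊓ T ∧ El p k C := by
  obtain ⟨m, hm⟩ := exists_el_of_elem (elem_mono h.elem (inf_le_left (b := T)))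
  refine hm.exists_le ?_
  rw [← inf_relIndex_right, inf_comm, hm.relIndex h inf_le_left,
    Nat.pow_le_pow_iff_right hp.out.one_lt] at hi
  omega

theorem exists_el_one [hp : Fact p.Prime] (h : p ∣ Nat.card H) : ∃ X, X ≤ H ∧ El p 1 X := by
  obtain ⟨x, hx, ho⟩ := exists_mem_orderOf_eq h
  exact ⟨zpowers x, zpowers_le.2 hx, el_one_zpowers ho⟩

theorem exists_el_one_of_isPGroup [hp : Fact p.Prime] (h : IsPGroup p H) (h1 : H ≠ ⊥) :
    ∃ X, X ≤ H ∧ El p 1 X := exists_el_one (dvd_card_of_isPGroup h h1)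

theorem exists_el_one_of_ne_bot (h1 : H ≠ ⊥) : ∃ q : ℕ, q.Prime ∧ ∃ X, X ≤ H ∧ El q 1 X := by
  obtain ⟨q, hq, hd⟩ := Solv.exists_prime_dvd_card h1
  haveI := Fact.mk hq
  exact ⟨q, hq, exists_el_one hd⟩

theorem El.eq_sup [hp : Fact p.Prime] {X Y : Subgroup G} (h : El p 2 A) (hX : El p 1 X)
    (hY : El p 1 Y) (h1 : X ≤ A) (h2 : Y ≤ A) (hne : X ≠ Y) : X ⊔ Y = A := by
  refine (hX.sup hY (h1.trans (h.le_Ct.trans (centralizer_mono h2))) ?_).eq_of_le h (sup_le h1 h2)
  exact (le_or_inf_eq_bot hX.card_prime Y).resolve_left fun e => hne (hX.eq_of_le hY e)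

/-- a second subgroup of order `p` in `E_{p^n}`, `n ≥ 2` -/
theorem El.exists_ne [hp : Fact p.Prime] {X : Subgroup G} (h : El p n A) (hn : 2 ≤ n)
    (hX : IsCyclic X) : ∃ Y, Y ≤ A ∧ El p 1 Y ∧ ¬ Y ≤ X := by
  have : ¬ A ≤ X := fun e => h.not_isCyclic hn (isCyclic_of_le e hX)
  obtain ⟨y, hy, hy'⟩ := SetLike.not_le_iff_exists.1 this
  exact ⟨zpowers y, zpowers_le.2 hy, el_one_zpowers' (fun e => hy' (e ▸ X.one_mem)) (h.pow hy),
    fun e => hy' (zpowers_le.1 e)⟩

omit [Finite G] in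
theorem MaxEl.mem (h : MaxEl p A H) {x : G} (h1 : x ∈ H) (h2 : x ∈ Ct(A)) (h3 : x ^ p = 1) :
    x ∈ A := by
  rw [← h.max _ (Transfer.elem_sup_zpowers h.elem h2 h3) (sup_le h.le (zpowers_le.2 h1)) le_sup_left]
  exact mem_sup_right (mem_zpowers x)

omit [Finite G] in
theorem maxEl_iff : MaxEl p A H ↔
    IsElementaryAbelian p A ∧ A ≤ H ∧ ∀ x ∈ H, x ∈ Ct(A) → x ^ p = 1 → x ∈ A :=
  ⟨fun h => ⟨h.elem, h.le, fun _ => h.mem⟩, fun h => ⟨h.1, h.2.1, fun _ hB h1 h2 =>
    le_antisymm (fun x hx => h.2.2 x (h1 hx) ((elem_le_Ct hB).trans (centralizer_mono h2) hx)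
      (hB.2 x hx)) h2⟩⟩

omit [Finite G] in
theorem MaxEl.le_of_le_Ct (h : MaxEl p A H) (hB : ∀ x ∈ B, x ^ p = 1) (h1 : B ≤ H) (h2 : B ≤ Ct(A)) :
    B ≤ A := fun x hx => h.mem (h1 hx) (h2 hx) (hB x hx)

omit [Finite G] in
theorem MaxEl.omegaOne_eq (h : MaxEl p A H) : omegaOne p (H ⊓ Ct(A)) = A :=
  le_antisymm (omegaOne_le_iff.2 fun _ hx => h.mem hx.1 hx.2)
    (le_omegaOne (le_inf h.le (elem_le_Ct h.elem)) h.elem.2)

omit [Finite G] in
theorem MaxEl.of_le (h : MaxEl p A H) (h1 : A ≤ K) (h2 : K ≤ H) : MaxEl p A K :=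
  ⟨h.elem, h1, fun B a b c => h.max B a (b.trans h2) c⟩

omit [Finite G] in
theorem MaxEl.cj (h : MaxEl p A H) (g : G) : MaxEl p cj(g, A) cj(g, H) := by
  refine ⟨elem_cj.2 h.elem, cj_mono g h.le, fun B a b c => ?_⟩
  rw [← h.max cj(g⁻¹, B) (elem_cj.2 a) (le_cj_iff.1 b) (cj_le_iff.1 c), cj_cj_inv]

omit [Finite G] in
theorem MaxEl.OmZ_le (h : MaxEl p A H) : OmZ p H ≤ A :=
  h.le_of_le_Ct (isElementaryAbelian_OmZ p H).2 (Comp.OmZ_le p H)
    ((OmZ_le_centralizer p H).trans (centralizer_mono h.le))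

/-- maximality can be tested in any subgroup containing a Sylow subgroup of the centralizer -/
theorem MaxEl.of_sylIn [hp : Fact p.Prime] {P : Subgroup G} (h : MaxEl p A K)
    (hP : SylIn p P (H ⊓ Ct(A))) (h1 : P ≤ K) (h2 : A ≤ H) : MaxEl p A H := by
  refine maxEl_iff.2 ⟨h.elem, h2, fun x hx hc hpow => ?_⟩
  obtain ⟨g, hg, hle⟩ := hP.exists_cj_le (isPGroup_zpowers (n := 1) (by simpa using hpow))
    (zpowers_le.2 ⟨hx, hc⟩)
  have h3 : g * x * g⁻¹ ∈ P := cj_le_iff'.1 hle x (mem_zpowers x)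
  have h4 : g * x * g⁻¹ ∈ A := h.mem (h1 h3) (hP.le h3).2 (by rw [conj_pow, hpow]; simp)
  have := hg.2 _ h4
  have h5 : g * x * g⁻¹ = x := by
    have e : g * x * g⁻¹ * g = g * x := by group
    rw [e] at this
    exact (mul_left_cancel this).symm
  rwa [h5] at h4

theorem exists_maxEl_ge (h : IsElementaryAbelian p A) (h1 : A ≤ H) : ∃ B, A ≤ B ∧ MaxEl p B H := by
  obtain ⟨B, a, b, c⟩ := exists_maximal_subgroup
    (P := fun B => IsElementaryAbelian p B ∧ B ≤ H) ⟨h, h1⟩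
  exact ⟨B, a, b.1, b.2, fun C x y z => c C ⟨x, y⟩ z⟩

theorem not_maxEl_iff [hp : Fact p.Prime] (h : El p n A) (h1 : A ≤ H) :
    ¬ MaxEl p A H ↔ ∃ B, A ≤ B ∧ B ≤ H ∧ El p (n + 1) B := by
  constructor
  · intro h2
    rw [maxEl_iff] at h2
    push Not at h2
    obtain ⟨x, a, b, c, d⟩ := h2 h.elem h1
    exact ⟨_, le_sup_left, sup_le h1 (zpowers_le.2 a), h.sup_zpowers b d c⟩
  · rintro ⟨B, a, b, c⟩ h2
    have := h.unique (h2.max B c.elem b a ▸ c)
    omega

end

/-! ### ranks -/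

/-- the `p`-rank of `H` -/
noncomputable def prank (p : ℕ) (H : Subgroup G) : ℕ := sSup {n | ∃ A ≤ H, El p n A}

/-- the rank of `H` -/
noncomputable def rank (H : Subgroup G) : ℕ := sSup {n | ∃ p : ℕ, p.Prime ∧ ∃ A ≤ H, El p n A}

section
variable [Finite G] {n : ℕ} {A B H K : Subgroup G}

theorem El.lt_card [hp : Fact p.Prime] (h : El p n A) : n < Nat.card G :=
  (Nat.lt_pow_self hp.out.one_lt).trans_le (h.card ▸ A.card_le_card_group)

theorem El.le_rank [hp : Fact p.Prime] (h : El p n A) (h1 : A ≤ H) : n ≤ rank H :=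
  le_csSup ⟨Nat.card G, fun _ ⟨q, hq, _, _, hA⟩ => haveI := Fact.mk hq; hA.lt_card.le⟩
    ⟨p, hp.out, A, h1, h⟩

theorem exists_el_rank (H : Subgroup G) : ∃ q : ℕ, q.Prime ∧ ∃ A ≤ H, El q (rank H) A :=
  Nat.sSup_mem (s := {n | ∃ p : ℕ, p.Prime ∧ ∃ A ≤ H, El p n A})
    ⟨0, 2, Nat.prime_two, ⊥, bot_le, el_bot⟩
    ⟨Nat.card G, fun _ ⟨q, hq, _, _, hA⟩ => haveI := Fact.mk hq; hA.lt_card.le⟩

theorem exists_el_of_le_rank (h : n ≤ rank H) : ∃ q : ℕ, q.Prime ∧ ∃ A ≤ H, El q n A := by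
  obtain ⟨q, hq, A, h1, h2⟩ := exists_el_rank H
  haveI := Fact.mk hq
  obtain ⟨C, h3, h4⟩ := h2.exists_le h
  exact ⟨q, hq, C, h3.trans h1, h4⟩

theorem rank_mono (h : H ≤ K) : rank H ≤ rank K := by
  obtain ⟨q, hq, A, h1, h2⟩ := exists_el_rank H
  haveI := Fact.mk hq
  exact h2.le_rank (h1.trans h)

theorem rank_cj (g : G) (H : Subgroup G) : rank cj(g, H) = rank H := by
  have : ∀ (g : G) (H : Subgroup G), rank H ≤ rank cj(g, H) := fun g H => by
    obtain ⟨q, hq, A, h1, h2⟩ := exists_el_rank H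
    haveI := Fact.mk hq
    exact (h2.cj g).le_rank (cj_mono g h1)
  exact le_antisymm (by simpa only [cj_inv_cj] using this g⁻¹ cj(g, H)) (this g H)

variable [hp : Fact p.Prime]

theorem El.le_prank (h : El p n A) (h1 : A ≤ H) : n ≤ prank p H :=
  le_csSup ⟨Nat.card G, fun _ ⟨_, _, hA⟩ => hA.lt_card.le⟩ ⟨A, h1, h⟩

variable (p) in
theorem exists_el_prank (H : Subgroup G) : ∃ A ≤ H, El p (prank p H) A :=
  Nat.sSup_mem (s := {n | ∃ A ≤ H, El p n A}) ⟨0, ⊥, bot_le, el_bot⟩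
    ⟨Nat.card G, fun _ ⟨_, _, hA⟩ => hA.lt_card.le⟩

theorem exists_el_of_le_prank (h : n ≤ prank p H) : ∃ A ≤ H, El p n A := by
  obtain ⟨A, h1, h2⟩ := exists_el_prank p H
  obtain ⟨C, h3, h4⟩ := h2.exists_le h
  exact ⟨C, h3.trans h1, h4⟩

theorem le_prank_iff : n ≤ prank p H ↔ ∃ A ≤ H, El p n A :=
  ⟨exists_el_of_le_prank, fun ⟨_, h1, h2⟩ => h2.le_prank h1⟩

theorem prank_le_of_forall (h : ∀ m A, A ≤ H → El p m A → m ≤ n) : prank p H ≤ n := by
  obtain ⟨A, h1, h2⟩ := exists_el_prank p H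
  exact h _ A h1 h2

theorem card_le_pow_prank (h : IsElementaryAbelian p A) (h1 : A ≤ H) :
    Nat.card A ≤ p ^ prank p H := by
  obtain ⟨m, hm⟩ := exists_el_of_elem h
  rw [hm.card]; exact Nat.pow_le_pow_right hp.out.pos (hm.le_prank h1)

theorem le_prank_of_card (h : IsElementaryAbelian p A) (h1 : A ≤ H) (h2 : p ^ n ≤ Nat.card A) :
    n ≤ prank p H :=
  (Nat.pow_le_pow_iff_right hp.out.one_lt).1 (h2.trans (card_le_pow_prank h h1))

theorem prank_le_iff : prank p H ≤ n ↔ PRankLE p n H := by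
  rw [Transfer.pRankLE_sub_iff]
  refine ⟨fun h A h1 h2 => (card_le_pow_prank h2 h1).trans (Nat.pow_le_pow_right hp.out.pos h),
    fun h => prank_le_of_forall fun m A h1 h2 => ?_⟩
  have := h A h1 h2.elem
  rwa [h2.card, Nat.pow_le_pow_iff_right hp.out.one_lt] at this

theorem prank_top_le_iff : prank p (⊤ : Subgroup G) ≤ n ↔ PRankLE p n G :=
  prank_le_iff.trans (Transfer.pRankLE_congr topEquiv)

theorem not_pRankLE_iff : ¬ PRankLE p n H ↔ n + 1 ≤ prank p H := by
  rw [← prank_le_iff]; omega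

theorem prank_mono (h : H ≤ K) : prank p H ≤ prank p K :=
  prank_le_of_forall fun _ _ h1 h2 => h2.le_prank (h1.trans h)

theorem prank_cj (g : G) (H : Subgroup G) : prank p cj(g, H) = prank p H := by
  have : ∀ (g : G) (H : Subgroup G), prank p H ≤ prank p cj(g, H) := fun g H =>
    prank_le_of_forall fun _ _ h1 h2 => (h2.cj g).le_prank (cj_mono g h1)
  exact le_antisymm (by simpa only [cj_inv_cj] using this g⁻¹ cj(g, H)) (this g H)

theorem El.prank_eq (h : El p n A) : prank p A = n :=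
  le_antisymm (prank_le_of_forall fun _ _ h1 h2 => h2.le_of_le h h1) (h.le_prank le_rfl)

theorem el_prank_of_elem (h : IsElementaryAbelian p A) : El p (prank p A) A := by
  obtain ⟨m, hm⟩ := exists_el_of_elem h
  rwa [hm.prank_eq]

theorem El.maxEl (h : El p n A) (h1 : A ≤ H) (h2 : prank p H ≤ n) : MaxEl p A H := by
  by_contra h3
  obtain ⟨B, -, b, c⟩ := (not_maxEl_iff h h1).1 h3
  have := c.le_prank b
  omega

theorem prank_le_rank (H : Subgroup G) : prank p H ≤ rank H :=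
  prank_le_of_forall fun _ _ h1 h2 => h2.le_rank h1

omit hp in
theorem exists_prank_eq_rank (H : Subgroup G) : ∃ q : ℕ, q.Prime ∧ prank q H = rank H := by
  obtain ⟨q, hq, A, h1, h2⟩ := exists_el_rank H
  haveI := Fact.mk hq
  exact ⟨q, hq, le_antisymm (prank_le_rank H) (h2.le_prank h1)⟩

omit hp in
theorem rank_le_of_forall (h : ∀ q : ℕ, q.Prime → prank q H ≤ n) : rank H ≤ n := by
  obtain ⟨q, hq, e⟩ := exists_prank_eq_rank H
  exact e ▸ h q hq

omit hp in
theorem rank_le_iff : rank H ≤ n ↔ RankLE n H :=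
  ⟨fun h q hq => haveI := Fact.mk hq; prank_le_iff.1 ((prank_le_rank H).trans h),
    fun h => rank_le_of_forall fun q hq => haveI := Fact.mk hq; prank_le_iff.2 (h q hq)⟩

omit hp in
theorem rank_top_le_iff : rank (⊤ : Subgroup G) ≤ n ↔ RankLE n G :=
  rank_le_iff.trans (forall₂_congr fun _ _ => Transfer.pRankLE_congr topEquiv)

theorem prank_eq_zero_iff : prank p H = 0 ↔ ¬ p ∣ Nat.card H := by
  constructor
  · intro h hd
    obtain ⟨X, h1, h2⟩ := exists_el_one hd
    have := h2.le_prank h1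
    omega
  · intro h
    by_contra h'
    obtain ⟨A, h1, h2⟩ := exists_el_of_le_prank (n := 1) (Nat.one_le_iff_ne_zero.2 h')
    exact h (h2.card_one ▸ card_dvd_of_le h1)

theorem one_le_prank_iff : 1 ≤ prank p H ↔ p ∣ Nat.card H := by
  rw [Nat.one_le_iff_ne_zero, Ne, prank_eq_zero_iff, not_not]

theorem dvd_card_of_le_prank (h : n + 1 ≤ prank p H) : p ∣ Nat.card H :=
  one_le_prank_iff.1 (by omega)

theorem _root_.Cfsg.Agent.Comp.SylIn.prank_eq {P : Subgroup G} (h : SylIn p P H) :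
    prank p P = prank p H := by
  refine le_antisymm (prank_mono h.le) (prank_le_of_forall fun m A h1 h2 => ?_)
  obtain ⟨g, -, hg⟩ := h.exists_cj_le h2.isP h1
  exact (h2.cj g).le_prank hg

theorem prank_eq_of_not_dvd (h : K ≤ H) (hi : ¬ p ∣ K.relIndex H) : prank p K = prank p H := by
  obtain ⟨P, hP⟩ := exists_sylIn p K
  rw [← hP.prank_eq, (hP.trans_of_not_dvd h hi).prank_eq]

theorem HallIn.prank_eq {π : Set ℕ} (h : HallIn π K H) (h1 : p ∈ π) : prank p K = prank p H :=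
  prank_eq_of_not_dvd h.le (h.2.2 p hp.out h1)

theorem rank_eq_prank (h : IsPGroup p H) : rank H = prank p H := by
  refine le_antisymm (rank_le_of_forall fun q hq => ?_) (prank_le_rank H)
  haveI := Fact.mk hq
  by_cases e : q = p
  · subst e; rfl
  · rw [prank_eq_zero_iff.2 fun hd => e (Solv.eq_of_isPGroup_of_dvd h hq hd)]; exact Nat.zero_le _

theorem El.rank_eq (h : El p n A) : rank A = n := (rank_eq_prank h.isP).trans h.prank_eq

theorem prank_Op_of_isNilpotent (h : Group.IsNilpotent H) : prank p (Op p H) = prank p H :=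
  (sylIn_Op_of_isNilpotent h).prank_eq

theorem prank_Fit (H : Subgroup G) : prank p (Fit H) = prank p (Op p H) := by
  rw [← prank_Op_of_isNilpotent (isNilpotent_Fit H), Op_Fit]

theorem prank_omegaOne (H : Subgroup G) : prank p (omegaOne p H) = prank p H :=
  le_antisymm (prank_mono (omegaOne_le p H))
    (prank_le_of_forall fun _ _ h1 h2 => h2.le_prank (le_omegaOne h1 h2.elem.2))

theorem el_omegaOne_of_comm (h : H ≤ Ct(H)) : El p (prank p H) (omegaOne p H) := by
  rw [← prank_omegaOne]; exact el_prank_of_elem (isElementaryAbelian_omegaOne h)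

theorem prank_le_add {j : ℕ} (hi : K.relIndex H ≤ p ^ j) : prank p H ≤ prank p K + j := by
  refine prank_le_of_forall fun m A h1 h2 => ?_
  by_cases hj : j ≤ m
  · obtain ⟨C, a, b⟩ := h2.exists_le_inf (T := K) (j := j) (k := m - j)
      ((relIndex_le_of_le_right h1 (relIndex_ne_zero' _ _)).trans hi) (by omega)
    have := b.le_prank (a.trans inf_le_right)
    omega
  · omega

theorem prank_map_of_disjoint {G' : Type u} [Group G'] [Finite G'] (f : G →* G')
    (h : H ⊓ f.ker = ⊥) : prank p (H.map f) = prank p H := by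
  have e : H ≃* H.map f := MulEquiv.ofBijective (f.subgroupMap H)
    ⟨(injective_iff_map_eq_one (f.subgroupMap H)).2 fun x hx => by
      have : (x : G) ∈ H ⊓ f.ker := ⟨x.2, congrArg Subtype.val hx⟩
      rw [h, mem_bot] at this
      exact Subtype.ext this, f.subgroupMap_surjective H⟩
  refine le_antisymm ?_ ?_
  · rw [prank_le_iff, ← Transfer.pRankLE_congr e, ← prank_le_iff]
  · rw [prank_le_iff, Transfer.pRankLE_congr e, ← prank_le_iff]

theorem prank_map_subtype {M : Subgroup G} (X : Subgroup M) :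
    prank p (X.map M.subtype) = prank p X :=
  prank_map_of_disjoint _ (by rw [ker_subtype, inf_bot_eq])

theorem prank_subgroupOf {M : Subgroup G} (h : H ≤ M) : prank p (H.subgroupOf M) = prank p H := by
  rw [← prank_map_subtype, map_subgroupOf_subtype h]

theorem prank_map_of_coprime {G' : Type u} [Group G'] [Finite G'] (f : G →* G')
    (h : (Nat.card (H ⊓ f.ker : Subgroup G)).Coprime p) : prank p (H.map f) = prank p H := by
  obtain ⟨P, hP⟩ := exists_sylIn p H
  rw [← hP.prank_eq, ← (hP.map f).prank_eq, prank_map_of_disjoint]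
  exact eq_bot_of_isPGroup_of_coprime (hP.isP.to_le inf_le_left)
    (Nat.Coprime.of_dvd_left (card_dvd_of_le (inf_le_inf_right _ hP.le)) h)

theorem prank_img {M N : Subgroup G} {hq : M ≤ Nm(N)} (h1 : H ≤ M)
    (h : (Nat.card (H ⊓ N : Subgroup G)).Coprime p) : prank p (img hq H) = prank p H := by
  rw [img, prank_map_of_coprime _ (by rwa [card_inf_ker_qmap h1]), prank_subgroupOf h1]

omit hp in
theorem rank_subgroupOf {M : Subgroup G} (h : H ≤ M) : rank (H.subgroupOf M) = rank H :=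
  le_antisymm
    (rank_le_of_forall fun _ hq => haveI := Fact.mk hq; (prank_subgroupOf h).le.trans (prank_le_rank _))
    (rank_le_of_forall fun _ hq => haveI := Fact.mk hq; (prank_subgroupOf h).ge.trans (prank_le_rank _))

theorem prank_le_one_of_isCyclic (h : IsCyclic H) : prank p H ≤ 1 := by
  by_contra h'
  obtain ⟨A, h1, h2⟩ := exists_el_of_le_prank (p := p) (H := H) (n := 2) (by omega)
  exact h2.not_isCyclic le_rfl (isCyclic_of_le h1 h)

omit hp in
theorem rank_le_one_of_isCyclic (h : IsCyclic H) : rank H ≤ 1 :=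
  rank_le_of_forall fun _ hq => haveI := Fact.mk hq; prank_le_one_of_isCyclic h

omit hp in
theorem isCyclic_of_comm_of_rank (h : IsMulCommutative H) (h1 : rank H ≤ 1) : IsCyclic H := by
  by_contra h2
  obtain ⟨q, hq, E, a, b⟩ := Solv.exists_elementary_sq_of_not_isCyclic h h2
  haveI := Fact.mk hq
  have : El q 2 (E.map H.subtype) := by
    refine ⟨⟨Solv.isMulCommutative_of_le (map_subtype_le E) h, ?_⟩, (card_map_subtype E).trans a⟩
    rintro _ ⟨x, hx, rfl⟩
    rw [← map_pow, b x hx, map_one]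
  have := this.le_rank (map_subtype_le E)
  omega

theorem isCyclic_of_prank (h2 : p ≠ 2) (h : IsPGroup p H) (h1 : prank p H ≤ 1) : IsCyclic H := by
  refine (Solv.isCyclic_or_quaternion h fun E a b c d => ?_).resolve_right fun e => h2 e.1
  have := (El.mk ⟨c, d⟩ b).le_prank a
  omega

theorem isCyclic_iff_prank (h2 : p ≠ 2) (h : IsPGroup p H) : IsCyclic H ↔ prank p H ≤ 1 :=
  ⟨prank_le_one_of_isCyclic, isCyclic_of_prank h2 h⟩

theorem two_le_prank (h2 : p ≠ 2) (h : IsPGroup p H) (h1 : ¬ IsCyclic H) : 2 ≤ prank p H := by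
  rw [isCyclic_iff_prank h2 h] at h1; omega

theorem _root_.Cfsg.Agent.Comp.SylIn.isCyclic_iff {P : Subgroup G} (h : SylIn p P H) (h2 : p ≠ 2) :
    IsCyclic P ↔ prank p H ≤ 1 := by rw [isCyclic_iff_prank h2 h.isP, h.prank_eq]

theorem isCyclic_of_prank_le {P : Subgroup G} (h2 : p ≠ 2) (hP : IsPGroup p P) (h : P ≤ H)
    (h1 : prank p H ≤ 1) : IsCyclic P := isCyclic_of_prank h2 hP ((prank_mono h).trans h1)

omit hp in
theorem isCyclic_of_isNilpotent_of_rank (h : Group.IsNilpotent H) (ho : Odd (Nat.card H))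
    (h1 : rank H ≤ 1) : IsCyclic H := by
  refine isCyclic_of_comm_of_rank (comm_iff_le.2 (le_of_isNilpotent_of_Op_le h fun q hq hd => ?_)) h1
  haveI := Fact.mk hq
  have hc := isCyclic_of_prank_le (ne_two_of_dvd ho hd) (isPGroup_Op q H) (Op_le q H)
    ((prank_le_rank H).trans h1)
  conv_rhs => rw [← Op_sup_Opp_of_isNilpotent (p := q) h, centralizer_sup]
  exact le_inf (comm_iff_le.1 (comm_of_isCyclic hc)) (Op_le_centralizer_Opp q H)

omit hp in
theorem two_le_rank (h : Group.IsNilpotent H) (ho : Odd (Nat.card H)) (h1 : ¬ IsCyclic H) :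
    2 ≤ rank H := by
  by_contra h2; exact h1 (isCyclic_of_isNilpotent_of_rank h ho (by omega))

theorem el_one_omegaOne (h : IsCyclic H) (hd : p ∣ Nat.card H) : El p 1 (omegaOne p H) := by
  have := el_omegaOne_of_comm (p := p) (comm_iff_le.1 (comm_of_isCyclic h))
  rwa [le_antisymm (prank_le_one_of_isCyclic h) (one_le_prank_iff.2 hd)] at this

theorem El.eq_omegaOne_of_comm (h : El p n A) (h1 : A ≤ H) (h2 : H ≤ Ct(H)) (h3 : prank p H ≤ n) :
    A = omegaOne p H := by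
  have := el_omegaOne_of_comm (p := p) h2
  rw [le_antisymm h3 (h.le_prank h1)] at this
  exact h.eq_of_le this (le_omegaOne h1 h.elem.2)

theorem El.eq_omegaOne_of_isCyclic (h : El p 1 A) (h1 : A ≤ H) (h2 : IsCyclic H) :
    A = omegaOne p H :=
  h.eq_omegaOne_of_comm h1 (comm_iff_le.1 (comm_of_isCyclic h2)) (prank_le_one_of_isCyclic h2)

theorem prank_sup_of_disjoint (hc : H ≤ Ct(K)) (hd : H ⊓ K = ⊥) :
    prank p (H ⊔ K) = prank p H + prank p K := by
  refine le_antisymm (prank_le_of_forall fun m A h1 h2 => ?_) ?_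
  · have hq : H ⊔ K ≤ Nm(H) := sup_le le_normalizer (le_Nm_of_le_Ct' hc)
    obtain ⟨a, ha⟩ := exists_el_of_elem (elem_mono h2.elem (inf_le_left (b := H)))
    obtain ⟨b, hb⟩ := exists_el_of_elem (elem_img (h := hq) h2.elem)
    have e := card_img_mul (h := hq) h1
    rw [ha.card, hb.card, h2.card, ← pow_add] at e
    have e1 := Nat.pow_right_injective hp.out.two_le e
    have e2 := ha.le_prank inf_le_right
    have e3 := hb.le_prank ((img_mono h1).trans (img_ker_sup le_sup_right le_sup_left).le)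
    rw [prank_img le_sup_right (by rw [inf_comm, hd]; simp)] at e3
    omega
  · obtain ⟨A, a1, a2⟩ := exists_el_prank p H
    obtain ⟨B, b1, b2⟩ := exists_el_prank p K
    exact (a2.sup b2 (a1.trans (hc.trans (centralizer_mono b1)))
      (le_bot_iff.1 (hd ▸ inf_le_inf a1 b1))).le_prank (sup_le_sup a1 b1)

end

/-! ### self-centralizing normal subgroups -/

section
variable {P A B : Subgroup G}

theorem _root_.Cfsg.IsSCN.le (h : IsSCN P A) : A ≤ P := h.1
theorem _root_.Cfsg.IsSCN.norm (h : IsSCN P A) : P ≤ Nm(A) := h.2.1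
theorem _root_.Cfsg.IsSCN.inf_eq (h : IsSCN P A) : P ⊓ Ct(A) = A := h.2.2
theorem _root_.Cfsg.IsSCN.le_Ct (h : IsSCN P A) : A ≤ Ct(A) := h.2.2.ge.trans inf_le_right
theorem _root_.Cfsg.IsSCN.comm (h : IsSCN P A) : IsMulCommutative A := comm_iff_le.2 h.le_Ct
theorem _root_.Cfsg.IsSCN.le_of_le_Ct (h : IsSCN P A) (h1 : B ≤ P) (h2 : B ≤ Ct(A)) : B ≤ A :=
  (le_inf h1 h2).trans h.2.2.le
theorem _root_.Cfsg.IsSCN.center_le (h : IsSCN P A) : P ⊓ Ct(P) ≤ A :=
  (inf_le_inf_left _ (centralizer_mono h.le)).trans h.2.2.le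
theorem _root_.Cfsg.IsSCN.cj (h : IsSCN P A) (g : G) : IsSCN cj(g, P) cj(g, A) :=
  ⟨cj_mono g h.1, by rw [← cj_normalizer]; exact cj_mono g h.2.1,
    by rw [← cj_centralizer, ← cj_inf, h.2.2]⟩
theorem _root_.Cfsg.IsSCN.of_le {Q : Subgroup G} (h : IsSCN P A) (h1 : A ≤ Q) (h2 : Q ≤ P) :
    IsSCN Q A :=
  ⟨h1, h2.trans h.norm, le_antisymm ((inf_le_inf_right _ h2).trans h.2.2.le) (le_inf h1 h.le_Ct)⟩

theorem exists_scn_ge [Finite G] (hP : Group.IsNilpotent P) (h1 : B ≤ P) (h2 : IsMulCommutative B)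
    (h3 : P ≤ Nm(B)) : ∃ A, B ≤ A ∧ IsSCN P A := by
  obtain ⟨A, a, b, c, d, e⟩ := Solv.exists_abelian_self_centralizing hP le_rfl le_normalizer h1 h2 h3
  exact ⟨A, a, b, d, le_antisymm e (le_inf b (comm_iff_le.1 c))⟩

end

/-! ### normal complements and `p`-length one -/

section
variable [Finite G] [hp : Fact p.Prime] {H K P : Subgroup G}

theorem hasNPC_iff_coprime : HasNormalPComplement p H ↔ (Nat.card (Res p H)).Coprime p := by
  rw [Transfer.hasNPC_sub_iff, res_eq, coprime_iff_not_dvd]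

theorem Opp_le_Res (H : Subgroup G) : Opp p H ≤ Res p H := le_Res (Opp_le p H) (coprime_Opp p H)

theorem hasNPC_iff_le : HasNormalPComplement p H ↔ Res p H ≤ Opp p H := by
  rw [hasNPC_iff_coprime]
  exact ⟨fun h => le_Opp (ResPi_le _ _) (le_normalizer_ResPi le_normalizer) h,
    fun h => Nat.Coprime.of_dvd_left (card_dvd_of_le h) (coprime_Opp p H)⟩

theorem hasNPC_iff_eq : HasNormalPComplement p H ↔ Res p H = Opp p H :=
  hasNPC_iff_le.trans ⟨fun h => le_antisymm h (Opp_le_Res H), le_of_eq⟩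

theorem hasNPC_iff_relIndex : HasNormalPComplement p H ↔ ∃ k, (Opp p H).relIndex H = p ^ k :=
  ⟨fun h => hasNPC_iff_eq.1 h ▸ relIndex_Res H,
    fun ⟨_, hk⟩ => hasNPC_iff_le.2 ((Opp_subnIn p H).Res_le hk.dvd)⟩

theorem hasNPC_iff_hallIn : HasNormalPComplement p H ↔ HallIn {p}ᶜ (Opp p H) H := by
  rw [hasNPC_iff_relIndex, hallIn_iff, compl_compl, piN_singleton (relIndex_ne_zero' _ _),
    and_iff_right (Opp_le p H), and_iff_right (isPi_compl_singleton.2 (coprime_Opp p H))]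

theorem hasNPC_iff_sup (hP : SylIn p P H) : HasNormalPComplement p H ↔ Opp p H ⊔ P = H := by
  refine ⟨fun h => hasNPC_iff_eq.1 h ▸ hP.Res_sup, fun h => hasNPC_iff_le.2 ?_⟩
  conv_lhs => rw [← h]
  exact Res_sup_le' (le_normalizer_Opp_of_le hP.le) hP.isP

theorem hasNPC_of_sup {N : Subgroup G} (hN : (Nat.card N).Coprime p) (hP : IsPGroup p P)
    (h : P ≤ Nm(N)) : HasNormalPComplement p (N ⊔ P : Subgroup G) :=
  hasNPC_iff_coprime.2 (Nat.Coprime.of_dvd_left (card_dvd_of_le (Res_sup_le' h hP)) hN)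

theorem le_Opp_of_hasNPC (h : HasNormalPComplement p H) (h1 : K ≤ H)
    (h2 : (Nat.card K).Coprime p) : K ≤ Opp p H := (le_Res h1 h2).trans (hasNPC_iff_le.1 h)

theorem hasNPC_img {M N : Subgroup G} {hq : M ≤ Nm(N)} (h : HasNormalPComplement p H) (h1 : H ≤ M) :
    HasNormalPComplement p (img hq H) := by
  rw [hasNPC_iff_coprime, ← img_Res h1]; exact coprime_img_left (hasNPC_iff_coprime.1 h)

theorem hasNPC_of_img {M N : Subgroup G} {hq : M ≤ Nm(N)} (h1 : H ≤ M)
    (h : HasNormalPComplement p (img hq H)) (hN : (Nat.card N).Coprime p) :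
    HasNormalPComplement p H := by
  rw [hasNPC_iff_coprime, ← img_Res h1, ← isPi_compl_singleton] at h
  rw [hasNPC_iff_coprime, ← isPi_compl_singleton]
  exact h.of_img ((ResPi_le _ _).trans h1) (isPi_compl_singleton.2 hN)

theorem hasNPC_iff_Oppp : HasNormalPComplement p H ↔ Oppp p H = H :=
  ⟨fun h => le_antisymm (Oppp_le H) (le_Oppp le_rfl le_normalizer (hasNPC_iff_le.1 h)),
    fun h => hasNPC_iff_le.2 (by have := Res_Oppp_le (p := p) H; rwa [h] at this)⟩

theorem hasNPC_Oppp (H : Subgroup G) : HasNormalPComplement p (Oppp p H) :=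
  hasNPC_iff_coprime.2 (Nat.Coprime.of_dvd_left (card_dvd_of_le (Res_Oppp_le H)) (coprime_Opp p H))

theorem le_Oppp_of_hasNPC {N : Subgroup G} (h1 : N ≤ H) (h2 : H ≤ Nm(N))
    (h : HasNormalPComplement p N) : N ≤ Oppp p H :=
  le_Oppp h1 h2 ((hasNPC_iff_le.1 h).trans (Opp_le_Opp_of_normal h1 h2))

/-- Burnside's transfer theorem -/
theorem hasNPC_of_le_Ct (hP : SylIn p P H) (h : H ⊓ Nm(P) ≤ Ct(P)) : HasNormalPComplement p H :=
  hP.toSyl.hasNPC_of_le_centralizer h

end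

/-- `H` has `p`-length at most one: `O^{p'}(H)` has a normal `p`-complement -/
def PL1 (p : ℕ) (H : Subgroup G) : Prop := Resp p (Res p (Resp p H)) = ⊥

section
variable [Finite G] [hp : Fact p.Prime] {H K P : Subgroup G}

theorem pl1_iff_hasNPC : PL1 p H ↔ HasNormalPComplement p (Resp p H) := by
  rw [PL1, Resp_eq_bot_iff, hasNPC_iff_coprime]

theorem pl1_iff_le : PL1 p H ↔ Resp p H ≤ Oppp p H :=
  pl1_iff_hasNPC.trans ⟨le_Oppp_of_hasNPC (ResPi_le _ _) (le_normalizer_ResPi le_normalizer),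
    fun h => Transfer.hasNPC_mono (hasNPC_Oppp H) h⟩

theorem pl1_iff_relIndex : PL1 p H ↔ ((Oppp p H).relIndex H).Coprime p :=
  pl1_iff_le.trans ⟨fun h => Nat.Coprime.of_dvd_left (relIndex_dvd_of_le h (Oppp_le H))
    (relIndex_Resp H), (Oppp_subnIn H).Resp_le⟩

theorem pl1_iff_sylIn (hP : SylIn p P H) : PL1 p H ↔ P ≤ Oppp p H :=
  pl1_iff_le.trans ⟨(le_Resp hP.le hP.isP).trans, fun h => hP.Resp_le h (le_normalizer_Oppp_self H)⟩

theorem PL1.le_Oppp (h : PL1 p H) (hP : IsPGroup p P) (h1 : P ≤ H) : P ≤ Oppp p H :=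
  (le_Resp h1 hP).trans (pl1_iff_le.1 h)

theorem PL1.sup_eq (h : PL1 p H) (hP : SylIn p P H) : Opp p H ⊔ P = Oppp p H :=
  SylIn.Opp_sup_eq_Oppp (hP.of_le (h.le_Oppp hP.isP hP.le) (Oppp_le H))

theorem PL1.le_normalizer_sup (h : PL1 p H) (hP : SylIn p P H) : H ≤ Nm(Opp p H ⊔ P) := by
  rw [h.sup_eq hP]; exact le_normalizer_Oppp_self H

theorem pl1_of_normal_sup {N : Subgroup G} (hP : SylIn p P H) (hN : (Nat.card N).Coprime p)
    (h1 : N ≤ H) (h2 : P ≤ Nm(N)) (h3 : H ≤ Nm(N ⊔ P)) : PL1 p H :=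
  (pl1_iff_sylIn hP).2 (le_sup_right.trans
    (le_Oppp_of_hasNPC (sup_le h1 hP.le) h3 (hasNPC_of_sup hN hP.isP h2)))

/-- `H = O_{p'}(H) N_H(P)` -/
theorem PL1.frattini (h : PL1 p H) (hP : SylIn p P H) : Opp p H ⊔ (H ⊓ Nm(P)) = H := by
  have := (hP.of_le (h.le_Oppp hP.isP hP.le) (Oppp_le H)).frattini (Oppp_le H)
    (le_normalizer_Oppp_self H)
  rwa [← h.sup_eq hP, sup_assoc, sup_eq_right.2 (le_inf hP.le le_normalizer)] at this

theorem PL1.mono (h : PL1 p H) (h1 : K ≤ H) : PL1 p K :=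
  le_bot_iff.1 ((ResPi_mono (ResPi_mono (ResPi_mono h1))).trans h.le)

theorem PL1.map {G' : Type u} [Group G'] (h : PL1 p H) (f : G →* G') : PL1 p (H.map f) := by
  unfold PL1 at *
  rw [← map_Resp, ← map_Res, ← map_Resp, h, Subgroup.map_bot]

theorem pl1_cj {g : G} : PL1 p cj(g, H) ↔ PL1 p H :=
  ⟨fun h => by have := h.map (MulAut.conj g⁻¹).toMonoidHom; rwa [cj_inv_cj] at this,
    fun h => h.map _⟩

theorem pl1_subgroupOf {M : Subgroup G} (h1 : H ≤ M) : PL1 p (H.subgroupOf M) ↔ PL1 p H := by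
  unfold PL1
  rw [← subgroupOf_Resp h1, ← subgroupOf_Res ((ResPi_le _ _).trans h1),
    ← subgroupOf_Resp ((ResPi_le _ _).trans ((ResPi_le _ _).trans h1)),
    subgroupOf_eq_bot_iff ((ResPi_le _ _).trans ((ResPi_le _ _).trans ((ResPi_le _ _).trans h1)))]

theorem pl1_img_iff {M N : Subgroup G} {hq : M ≤ Nm(N)} (h1 : H ≤ M) :
    PL1 p (img hq H) ↔ Resp p (Res p (Resp p H)) ≤ N := by
  unfold PL1
  rw [← img_Resp h1, ← img_Res ((ResPi_le _ _).trans h1),
    ← img_Resp ((ResPi_le _ _).trans ((ResPi_le _ _).trans h1)),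
    img_eq_bot_iff ((ResPi_le _ _).trans ((ResPi_le _ _).trans ((ResPi_le _ _).trans h1)))]

theorem PL1.img {M N : Subgroup G} {hq : M ≤ Nm(N)} (h : PL1 p H) (h1 : H ≤ M) :
    PL1 p (img hq H) := (pl1_img_iff h1).2 (h.le.trans bot_le)

/-- B & G 1.21(b) -/
theorem PL1.of_img {M N : Subgroup G} {hq : M ≤ Nm(N)} (h1 : H ≤ M) (h : PL1 p (BG.img hq H))
    (hN : (Nat.card N).Coprime p) : PL1 p H := by
  have := (pl1_img_iff h1).1 h
  unfold PL1
  rw [← Resp_Resp, Resp_eq_bot_iff]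
  exact Nat.Coprime.of_dvd_left (card_dvd_of_le this) hN

/-- B & G 1.21(e) -/
theorem PL1.of_img₂ {M N N' : Subgroup G} {hq : M ≤ Nm(N)} {hq' : M ≤ Nm(N')} (h1 : H ≤ M)
    (h : PL1 p (BG.img hq H)) (h' : PL1 p (BG.img hq' H)) (hd : N ⊓ N' = ⊥) : PL1 p H :=
  le_bot_iff.1 (hd ▸ le_inf ((pl1_img_iff h1).1 h) ((pl1_img_iff h1).1 h'))

theorem pl1_of_hasNPC (h : HasNormalPComplement p H) : PL1 p H :=
  pl1_iff_hasNPC.2 (Transfer.hasNPC_mono h (ResPi_le _ _))

theorem pl1_of_coprime (h : (Nat.card H).Coprime p) : PL1 p H :=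
  pl1_of_hasNPC (Transfer.hasNPC_of_not_dvd (coprime_iff_not_dvd.1 h))

theorem pl1_of_normal_sylIn (hP : SylIn p P H) (h : H ≤ Nm(P)) : PL1 p H :=
  (pl1_iff_sylIn hP).2 ((hP.eq_Op h).le.trans (Op_le_Oppp H))

theorem pl1_of_isPGroup (h : IsPGroup p H) : PL1 p H :=
  pl1_of_normal_sylIn (sylIn_self h) le_normalizer

theorem pl1_of_isNilpotent (h : Group.IsNilpotent H) : PL1 p H :=
  pl1_of_normal_sylIn (sylIn_Op_of_isNilpotent h) (le_normalizer_Op_of_le le_rfl)

theorem pl1_iff_Resp : PL1 p (Resp p H) ↔ PL1 p H := by unfold PL1; rw [Resp_Resp]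

theorem PL1.of_subnIn (h : PL1 p K) (h1 : SubnIn K H) (hi : (K.relIndex H).Coprime p) : PL1 p H :=
  pl1_iff_Resp.1 (h.mono (h1.Resp_le hi))

theorem PL1.of_normal (h : PL1 p K) (h1 : K ≤ H) (h2 : H ≤ Nm(K)) (hi : (K.relIndex H).Coprime p) :
    PL1 p H := h.of_subnIn (SubnIn.of_normalizer h1 h2) hi

theorem PL1.sylIn_Op (h : PL1 p H) (h1 : Opp p H = ⊥) : SylIn p (Op p H) H :=
  sylIn_of_not_dvd (Op_le p H) (isPGroup_Op p H)
    (by rw [← Oppp_eq_Op h1, ← coprime_iff_not_dvd]; exact pl1_iff_relIndex.1 h)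

/-- B & G 1.21(c) -/
theorem PL1.of_img_isPGroup {M N : Subgroup G} {hq : M ≤ Nm(N)} (hN : N ≤ M) (h1 : IsPGroup p N)
    (h : PL1 p (⊤ : Subgroup (Quo hq))) (h2 : Opp p (⊤ : Subgroup (Quo hq)) = ⊥) : PL1 p M := by
  have a := (h.sylIn_Op h2).hallIn.pre (isPi_singleton.2 h1)
  rw [pre_top, ← Opi_singleton, pre_Opi_top hN (isPi_singleton.2 h1), Opi_singleton] at a
  exact pl1_of_normal_sylIn (hallIn_singleton.1 a) (le_normalizer_Op_of_le le_rfl)

theorem upperPSeries_one : (upperPSeries p G 1).1 = pPrimeCore p G := by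
  show (if Even 0 then _ else _ : {H : Subgroup G // H.Normal}).1 = _
  rw [if_pos (by decide)]
  exact Solv.comap_mk_pPrimeCore (N := ⊥) (by simp)

theorem upperPSeries_two : (upperPSeries p G 2).1 = pPrimePCore p G := by
  show (if Even 1 then _ else _ : {H : Subgroup G // H.Normal}).1 = _
  rw [if_neg (by decide)]
  have : ∀ (U : Subgroup G) [U.Normal], U = pPrimeCore p G →
      (pCore p (G ⧸ U)).comap (QuotientGroup.mk' U) = pPrimePCore p G := by
    rintro _ _ rfl; rfl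
  exact this _ upperPSeries_one

theorem pLengthLE_one_iff : PLengthLE p 1 G ↔ (pPrimePCore p G).index.Coprime p := by
  show (if Even 2 then _ else _ : {H : Subgroup G // H.Normal}).1 = _ ↔ _
  rw [if_pos (by decide)]
  have : ∀ (U : Subgroup G) [U.Normal], U = pPrimePCore p G →
      ((pPrimeCore p (G ⧸ U)).comap (QuotientGroup.mk' U) = ⊤ ↔
        (pPrimePCore p G).index.Coprime p) := by
    rintro _ _ rfl
    rw [← comap_top (QuotientGroup.mk' (pPrimePCore p G)),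
      (comap_injective (QuotientGroup.mk'_surjective _)).eq_iff, index_eq_card]
    constructor
    · intro h
      have := Solv.coprime_card_pPrimeCore (G := G ⧸ pPrimePCore p G) p
      rwa [h, card_top] at this
    · exact fun h => top_le_iff.1 (le_pPrimeCore (by rwa [card_top]))
  exact this _ upperPSeries_two

theorem pl1_top_iff : PL1 p (⊤ : Subgroup G) ↔ PLengthLE p 1 G := by
  rw [pl1_iff_relIndex, pLengthLE_one_iff, Oppp_top, relIndex_top_right]

theorem pl1_iff : PL1 p H ↔ PLengthLE p 1 H := by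
  rw [← pl1_top_iff, ← subgroupOf_self, pl1_subgroupOf le_rfl]

end

end Cfsg.Agent.BG
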