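/-
Bender-Glauberman, section 1: chief factors, coprime action, critical subgroups, transfer, and
`p`-stability of groups of odd order (appendix A).
-/
import Cfsg.Agent.Lib.BG.Rank

set_option autoImplicit false
set_option linter.unusedSectionVars false

namespace Cfsg.Agent.BG

open Subgroup Comp
open scoped commutatorElement

universe u

variable {G : Type u} [Group G] [Finite G] {p : ℕ}

/-! ### chief factors -/

/-- `U / V` is a chief factor for the action of `X`: no `X`-invariant subgroup lies strictly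
between `V` and `U` -/
structure Chief (X U V : Subgroup G) : Prop where
  lt : V < U
  nU : X ≤ Nm(U)
  nV : X ≤ Nm(V)
  min : ∀ W : Subgroup G, X ≤ Nm(W) → V ≤ W → W ≤ U → W = V ∨ W = U

section
variable {X U V W R A K H : Subgroup G}

omit [Finite G] in
theorem le_Nm_bot (X : Subgroup G) : X ≤ Nm((⊥ : Subgroup G)) := le_normalizer_of_normal

omit [Finite G] in
theorem le_Nm_top (X : Subgroup G) : X ≤ Nm((⊤ : Subgroup G)) := le_normalizer_of_normal

theorem exists_chief_below (hU : X ≤ Nm(U)) (hW : X ≤ Nm(W)) (h : W < U) :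
    ∃ V, W ≤ V ∧ Chief X U V := by
  obtain ⟨V, a, b, c⟩ := exists_maximal_subgroup (P := fun V => V < U ∧ X ≤ Nm(V)) ⟨h, hW⟩
  refine ⟨V, a, b.1, hU, b.2, fun Y h1 h2 h3 => ?_⟩
  rcases h3.lt_or_eq with h4 | h4
  · exact Or.inl (c Y ⟨h4, h1⟩ h2)
  · exact Or.inr h4

theorem exists_chief_above (hU : X ≤ Nm(U)) (hW : X ≤ Nm(W)) (h : W < U) :
    ∃ V, V ≤ U ∧ Chief X V W := by
  obtain ⟨V, a, b, c⟩ := exists_minimal_subgroup (P := fun V => W < V ∧ X ≤ Nm(V)) ⟨h, hU⟩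
  refine ⟨V, a, b.1, b.2, hW, fun Y h1 h2 h3 => ?_⟩
  rcases h2.lt_or_eq with h4 | h4
  · exact Or.inr (c Y ⟨h4, h1⟩ h3)
  · exact Or.inl h4.symm

/-- upward induction along a chief series from `W` to `R` -/
theorem chief_induction {P : Subgroup G → Prop} (hW : X ≤ Nm(W)) (h0 : P W)
    (h : ∀ U V, Chief X U V → W ≤ V → U ≤ R → P V → P U) :
    ∀ U, X ≤ Nm(U) → W ≤ U → U ≤ R → P U := by
  intro U
  induction U using subgroup_induction with
  | h U ih =>
  intro h1 h2 h3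
  rcases h2.lt_or_eq with h4 | rfl
  · obtain ⟨V, a, b⟩ := exists_chief_below h1 hW h4
    exact h U V b a h3 (ih V b.lt b.nV a (b.lt.le.trans h3))
  · exact h0

omit [Finite G] in
theorem Chief.sup_inf (h : Chief X U V) (hK : X ≤ Nm(K)) : U ⊓ K ≤ V ∨ V ⊔ U ⊓ K = U :=
  (h.min _ (le_normalizer_sup h.nV (le_normalizer_inf h.nU hK)) le_sup_left
    (sup_le h.lt.le inf_le_left)).imp_left fun e => le_sup_right.trans (le_of_eq e)

omit [Finite G] in
theorem Chief.sup_of_le (h : Chief X U V) (hK : X ≤ Nm(K)) (h1 : K ≤ U) : K ≤ V ∨ V ⊔ K = U := by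
  have := h.sup_inf hK; rwa [inf_eq_right.2 h1] at this

omit [Finite G] in
theorem Chief.commutator_le (h : Chief X U V) (hU : U ≤ Nm(V)) (hs : Group.IsSolvable U) :
    ⁅U, U⁆ ≤ V := by
  refine (h.sup_of_le (le_normalizer_commutator h.nU h.nU)
    (commutator_le_left_of_le_normalizer le_normalizer)).resolve_right fun e => ?_
  have h1 : img hU U ≤ ⁅img hU U, img hU U⁆ := by
    rw [← img_commutator le_rfl le_rfl, img_le_img_iff le_rfl
      (commutator_le_left_of_le_normalizer le_normalizer) h.lt.le, sup_comm, e]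
  have := solvable_perfect_eq_bot (le_antisymm (commutator_le_left_of_le_normalizer le_normalizer) h1)
    (isSolvable_img hs)
  exact h.lt.not_ge ((img_eq_bot_iff le_rfl).1 this)

/-- a solvable chief factor is elementary abelian -/
theorem Chief.exists_prime (h : Chief X U V) (hU : U ≤ Nm(V)) (hs : Group.IsSolvable U) :
    ∃ q : ℕ, q.Prime ∧ q ∣ V.relIndex U ∧ ∀ x ∈ U, x ^ q ∈ V := by
  have hc := h.commutator_le hU hs
  have hne : img hU U ≠ ⊥ := fun e => h.lt.not_ge ((img_eq_bot_iff le_rfl).1 e)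
  obtain ⟨q, hq, Y, hY, hY1⟩ := exists_el_one_of_ne_bot hne
  haveI := Fact.mk hq
  refine ⟨q, hq, by rw [← card_img (h := hU) le_rfl, ← hY1.card_one]; exact card_dvd_of_le hY, ?_⟩
  have hc' : img hU U ≤ Ct(img hU U) := (img_le_centralizer_iff le_rfl le_rfl).2 hc
  have hmem : ∀ x, x ∈ pre hU (omegaOne q (img hU U)) ↔ x ∈ U ∧ x ^ q ∈ V := fun x => by
    rw [mem_pre]
    refine ⟨fun ⟨hx, h'⟩ => ⟨hx, ?_⟩, fun ⟨hx, h'⟩ => ⟨hx, mem_omegaOne (qmap_mem_img hx) ?_⟩⟩
    · have := pow_eq_one_of_mem_omegaOne hc' h'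
      rwa [← map_pow, qmap_eq_one] at this
    · rwa [← map_pow, qmap_eq_one]
  have hn : X ≤ Nm(pre hU (omegaOne q (img hU U))) := le_normalizer_of_forall fun g hg x hx => by
    rw [hmem] at hx ⊢
    exact ⟨conj_mem_of_le_normalizer h.nU hg hx.1,
      by rw [conj_pow]; exact conj_mem_of_le_normalizer h.nV hg hx.2⟩
  rcases h.min _ hn (ker_le_pre h.lt.le _) (pre_le _) with e | e
  · have : omegaOne q (img hU U) = ⊥ := by rw [← pre_inj, e, pre_bot' h.lt.le]
    exact absurd (le_bot_iff.1 (this ▸ le_omegaOne hY hY1.elem.2)) hY1.ne_bot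
  · exact fun x hx => ((hmem x).1 (e.ge hx)).2

/-- a minimal `X`-invariant solvable subgroup is elementary abelian -/
theorem Chief.elem (h : Chief X U ⊥) (hs : Group.IsSolvable U) :
    ∃ q : ℕ, q.Prime ∧ IsElementaryAbelian q U := by
  obtain ⟨q, hq, -, h2⟩ := h.exists_prime (le_Nm_bot U) hs
  exact ⟨q, hq, comm_of_commutator_eq_bot (le_bot_iff.1 (h.commutator_le (le_Nm_bot U) hs)),
    fun x hx => mem_bot.1 (h2 x hx)⟩

theorem exists_elem_invariant (hR : X ≤ Nm(R)) (hs : Group.IsSolvable R) (h : R ≠ ⊥) :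
    ∃ q : ℕ, q.Prime ∧ ∃ E, E ≤ R ∧ E ≠ ⊥ ∧ IsElementaryAbelian q E ∧ Chief X E ⊥ := by
  obtain ⟨E, a, b⟩ := exists_chief_above hR (le_Nm_bot X) (bot_lt_iff_ne_bot.2 h)
  obtain ⟨q, hq, c⟩ := b.elem (isSolvable_of_le a hs)
  exact ⟨q, hq, E, a, b.lt.ne', c, b⟩

theorem exists_elem_invariant_of_isPGroup [hp : Fact p.Prime] (hR : X ≤ Nm(R)) (hs : IsPGroup p R)
    (h : R ≠ ⊥) : ∃ E, E ≤ R ∧ E ≠ ⊥ ∧ IsElementaryAbelian p E ∧ Chief X E ⊥ := by
  obtain ⟨q, hq, E, a, b, c, d⟩ := exists_elem_invariant hR (isSolvable_of_isPGroup hs) h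
  haveI := Fact.mk hq
  obtain rfl := Solv.eq_of_isPGroup_of_dvd (hs.to_le a) hq (dvd_card_of_isPGroup (elem_isP c) b)
  exact ⟨E, a, b, c, d⟩

omit [Finite G] in
theorem Chief.img {M N : Subgroup G} {hq : M ≤ Nm(N)} (h : Chief X U V) (h1 : X ≤ M) (h2 : U ≤ M)
    (hN : N ≤ V) : Chief (img hq X) (img hq U) (img hq V) := by
  have hV := h.lt.le.trans h2
  refine ⟨lt_of_le_not_ge (img_mono h.lt.le) fun e => h.lt.not_ge ((img_le_img_iff' h2 hV hN).1 e),
    img_le_normalizer h.nU, img_le_normalizer h.nV, fun W a b c => ?_⟩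
  rw [← img_pre W]
  refine (h.min (pre hq W) (le_normalizer_pre h1 a) (le_pre hV b) ?_).imp (congrArg _) (congrArg _)
  rw [← pre_img_of_le (h := hq) h2 (hN.trans h.lt.le)]; exact pre_mono c

omit [Finite G] in
theorem Chief.pre {M N : Subgroup G} {hq : M ≤ Nm(N)} {U V : Subgroup (Quo hq)}
    (h : Chief (BG.img hq X) U V) (h1 : X ≤ M) (hN : N ≤ M) : Chief X (pre hq U) (pre hq V) := by
  refine ⟨lt_of_le_not_ge (pre_mono h.lt.le) fun e => h.lt.not_ge (pre_le_pre_iff.1 e),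
    le_normalizer_pre h1 h.nU, le_normalizer_pre h1 h.nV, fun W a b c => ?_⟩
  have hW := c.trans (pre_le U)
  rw [← pre_img_of_le (h := hq) hW ((ker_le_pre hN V).trans b)]
  refine (h.min (BG.img hq W) (img_le_normalizer a) ?_ ((img_le_iff hW).2 c)).imp (congrArg _)
    (congrArg _)
  rw [← img_pre V]; exact img_mono b

omit [Finite G] in
theorem Chief.subgroupOf {M : Subgroup G} (h : Chief X U V) (h1 : X ≤ M) (h2 : U ≤ M) :
    Chief (X.subgroupOf M) (U.subgroupOf M) (V.subgroupOf M) := by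
  have hV := h.lt.le.trans h2
  refine ⟨lt_of_le_not_ge (comap_mono h.lt.le) fun e => h.lt.not_ge ((subgroupOf_le_iff h2).1 e),
    subgroupOf_le_normalizer h.nU M, subgroupOf_le_normalizer h.nV M, fun W a b c => ?_⟩
  rw [← subgroupOf_map_subtype_self W]
  refine (h.min (W.map M.subtype) ?_ (le_map_subtype_iff.2 ⟨hV, b⟩) (map_subtype_le_iff.2 c)).imp
    (congrArg (Subgroup.subgroupOf · M)) (congrArg (Subgroup.subgroupOf · M))
  rw [← map_subgroupOf_subtype h1]; exact map_le_normalizer _ a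

omit [Finite G] in
/-- B & G 1.2(a): a nilpotent normal subgroup centralizes every chief factor -/
theorem Chief.commutator_nilpotent_le {F : Subgroup G} (h : Chief X U V) (hU : U ≤ X) (hF : F ≤ X)
    (hn : X ≤ Nm(F)) (hs : Group.IsNilpotent F) : ⁅U, F⁆ ≤ V := by
  rcases h.sup_inf hn with h1 | h1
  · exact (le_inf (commutator_le_left_of_le_normalizer (hF.trans h.nU))
      (commutator_le_right_of_le_normalizer (hU.trans hn))).trans h1
  have h2 : ⁅U ⊓ F, F⁆ ≤ U ⊓ F :=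
    commutator_le_left_of_le_normalizer (hF.trans (le_normalizer_inf h.nU hn))
  have hc := le_normalizer_commutator (le_normalizer_inf h.nU hn) hn
  rcases h.sup_of_le hc (h2.trans inf_le_left) with h3 | h3
  · rw [← h1]
    exact commutator_sup_left_le le_normalizer (inf_le_left.trans (hU.trans h.nV))
      (commutator_le_left_of_le_normalizer (hF.trans h.nV)) h3
  · have h4 : U ⊓ F ≤ V ⊓ F := by
      refine Transfer.le_of_le_sup_commutator_of_nilpotent (P := F) inf_le_right inf_le_right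
        (hF.trans (le_normalizer_inf h.nV hn)) ?_
      rw [sup_comm, ← sup_inf_of_le_normalizer' ((h.lt.le.trans hU).trans hc) (h2.trans inf_le_right),
        sup_comm, h3]
    exact absurd (h1.ge.trans (sup_le le_rfl (h4.trans inf_le_left))) h.lt.not_ge

theorem Chief.commutator_Fit_le (h : Chief X U V) (hU : U ≤ X) (hH : H ≤ X) (hn : X ≤ Nm(H)) :
    ⁅U, Fit H⁆ ≤ V :=
  h.commutator_nilpotent_le hU ((Fit_le H).trans hH) (le_normalizer_Fit hn) (isNilpotent_Fit H)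

/-- B & G 1.9, chief series form -/
theorem le_Ct_of_chief (hR : X ≤ Nm(R)) (hc : (Nat.card A).Coprime (Nat.card R))
    (h : ∀ U V, Chief X U V → U ≤ R → ⁅U, A⁆ ≤ V) : A ≤ Ct(R) := by
  refine chief_induction (P := fun U => A ≤ Ct(U)) (le_Nm_bot X) (le_Ct_comm.1 bot_le) ?_ R hR bot_le
    le_rfl
  intro U V h1 _ h2 h3
  exact Solv.coprime_le_centralizer_of_commutator_le
    (Nat.Coprime.of_dvd_right (card_dvd_of_le (h1.lt.le.trans h2)) hc) (h U V h1 h2) h3

/-- B & G 1.2(b) -/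
theorem le_Fit_of_chief (hs : Group.IsSolvable H) (hH : H ≤ X) (hn : X ≤ Nm(H)) (hK : K ≤ H)
    (hKn : X ≤ Nm(K)) (h : ∀ U V, Chief X U V → U ≤ Fit H → ⁅U, K⁆ ≤ V) : K ≤ Fit H := by
  by_contra h0
  obtain ⟨L, hL, ⟨h1, h2⟩, hmin⟩ := exists_minimal_subgroup
    (P := fun L => X ≤ Nm(L) ∧ ¬ L ≤ Fit H) ⟨hKn, h0⟩
  have hlt : ∀ Y, Y < L → X ≤ Nm(Y) → Y ≤ Fit H := fun Y a b => by
    by_contra c; exact a.ne (hmin Y ⟨b, c⟩ a.le)
  have hLH := hL.trans hK
  have hc : ⁅L, L⁆ ≤ Fit H := hlt _ (commutator_lt_of_isSolvable (isSolvable_of_le hLH hs)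
    (by rintro rfl; exact h2 bot_le)) (le_normalizer_commutator h1 h1)
  obtain ⟨q, hq, P, hP, hPF⟩ : ∃ q : ℕ, q.Prime ∧ ∃ P, SylIn q P L ∧ ¬ P ≤ Fit H := by
    by_contra! hh
    exact h2 (le_of_forall_sylIn fun q hq _ => (exists_sylIn q L).imp fun P hP => ⟨hP, hh q hq P hP⟩)
  haveI := Fact.mk hq
  have hLF : L ≤ Nm(Fit H) := le_normalizer_Fit_of_le hLH
  have h3 : Resp q L = L := by
    by_contra e
    exact hPF ((le_Resp hP.le hP.isP).trans
      (hlt _ (lt_of_le_of_ne (Resp_le q L) e) (le_normalizer_ResPi h1)))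
  have h4 : L ≤ Fit H ⊔ P := by
    rw [← h3]
    refine (hP.Resp_le (N := L ⊓ Fit H ⊔ P) le_sup_right ?_).trans (sup_le_sup_right inf_le_right _)
    refine le_normalizer_of_commutator_le (sup_le inf_le_left hP.le) ?_
    exact (le_inf (commutator_le_left_of_le_normalizer le_normalizer) hc).trans le_sup_left
  have h5 : P ≤ Ct(Opp q (Fit H)) := by
    refine le_Ct_of_chief (X := X) (le_normalizer_Opp (le_normalizer_Fit hn))
      (coprime_of_isPGroup hP.isP (coprime_Opp _ _)) fun U V a b => ?_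
    exact (commutator_mono le_rfl (hP.le.trans hL)).trans (h U V a (b.trans (Opp_le _ _)))
  have h6 : Op q (Fit H) ⊔ P ≤ Ct(Opp q (Fit H)) := sup_le (Op_le_centralizer_Opp _ _) h5
  have h7 : Group.IsNilpotent (Opp q (Fit H) ⊔ (Op q (Fit H) ⊔ P) : Subgroup G) :=
    Solv.isNilpotent_sup (isNilpotent_of_le (Opp_le _ _) (isNilpotent_Fit H))
      (isPGroup_sup' (le_normalizer_Op (hP.le.trans hLF)) (isPGroup_Op _ _) hP.isP).isNilpotent
      (le_Nm_of_le_Ct' h6) (h6.trans (Ct_le_Nm _))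
  rw [← sup_assoc, sup_comm (Opp _ _), Op_sup_Opp_of_isNilpotent (isNilpotent_Fit H)] at h7
  exact h2 (le_Fit hLH (hH.trans h1) (isNilpotent_of_le h4 h7))

/-! ### coprime action -/

/-- B & G 1.4 -/
theorem le_Ct_of_le_Ct_Fit (hs : Group.IsSolvable K) (hA : A ≤ Nm(K))
    (hc : (Nat.card A).Coprime (Nat.card K)) (h : A ≤ Ct(Fit K)) : A ≤ Ct(K) := by
  have h1 : ⁅Fit K, A⁆ = ⊥ := commutator_eq_bot_iff'.2 h
  have h2 : ⁅K, Fit K⁆ ≤ Fit K := commutator_le_right_of_le_normalizer (le_normalizer_Fit_of_le le_rfl)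
  have h3 : ⁅⁅A, K⁆, Fit K⁆ = ⊥ := commutator_commutator_eq_bot_of_rotate
    (le_bot_iff.1 (h1 ▸ commutator_mono h2 le_rfl)) (by rw [h1, commutator_bot_left])
  have h4 : ⁅K, A⁆ ≤ Fit K := by
    refine le_trans (le_inf (commutator_le_left_of_le_normalizer hA) ?_) (inf_Ct_Fit_le hs)
    rw [commutator_comm]; exact commutator_eq_bot_iff_le.1 h3
  exact Solv.coprime_le_centralizer_of_quadratic hA hc (le_bot_iff.1 (h1 ▸ commutator_mono h4 le_rfl))

theorem exists_invariant_hallIn (hA : A ≤ Nm(K)) (hc : (Nat.card A).Coprime (Nat.card K))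
    (hs : Group.IsSolvable K) (π : Set ℕ) : ∃ H, HallIn π H K ∧ A ≤ Nm(H) :=
  Solv.coprime_exists_isPiHallOf hA hc hs π

theorem invariant_hallIn_conj {π : Set ℕ} {L : Subgroup G} (hA : A ≤ Nm(K))
    (hc : (Nat.card A).Coprime (Nat.card K)) (hs : Group.IsSolvable K) (hH : HallIn π H K)
    (hL : HallIn π L K) (h1 : A ≤ Nm(H)) (h2 : A ≤ Nm(L)) : ∃ c ∈ K ⊓ Ct(A), cj(c, H) = L :=
  Solv.coprime_isPiHallOf_conj hA hc hs hH hL h1 h2

/-- B & G 1.5(b) -/
theorem exists_invariant_hallIn_ge {π : Set ℕ} {Y : Subgroup G} (hA : A ≤ Nm(K))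
    (hc : (Nat.card A).Coprime (Nat.card K)) (hs : Group.IsSolvable K) (hsA : Group.IsSolvable A)
    (h1 : Y ≤ K) (h2 : IsPi π Y) (h3 : A ≤ Nm(Y)) : ∃ H, HallIn π H K ∧ Y ≤ H ∧ A ≤ Nm(H) := by
  obtain ⟨L, hL, hle⟩ := exists_hallIn_ge (π := π ∪ primesOf (Nat.card A)) (isSolvable_sup hA hsA hs)
    (sup_le_sup_left h1 A) (IsPi.sup (PiN.mono (piN_primesOf _) Set.subset_union_right)
      (PiN.mono h2 Set.subset_union_left) h3)
  refine ⟨L ⊓ K, (hL.inf_normal le_sup_right (sup_le hA le_normalizer)).congr fun q hq hd => ?_,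
    le_inf (le_sup_right.trans hle) h1,
    le_normalizer_inf ((le_sup_left.trans hle).trans le_normalizer) hA⟩
  exact ⟨fun e => e.resolve_right fun e' => hq.ne_one (Nat.eq_one_of_dvd_coprimes hc e'.2 hd), Or.inl⟩

omit [Finite G] in
theorem commutator_le_of_isProd {L : Subgroup G} (hA : A ≤ Nm(L)) (h : Solv.IsProd K L Ct(A)) :
    ⁅K, A⁆ ≤ L := by
  rw [commutator_le]
  intro k hk a ha
  obtain ⟨l, hl, c, hc, rfl⟩ := h k hk
  have : ⁅l * c, a⁆ = l * (a * l⁻¹ * a⁻¹) := by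
    rw [commutatorElement_def, mul_assoc l c a, ← hc a ha]; group
  rw [this]
  exact mul_mem hl (conj_mem_of_le_normalizer hA ha (inv_mem hl))

/-- B & G 1.5(e) -/
theorem commutator_le_Opi {π : Set ℕ} (hA : A ≤ Nm(K)) (hc : (Nat.card A).Coprime (Nat.card K))
    (hs : Group.IsSolvable K) (hH : HallIn πᶜ H K) (h : H ≤ Ct(A)) : ⁅K, A⁆ ≤ Opi π K := by
  obtain ⟨L, hL, hAL⟩ := exists_invariant_hallIn hA hc hs π
  refine le_Opi (commutator_le_left_of_le_normalizer hA)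
    (le_sup_left.trans (sup_le_normalizer_commutator K A)) (hL.isPi.of_le ?_)
  exact commutator_le_of_isProd hAL ((hL.isProd hH).mono le_rfl le_rfl h)

theorem commutator_sup_Ct (hA : A ≤ Nm(K)) (hc : (Nat.card A).Coprime (Nat.card K))
    (hs : Group.IsSolvable A ∨ Group.IsSolvable K) : ⁅K, A⁆ ⊔ K ⊓ Ct(A) = K :=
  Solv.coprime_commutator_sup_centralizer hA hc hs

theorem commutator_commutator_eq (hA : A ≤ Nm(K)) (hc : (Nat.card A).Coprime (Nat.card K))
    (hs : Group.IsSolvable A ∨ Group.IsSolvable K) : ⁅⁅K, A⁆, A⁆ = ⁅K, A⁆ :=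
  Solv.coprime_commutator_commutator hA hc hs

theorem commutator_inf_Ct_of_comm (hK : IsMulCommutative K) (hA : A ≤ Nm(K))
    (hc : (Nat.card A).Coprime (Nat.card K)) : ⁅K, A⁆ ⊓ Ct(A) = ⊥ := by
  rw [← Solv.coprime_abelian_inf_eq_bot hK hA hc, inf_comm _ ⁅K, A⁆, ← inf_assoc,
    inf_eq_left.2 (commutator_le_left_of_le_normalizer hA)]

theorem commutator_eq_of_inf_Ct_eq_bot (hA : A ≤ Nm(K)) (hc : (Nat.card A).Coprime (Nat.card K))
    (hs : Group.IsSolvable A ∨ Group.IsSolvable K) (h : K ⊓ Ct(A) = ⊥) : ⁅K, A⁆ = K := by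
  have := commutator_sup_Ct hA hc hs; rwa [h, sup_bot_eq] at this

/-- if `[K, A] = K` under a coprime action then the fixed points lie in `K'` -/
theorem inf_Ct_le_commutator (hA : A ≤ Nm(K)) (hc : (Nat.card A).Coprime (Nat.card K))
    (h : ⁅K, A⁆ = K) : K ⊓ Ct(A) ≤ ⁅K, K⁆ := by
  have hq : K ⊔ A ≤ Nm(⁅K, K⁆) :=
    sup_le (le_normalizer_commutator le_normalizer le_normalizer) (le_normalizer_commutator hA hA)
  have := commutator_inf_Ct_of_comm ((comm_img_iff (h := hq) le_sup_left).2 le_rfl)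
    (img_le_normalizer hA) (coprime_img hc)
  rw [← img_commutator le_sup_left le_sup_right, h] at this
  rw [← img_eq_bot_iff (h := hq) (inf_le_left.trans le_sup_left), ← le_bot_iff, ← this]
  exact img_inf_le.trans (inf_le_inf_left _ (img_le_centralizer le_rfl))

theorem le_Ct_of_commutator_le {N : Subgroup G} (hc : (Nat.card A).Coprime (Nat.card N))
    (h1 : ⁅K, A⁆ ≤ N) (h2 : A ≤ Ct(N)) : A ≤ Ct(K) :=
  Solv.coprime_le_centralizer_of_commutator_le hc h1 h2

/-- B & G 1.10 -/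
theorem le_Ct_of_self_centralizing (hH : Group.IsNilpotent H) (hA : A ≤ Nm(H))
    (hc : (Nat.card A).Coprime (Nat.card H)) (h : H ⊓ Ct(H ⊓ Ct(A)) ≤ Ct(A)) : A ≤ Ct(H) :=
  Solv.coprime_le_centralizer_of_self_centralizing hH hA hc h

/-- B & G 1.16 -/
theorem le_of_forall_C1 {L : Subgroup G} (hA : IsMulCommutative A) (hnc : ¬ IsCyclic A)
    (hAK : A ≤ Nm(K)) (hc : (Nat.card A).Coprime (Nat.card K))
    (hL : ∀ a ∈ A, a ≠ 1 → K ⊓ C1(a) ≤ L) : K ≤ L :=
  Solv.le_of_forall_centralizer_le hA hnc hAK hc hL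

/-- B & G 1.16, for subgroups of order `p` of an elementary abelian group -/
theorem le_of_forall_el_one [hp : Fact p.Prime] {n : ℕ} {L : Subgroup G} (hA : El p n A) (hn : 2 ≤ n)
    (hAK : A ≤ Nm(K)) (hc : (Nat.card K).Coprime p)
    (hL : ∀ Y, Y ≤ A → El p 1 Y → K ⊓ Ct(Y) ≤ L) : K ≤ L :=
  le_of_forall_C1 hA.comm (hA.not_isCyclic hn) hAK (coprime_of_isPGroup hA.isP hc) fun a ha h1 => by
    rw [← centralizer_zpowers]; exact hL _ (zpowers_le.2 ha) (el_one_zpowers' h1 (hA.pow ha))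

theorem exists_inf_C1_ne_bot (hA : IsMulCommutative A) (hnc : ¬ IsCyclic A) (hAK : A ≤ Nm(K))
    (hc : (Nat.card A).Coprime (Nat.card K)) (hK : K ≠ ⊥) : ∃ a ∈ A, a ≠ 1 ∧ K ⊓ C1(a) ≠ ⊥ := by
  by_contra! h
  exact hK (le_bot_iff.1 (le_of_forall_C1 hA hnc hAK hc fun a ha h1 => (h a ha h1).le))

variable [hp : Fact p.Prime]

/-- B & G 1.11 -/
theorem le_Ct_of_omega (h2 : p ≠ 2) (hH : IsPGroup p H) (hA : A ≤ Nm(H))
    (hc : (Nat.card A).Coprime p) (h : ∀ x ∈ H, x ^ p = 1 → A ≤ C1(x)) : A ≤ Ct(H) := fun _ ha =>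
  Transfer.mem_centralizer_of_omega h2
    (Nat.Coprime.of_dvd_left (Solv.orderOf_dvd_card_of_mem ha) hc) H hH (hA ha)
    fun x hx h1 => mem_C1.1 (h x hx h1 ha)

theorem le_Ct_of_le_Ct_omegaOne (h2 : p ≠ 2) (hH : IsPGroup p H) (hA : A ≤ Nm(H))
    (hc : (Nat.card A).Coprime p) (h : A ≤ Ct(omegaOne p H)) : A ≤ Ct(H) :=
  le_Ct_of_omega h2 hH hA hc fun _ hx h1 =>
    h.trans (centralizer_le_centralizer_singleton (mem_omegaOne hx h1))

/-- B & G 1.12 -/
theorem le_Ct_of_omega_Ct {E : Subgroup G} (h2 : p ≠ 2) (hH : IsPGroup p H) (hE : E ≤ H)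
    (hEe : IsElementaryAbelian p E) (hA : A ≤ Nm(H)) (hc : (Nat.card A).Coprime p)
    (h : ∀ x ∈ H ⊓ Ct(E), x ^ p = 1 → A ≤ C1(x)) : A ≤ Ct(H) := by
  have h1 : E ≤ H ⊓ Ct(A) := le_inf hE fun x hx =>
    le_centralizer_singleton_iff.1 (h x ⟨hE hx, elem_le_Ct hEe hx⟩ (hEe.2 x hx))
  refine le_Ct_of_self_centralizing hH.isNilpotent hA (coprime_of_isPGroup hH hc).symm (le_Ct_comm.1 ?_)
  refine le_Ct_of_omega h2 (hH.to_le inf_le_left) (le_normalizer_inf hA (le_normalizer_centralizer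
    (le_normalizer_inf hA (le_normalizer_centralizer le_normalizer)))) hc fun x hx => ?_
  exact h x ⟨hx.1, centralizer_mono h1 hx.2⟩

theorem le_Ct_of_le_Ct_maxEl {E : Subgroup G} (h2 : p ≠ 2) (hH : IsPGroup p H) (hE : MaxEl p E H)
    (hA : A ≤ Nm(H)) (hc : (Nat.card A).Coprime p) (h : A ≤ Ct(E)) : A ≤ Ct(H) :=
  le_Ct_of_omega_Ct h2 hH hE.le hE.elem hA hc fun _ hx h1 =>
    h.trans (centralizer_le_centralizer_singleton (hE.mem hx.1 hx.2 h1))

end

/-! ### critical subgroups -/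

/-- Thompson's critical subgroup -/
theorem exists_critical_char {P : Type u} [Group P] [Finite P] [hp : Fact p.Prime]
    (hP : IsPGroup p P) : ∃ C : Subgroup P, C.Characteristic ∧ (∀ x ∈ C, x ^ p ∈ Ct(C)) ∧
      ⁅C, (⊤ : Subgroup P)⁆ ≤ C ⊓ Ct(C) ∧ Ct(C) ≤ C := by
  obtain ⟨A, -, ⟨hA, hAc⟩, hmax⟩ := exists_maximal_subgroup
    (P := fun A : Subgroup P => A.Characteristic ∧ A ≤ Ct(A)) (A := ⊥) ⟨inferInstance, bot_le⟩
  let B : Subgroup (P ⧸ A) := omegaOne p (center (P ⧸ A))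
  have hB : ∀ y, y ∈ B ↔ y ∈ center (P ⧸ A) ∧ y ^ p = 1 := fun y =>
    mem_omegaOne_iff (comm_iff_le.1 inferInstance)
  let C : Subgroup P := B.comap (QuotientGroup.mk' A) ⊓ Ct(A)
  have hC : ∀ x, x ∈ C ↔ ((∀ g : P, ⁅x, g⁆ ∈ A) ∧ x ^ p ∈ A) ∧ x ∈ Ct(A) := fun x => by
    refine and_congr_left' ?_
    show (x : P ⧸ A) ∈ B ↔ _
    rw [hB, ← QuotientGroup.mk_pow, QuotientGroup.eq_one_iff, mem_center_iff]
    refine and_congr_left' ⟨fun h g => ?_, fun h g => ?_⟩
    · rw [← QuotientGroup.eq_one_iff, ← QuotientGroup.mk'_apply, map_commutatorElement,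
        commutatorElement_eq_one_iff_mul_comm]
      exact (h g).symm
    · obtain ⟨g, rfl⟩ := QuotientGroup.mk_surjective g
      have := h g
      rw [← QuotientGroup.eq_one_iff, ← QuotientGroup.mk'_apply, map_commutatorElement,
        commutatorElement_eq_one_iff_mul_comm] at this
      exact this.symm
  have hCc : C.Characteristic := by
    rw [characteristic_iff_le_comap]
    intro φ x hx
    rw [hC] at hx
    rw [mem_comap, hC]
    have hA' := characteristic_iff_le_comap.1 hA φ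
    refine ⟨⟨fun g => ?_, by have := hA' hx.1.2; rwa [mem_comap, map_pow] at this⟩,
      characteristic_iff_le_comap.1 inferInstance φ hx.2⟩
    have := hA' (hx.1.1 (φ.symm g))
    rw [mem_comap, map_commutatorElement] at this
    simpa using this
  have hAC : A ≤ C := fun x hx => (hC x).2
    ⟨⟨fun g => commutator_le_left A ⊤ (commutator_mem_commutator hx (mem_top g)), pow_mem hx p⟩, hAc hx⟩
  have hZ : C ⊓ Ct(C) = A := hmax _ ⟨inferInstance, center_le_centralizer C⟩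
    (le_inf hAC (le_Ct_comm.1 inf_le_right))
  refine ⟨C, hCc, fun x hx => (hZ.ge ((hC x).1 hx).1.2).2, ?_, ?_⟩
  · rw [hZ, commutator_le]; exact fun x hx g _ => ((hC x).1 hx).1.1 g
  · by_contra hn
    obtain ⟨x, hx, h1, h2, h3⟩ := Solv.exists_central_mod_pow (L := ⊤) (M := Ct(C)) (N := A)
      (hP.to_subgroup ⊤).isNilpotent (hP.to_subgroup _) le_top le_normalizer_of_normal
      le_normalizer_of_normal fun e => hn (e.trans hAC)
    exact h1 (hZ.le ⟨(hC x).2 ⟨⟨fun g => h3 g (mem_top g), h2⟩, centralizer_mono hAC hx⟩, hx⟩)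

section
variable [hp : Fact p.Prime] {P A H : Subgroup G}

theorem exists_critical (hP : IsPGroup p P) : ∃ C, C ≤ P ∧ Nm(P) ≤ Nm(C) ∧ (∀ x ∈ C, x ^ p ∈ Ct(C)) ∧
    ⁅C, P⁆ ≤ C ⊓ Ct(C) ∧ P ⊓ Ct(C) ≤ C := by
  obtain ⟨C, h1, h2, h3, h4⟩ := exists_critical_char hP
  refine ⟨C.map P.subtype, map_subtype_le C, Solv.normalizer_le_normalizer_map_of_characteristic P C,
    ?_, ?_, ?_⟩
  · rintro _ ⟨x, hx, rfl⟩
    rw [← map_pow]; exact map_le_centralizer P.subtype le_rfl ⟨_, h2 x hx, rfl⟩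
  · have := map_mono (f := P.subtype) h3
    rw [map_commutator, map_subtype_top] at this
    exact this.trans ((map_inf_le _ _ _).trans (inf_le_inf_left _ (map_le_centralizer _ le_rfl)))
  · rw [← map_subtype_centralizer]; exact map_mono h4

omit hp in
theorem le_Ct_of_critical {C : Subgroup G} (hA : A ≤ Nm(P)) (hc : (Nat.card A).Coprime (Nat.card P))
    (h1 : P ≤ Nm(C)) (h2 : P ⊓ Ct(C) ≤ C) (h : A ≤ Ct(C)) : A ≤ Ct(P) := by
  have a : ⁅C, A⁆ = ⊥ := commutator_eq_bot_iff'.2 h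
  have b : ⁅⁅A, P⁆, C⁆ = ⊥ := commutator_commutator_eq_bot_of_rotate
    (le_bot_iff.1 (a ▸ commutator_mono (commutator_le_right_of_le_normalizer h1) le_rfl))
    (by rw [a, commutator_bot_left])
  have c : ⁅P, A⁆ ≤ C := by
    refine le_trans (le_inf (commutator_le_left_of_le_normalizer hA) ?_) h2
    rw [commutator_comm]; exact commutator_eq_bot_iff_le.1 b
  exact Solv.coprime_le_centralizer_of_quadratic hA hc (le_bot_iff.1 (a ▸ commutator_mono c le_rfl))

/-- B & G 1.13 -/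
theorem exists_critical_odd (h2 : p ≠ 2) (hP : IsPGroup p P) : ∃ H, H ≤ P ∧ Nm(P) ≤ Nm(H) ∧
    ⁅H, P⁆ ≤ H ⊓ Ct(H) ∧ (∀ x ∈ H, x ^ p = 1) ∧ (P ≠ ⊥ → H ≠ ⊥) ∧
    ∀ A, A ≤ Nm(P) → (Nat.card A).Coprime p → A ≤ Ct(H) → A ≤ Ct(P) := by
  obtain ⟨C, h1, h3, -, h4, h5⟩ := exists_critical hP
  have hn : Nm(P) ≤ Nm(omegaOne p C) := le_normalizer_omegaOne h3
  refine ⟨omegaOne p C, (omegaOne_le p C).trans h1, hn, le_inf
    (commutator_le_left_of_le_normalizer (le_normalizer.trans hn)) ?_, fun x hx => ?_, fun h0 => ?_,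
    fun A a b c => ?_⟩
  · exact (commutator_mono (omegaOne_le p C) le_rfl).trans
      (h4.trans (inf_le_right.trans (centralizer_mono (omegaOne_le p C))))
  · exact Transfer.pow_eq_one_of_mem_omegaOne h2
      ((commutator_mono le_rfl h1).trans (h4.trans inf_le_right)) hx
  · refine omegaOne_ne_bot (dvd_card_of_isPGroup (hP.to_le h1) ?_)
    rintro rfl
    exact h0 (le_bot_iff.1 (le_trans (le_inf le_rfl (le_Ct_comm.1 bot_le)) h5))
  · exact le_Ct_of_critical a (coprime_of_isPGroup hP b).symm (le_normalizer.trans h3) h5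
      (le_Ct_of_le_Ct_omegaOne h2 (hP.to_le h1) (a.trans h3) b c)

/-! ### solvable groups are constrained -/

/-- B & G 1.15(a) -/
theorem inf_Ct_le_Oppp {T : Subgroup G} (hs : Group.IsSolvable H) (hT : SylIn p T (Oppp p H)) :
    H ⊓ Ct(T) ≤ Oppp p H := inf_centralizer_le_Oppp (PLay_eq_bot_of_isSolvable hs) hT

theorem inf_Ct_Op_le (hs : Group.IsSolvable H) (h : Opp p H = ⊥) : H ⊓ Ct(Op p H) ≤ Op p H :=
  charP_of_isSolvable hs h

/-- B & G 1.15(b) -/
theorem Opp_inf_Ct_le (hs : Group.IsSolvable H) (hP : IsPGroup p P) (h : P ≤ H) :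
    Opp p (H ⊓ Ct(P)) ≤ Opp p H :=
  (local_centralizer_of_PLay_eq_bot (PLay_eq_bot_of_isSolvable hs) hP h).2

theorem Opp_inf_Nm_le (hs : Group.IsSolvable H) (hP : IsPGroup p P) (h : P ≤ H) :
    Opp p (H ⊓ Nm(P)) ≤ Opp p H :=
  (local_of_PLay_eq_bot (PLay_eq_bot_of_isSolvable hs) hP (le_inf h le_normalizer)
    (inf_le_inf_left _ (Ct_le_Nm P)) inf_le_left inf_le_right).2

/-! ### transfer -/

/-- the focal subgroup theorem -/
theorem focal_le {L : Subgroup G} (hP : SylIn p P H)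
    (h : ∀ x ∈ P, ∀ k ∈ H, k * x * k⁻¹ ∈ P → k * x * k⁻¹ * x⁻¹ ∈ L) : P ⊓ ⁅H, H⁆ ≤ L :=
  (inf_le_inf_left _ le_sup_left).trans (hP.toSyl.inf_commutator_sup_res_le h)

theorem not_dvd_commutator_of_hasNPC (h : HasNormalPComplement p H) (hP : SylIn p P H)
    (hc : IsMulCommutative P) : ¬ p ∣ Nat.card (⁅H, H⁆ : Subgroup G) := by
  have : ⁅H, H⁆ ≤ Opp p H := by
    conv_lhs => rw [← (hasNPC_iff_sup hP).1 h]
    exact (commutator_sup_le_sup_commutator (le_normalizer_Opp_of_le hP.le)).trans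
      (by rw [commutator_eq_bot_of_comm hc, sup_bot_eq])
  exact coprime_iff_not_dvd.1 (Nat.Coprime.of_dvd_left (card_dvd_of_le this) (coprime_Opp p H))

/-- B & G 1.19(a) -/
theorem le_commutator_or_hasNPC (hP : SylIn p P H) (hc : IsCyclic P) :
    P ≤ ⁅H, H⁆ ∨ HasNormalPComplement p H := by
  obtain ⟨S, rfl⟩ := hP.exists_sylow
  haveI : IsCyclic S := (isCyclic_map_iff H.subtype_injective).1 hc
  rcases S.normalizer_le_centralizer_or_le_commutator with h | h
  · exact Or.inr (Transfer.hasNPC_of_normalizer_le_centralizer S h)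
  · exact Or.inl (by rw [← Transfer.map_commutator_eq']; exact map_mono h)

theorem inf_commutator_eq_bot_or_le (hP : SylIn p P H) (hc : IsCyclic P) :
    P ⊓ ⁅H, H⁆ = ⊥ ∨ P ≤ ⁅H, H⁆ :=
  (le_commutator_or_hasNPC hP hc).symm.imp_left fun h => inf_eq_bot_of_isPGroup hP.isP
    (coprime_iff_not_dvd.2 (not_dvd_commutator_of_hasNPC h hP (comm_of_isCyclic hc)))

/-- a cyclic Sylow subgroup for the smallest prime has a normal complement -/
theorem hasNPC_of_isCyclic_of_min (hP : SylIn p P H) (hc : IsCyclic P)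
    (h : ∀ q : ℕ, q.Prime → q ∣ Nat.card H → p ≤ q) : HasNormalPComplement p H := by
  by_cases hd : p ∣ Nat.card H
  swap
  · exact Transfer.hasNPC_of_not_dvd hd
  obtain ⟨S, rfl⟩ := hP.exists_sylow
  have hc' : IsCyclic S := (isCyclic_map_iff H.subtype_injective).1 hc
  refine Transfer.hasNPC_of_normalizer_le_centralizer S (hc'.normalizer_le_centralizer ?_)
  refine le_antisymm (Nat.minFac_le_of_dvd hp.out.two_le hd) (h _ (Nat.minFac_prime ?_) (Nat.minFac_dvd _))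
  rintro e; rw [e] at hd; exact hp.out.ne_one (Nat.dvd_one.1 hd)

omit hp in
theorem isZGroup_iff_sylIn :
    IsZGroup H ↔ ∀ q : ℕ, q.Prime → ∀ P, SylIn q P H → IsCyclic P := by
  refine ⟨fun h q hq P hP => ?_, fun h => ⟨fun q hq S => ?_⟩⟩
  · obtain ⟨S, rfl⟩ := hP.exists_sylow
    exact isCyclic_map _ (h.isZGroup q hq S)
  · exact (isCyclic_map_iff H.subtype_injective).1 (h q hq _ (sylIn_sylow S))

omit hp in
theorem isZGroup_iff_rank (ho : Odd (Nat.card H)) : IsZGroup H ↔ rank H ≤ 1 := by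
  rw [isZGroup_iff_sylIn]
  refine ⟨fun h => rank_le_of_forall fun q hq => ?_, fun h q hq P hP => ?_⟩
  · haveI := Fact.mk hq
    obtain ⟨P, hP⟩ := exists_sylIn q H
    exact hP.prank_eq ▸ prank_le_one_of_isCyclic (h q hq P hP)
  · haveI := Fact.mk hq
    exact isCyclic_of_isNilpotent_of_rank hP.isP.isNilpotent (odd_of_le hP.le ho)
      ((rank_mono hP.le).trans h)

omit hp in
theorem isZGroup_of_le {K : Subgroup G} (h : IsZGroup H) (h1 : K ≤ H) : IsZGroup K :=
  IsZGroup.of_injective (inclusion_injective h1)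

theorem isCyclic_of_isZGroup (h : IsZGroup H) (hP : IsPGroup p P) (h1 : P ≤ H) : IsCyclic P :=
  haveI := isZGroup_of_le h h1; haveI := hP.isNilpotent; inferInstance

omit hp in
theorem isCyclic_commutator_of_isZGroup (h : IsZGroup H) : IsCyclic (⁅H, H⁆ : Subgroup G) := by
  rw [← Transfer.map_commutator_eq']; exact isCyclic_map _ (IsZGroup.isCyclic_commutator H)

omit hp in
theorem coprime_commutator_of_isZGroup (h : IsZGroup H) :
    (Nat.card (⁅H, H⁆ : Subgroup G)).Coprime (⁅H, H⁆.relIndex H) := by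
  rw [← Transfer.map_commutator_eq', card_map_subtype, Solv.relIndex_map_subtype]
  exact IsZGroup.coprime_commutator_index H

/-! ### `p`-stability -/

omit [Finite G] hp in
theorem sylow_two_comm {X : Type*} [Group X] [Finite X] (ho : Odd (Nat.card X)) (T : Sylow 2 X) :
    IsMulCommutative T := by
  have : (T : Subgroup X) = ⊥ := Solv.eq_bot_of_isPGroup_of_not_dvd T.isPGroup' fun h =>
    (Nat.not_even_iff_odd.2 ho) (even_iff_two_dvd.2 (h.trans (card_subgroup_dvd_card _)))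
  rw [this]; infer_instance

/-- B & G A.4(c): groups of odd order are `p`-stable -/
theorem img_le_Op_of_quadratic {B L : Subgroup G} (h2 : p ≠ 2) (ho : Odd (Nat.card L))
    (hB : IsPGroup p B) (hL : L ≤ Nm(B)) (hA : A ≤ L) (hq : ⁅⁅B, A⁆, A⁆ = ⊥) (hn : L ≤ Nm(Ct(B))) :
    img hn A ≤ Op p ⊤ := by
  rintro _ ⟨a, ha, rfl⟩
  haveI := normal_subgroupOf_of_le_normalizer hn
  rw [Op_top]
  refine Transfer.mk_mem_pCore_of_pairs (N := Ct(B).subgroupOf L) fun g => ?_
  rw [← map_subtype_le_iff, Transfer.map_res, MonoidHom.map_closure, Set.image_pair]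
  have h1 : ⁅⁅B, zpowers (a : G)⁆, zpowers (a : G)⁆ = ⊥ :=
    Transfer.quad_mono le_rfl (zpowers_le.2 ha) hq
  have h3 : closure {L.subtype a, L.subtype (g * a * g⁻¹)} ≤ L := by
    rw [closure_le]; rintro _ (rfl | rfl); exacts [a.2, (g * a * g⁻¹).2]
  exact Transfer.res_le_centralizer_of_quadratic h2 hB (h3.trans hL) rfl h1
    (Transfer.quad_cj (hL g.2) h1) default (sylow_two_comm (odd_of_le h3 ho) _)

/-- B & G A.5(b): an abelian `p`-subgroup normalized by a self-centralizing normal `p`-subgroup -/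
theorem le_Op_of_quadratic {B L : Subgroup G} (h2 : p ≠ 2) (ho : Odd (Nat.card L))
    (hB : IsPGroup p B) (hL : L ≤ Nm(B)) (hA : A ≤ L) (hq : ⁅⁅B, A⁆, A⁆ = ⊥)
    (hC : IsPGroup p (L ⊓ Ct(B) : Subgroup G)) : A ≤ Op p L := by
  have hn : L ≤ Nm(Ct(B)) := le_normalizer_centralizer hL
  refine (le_pre hA (img_le_Op_of_quadratic h2 ho hB hL hA hq hn)).trans
    (le_Op (pre_le _) (top_le_normalizer_pre _) ?_)
  rw [← isPi_singleton] at hC ⊢
  refine IsPi.of_relIndex (H := L ⊓ Ct(B)) hC ?_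
  rw [inf_comm, ← inf_relIndex_right, inf_assoc, inf_eq_right.2 (pre_le _), inf_relIndex_right,
    relIndex_ker_pre]
  exact isPi_singleton.2 (isPGroup_Op _ _)

omit [Finite G] hp in
theorem quadratic_of_comm {B : Subgroup G} (hA : IsMulCommutative A) (h : B ≤ Nm(A)) :
    ⁅⁅B, A⁆, A⁆ = ⊥ :=
  commutator_eq_bot_iff_le.2 ((commutator_le_right_of_le_normalizer h).trans (comm_iff_le.1 hA))

theorem le_Op_of_comm (h2 : p ≠ 2) (hs : Group.IsSolvable H) (ho : Odd (Nat.card H))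
    (h0 : Opp p H = ⊥) (hA : A ≤ H) (hc : IsMulCommutative A) (hn : Op p H ≤ Nm(A)) : A ≤ Op p H :=
  le_Op_of_quadratic h2 ho (isPGroup_Op p H) (le_normalizer_Op_of_le le_rfl) hA
    (quadratic_of_comm hc hn) ((isPGroup_Op p H).to_le (inf_Ct_Op_le hs h0))

theorem img_Oppp_top {hq : H ≤ Nm(Opp p H)} : img hq (Oppp p H) = Op p ⊤ := by
  rw [img_Oppp le_rfl (by rw [inf_eq_right.2 (Opp_le p H)]; exact coprime_Opp p H), img_top,
    Oppp_top, Op_top]
  have : pPrimeCore p (Quo hq) = ⊥ := by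
    rw [← Opp_top, ← img_top, ← img_Opp le_rfl
      (by rw [inf_eq_right.2 (Opp_le p H)]; exact coprime_Opp p H), img_ker]
  rw [← Oppp_top, ← Op_top, Oppp_eq_Op (by rwa [Opp_top])]

theorem Opp_quo_top {hq : H ≤ Nm(Opp p H)} : Opp p (⊤ : Subgroup (Quo hq)) = ⊥ := by
  rw [← img_top, ← img_Opp le_rfl (by rw [inf_eq_right.2 (Opp_le p H)]; exact coprime_Opp p H), img_ker]

theorem pre_Op_top {hq : H ≤ Nm(Opp p H)} : pre hq (Op p ⊤) = Oppp p H := by
  rw [← img_Oppp_top, pre_img_of_le (Oppp_le H) (Opp_le_Oppp H)]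

/-- B & G 6.1 -/
theorem le_Oppp_of_comm {S : Subgroup G} (hs : Group.IsSolvable H) (ho : Odd (Nat.card H))
    (hS : SylIn p S H) (hA : A ≤ S) (hc : IsMulCommutative A) (hn : S ≤ Nm(A)) : A ≤ Oppp p H := by
  by_cases h0 : A = ⊥
  · rw [h0]; exact bot_le
  have h2 := ne_two_of_isPGroup (hS.isP.to_le hA) h0 (odd_of_le (hA.trans hS.le) ho)
  have hq : H ≤ Nm(Opp p H) := le_normalizer_Opp_of_le le_rfl
  rw [← pre_Op_top (hq := hq)]
  have hS' := hS.img (h := hq) le_rfl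
  rw [img_top] at hS'
  haveI := isSolvable_quo (h := hq) hs
  exact le_pre (hA.trans hS.le) (le_Op_of_comm h2 inferInstance (by rw [card_top]; exact odd_quo ho)
    Opp_quo_top le_top (comm_img hc) (hS'.Op_le.trans (img_le_normalizer hn)))

/-- Glauberman's `ZJ` theorem for solvable groups of odd order -/
theorem le_normalizer_ZJ {S : Subgroup G} {n : ℕ} (hn : n = p ∨ n = 0) (h2 : p ≠ 2)
    (hs : Group.IsSolvable H) (ho : Odd (Nat.card H)) (hS : SylIn p S H) (h0 : Opp p H = ⊥) :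
    H ≤ Nm(centerThompsonOf n S) := by
  obtain ⟨T, rfl⟩ := hS.exists_sylow
  rw [← Transfer.map_ZJ (by rw [ker_subtype, inf_bot_eq]), ← normal_iff_map_subtype]
  exact Transfer.ZJ_normal h2 hn (charP_iff_subtype.1 (inf_Ct_Op_le hs h0))
    (fun P _ hP => Transfer.isPStableOn_of_abelian h2 default (sylow_two_comm ho _) P hP) T

/-- B & G 6.2, with the Thompson subgroup -/
theorem le_normalizer_ZJ_sup {S : Subgroup G} {n : ℕ} (hn : n = p ∨ n = 0)
    (hs : Group.IsSolvable H) (ho : Odd (Nat.card H)) (hS : SylIn p S H) :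
    H ≤ Nm(centerThompsonOf n S ⊔ Opp p H) := by
  have hq : H ≤ Nm(Opp p H) := le_normalizer_Opp_of_le le_rfl
  by_cases h0 : S = ⊥
  · have : centerThompsonOf n S = ⊥ := le_bot_iff.1 (h0 ▸ Transfer.ZJ_le S)
    rw [this, bot_sup_eq]; exact hq
  have h2 := ne_two_of_isPGroup hS.isP h0 (odd_of_le hS.le ho)
  have hS' := hS.img (h := hq) le_rfl
  rw [img_top] at hS'
  haveI := isSolvable_quo (h := hq) hs
  have := le_normalizer_ZJ hn h2 inferInstance (by rw [card_top]; exact odd_quo ho) hS' Opp_quo_top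
  rw [img, ← Transfer.map_ZJ (by rw [inf_ker_qmap, inf_eq_bot_of_isPGroup hS.isP (coprime_Opp p H),
    bot_subgroupOf])] at this
  have e : centerThompsonOf n (S.subgroupOf H) = (centerThompsonOf n S).subgroupOf H :=
    (subgroupOf_eq_of_map (by rw [Transfer.map_ZJ (by rw [ker_subtype, inf_bot_eq]),
      map_subgroupOf_subtype hS.le])).symm
  rw [e] at this
  rw [← pre_img (h := hq) ((Transfer.ZJ_le S).trans hS.le) (Opp_le p H)]
  exact le_normalizer_pre le_rfl (le_top.trans this)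

/-- `H = O_{p'}(H) N_H(Z(J(S)))` -/
theorem Opp_sup_normalizer_ZJ {S : Subgroup G} {n : ℕ} (hn : n = p ∨ n = 0)
    (hs : Group.IsSolvable H) (ho : Odd (Nat.card H)) (hS : SylIn p S H) :
    Opp p H ⊔ H ⊓ Nm(centerThompsonOf n S) = H := by
  have hZ := (Transfer.ZJ_le (n := n) S).trans hS.le
  have := (sylIn_sup_left (hS.isP.to_le (Transfer.ZJ_le (n := n) S)) (coprime_Opp p H)
    (Or.inl (le_normalizer_Opp_of_le hZ))).frattini (sup_le hZ (Opp_le p H))
    (le_normalizer_ZJ_sup hn hs ho hS)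
  rwa [sup_comm _ (Opp p H), sup_assoc, sup_eq_right.2 (le_inf hZ le_normalizer)] at this

end

end Cfsg.Agent.BG
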