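/-
Turning an action by automorphisms into conjugation inside a semidirect product.
-/
import Mathlib.GroupTheory.SemidirectProduct
import Cfsg.Agent.Lib.BG.Sec1

set_option autoImplicit false
set_option linter.unusedSectionVars false

namespace Cfsg.Agent.BG

open Subgroup Comp
open scoped commutatorElement Pointwise

universe u v w

variable {G : Type u} {A : Type v} [Group G] [Group A]

/-- `X` contains `G` and `A`, and conjugation induces `φ` -/
structure Act {X : Type w} [Group X] (φ : A →* MulAut G) (i : G →* X) (j : A →* X) : Prop where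
  inj : Function.Injective i
  jnj : Function.Injective j
  sup : j.range ⊔ i.range = ⊤
  inf : j.range ⊓ i.range = ⊥
  conj : ∀ a g, j a * i g * (j a)⁻¹ = i (φ a g)

theorem exists_act [Finite G] [Finite A] (φ : A →* MulAut G) :
    ∃ (X : Type (max u v)) (_ : Group X) (_ : Finite X) (i : G →* X) (j : A →* X), Act φ i j :=
  ⟨G ⋊[φ] A, inferInstance, Finite.of_equiv _ (SemidirectProduct.equivProd (φ := φ)).symm, SemidirectProduct.inl,
    SemidirectProduct.inr, SemidirectProduct.inl_injective, SemidirectProduct.inr_injective, eq_top_iff.2 fun x _ => by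
      rw [← SemidirectProduct.inl_left_mul_inr_right x]
      exact mul_mem (mem_sup_right ⟨_, rfl⟩) (mem_sup_left ⟨_, rfl⟩),
    (eq_bot_iff_forall _).2 (by
      rintro _ ⟨⟨a, rfl⟩, g, e⟩
      rw [show a = 1 from (congrArg SemidirectProduct.right e).symm, map_one]),
    fun a g => by rw [SemidirectProduct.inl_aut, map_inv]⟩

namespace Act

variable {X : Type w} [Group X] {φ : A →* MulAut G} {i : G →* X} {j : A →* X} (h : Act φ i j)
include h

theorem normal : i.range.Normal := Comp.normal_iff_top_le_normalizer.2 (h.sup.ge.trans (sup_le (le_normalizer_of_cj_le (by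
  rintro _ ⟨a, rfl⟩
  exact cj_le_iff'.2 (by rintro _ ⟨g, rfl⟩; exact ⟨_, (h.conj a g).symm⟩))) le_normalizer))

theorem card_map (H : Subgroup G) : Nat.card (H.map i) = Nat.card H := card_map_of_injective h.inj
theorem card_map' (H : Subgroup A) : Nat.card (H.map j) = Nat.card H := card_map_of_injective h.jnj
theorem card_range : Nat.card i.range = Nat.card G := (Nat.card_congr (MonoidHom.ofInjective h.inj).toEquiv).symm
theorem card_range' : Nat.card j.range = Nat.card A := (Nat.card_congr (MonoidHom.ofInjective h.jnj).toEquiv).symm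

theorem cj_map (a : A) (H : Subgroup G) : cj(j a, H.map i) = (H.map (φ a).toMonoidHom).map i := by
  rw [Subgroup.map_map, Subgroup.map_map]; congr 1; ext g; exact h.conj a g

theorem map_le_normalizer_iff {B : Subgroup A} {H : Subgroup G} :
    B.map j ≤ Nm(H.map i) ↔ ∀ a ∈ B, ∀ g ∈ H, φ a g ∈ H :=
  ⟨fun e a ha g hg => (mem_map_iff_mem h.inj).1 (h.conj a g ▸ conj_mem_of_le_normalizer e (mem_map_of_mem _ ha) (mem_map_of_mem _ hg)),
    fun e => le_normalizer_of_cj_le (by
      rintro _ ⟨a, ha, rfl⟩
      exact cj_le_iff'.2 (by rintro _ ⟨g, hg, rfl⟩; exact ⟨_, e a ha g hg, (h.conj a g).symm⟩))⟩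

theorem le_normalizer_iff {H : Subgroup G} : j.range ≤ Nm(H.map i) ↔ ∀ a, ∀ g ∈ H, φ a g ∈ H := by
  rw [MonoidHom.range_eq_map, h.map_le_normalizer_iff]; simp

theorem comm_iff {a : A} {g : G} : j a * i g = i g * j a ↔ φ a g = g := by
  rw [← mul_inv_eq_iff_eq_mul, h.conj, h.inj.eq_iff]

theorem mem_Ct_map_iff {B : Subgroup A} {g : G} : i g ∈ Ct(B.map j) ↔ ∀ a ∈ B, φ a g = g :=
  ⟨fun e a ha => h.comm_iff.1 (e _ (mem_map_of_mem _ ha)), fun e => by rintro _ ⟨a, ha, rfl⟩; exact h.comm_iff.2 (e a ha)⟩

theorem mem_Ct_iff {g : G} : i g ∈ Ct(j.range) ↔ ∀ a, φ a g = g := by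
  rw [MonoidHom.range_eq_map, h.mem_Ct_map_iff]; simp

theorem mem_C1_iff {a : A} {g : G} : i g ∈ C1(j a) ↔ φ a g = g := by
  rw [mem_centralizer_singleton_iff, eq_comm, h.comm_iff]

omit h in
theorem exists_map {H : Subgroup X} (e : H ≤ i.range) : ∃ K : Subgroup G, K.map i = H := ⟨_, map_comap_eq_self e⟩

theorem map_lt {H : Subgroup G} (e : H ≠ ⊤) : H.map i < i.range := by
  rw [MonoidHom.range_eq_map]; exact (map_lt_map_iff_of_injective h.inj).2 e.lt_top

theorem map_eq_range {H : Subgroup G} : H.map i = i.range ↔ H = ⊤ := by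
  rw [MonoidHom.range_eq_map]; exact (map_injective h.inj).eq_iff

theorem isSolvable (e : Group.IsSolvable i.range) : Group.IsSolvable G :=
  Group.isSolvable_of_isSolvable_injective (f := i.rangeRestrict) (MonoidHom.rangeRestrict_injective_iff.2 h.inj)

theorem isNilpotent (e : Group.IsNilpotent i.range) : Group.IsNilpotent G :=
  Group.nilpotent_of_mulEquiv (MonoidHom.ofInjective h.inj).symm

end Act

end Cfsg.Agent.BG
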