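/-
Camina pairs.
-/
import Cfsg.Agent.Lib.Solv.Schmidt
import Cfsg.Agent.Lib.Solv.Gen
import Cfsg.Agent.Lib.Comp.Res
import Cfsg.Agent.Lib.Solv.PCyc
import Cfsg.Agent.Lib.Char.Orth

set_option autoImplicit false
set_option linter.unusedSectionVars false

namespace Cfsg.Agent.Cam

open Subgroup Cfsg.Agent.Solv Cfsg.Agent.Comp
open scoped commutatorElement Pointwise

theorem lemB {H G' : Type*} [Group H] [Finite H] [Group G'] (π : H →* G') {q : ℕ} [hq : Fact q.Prime]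
    (hord : ∀ g, π g ≠ 1 → ∀ n, π n = 1 → ∀ k : ℕ, g ^ k = 1 → (g * n) ^ k = 1)
    {M L Q : Subgroup H} [M.Normal] [L.Normal] (hM : M ≤ π.ker) (hL : L ≤ π.ker) (hQ : IsPGroup q Q)
    (hQM : Q ⊓ π.ker ≤ M) (hc : IsMulCommutative (Q.map π)) (hnc : ¬ IsCyclic (Q.map π))
    (hcop : ¬ q ∣ M.relIndex L) : L ≤ M := by
  let f := QuotientGroup.mk' M
  have hf : f.ker = M := QuotientGroup.ker_mk' M
  have h1 : Nat.card (L.map f) = M.relIndex L := by rw [← relIndex_ker, hf]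
  haveI := normal_map_of_surjective (QuotientGroup.mk'_surjective M) L
  obtain ⟨j, hj⟩ := (hQ.map f).exists_card_eq
  have h2 : L.map f ≤ ⊥ := by
    refine le_of_forall_centralizer_le (A := Q.map f) ⟨⟨?_⟩⟩ (fun h => hnc ?_) le_normalizer_of_normal
      (by rw [hj, h1]; exact (hq.out.coprime_iff_not_dvd.2 hcop).pow_left j) ?_
    · rintro ⟨_, a, ha, rfl⟩ ⟨_, b, hb, rfl⟩
      refine Subtype.ext (commutatorElement_eq_one_iff_mul_comm.1 ?_)
      show ⁅f a, f b⁆ = 1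
      rw [← map_commutatorElement, ← MonoidHom.mem_ker, hf]
      refine hQM (mem_inf.2 ⟨mul_mem (mul_mem (mul_mem ha hb) (inv_mem ha)) (inv_mem hb), ?_⟩)
      rw [MonoidHom.mem_ker, map_commutatorElement, commutatorElement_eq_one_iff_mul_comm]
      exact congrArg Subtype.val (hc.1.1 ⟨_, mem_map_of_mem π ha⟩ ⟨_, mem_map_of_mem π hb⟩)
    · obtain ⟨_, ⟨a, ha, rfl⟩, h3⟩ := isCyclic_iff_exists_le_zpowers.1 h
      refine isCyclic_iff_exists_le_zpowers.2 ⟨_, mem_map_of_mem π ha, ?_⟩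
      rintro _ ⟨b, hb, rfl⟩
      obtain ⟨i, hi⟩ := h3 (mem_map_of_mem f hb)
      refine ⟨i, ?_⟩
      have : (a ^ i)⁻¹ * b ∈ π.ker := hM (QuotientGroup.eq.1 (by rw [QuotientGroup.mk_zpow]; exact hi))
      rw [MonoidHom.mem_ker, map_mul, map_inv, inv_mul_eq_one, map_zpow] at this
      exact this
    · rintro _ ⟨y, hy, rfl⟩ h3 _ ⟨⟨l, hl, rfl⟩, h4⟩
      obtain ⟨k, hk⟩ := IsPGroup.exists_pow_eq_one hQ hy
      have h5 := congrArg f (hord y (fun e => h3 ((QuotientGroup.eq_one_iff _).2 (hQM (mem_inf.2 ⟨hy, e⟩)))) l (hL hl) _ hk)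
      rw [map_pow, map_mul, Commute.mul_pow (mem_centralizer_singleton.1 h4), ← map_pow, hk, map_one, one_mul] at h5
      have h6 := orderOf_dvd_natCard _ (mem_map_of_mem f hl)
      rw [h1] at h6
      exact orderOf_eq_one_iff.1 (Nat.eq_one_of_dvd_coprimes
        ((hq.out.coprime_iff_not_dvd.2 hcop).pow_left k) (orderOf_dvd_of_pow_eq_one h5) h6)
  rwa [le_bot_iff, Subgroup.map_eq_bot_iff, hf] at h2

variable {G : Type*} [Group G] [Finite G] {N : Subgroup G} [hN : N.Normal]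

theorem ord (hcam : ∀ g : G, g ∉ N → ∀ n ∈ N, ∃ x : G, x * g * x⁻¹ = g * n) (g : G) (hg : g ∉ N) (n : G) (hn : n ∈ N)
    (k : ℕ) (h : g ^ k = 1) : (g * n) ^ k = 1 := by
  obtain ⟨x, hx⟩ := hcam g hg n hn
  rw [← hx, conj_pow, h, mul_one, mul_inv_cancel]

theorem card_cent (hcam : ∀ g : G, g ∉ N → ∀ n ∈ N, ∃ x : G, x * g * x⁻¹ = g * n) {g : G} (hg : g ∉ N) :
    Nat.card (centralizer {g}) = Nat.card (centralizer {(g : G ⧸ N)}) := by
  have h1 := Char.card_isConj_mul_card_centralizer g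
  have h2 := Char.card_isConj_mul_card_centralizer (g : G ⧸ N)
  have h3 := Nat.card_congr (QuotientGroup.preimageMkEquivSubgroupProdSet N {x | IsConj (g : G ⧸ N) x})
  have h4 : QuotientGroup.mk ⁻¹' {x | IsConj (g : G ⧸ N) x} = {x | IsConj g x} := Set.ext fun x =>
    ⟨fun h => by
      obtain ⟨c, hc⟩ := isConj_iff.1 h
      obtain ⟨c, rfl⟩ := QuotientGroup.mk_surjective c
      obtain ⟨y, hy⟩ := hcam g hg (g⁻¹ * (c⁻¹ * x * c)) (QuotientGroup.eq.1 (by simp [← hc, mul_assoc]))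
      exact isConj_iff.2 ⟨c * y, by rw [mul_inv_rev, ← mul_assoc, mul_assoc c, mul_assoc c, hy]; group⟩,
    fun h => (QuotientGroup.mk' N).map_isConj h⟩
  rw [h4, Nat.card_prod] at h3
  have h5 := card_eq_card_quotient_mul_card_subgroup N
  change Nat.card {x // IsConj g x} = _ * Nat.card {x // IsConj (g : G ⧸ N) x} at h3
  rw [← h1, ← h2, h3, mul_comm _ (Nat.card N), ← mul_assoc] at h5
  haveI : Nonempty {x // IsConj (g : G ⧸ N) x} := ⟨⟨_, IsConj.refl _⟩⟩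
  exact Nat.eq_of_mul_eq_mul_left (Nat.mul_pos Nat.card_pos Nat.card_pos) h5

theorem lemA (hcam : ∀ g : G, g ∉ N → ∀ n ∈ N, ∃ x : G, x * g * x⁻¹ = g * n) {p : ℕ} [hp : Fact p.Prime]
    (h1 : p ∣ Nat.card N) (h2 : p ∣ N.index) :
    ∃ E : Subgroup (G ⧸ N), IsPGroup p E ∧ IsMulCommutative E ∧ ¬ IsCyclic E := by
  by_contra H
  push Not at H
  obtain ⟨x, hx⟩ := exists_prime_orderOf_dvd_card' (G := G ⧸ N) p h2
  obtain ⟨a, ⟨k, ha⟩, hm⟩ := Set.Finite.exists_maximalFor (fun a : G ⧸ N => orderOf a) {a | ∃ k, a ^ p ^ k = 1}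
    (Set.toFinite _) ⟨1, 0, one_pow _⟩
  have hm' : ∀ b : G ⧸ N, ∀ k, b ^ p ^ k = 1 → orderOf b ≤ orderOf a := fun b k hb =>
    (le_total _ _).elim id (hm ⟨k, hb⟩)
  obtain ⟨P, -, h3, h4⟩ := exists_isPGroup_map_eq (QuotientGroup.mk' N) (X := ⊤) (Q := zpowers a)
    (by rw [map_top_mk]; exact le_top) (isPGroup_zpowers ha)
  obtain ⟨g, hg, rfl⟩ := h4.ge (mem_zpowers a)
  have h5 : g ∉ N := fun e => by
    have := hm' x 1 (by rw [pow_one, ← hx, pow_orderOf_eq_one])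
    rw [QuotientGroup.mk'_apply, (QuotientGroup.eq_one_iff _).2 e, orderOf_one, hx] at this
    exact hp.out.one_lt.not_ge this
  obtain ⟨S, hS, h6⟩ := exists_sylIn_ge h3 le_top
  have h7 := h6.inf_normal (N := N) le_top le_normalizer_of_normal
  obtain ⟨z, hz, hz1⟩ := exists_ne_one_of_ne_bot (inf_centralizer_ne_bot_of_isNilpotent h6.isP.isNilpotent
    (N := S ⊓ N) inf_le_left (Comp.le_normalizer_inf le_normalizer le_normalizer_of_normal) (mt h7.eq_bot_iff.1 (not_not.2 h1)))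
  obtain ⟨X, hX⟩ : ∃ X, X = S ⊓ centralizer {g} := ⟨_, rfl⟩
  obtain ⟨T, hT, h8⟩ := exists_sylIn_ge (isPGroup_zpowers ha) (zpowers_le.2 (mem_centralizer_singleton.2 rfl) :
    _ ≤ centralizer {QuotientGroup.mk' N g})
  have h9 : T ≤ zpowers (QuotientGroup.mk' N g) := fun t ht => by
    obtain ⟨c, hc, h10⟩ := isCyclic_iff_exists_le_zpowers.1 (H (zpowers t ⊔ zpowers (QuotientGroup.mk' N g))
      (h8.isP.to_le (sup_le (zpowers_le.2 ht) hT)) (isMulCommutative_zpowers_sup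
        (mem_centralizer_singleton.1 (h8.le ht)).symm))
    obtain ⟨j, hj⟩ := IsPGroup.exists_pow_eq_one h8.isP (sup_le (zpowers_le.2 ht) hT hc)
    rw [eq_of_le_of_card_ge (le_sup_right.trans h10) (by rw [Nat.card_zpowers, Nat.card_zpowers]; exact hm' c j hj)]
    exact h10 (mem_sup_left (mem_zpowers t))
  obtain ⟨i, hi⟩ := (h6.isP.to_le (inf_le_left : S ⊓ centralizer {g} ≤ S)).exists_card_eq
  have h10 := (card_dvd_of_le (inf_le_right : S ⊓ centralizer {g} ≤ _)).trans (card_cent hcam h5).dvd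
  rw [hi] at h10
  have h11 : p ^ i ≤ Nat.card T := by
    rw [h8.card_eq]
    exact Nat.pow_le_pow_right hp.out.pos ((hp.out.pow_dvd_iff_le_factorization Nat.card_pos.ne').1 h10)
  have h12 : T ≤ X.map (QuotientGroup.mk' N) :=
    h9.trans (zpowers_le.2 (mem_map_of_mem _ (hX ▸ mem_inf.2 ⟨hS hg, mem_centralizer_singleton.2 rfl⟩)))
  have h13 := card_le_of_le h12
  rw [← relIndex_ker, QuotientGroup.ker_mk'] at h13
  have h14 := card_mul_index (N.subgroupOf X)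
  have h15 : 1 < Nat.card (N.subgroupOf X) := (one_lt_card_iff_ne_bot _).2 fun e => hz1 (congrArg Subtype.val
    ((eq_bot_iff_forall _).1 e ⟨z, hX ▸ mem_inf.2 ⟨(mem_inf.1 (mem_inf.1 hz).1).1,
      mem_centralizer_singleton.2 ((mem_inf.1 hz).2 g (hS hg))⟩⟩ (mem_inf.1 (mem_inf.1 hz).1).2))
  rw [← hX] at hi
  rw [hi] at h14
  change _ * N.relIndex X = _ at h14
  have := pow_pos hp.out.pos i
  nlinarith

theorem two_primes (hcam : ∀ g : G, g ∉ N → ∀ n ∈ N, ∃ x : G, x * g * x⁻¹ = g * n) {p q : ℕ} [hp : Fact p.Prime]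
    [hq : Fact q.Prime] (hpq : p ≠ q) (h1 : p ∣ Nat.card N) (h2 : p ∣ N.index) (h3 : q ∣ Nat.card N) (h4 : q ∣ N.index) :
    False := by
  obtain ⟨R, hR⟩ := exists_sylIn q N
  let H := normalizer (R : Set G)
  let π := (QuotientGroup.mk' N).comp H.subtype
  have hk : π.ker = N.subgroupOf H := by rw [← MonoidHom.comap_ker, QuotientGroup.ker_mk']; rfl
  have hs : (⊤ : Subgroup H).map π = ⊤ := by
    have := congrArg (Subgroup.map (QuotientGroup.mk' N)) (hR.frattini (M := ⊤) le_top le_normalizer_of_normal)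
    rw [Subgroup.map_sup, map_top_mk, top_inf_eq, (Subgroup.map_eq_bot_iff _).2 (QuotientGroup.ker_mk' N).ge, bot_sup_eq] at this
    rw [← Subgroup.map_map, ← MonoidHom.range_eq_map, range_subtype, this]
  have hord : ∀ g, π g ≠ 1 → ∀ n, π n = 1 → ∀ k : ℕ, g ^ k = 1 → (g * n) ^ k = 1 := fun g hg n hn k h =>
    Subtype.ext (ord hcam g (mt (QuotientGroup.eq_one_iff _).2 hg) n ((QuotientGroup.eq_one_iff _).1 hn) k
      (congrArg Subtype.val h))
  haveI : (R.subgroupOf H).Normal := normal_in_normalizer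
  have hR' : SylIn q (R.subgroupOf H) π.ker := by
    have := (hR.of_le (K := N ⊓ H) (le_inf hR.le le_normalizer) inf_le_left).subgroupOf inf_le_right
    rwa [inf_subgroupOf_right, ← hk] at this
  obtain ⟨E, e1, e2, e3⟩ := lemA hcam h3 h4
  obtain ⟨Q, -, a1, rfl⟩ := exists_isPGroup_map_eq π (X := ⊤) (hs ▸ le_top) e1
  have h5 := lemB π hord hR'.le le_rfl a1
    (hR'.le_of_normalizer (a1.to_le inf_le_left) inf_le_right le_normalizer_of_normal) e2 e3 hR'.not_dvd_relIndex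
  obtain ⟨E, e1, e2, e3⟩ := lemA hcam h1 h2
  obtain ⟨Q, -, a1, rfl⟩ := exists_isPGroup_map_eq π (X := ⊤) (hs ▸ le_top) e1
  have h6 := lemB π hord (M := ⊥) bot_le hR'.le a1 (le_bot_iff.2 (disjoint_iff.1 (((IsPGroup.disjoint_of_ne p q hpq _ _ a1
    hR'.isP)).mono_right h5))) e2 e3 (by
      rw [relIndex_bot_left]
      exact coprime_iff_not_dvd.1 (coprime_of_isPGroup_of_ne hpq.symm hR'.isP))
  rw [le_bot_iff, subgroupOf_eq_bot, disjoint_iff, inf_eq_left.2 le_normalizer] at h6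
  exact hR.eq_bot_iff.1 h6 h3

theorem isPGroup_of_nilpotent (hcam : ∀ g : G, g ∉ N → ∀ n ∈ N, ∃ x : G, x * g * x⁻¹ = g * n) {p : ℕ} [hp : Fact p.Prime]
    (h1 : p ∣ Nat.card N) (h2 : p ∣ N.index) (h3 : Group.IsNilpotent N) : IsPGroup p N := by
  have hR := sylIn_Op_of_isNilpotent (p := p) h3
  let π := QuotientGroup.mk' N
  have hk : π.ker = N := QuotientGroup.ker_mk' N
  haveI : (Op p N).Normal := normalizer_eq_top_iff.1 (eq_top_iff.2 (le_normalizer_Op le_normalizer_of_normal))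
  obtain ⟨E, e1, e2, e3⟩ := lemA hcam h1 h2
  obtain ⟨Q, -, a1, rfl⟩ := exists_isPGroup_map_eq π (X := ⊤) (by rw [map_top_mk]; exact le_top) e1
  exact hR.isP.to_le (lemB π (fun g hg n hn => ord hcam g (mt (QuotientGroup.eq_one_iff _).2 hg) n
    ((QuotientGroup.eq_one_iff _).1 hn)) (hk.symm ▸ hR.le) hk.ge a1
    (hR.le_of_normalizer (a1.to_le inf_le_left) (inf_le_right.trans hk.le) le_normalizer_of_normal) e2 e3 hR.not_dvd_relIndex)

theorem nilpotent_of_prime (hcam : ∀ g : G, g ∉ N → ∀ n ∈ N, ∃ x : G, x * g * x⁻¹ = g * n) {q : ℕ} [hq : Fact q.Prime]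
    (h1 : ¬ q ∣ Nat.card N) (h2 : q ∣ N.index) : Group.IsNilpotent N := by
  obtain ⟨y, hy⟩ := exists_prime_orderOf_dvd_card' q (h2.trans (index_dvd_card N))
  refine thompson_fpf (H := zpowers y) le_normalizer_of_normal (fun e => ?_)
    (fpf_zpowers_of_prime (hy ▸ hq.out) (fpf_iff.2 fun k hk e => ?_))
  · rw [zpowers_eq_bot.1 e, orderOf_one] at hy; exact hq.out.ne_one hy.symm
  · have := ord hcam y (fun h => h1 (hy ▸ orderOf_dvd_natCard _ h)) k hk _ (pow_orderOf_eq_one y)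
    rw [Commute.mul_pow e, pow_orderOf_eq_one, one_mul, hy] at this
    exact orderOf_eq_one_iff.1 (Nat.eq_one_of_dvd_coprimes (hq.out.coprime_iff_not_dvd.2 h1)
      (orderOf_dvd_of_pow_eq_one this) (orderOf_dvd_natCard _ hk))

theorem frob_of_coprime (hcam : ∀ g : G, g ∉ N → ∀ n ∈ N, ∃ x : G, x * g * x⁻¹ = g * n)
    (h : (Nat.card N).Coprime N.index) (x : G) (hx : x ∈ N) (h1 : x ≠ 1) : centralizer {x} ≤ N := fun g hg => by
  by_contra h2
  have h3 : g ^ Nat.card N ∉ N := fun e => h2 (by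
    rw [← QuotientGroup.eq_one_iff, QuotientGroup.mk_pow] at e
    exact (QuotientGroup.eq_one_iff _).1 (orderOf_eq_one_iff.1 (Nat.eq_one_of_dvd_coprimes h
      (orderOf_dvd_of_pow_eq_one e) (_root_.orderOf_dvd_natCard _))))
  have h4 : (g ^ Nat.card N) ^ N.index = 1 := by rw [← pow_mul, card_mul_index, pow_card_eq_one']
  have := ord hcam _ h3 x hx _ h4
  rw [Commute.mul_pow (Commute.pow_left (mem_centralizer_singleton.1 hg).symm _), h4, one_mul] at this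
  exact h1 (orderOf_eq_one_iff.1 (Nat.eq_one_of_dvd_coprimes h (orderOf_dvd_natCard _ hx) (orderOf_dvd_of_pow_eq_one this)))

theorem cases (hcam : ∀ g : G, g ∉ N → ∀ n ∈ N, ∃ x : G, x * g * x⁻¹ = g * n) :
    (Nat.card N).Coprime N.index ∨ ∃ p : ℕ, p.Prime ∧ p ∣ Nat.card N ∧ p ∣ N.index ∧
      (IsPGroup p N ∨ IsPGroup p (G ⧸ N)) := by
  refine or_iff_not_imp_left.2 fun h => ?_
  obtain ⟨p, hp, h1, h2⟩ := Nat.Prime.not_coprime_iff_dvd.1 h
  haveI := Fact.mk hp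
  refine ⟨p, hp, h1, h2, or_iff_not_imp_right.2 fun h3 => ?_⟩
  obtain ⟨q, hq, h4, h5⟩ : ∃ q : ℕ, q.Prime ∧ q ∣ N.index ∧ p ≠ q := by
    by_contra h4
    push Not at h4
    exact h3 (IsPGroup.of_card (Nat.eq_prime_pow_of_unique_prime_dvd Nat.card_pos.ne' fun a b => (h4 _ a b).symm))
  haveI := Fact.mk hq
  exact isPGroup_of_nilpotent hcam h1 h2 (nilpotent_of_prime hcam (fun e => two_primes hcam h5 h1 h2 e h4) h4)

end Cfsg.Agent.Cam
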