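/-
Bender-Glauberman, section 6 (6.3 - 6.7) and 4.4(b): coprime factorisations and groups of
`p`-length one.
-/
import Cfsg.Agent.Lib.BG.Sec1

set_option autoImplicit false
set_option linter.unusedSectionVars false

namespace Cfsg.Agent.BG

open Subgroup Comp
open scoped commutatorElement

universe u

variable {G : Type u} [Group G] [Finite G] {p : ℕ}

section
variable {K H U M : Subgroup G}

/-- B & G 6.3(a) -/
theorem commutator_eq_of_le_der (hs : Group.IsSolvable K) (hn : H ≤ Nm(K)) (hd : K ⊓ H = ⊥)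
    (h : K ≤ ⁅K ⊔ H, K ⊔ H⁆) : ⁅K, H⁆ = K := by
  have h1 : ⁅K, H⁆ ≤ K := commutator_le_left_of_le_normalizer hn
  have hN : K ⊔ H ≤ Nm(⁅K, H⁆) := sup_le_normalizer_commutator K H
  have hKK : K ⊔ H ≤ Nm(⁅K, K⁆) :=
    sup_le (le_normalizer_commutator le_normalizer le_normalizer) (le_normalizer_commutator hn hn)
  have hL : K ⊔ H ≤ Nm(⁅K, H⁆ ⊔ ⁅K, K⁆) := le_normalizer_sup hN hKK
  have hLK : ⁅K, H⁆ ⊔ ⁅K, K⁆ ≤ K := sup_le h1 (commutator_le_left_of_le_normalizer le_normalizer)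
  have hHH : ⁅H, H⁆ ≤ H := commutator_le_left_of_le_normalizer le_normalizer
  have h2 : ⁅K ⊔ H, K ⊔ H⁆ ≤ (⁅K, H⁆ ⊔ ⁅K, K⁆) ⊔ ⁅H, H⁆ := by
    have hX : K ⊔ H ≤ Nm((⁅K, H⁆ ⊔ ⁅K, K⁆) ⊔ ⁅H, H⁆) := by
      refine sup_le ?_ (le_normalizer_sup (le_sup_right.trans hL)
        (le_normalizer_commutator le_normalizer le_normalizer))
      refine le_normalizer_of_forall fun k hk x hx => ?_
      obtain ⟨a, ha, b, hb, rfl⟩ :=
        (mem_sup_of_le_normalizer' ((hHH.trans le_sup_right).trans hL)).1 hx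
      have : k * (a * b) * k⁻¹ = k * a * k⁻¹ * ⁅k, b⁆ * b := by
        rw [commutatorElement_def]; group
      rw [this]
      exact mul_mem (mul_mem (mem_sup_left (conj_mem_of_le_normalizer hL (mem_sup_left hk) ha))
        (mem_sup_left (mem_sup_left (commutator_mem_commutator hk (hHH hb))))) (mem_sup_right hb)
    have a := le_sup_left.trans hX
    have b := le_sup_right.trans hX
    refine commutator_sup_left_le a b (commutator_sup_right_le a b ?_ ?_)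
      (commutator_sup_right_le a b ?_ le_sup_right)
    · exact le_sup_right.trans le_sup_left
    · exact le_sup_left.trans le_sup_left
    · rw [commutator_comm]; exact le_sup_left.trans le_sup_left
  have h3 : K ≤ ⁅K, H⁆ ⊔ ⁅K, K⁆ := by
    have := sup_inf_of_le_normalizer' ((hHH.trans le_sup_right).trans hL) hLK
    rw [le_bot_iff.1 ((le_inf inf_le_right (inf_le_left.trans hHH) : ⁅H, H⁆ ⊓ K ≤ K ⊓ H).trans hd.le),
      sup_bot_eq] at this
    rw [← this]; exact le_inf (h.trans h2) le_rfl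
  have hq : K ≤ Nm(⁅K, H⁆) := le_sup_left.trans hN
  have h4 : img hq K ≤ ⁅img hq K, img hq K⁆ := by
    rw [← img_commutator le_rfl le_rfl, img_le_img_iff le_rfl
      (commutator_le_left_of_le_normalizer le_normalizer) h1, sup_comm]
    exact h3
  exact le_antisymm h1 ((img_eq_bot_iff le_rfl).1 (solvable_perfect_eq_bot
    (le_antisymm (commutator_le_left_of_le_normalizer le_normalizer) h4) (isSolvable_img hs)))

/-- B & G 6.3(a) -/
theorem coprime_der_sdprod (hs : Group.IsSolvable K) (hn : H ≤ Nm(K))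
    (hc : (Nat.card H).Coprime (Nat.card K)) (h : K ≤ ⁅K ⊔ H, K ⊔ H⁆) :
    ⁅K, H⁆ = K ∧ K ⊓ Ct(H) ≤ ⁅K, K⁆ :=
  have := commutator_eq_of_le_der hs hn (eq_bot_of_coprime hc.symm) h
  ⟨this, inf_Ct_le_commutator hn hc this⟩

/-- a nilpotent group generated by its derived subgroup and `L` equals `L` -/
theorem eq_of_le_sup_der {P L : Subgroup G} (hP : Group.IsNilpotent P) (h1 : L ≤ P)
    (h : P ≤ L ⊔ ⁅P, P⁆) : L = P :=
  Solv.eq_of_sup_map_frattini h1 (h.trans (sup_le_sup_left (Solv.commutator_le_map_frattini hP) _))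

/-- B & G 6.3(b) -/
theorem coprime_der_of_prime (hn : Group.IsNilpotent (⁅M, M⁆ : Subgroup G))
    (hq : (⁅M, M⁆.relIndex M).Prime) :
    (Nat.card (⁅M, M⁆ : Subgroup G)).Coprime (⁅M, M⁆.relIndex M) := by
  set q := ⁅M, M⁆.relIndex M with hq'
  haveI := Fact.mk hq
  have hD : ⁅M, M⁆ ≤ M := commutator_le_left_of_le_normalizer le_normalizer
  have hM : M ≤ Nm(⁅M, M⁆) := le_normalizer_commutator le_normalizer le_normalizer
  have hN : M ≤ Nm(Opp q ⁅M, M⁆) := le_normalizer_Opp hM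
  obtain ⟨x, hx, hx'⟩ : ∃ x ∈ M, x ∉ ⁅M, M⁆ := by
    by_contra! h
    exact hq.ne_one (relIndex_eq_one.2 h)
  have h1 := Solv.sup_zpowers_eq_of_relIndex_prime hD hq hx hx'
  have h2 : IsPGroup q (img hN M) := by
    rw [← isPi_singleton, isPi_img_iff le_rfl, ← relIndex_mul_relIndex _ _ _ (Opp_le q _) hD]
    refine PiN.mul ?_ ((piN_prime hq).2 rfl)
    have := (hallIn_Opi_of_isNilpotent hn {q}ᶜ).index
    rwa [Opi_compl_singleton, compl_compl] at this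
  have h3 : img hN (zpowers x) = img hN M := by
    refine eq_of_le_sup_der h2.isNilpotent (img_mono (zpowers_le.2 hx)) ?_
    rw [← img_commutator le_rfl le_rfl, ← img_sup (zpowers_le.2 hx) hD, sup_comm, h1]
  have h4 : ⁅M, M⁆ ≤ Opp q ⁅M, M⁆ := by
    rw [← comm_img_iff (h := hN) le_rfl, ← h3]; exact comm_img inferInstance
  exact Nat.Coprime.of_dvd_left (card_dvd_of_le h4) (coprime_Opp q _)

/-- B & G 6.3(b) -/
theorem der_eq_commutator_of_prime (hn : Group.IsNilpotent (⁅M, M⁆ : Subgroup G))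
    (h1 : ⁅M, M⁆ ⊔ H = M) (h2 : ⁅M, M⁆ ⊓ H = ⊥) : ⁅M, H⁆ = ⁅M, M⁆ ∧ ⁅⁅M, M⁆, H⁆ = ⁅M, M⁆ := by
  have hH : H ≤ M := h1 ▸ le_sup_right
  have := commutator_eq_of_le_der (K := ⁅M, M⁆) (H := H) inferInstance
    (hH.trans (le_normalizer_commutator le_normalizer le_normalizer)) h2 (by rw [h1])
  exact ⟨le_antisymm (commutator_mono le_rfl hH) (this.ge.trans
    (commutator_mono (commutator_le_left_of_le_normalizer le_normalizer) le_rfl)), this⟩

/-- B & G 6.5(a) -/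
theorem inf_der_sup_le (hn : U ≤ Nm(K)) (hH : H ≤ U) (hc : (Nat.card H).Coprime (Nat.card K)) :
    H ⊓ ⁅K ⊔ U, K ⊔ U⁆ ≤ ⁅U, U⁆ := by
  have hD : ⁅U, U⁆ ≤ U := commutator_le_left_of_le_normalizer le_normalizer
  have hq : U ≤ Nm(⁅U, U⁆) := le_normalizer_commutator le_normalizer le_normalizer
  have h1 : H ⊓ ⁅K ⊔ U, K ⊔ U⁆ ≤ ⁅U, U⁆ ⊔ K ⊓ U := by
    rw [← sup_inf_of_le_normalizer (hD.trans hn) hD, sup_comm ⁅U, U⁆]
    exact le_inf (inf_le_right.trans (commutator_sup_le_sup_commutator hn)) (inf_le_left.trans hH)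
  refine le_of_coprime_relIndex le_sup_left h1 ((inf_le_left.trans hH).trans hq) ?_
  rw [sup_comm ⁅U, U⁆, relIndex_sup_of_le_normalizer (inf_le_right.trans hq)]
  exact Nat.Coprime.of_dvd (card_dvd_of_le inf_le_left)
    ((relIndex_dvd_card' _ _).trans (card_dvd_of_le inf_le_left)) hc

theorem inf_der_sup_eq (hn : U ≤ Nm(K)) (hH : H ≤ U) (hc : (Nat.card H).Coprime (Nat.card K)) :
    H ⊓ ⁅K ⊔ U, K ⊔ U⁆ = H ⊓ ⁅U, U⁆ :=
  le_antisymm (le_inf inf_le_left (inf_der_sup_le hn hH hc))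
    (inf_le_inf_left _ (commutator_mono le_sup_right le_sup_right))

/-- B & G 6.5(c) -/
theorem exists_mul_of_cj_le (hn : U ≤ Nm(K)) (hH : H ≤ U) (hc : (Nat.card H).Coprime (Nat.card K))
    (hs : Group.IsSolvable H ∨ Group.IsSolvable K) {g : G} (hg : g ∈ K ⊔ U) (h : cj(g, H) ≤ U) :
    ∃ u ∈ U, ∃ c ∈ K ⊓ Ct(H), g = u * c := by
  rw [sup_comm] at hg
  obtain ⟨u, hu, k, hk, rfl⟩ := (mem_sup_of_le_normalizer hn).1 hg
  have h1 : H ≤ cj(k⁻¹, U) := by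
    rw [← cj_le_iff, ← cj_eq_self_of_mem (inv_mem hu), ← cj_le_iff, ← cj_mul]; exact h
  obtain ⟨c, hc, h2⟩ := Solv.glauberman_conj (hH.trans hn) hc hs hH (inv_mem hk) h1
  rw [inv_inv] at h2
  exact ⟨u * (k * c), mul_mem hu h2.2, c⁻¹, inv_mem hc, by group⟩

/-- B & G 6.5(b) -/
theorem inf_normalizer_eq_sup (hn : U ≤ Nm(K)) (hH : H ≤ U)
    (hc : (Nat.card H).Coprime (Nat.card K)) (hs : Group.IsSolvable H ∨ Group.IsSolvable K) :
    (K ⊔ U) ⊓ Nm(H) = K ⊓ Ct(H) ⊔ U ⊓ Nm(H) := by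
  refine le_antisymm (fun g hg => ?_) (sup_le (le_inf (inf_le_left.trans le_sup_left)
    (inf_le_right.trans (Ct_le_Nm H))) (inf_le_inf_right _ le_sup_right))
  obtain ⟨u, hu, c, hc', rfl⟩ := exists_mul_of_cj_le hn hH hc hs hg.1 (by rwa [cj_eq_self_iff.2 hg.2])
  exact mul_mem (mem_sup_right ⟨hu, (mul_mem_cancel_right (Ct_le_Nm H hc'.2)).1 hg.2⟩) (mem_sup_left hc')

end

section
variable [hp : Fact p.Prime] {H S Q E L : Subgroup G}

/-- B & G 6.6(b) -/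
theorem PL1.inf_der_le (h : PL1 p H) (hS : SylIn p S H) :
    S ⊓ ⁅H, H⁆ ≤ ⁅H ⊓ Nm(S), H ⊓ Nm(S)⁆ := by
  have := inf_der_sup_le (K := Opp p H) (U := H ⊓ Nm(S)) (le_normalizer_Opp_of_le inf_le_left)
    (le_inf hS.le le_normalizer) (coprime_of_isPGroup hS.isP (coprime_Opp p H))
  rwa [h.frattini hS] at this

/-- B & G 6.6(c) -/
theorem PL1.exists_mul_of_cj_le (h : PL1 p H) (hS : SylIn p S H) (hQ : Q ≤ S) {g : G} (hg : g ∈ H)
    (h1 : cj(g, Q) ≤ S) : ∃ u ∈ H ⊓ Nm(S), ∃ c ∈ Opp p H ⊓ Ct(Q), g = u * c :=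
  have h2 : S ≤ H ⊓ Nm(S) := le_inf hS.le le_normalizer
  BG.exists_mul_of_cj_le (le_normalizer_Opp_of_le inf_le_left) (hQ.trans h2)
    (coprime_of_isPGroup (hS.isP.to_le hQ) (coprime_Opp p H))
    (Or.inl (isSolvable_of_isPGroup (hS.isP.to_le hQ))) (by rwa [h.frattini hS]) (h1.trans h2)

/-- B & G 6.6(d) -/
theorem PL1.exists_cj_le (h : PL1 p H) (hS : SylIn p S H) (hQ : IsPGroup p Q) (h1 : Q ≤ H) :
    ∃ c ∈ Opp p H ⊓ Ct(Q ⊓ S), cj(c, Q) ≤ S := by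
  obtain ⟨g, hg, h2⟩ := hS.exists_cj_le hQ h1
  obtain ⟨u, hu, c, hc, rfl⟩ := h.exists_mul_of_cj_le hS inf_le_right hg ((cj_mono g inf_le_left).trans h2)
  refine ⟨c, hc, ?_⟩
  rwa [cj_mul, cj_le_iff, cj_eq_self_iff.2 (inv_mem hu.2)] at h2

theorem PL1.inf_normalizer_eq (h : PL1 p H) (hS : SylIn p S H) (hQ : Q ≤ S) :
    H ⊓ Nm(Q) = Opp p H ⊓ Ct(Q) ⊔ H ⊓ Nm(S) ⊓ Nm(Q) := by
  have := inf_normalizer_eq_sup (K := Opp p H) (U := H ⊓ Nm(S)) (le_normalizer_Opp_of_le inf_le_left)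
    (hQ.trans (le_inf hS.le le_normalizer)) (coprime_of_isPGroup (hS.isP.to_le hQ) (coprime_Opp p H))
    (Or.inl (isSolvable_of_isPGroup (hS.isP.to_le hQ)))
  rwa [h.frattini hS] at this

theorem PL1.sylIn_Oppp (h : PL1 p H) (hS : SylIn p S H) : SylIn p S (Oppp p H) :=
  hS.of_le (h.le_Oppp hS.isP hS.le) (Oppp_le H)

theorem PL1.le_Oppp_of_Res_le (h : PL1 p H) (h1 : L ≤ H) (h2 : Res p L ≤ Oppp p H) : L ≤ Oppp p H := by
  obtain ⟨P, hP⟩ := exists_sylIn p L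
  rw [← hP.Res_sup]; exact sup_le h2 (h.le_Oppp hP.isP (hP.le.trans h1))

theorem PL1.inf_Ct_le_Oppp (h : PL1 p H) (h2 : p ≠ 2) (hs : Group.IsSolvable H) (hE : MaxEl p E H) :
    H ⊓ Ct(E) ≤ Oppp p H := by
  obtain ⟨S, hES, hS⟩ := exists_sylIn_ge (elem_isP hE.elem) hE.le
  have h1 : H ⊓ Nm(S) ⊓ Ct(E) ≤ Oppp p H := by
    refine h.le_Oppp_of_Res_le (inf_le_left.trans inf_le_left) (Res_le_of_forall_coprime fun Y a b => ?_)
    refine le_trans (le_inf (a.trans (inf_le_left.trans inf_le_left)) ?_)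
      (BG.inf_Ct_le_Oppp hs (h.sylIn_Oppp hS))
    exact le_Ct_of_le_Ct_maxEl h2 hS.isP (hE.of_le hES hS.le) (a.trans (inf_le_left.trans inf_le_right)) b
      (a.trans inf_le_right)
  intro g hg
  obtain ⟨u, hu, c, hc, rfl⟩ := h.exists_mul_of_cj_le hS hES hg.1
    (by rwa [cj_eq_self_iff.2 (Ct_le_Nm E hg.2)])
  exact mul_mem (h1 ⟨hu, (Subgroup.mul_mem_cancel_right Ct(E) hc.2).1 hg.2⟩) (Opp_le_Oppp H hc.1)

/-- B & G 6.7 -/
theorem PL1.le_Opp_of_maxEl (h : PL1 p H) (h2 : p ≠ 2) (hs : Group.IsSolvable H) (hE : MaxEl p E H)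
    (hL : L ≤ H) (hc : (Nat.card L).Coprime p) (hn : E ≤ Nm(L)) : L ≤ Opp p H := by
  have hEp := elem_isP hE.elem
  have hK : L ≤ Nm(Opp p H) := le_normalizer_Opp_of_le hL
  have hc' : (Nat.card (L ⊔ Opp p H : Subgroup G)).Coprime p :=
    isPi_compl_singleton.1 ((isPi_compl_singleton.2 hc).sup (isPi_compl_singleton.2 (coprime_Opp p H)) hK)
  have hLH : L ⊔ Opp p H ≤ H := sup_le hL (Opp_le p H)
  have h1 : ⁅L ⊔ Opp p H, E⁆ ≤ Opp p H := by
    have a0 : E ≤ Nm(Opp p H) := le_normalizer_Opp_of_le hE.le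
    have a : ⁅L ⊔ Opp p H, E⁆ ≤ L ⊔ Opp p H :=
      commutator_le_left_of_le_normalizer (Comp.le_normalizer_sup hn a0)
    have b : ⁅H, Oppp p H⁆ ≤ Oppp p H :=
      commutator_le_right_of_le_normalizer (le_normalizer_Oppp_self H)
    have c : ⁅L ⊔ Opp p H, E⁆ ≤ ⁅H, Oppp p H⁆ := commutator_mono hLH (h.le_Oppp hEp hE.le)
    exact le_Opp_of_le_Oppp (c.trans b) (Nat.Coprime.of_dvd_left (card_dvd_of_le a) hc')
  have h3 := Solv.coprime_sup_centralizer_of_commutator_le le_sup_right (le_normalizer_Opp_of_le hLH)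
    (le_normalizer_Opp_of_le hE.le) (coprime_of_isPGroup hEp (coprime_Opp p H))
    (Or.inl (isSolvable_of_isPGroup hEp)) h1
  refine le_Opp_of_le_Oppp (le_sup_left.trans (h3.ge.trans (sup_le (Opp_le_Oppp H) ?_))) hc
  exact (inf_le_inf_right _ hLH).trans (h.inf_Ct_le_Oppp h2 hs hE)

/-! ### centralizers of `SCN` subgroups -/

theorem _root_.Cfsg.IsSCN.sylIn {A : Subgroup G} (hA : IsSCN S A) (hS : SylIn p S H) :
    SylIn p A (H ⊓ Ct(A)) := by
  have := hS.inf_normal (N := H ⊓ Ct(A)) inf_le_left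
    (le_normalizer_inf (hS.le.trans le_normalizer) (le_normalizer_centralizer hA.norm))
  rwa [← inf_assoc, inf_eq_left.2 hS.le, hA.inf_eq] at this

/-- B & G 4.4(b) -/
theorem _root_.Cfsg.IsSCN.Opp_sup {A : Subgroup G} (hA : IsSCN S A) (hS : SylIn p S H) :
    Opp p (H ⊓ Ct(A)) ⊔ A = H ⊓ Ct(A) :=
  (hasNPC_iff_sup (hA.sylIn hS)).1
    (hasNPC_of_le_Ct (hA.sylIn hS) (inf_le_left.trans inf_le_right))

theorem _root_.Cfsg.IsSCN.hasNPC {A : Subgroup G} (hA : IsSCN S A) (hS : SylIn p S H) :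
    HasNormalPComplement p (H ⊓ Ct(A) : Subgroup G) :=
  hasNPC_of_le_Ct (hA.sylIn hS) (inf_le_left.trans inf_le_right)

end

end Cfsg.Agent.BG
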