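/-
Bender-Glauberman, section 4, first part (4.1 - 4.8): power structure of `p`-groups of small class
and the rank of `p`-groups of odd order.
-/
import Cfsg.Agent.Lib.BG.Sec6

set_option autoImplicit false
set_option linter.unusedSectionVars false

namespace Cfsg.Agent.BG

open Subgroup Comp
open scoped commutatorElement

universe u

variable {G : Type u} [Group G] [Finite G] {p : ℕ}

/-! ### counting commutators -/

section
variable {P Z A B N U V : Subgroup G}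

theorem relIndex_C1_le {a : G} (h : ∀ g ∈ P, ⁅g, a⁆ ∈ Z) : C1(a).relIndex P ≤ Nat.card Z := by
  refine Nat.card_le_card_of_injective
    (fun q : P ⧸ C1(a).subgroupOf P => (⟨⁅(q.out : G), a⁆, h _ q.out.2⟩ : Z)) fun q r e => ?_
  rw [← q.out_eq', ← r.out_eq', QuotientGroup.eq, mem_subgroupOf, mem_C1]
  have e' : ⁅(q.out : G), a⁆ = ⁅(r.out : G), a⁆ := congrArg Subtype.val e
  rw [commutatorElement_def, commutatorElement_def, mul_left_inj] at e'
  rw [coe_mul, coe_inv]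
  calc a * ((q.out : G)⁻¹ * r.out) = (q.out : G)⁻¹ * (q.out * a * (q.out : G)⁻¹) * r.out := by group
    _ = _ := by rw [e']; group

theorem card_le_mul_card_inf_C1 {a : G} (h : ∀ g ∈ P, ⁅g, a⁆ ∈ Z) :
    Nat.card P ≤ Nat.card Z * Nat.card (P ⊓ C1(a) : Subgroup G) := by
  rw [← relIndex_mul_card_inf C1(a) P, inf_comm]
  exact Nat.mul_le_mul_right _ (relIndex_C1_le h)

/-- `|U : V| ≤ |C_U(a)|` when `a` centralizes `U / V` -/
theorem relIndex_le_card_inf_C1 {a : G} (h1 : V ≤ U) (h : ∀ g ∈ U, ⁅g, a⁆ ∈ V) :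
    V.relIndex U ≤ Nat.card (U ⊓ C1(a) : Subgroup G) := by
  have := card_le_mul_card_inf_C1 h
  rw [← relIndex_mul_card h1, mul_comm] at this
  exact Nat.le_of_mul_le_mul_left this Nat.card_pos

omit [Finite G] in
theorem relIndex_congr_inf (h : P ⊓ A = P ⊓ B) : A.relIndex P = B.relIndex P := by
  rw [← inf_relIndex_left, h, inf_relIndex_left]

/-- Maschke's theorem for coprime action on an abelian group -/
theorem exists_invariant_compl {W : Subgroup G} (hV : IsMulCommutative V) (hA : A ≤ Nm(V))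
    (hc : (Nat.card A).Coprime (Nat.card V)) (hU : A ≤ Nm(U)) (h1 : W ⊓ U = ⊥) (h2 : U ⊔ W = V) :
    ∃ X, A ≤ Nm(X) ∧ X ⊓ U = ⊥ ∧ U ⊔ X = V := by
  have hUV : U ≤ V := h2 ▸ le_sup_left
  have hWV : W ≤ V := h2 ▸ le_sup_right
  have hn : V ⊔ A ≤ Nm(U) := sup_le (Transfer.le_normalizer_of_comm hV le_rfl hUV) hU
  haveI := normal_subgroupOf_of_le_normalizer hn
  haveI := comm_subgroupOf (Solv.isMulCommutative_of_le hUV hV) (V ⊔ A)
  obtain ⟨H, hH⟩ := Solv.gaschutz_exists (K := U.subgroupOf (V ⊔ A)) (U := V.subgroupOf (V ⊔ A))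
    (A := W.subgroupOf (V ⊔ A)) (comap_mono hUV) (by
      rw [card_subgroupOf (hUV.trans le_sup_left)]
      refine Nat.Coprime.of_dvd (card_dvd_of_le hUV) ?_ hc.symm
      exact relIndex_sup_dvd_card' hA) (by rw [← subgroupOf_inf', h1, bot_subgroupOf])
    (by rw [← subgroupOf_sup' (hUV.trans le_sup_left) (hWV.trans le_sup_left), h2])
  have e1 : U ⊔ H.map (V ⊔ A).subtype = V ⊔ A := by
    have := congrArg (map (V ⊔ A).subtype) hH.sup_eq_top
    rwa [Subgroup.map_sup, map_subgroupOf_subtype (hUV.trans le_sup_left), map_subtype_top] at this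
  have e2 : H.map (V ⊔ A).subtype ⊓ U = ⊥ := by
    have := congrArg (map (V ⊔ A).subtype) (Solv.IsComplement'.inf_eq_bot hH)
    rwa [map_inf_eq _ _ _ (subtype_injective _), map_subgroupOf_subtype (hUV.trans le_sup_left),
      Subgroup.map_bot, inf_comm] at this
  refine ⟨H.map (V ⊔ A).subtype ⊓ V, le_sup_right.trans (e1.ge.trans (sup_le
    (Transfer.le_normalizer_of_comm hV hUV inf_le_right) (le_normalizer_inf le_normalizer
      ((map_subtype_le _).trans (sup_le le_normalizer hA))))), ?_, ?_⟩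
  · rw [← le_bot_iff, ← e2]; exact inf_le_inf_right _ inf_le_left
  · rw [← sup_inf_of_le_normalizer' ((map_subtype_le _).trans hn) hUV, e1, inf_eq_right.2 le_sup_left]

variable [hp : Fact p.Prime]

theorem exists_compl_of_elem (hV : IsElementaryAbelian p V) (h : U ≤ V) :
    ∃ W, W ⊓ U = ⊥ ∧ U ⊔ W = V := by
  obtain ⟨W, -, ⟨a, b⟩, c⟩ := exists_maximal_subgroup (P := fun W => W ≤ V ∧ W ⊓ U = ⊥) (A := ⊥)
    ⟨bot_le, bot_inf_eq _⟩
  refine ⟨W, b, le_antisymm (sup_le h a) fun x hx => by_contra fun hn => ?_⟩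
  have h1 := Solv.zpowers_inf_eq_bot_of_prime hp.out (hV.2 x hx) hn
  have h2 : W ⊔ zpowers x ≤ V := sup_le a (zpowers_le.2 hx)
  have h3 : (W ⊔ zpowers x) ⊓ U = ⊥ := by
    have := sup_inf_of_le_normalizer (Transfer.le_normalizer_of_comm hV.1 a (zpowers_le.2 hx))
      (C := U ⊔ W) le_sup_right
    rw [inf_comm (zpowers x), h1, sup_bot_eq] at this
    rw [← le_bot_iff, ← b]
    exact le_inf ((inf_le_inf_left _ le_sup_left).trans this.le) inf_le_right
  exact hn (mem_sup_right ((c _ ⟨h2, h3⟩ le_sup_left).le (mem_sup_right (mem_zpowers x))))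

theorem exists_invariant_compl_of_elem (hV : IsElementaryAbelian p V) (hA : A ≤ Nm(V))
    (hc : (Nat.card A).Coprime p) (h : U ≤ V) (hU : A ≤ Nm(U)) :
    ∃ X, A ≤ Nm(X) ∧ X ⊓ U = ⊥ ∧ U ⊔ X = V := by
  obtain ⟨W, a, b⟩ := exists_compl_of_elem hV h
  exact exists_invariant_compl hV.1 hA (coprime_of_isPGroup (elem_isP hV) hc).symm hU a b

/-! ### orders of `p`-groups -/

theorem mul_card_le_of_lt (hB : IsPGroup p B) (h : A < B) : p * Nat.card A ≤ Nat.card B := by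
  obtain ⟨a, ha⟩ := (hB.to_le h.le).exists_card_eq
  obtain ⟨b, hb⟩ := hB.exists_card_eq
  have := card_lt_of_lt h
  rw [ha, hb] at this ⊢
  rw [← pow_succ']
  exact Nat.pow_le_pow_right hp.out.pos ((Nat.pow_lt_pow_iff_right hp.out.one_lt).1 this)

theorem card_le_pow_of_lt {k : ℕ} (hB : IsPGroup p B) (h : A < B) (hc : Nat.card B ≤ p ^ (k + 1)) :
    Nat.card A ≤ p ^ k :=
  Nat.le_of_mul_le_mul_left ((mul_card_le_of_lt hB h).trans (pow_succ' p k ▸ hc)) hp.out.pos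

theorem pow_le_card_of_lt {k : ℕ} (hB : IsPGroup p B) (h : A < B) (hc : p ^ k ≤ Nat.card A) :
    p ^ (k + 1) ≤ Nat.card B :=
  le_trans (pow_succ' p k ▸ Nat.mul_le_mul_left p hc) (mul_card_le_of_lt hB h)

theorem le_card_of_ne_bot (hB : IsPGroup p B) (h : B ≠ ⊥) : p ≤ Nat.card B :=
  Nat.le_of_dvd Nat.card_pos (dvd_card_of_isPGroup hB h)

theorem card_eq_of_card_le (hB : IsPGroup p B) (h : B ≠ ⊥) (hc : Nat.card B ≤ p) : Nat.card B = p :=
  le_antisymm hc (le_card_of_ne_bot hB h)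

theorem card_eq_pow_of_le {k : ℕ} (hB : IsPGroup p B) (h1 : Nat.card B ≤ p ^ (k + 1))
    (h2 : ¬ Nat.card B ≤ p ^ k) : Nat.card B = p ^ (k + 1) := by
  obtain ⟨b, hb⟩ := hB.exists_card_eq
  rw [hb] at h1 h2 ⊢
  rw [Nat.pow_le_pow_iff_right hp.out.one_lt] at h1 h2
  congr 1; omega

omit hp in
theorem eq_bot_of_card_le_pow_zero (h : Nat.card A ≤ p ^ 0) : A = ⊥ :=
  eq_bot_of_card_le A (by rwa [pow_zero] at h)

theorem relIndex_eq_pow (hB : IsPGroup p B) (A : Subgroup G) : ∃ k, A.relIndex B = p ^ k := by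
  obtain ⟨b, hb⟩ := hB.exists_card_eq
  obtain ⟨k, -, h⟩ := (Nat.dvd_prime_pow hp.out).1 (hb ▸ relIndex_dvd_card' A B)
  exact ⟨k, h⟩

theorem relIndex_eq_of_le (hB : IsPGroup p B) (h1 : A.relIndex B ≤ p) (h2 : ¬ B ≤ A) :
    A.relIndex B = p := by
  obtain ⟨k, hk⟩ := relIndex_eq_pow hB A
  rw [← relIndex_eq_one] at h2
  rw [hk] at h1 h2 ⊢
  have : k ≤ 1 := (Nat.pow_le_pow_iff_right hp.out.one_lt).1 (by rwa [pow_one])
  obtain rfl : k = 1 := by rcases k with _ | _ | _ <;> simp_all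
  exact pow_one p

theorem commutator_lt_of_isPGroup (hP : IsPGroup p P) (hN : IsPGroup p N) (h : P ≤ Nm(N))
    (h0 : N ≠ ⊥) : ⁅N, P⁆ < N :=
  Solv.commutator_lt_of_nilpotent (isPGroup_sup h hP hN).isNilpotent le_sup_right le_sup_left h h0

theorem card_commutator_le {k : ℕ} (hP : IsPGroup p P) (hN : IsPGroup p N) (h : P ≤ Nm(N))
    (hc : Nat.card N ≤ p ^ (k + 1)) : Nat.card (⁅N, P⁆ : Subgroup G) ≤ p ^ k := by
  by_cases h0 : N = ⊥
  · rw [h0, commutator_bot_left, card_bot]; exact Nat.one_le_pow _ _ hp.out.pos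
  · exact card_le_pow_of_lt hN (commutator_lt_of_isPGroup hP hN h h0) hc

/-- an invariant subgroup of order at most `p` is centralized by a `p`-group -/
theorem le_Ct_of_card_le (hP : IsPGroup p P) (hN : IsPGroup p N) (h : P ≤ Nm(N))
    (hc : Nat.card N ≤ p) : N ≤ Ct(P) :=
  commutator_eq_bot_iff_le.1 (eq_bot_of_card_le_pow_zero
    (card_commutator_le hP hN h (by rwa [zero_add, pow_one])))

theorem commutator_le_Ct_of_card_le (hP : IsPGroup p P) (hN : IsPGroup p N) (h : P ≤ Nm(N))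
    (hc : Nat.card N ≤ p ^ 2) : ⁅N, P⁆ ≤ Ct(P) :=
  le_Ct_of_card_le hP (hN.to_le (commutator_le_left_of_le_normalizer h))
    (le_normalizer_commutator h le_normalizer) ((card_commutator_le hP hN h hc).trans_eq (pow_one p))

theorem comm_of_card_le (hP : IsPGroup p P) (hc : Nat.card P ≤ p ^ 2) : IsMulCommutative P := by
  obtain ⟨k, hk⟩ := hP.exists_card_eq
  rw [hk, Nat.pow_le_pow_iff_right hp.out.one_lt] at hc
  interval_cases k
  · rw [eq_bot_of_card_le_pow_zero hk.le]; infer_instance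
  · exact comm_of_isCyclic (isCyclic_of_prime_card (hk.trans (pow_one p)))
  · exact IsPGroup.isMulCommutative_of_card_eq_prime_sq hk

theorem sup_zpowers_eq_of_card_le {k : ℕ} (hA : IsPGroup p A) (h1 : Nat.card A ≤ p ^ (k + 1))
    (hZ : Z ≤ A) (h2 : p ^ k ≤ Nat.card Z) {a : G} (ha : a ∈ A) (ha' : a ∉ Z) :
    Z ⊔ zpowers a = A := by
  have h3 : Z ⊔ zpowers a ≤ A := sup_le hZ (zpowers_le.2 ha)
  exact Solv.eq_of_le_of_card_le h3 (h1.trans (pow_le_card_of_lt (hA.to_le h3)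
    (lt_of_le_not_ge le_sup_left fun e => ha' (e (mem_sup_right (mem_zpowers a)))) h2))

/-- a `p`-group acts on a group of order at most `p ^ 2` as a group of order at most `p` -/
theorem relIndex_Ct_le (hP : IsPGroup p P) (hA : IsPGroup p A) (h : P ≤ Nm(A))
    (hc : Nat.card A ≤ p ^ 2) : Ct(A).relIndex P ≤ p := by
  by_cases h1 : A ≤ Ct(P)
  · rw [relIndex_eq_one.2 (le_Ct_comm.1 h1)]; exact hp.out.one_le
  obtain ⟨a, ha, ha'⟩ := SetLike.not_le_iff_exists.1 h1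
  have h0 : A ≠ ⊥ := by rintro rfl; exact h1 bot_le
  have h2 := sup_zpowers_eq_of_card_le (Z := A ⊓ Ct(P)) hA hc inf_le_left (by
    rw [pow_one]
    exact le_card_of_ne_bot (hA.to_le inf_le_left) (inf_centralizer_ne_bot hP hA h h0)) ha
    fun e => ha' e.2
  have h3 : P ⊓ Ct(A) = P ⊓ C1(a) := by
    conv_lhs => rw [← h2, centralizer_sup, centralizer_zpowers, ← inf_assoc,
      inf_eq_left.2 (le_Ct_comm.1 inf_le_right)]
  rw [relIndex_congr_inf h3]
  refine (relIndex_C1_le (Z := ⁅A, P⁆) fun g hg => ?_).trans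
    ((card_commutator_le hP hA h hc).trans_eq (pow_one p))
  rw [commutator_comm]; exact commutator_mem_commutator hg ha

theorem relIndex_Ct_eq (hP : IsPGroup p P) (hA : IsPGroup p A) (h : P ≤ Nm(A))
    (hc : Nat.card A ≤ p ^ 2) (h1 : ¬ P ≤ Ct(A)) : Ct(A).relIndex P = p :=
  relIndex_eq_of_le hP (relIndex_Ct_le hP hA h hc) h1

/-- B & G 4.6 -/
theorem exists_normal_el_two {R S : Subgroup G} (h2 : p ≠ 2) (hR : IsPGroup p R) (h1 : S ≤ R)
    (hn : R ≤ Nm(S)) (hc : ¬ IsCyclic S) : ∃ E, E ≤ S ∧ El p 2 E ∧ R ≤ Nm(E) := by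
  obtain ⟨E, a, b, c, d, e⟩ := Solv.exists_normal_elementary_sq h2 hR.isNilpotent (hR.to_le h1) h1 hn hc
  exact ⟨E, a, ⟨⟨c, d⟩, b⟩, e⟩

theorem exists_normal_el {R S : Subgroup G} {n : ℕ} (hR : IsPGroup p R) (h1 : S ≤ R)
    (hn : R ≤ Nm(S)) (hS : IsElementaryAbelian p S) (h : n ≤ prank p S) :
    ∃ E, E ≤ S ∧ El p n E ∧ R ≤ Nm(E) := by
  obtain ⟨E, a, b, c⟩ := Solv.exists_normal_card hR.isNilpotent (hR.to_le h1) h1 hn n
    (by rw [(el_prank_of_elem hS).card]; exact Nat.pow_le_pow_right hp.out.pos h)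
  exact ⟨E, a, ⟨elem_mono hS a, b⟩, c⟩

/-- B & G 4.5(b) -/
theorem el_two_omegaOne_of_index {R C : Subgroup G} (h2 : p ≠ 2) (hR : IsPGroup p R) (h1 : C ≤ R)
    (hC : IsCyclic C) (hi : C.relIndex R = p) (hc : ¬ IsCyclic R) : El p 2 (omegaOne p R) := by
  obtain ⟨E, a, b, c⟩ := Solv.omega_of_cyclic_index_odd h2 hR h1 hC hi hc
  have : omegaOne p R = E := le_antisymm (omegaOne_le_iff.2 fun x h1 h2 => (c x).2 ⟨h1, h2⟩)
    fun x hx => mem_omegaOne ((c x).1 hx).1 ((c x).1 hx).2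
  rw [this]; exact ⟨⟨b, fun x hx => ((c x).1 hx).2⟩, a⟩

end

/-! ### powers in groups of class at most three -/

section
omit [Finite G]

theorem pow_mul_class3 {x y c b : G} (h1 : y * x = x * y * c) (h3 : c * y = y * c * b)
    (hy : Commute b y) (hc : Commute b c) (n : ℕ) :
    y ^ n * x = x * y ^ n * c ^ n * b ^ n.choose 2 := by
  have e : ∀ m : ℕ, c * y ^ m = y ^ m * c * b ^ m := fun m => by
    have := Solv.pow_mul_of_comm (x := c) (c := b⁻¹) hy.symm.inv_right (by rw [h3]; group) m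
    rw [this, inv_pow, inv_mul_cancel_right]
  induction n with
  | zero => simp
  | succ n ih =>
    calc y ^ (n + 1) * x = (y * x) * y ^ n * c ^ n * b ^ n.choose 2 := by
          rw [pow_succ', mul_assoc, ih]; simp only [mul_assoc]
      _ = x * y * (c * y ^ n) * c ^ n * b ^ n.choose 2 := by rw [h1]; simp only [mul_assoc]
      _ = x * (y * y ^ n) * c * (b ^ n * c ^ n) * b ^ n.choose 2 := by rw [e]; simp only [mul_assoc]
      _ = _ := by
          rw [(hc.pow_pow n n).eq, Nat.choose_succ_succ' n 1, Nat.choose_one_right, pow_add b,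
            pow_succ' y n, pow_succ' c n]; simp only [mul_assoc]

theorem mul_pow_class3 {x y c a b : G} (h1 : y * x = x * y * c) (h2 : c * x = x * c * a)
    (h3 : c * y = y * c * b) (ax : Commute a x) (ay : Commute a y) (ac : Commute a c)
    (bx : Commute b x) (hy : Commute b y) (hc : Commute b c) (ab : Commute a b) (n : ℕ) :
    (x * y) ^ n = x ^ n * y ^ n * c ^ n.choose 2 * (a ^ n.choose 3 * b ^ (n.choose 2 + 2 * n.choose 3)) := by
  induction n with
  | zero => simp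
  | succ n ih =>
    set f := n.choose 2 with hf
    set g := n.choose 3 with hg
    have k1 : Commute (a ^ g * b ^ (f + 2 * g)) (x * y) :=
      ((ax.mul_right ay).pow_left _).mul_left ((bx.mul_right hy).pow_left _)
    have f1 : (n + 1).choose 2 = n + f := by rw [Nat.choose_succ_succ, Nat.choose_one_right]
    have g1 : (n + 1).choose 3 = f + g := Nat.choose_succ_succ n 2
    calc (x * y) ^ (n + 1) = x ^ n * y ^ n * (c ^ f * x) * y * (a ^ g * b ^ (f + 2 * g)) := by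
          rw [pow_succ, ih, mul_assoc _ _ (x * y), k1.eq]; simp only [mul_assoc]
      _ = x ^ n * (y ^ n * x) * c ^ f * (a ^ f * y) * (a ^ g * b ^ (f + 2 * g)) := by
          rw [Solv.pow_mul_of_comm ac.symm h2]; simp only [mul_assoc]
      _ = x ^ n * x * y ^ n * c ^ n * (b ^ f * c ^ f) * (y * a ^ f) * (a ^ g * b ^ (f + 2 * g)) := by
          rw [pow_mul_class3 h1 h3 hy hc, (ay.pow_left f).eq]; simp only [mul_assoc, hf]
      _ = x ^ n * x * y ^ n * (c ^ n * c ^ f) * (b ^ f * y) * a ^ f * (a ^ g * b ^ (f + 2 * g)) := by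
          rw [(hc.pow_pow f f).eq]; simp only [mul_assoc]
      _ = x ^ n * x * y ^ n * (c ^ (n + f) * y) * (b ^ f * (a ^ f * a ^ g)) * b ^ (f + 2 * g) := by
          rw [(hy.pow_left f).eq, pow_add c]; simp only [mul_assoc]
      _ = x ^ n * x * (y ^ n * y) * c ^ (n + f) * ((b ^ (n + f) * b ^ f) * a ^ (f + g)) *
            b ^ (f + 2 * g) := by
          rw [Solv.pow_mul_of_comm hc.symm h3, pow_add a]; simp only [mul_assoc]
      _ = _ := by
          rw [← pow_add b, ← (ab.pow_pow _ _).eq, f1, g1, pow_succ x, pow_succ y,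
            show n + f + 2 * (f + g) = n + f + f + (f + 2 * g) by ring, pow_add b _ (f + 2 * g)]
          simp only [mul_assoc]

theorem commute_of_mem_Ct {T : Subgroup G} {a x : G} (ha : a ∈ Ct(T)) (hx : x ∈ T) : Commute a x :=
  (ha x hx).symm

/-- B & G 4.3, the computation -/
theorem mul_pow_of_class3 [hp : Fact p.Prime] (h3 : 3 < p) {T W : Subgroup G} (hW : W ≤ T)
    (hn : T ≤ Nm(W)) (he : ∀ w ∈ W, w ^ p = 1) (hc : ⁅W, T⁆ ≤ Ct(T)) {x y : G} (hx : x ∈ T)
    (hy : y ∈ T) (h : ⁅y⁻¹, x⁻¹⁆ ∈ W) : (x * y) ^ p = x ^ p * y ^ p := by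
  have ha := commutator_mem_commutator (inv_mem h) (inv_mem hx)
  have hb := commutator_mem_commutator (inv_mem h) (inv_mem hy)
  have h1 := commutator_le_left_of_le_normalizer hn
  rw [mul_pow_class3 (c := ⁅y⁻¹, x⁻¹⁆) (by simp only [commutatorElement_def]; group)
    (by simp only [commutatorElement_def]; group) (by simp only [commutatorElement_def]; group)
    (commute_of_mem_Ct (hc ha) hx) (commute_of_mem_Ct (hc ha) hy) (commute_of_mem_Ct (hc ha) (hW h))
    (commute_of_mem_Ct (hc hb) hx) (commute_of_mem_Ct (hc hb) hy) (commute_of_mem_Ct (hc hb) (hW h))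
    (commute_of_mem_Ct (hc ha) (hW (h1 hb)))]
  obtain ⟨i, hi⟩ := hp.out.dvd_choose_self (k := 2) two_ne_zero (by omega)
  obtain ⟨j, hj⟩ := hp.out.dvd_choose_self (k := 3) three_ne_zero h3
  rw [hi, hj, show p * i + 2 * (p * j) = p * (i + 2 * j) by ring, pow_mul, pow_mul, pow_mul, he _ h,
    he _ (h1 ha), he _ (h1 hb)]
  simp

theorem mul_pow_of_class2 [hp : Fact p.Prime] (h2 : p ≠ 2) {x y : G} (hx : Commute ⁅y⁻¹, x⁻¹⁆ x)
    (hy : Commute ⁅y⁻¹, x⁻¹⁆ y) (h : ⁅y⁻¹, x⁻¹⁆ ^ p = 1) : (x * y) ^ p = x ^ p * y ^ p :=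
  Solv.mul_pow_prime_of_comm hp.out h2 hx.symm hy.symm (by simp only [commutatorElement_def]; group) h

theorem commutator_pow_right_of_comm {a u : G} (h : Commute (a * u * a⁻¹) u) (n : ℕ) :
    ⁅a, u ^ n⁆ = ⁅a, u⁆ ^ n := by
  rw [commutatorElement_def, commutatorElement_def, h.inv_right.mul_pow, conj_pow, inv_pow]

end

section
variable [hp : Fact p.Prime] {R A B E : Subgroup G}

omit hp in
/-- the inductive argument showing that `Ω₁(R)` has exponent `p` -/
theorem pow_eq_one_of_step (hR : Group.IsNilpotent R)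
    (h : ∀ W, W ≤ R → (∀ w ∈ W, w ^ p = 1) → ∀ x ∈ W, ∀ y ∈ R, y ∈ Nm(W) → y ^ p = 1 →
      (x * y) ^ p = 1) : ∀ x ∈ omegaOne p R, x ^ p = 1 := by
  induction R using subgroup_induction with
  | h R ih =>
  intro x hx
  induction hx using closure_induction with
  | mem x hx => exact hx.2
  | one => simp
  | inv x _ h => rw [inv_pow, h, inv_one]
  | mul x y hx hy h1 h2 =>
    have hx' := omegaOne_le p R hx
    have hy' := omegaOne_le p R hy
    rcases (zpowers_le.2 hx').lt_or_eq with h3 | h3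
    · obtain ⟨S, a, b, c⟩ := exists_maximal_subgroup (P := fun S => S < R) h3
      have d := lt_inf_normalizer_of_isNilpotent hR b
      have e : R ≤ Nm(S) := by
        by_contra e
        exact d.ne' (c _ (lt_of_le_not_ge inf_le_left fun e' => e (e'.trans inf_le_right)) d.le)
      exact h (omegaOne p S) ((omegaOne_le p S).trans b.le)
        (ih S b (isNilpotent_of_le b.le hR) fun W hW k x hx y hy => h W (hW.trans b.le) k x hx y (b.le hy))
        x (mem_omegaOne (a (mem_zpowers x)) h1) y hy' (le_normalizer_omegaOne e hy') h2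
    · rw [(Solv.commute_of_mem_zpowers (h3 ▸ hy')).symm.mul_pow, h1, h2, one_mul]

omit hp [Finite G] in
theorem commutator_inv_mem {W : Subgroup G} {x y : G} (hx : x ∈ W) (hy : y ∈ Nm(W)) :
    ⁅y⁻¹, x⁻¹⁆ ∈ W := by
  rw [commutatorElement_def]
  exact mul_mem (conj_mem_of_mem_normalizer (inv_mem hy) (inv_mem hx)) (inv_mem (inv_mem hx))

/-- B & G 4.3(a) -/
theorem pow_eq_one_of_class3 (h3 : 3 < p) (hR : IsPGroup p R) (hc : ⁅⁅R, R⁆, R⁆ ≤ Ct(R)) :
    ∀ x ∈ omegaOne p R, x ^ p = 1 := by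
  refine pow_eq_one_of_step hR.isNilpotent fun W hW he x hx y hy hn hy' => ?_
  have hT : W ⊔ zpowers y ≤ R := sup_le hW (zpowers_le.2 hy)
  rw [mul_pow_of_class3 h3 (T := W ⊔ zpowers y) (W := W ⊓ ⁅R, R⁆) (inf_le_left.trans le_sup_left)
    (le_normalizer_inf (sup_le le_normalizer (zpowers_le.2 hn))
      (hT.trans (le_normalizer_commutator le_normalizer le_normalizer))) (fun w hw => he w hw.1)
    ((commutator_mono inf_le_right hT).trans (hc.trans (centralizer_mono hT))) (mem_sup_left hx)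
    (mem_sup_right (mem_zpowers y))
    ⟨commutator_inv_mem hx hn, commutator_mem_commutator (inv_mem hy) (inv_mem (hW hx))⟩,
    he x hx, hy', one_mul]

theorem pow_eq_one_of_class2 (h2 : p ≠ 2) (hc : ⁅R, R⁆ ≤ Ct(R)) : ∀ x ∈ omegaOne p R, x ^ p = 1 :=
  fun _ hx => Transfer.pow_eq_one_of_mem_omegaOne h2 hc hx

/-- B & G 4.3(b) -/
theorem mul_pow_of_der_class3 (h3 : 3 < p) (hc : ⁅⁅R, R⁆, R⁆ ≤ Ct(R))
    (he : ∀ w ∈ ⁅R, R⁆, w ^ p = 1) {x y : G} (hx : x ∈ R) (hy : y ∈ R) :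
    (x * y) ^ p = x ^ p * y ^ p :=
  mul_pow_of_class3 h3 (commutator_le_left_of_le_normalizer le_normalizer)
    (le_normalizer_commutator le_normalizer le_normalizer) he hc hx hy
    (commutator_mem_commutator (inv_mem hy) (inv_mem hx))

theorem mul_pow_of_der_class2 (h2 : p ≠ 2) (hc : ⁅R, R⁆ ≤ Ct(R))
    (he : ∀ w ∈ ⁅R, R⁆, w ^ p = 1) {x y : G} (hx : x ∈ R) (hy : y ∈ R) :
    (x * y) ^ p = x ^ p * y ^ p :=
  have h := commutator_mem_commutator (inv_mem hy) (inv_mem hx)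
  mul_pow_of_class2 h2 (commute_of_mem_Ct (hc h) hx) (commute_of_mem_Ct (hc h) hy) (he _ h)

/-! ### the second centre -/

/-- the second centre of `R` -/
def Z2 (R : Subgroup G) : Subgroup G := R ⊓ actKer Ct(R) R

omit [Finite G] hp in
theorem mem_Z2 {x : G} : x ∈ Z2 R ↔ x ∈ R ∧ ∀ g ∈ R, ⁅x, g⁆ ∈ Ct(R) :=
  ⟨fun h => ⟨h.1, h.2.2⟩, fun h => ⟨h.1, le_normalizer_centralizer le_normalizer h.1, h.2⟩⟩

omit [Finite G] hp in
theorem le_Z2_iff : A ≤ Z2 R ↔ A ≤ R ∧ ⁅A, R⁆ ≤ Ct(R) := by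
  rw [commutator_le]
  exact ⟨fun h => ⟨fun x hx => (mem_Z2.1 (h hx)).1, fun x hx => (mem_Z2.1 (h hx)).2⟩,
    fun h x hx => mem_Z2.2 ⟨h.1 hx, h.2 x hx⟩⟩

omit [Finite G] hp in
theorem Z2_le (R : Subgroup G) : Z2 R ≤ R := inf_le_left

omit [Finite G] hp in
theorem commutator_Z2_le (R : Subgroup G) : ⁅Z2 R, R⁆ ≤ R ⊓ Ct(R) :=
  le_inf ((commutator_mono (Z2_le R) le_rfl).trans (commutator_le_left_of_le_normalizer le_normalizer))
    (le_Z2_iff.1 le_rfl).2

omit hp in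
theorem le_normalizer_Z2 (h : A ≤ Nm(R)) : A ≤ Nm(Z2 R) :=
  le_normalizer_of_cj_le fun g hg => le_Z2_iff.2 ⟨cj_le_of_mem (Z2_le R) (h hg), by
    have := cj_le_of_mem (le_Z2_iff.1 (le_refl (Z2 R))).2 (le_normalizer_centralizer h hg)
    rwa [cj_commutator, cj_eq_self_iff.2 (h hg)] at this⟩

omit [Finite G] hp in
theorem center_le_Z2 (R : Subgroup G) : R ⊓ Ct(R) ≤ Z2 R :=
  le_Z2_iff.2 ⟨inf_le_left, (commutator_eq_bot_iff_le.2 inf_le_right).le.trans bot_le⟩

omit [Finite G] hp in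
theorem map_upperCentralSeries_two {X : Type u} [Group X] :
    Subgroup.upperCentralSeries X 2 = Z2 (⊤ : Subgroup X) := by
  ext x
  rw [Subgroup.mem_upperCentralSeries_succ_iff, Subgroup.upperCentralSeries_one, mem_Z2, coe_top, centralizer_univ]
  simp [commutatorElement_def]

theorem le_Z2_of_card_le (hR : IsPGroup p R) (h1 : A ≤ R) (hn : R ≤ Nm(A)) (hc : Nat.card A ≤ p ^ 2) :
    A ≤ Z2 R := le_Z2_iff.2 ⟨h1, commutator_le_Ct_of_card_le hR (hR.to_le h1) hn hc⟩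

/-- B & G 4.5(c) -/
theorem pow_eq_one_of_mem_omega_Z2 (h2 : p ≠ 2) : ∀ x ∈ omegaOne p (Z2 R), x ^ p = 1 :=
  pow_eq_one_of_class2 h2 ((commutator_mono le_rfl (Z2_le R)).trans
    ((le_Z2_iff.1 le_rfl).2.trans (centralizer_mono (Z2_le R))))

/-- B & G 4.5(c) -/
theorem two_le_prank_omega_Z2 (h2 : p ≠ 2) (hR : IsPGroup p R) (hc : ¬ IsCyclic R) :
    2 ≤ prank p (omegaOne p (Z2 R)) := by
  obtain ⟨E, a, b, c⟩ := exists_normal_el_two h2 hR le_rfl le_normalizer hc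
  exact b.le_prank (le_omegaOne (le_Z2_of_card_le hR a c b.card.le) b.elem.2)

theorem commutator_omega_Z2_le (h2 : p ≠ 2) : ⁅omegaOne p (Z2 R), R⁆ ≤ OmZ p R :=
  have h := (commutator_mono (omegaOne_le p _) le_rfl).trans (commutator_Z2_le R)
  le_omegaOne h fun x hx => pow_eq_one_of_mem_omega_Z2 h2 x (commutator_le_left_of_le_normalizer
    (le_normalizer_omegaOne (le_normalizer_Z2 le_normalizer)) hx)

/-! ### maximal normal elementary abelian subgroups -/

theorem commutator_mem_of_omega (h2 : p ≠ 2) (hB : IsPGroup p B) (hc : IsMulCommutative B) {x : G}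
    (hn : x ∈ Nm(B)) (hx : x ∈ Ct(omegaOne p B)) (hx' : x ^ p = 1) {b : G} (hb : b ∈ B) :
    ⁅x, b⁆ ∈ omegaOne p B := by
  have hm : ∀ y ∈ Nm(B), ∀ u ∈ B, ⁅y, u⁆ ∈ B := fun y hy u hu =>
    mul_mem (conj_mem_of_mem_normalizer hy hu) (inv_mem hu)
  have hpow : ∀ y ∈ Nm(B), ∀ u ∈ B, ⁅y, u ^ p⁆ = ⁅y, u⁆ ^ p := fun y hy u hu =>
    commutator_pow_right_of_comm (Transfer.comm_iff.1 hc _ (conj_mem_of_mem_normalizer hy hu) _ hu) p
  obtain ⟨k, hk⟩ := IsPGroup.exists_pow_eq_one hB hb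
  induction k generalizing b with
  | zero => rw [pow_zero, pow_one] at hk; rw [hk, commutatorElement_one_right]; exact one_mem _
  | succ k ih =>
    have h1 := ih (pow_mem hb p) (by rw [← pow_mul, ← pow_succ', hk])
    rw [hpow x hn b hb] at h1
    have h3 : ⁅x, ⁅x, b⁆⁆ ∈ omegaOne p B := mem_omegaOne (hm x hn _ (hm x hn b hb)) (by
      rw [← hpow x hn _ (hm x hn b hb), commutatorElement_eq_one_iff_mul_comm, hx _ h1])
    refine mem_omegaOne (hm x hn b hb) ?_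
    have hcd : Commute ⁅x, ⁅x, b⁆⁆ ⁅x, b⁆ :=
      Transfer.comm_iff.1 hc _ (omegaOne_le p B h3) _ (hm x hn b hb)
    have := pow_mul_class3 (x := b⁻¹) (y := x⁻¹) (c := ⁅x, b⁆) (b := ⁅x, ⁅x, b⁆⁆)
      (by simp only [commutatorElement_def]; group)
      (by rw [mul_assoc, ← hcd.eq, commutatorElement_def x ⁅x, b⁆]; group)
      (Commute.inv_right (hx _ h3)) hcd p
    obtain ⟨i, hi⟩ := hp.out.dvd_choose_self (k := 2) two_ne_zero (lt_of_le_of_ne hp.out.two_le h2.symm)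
    rw [hi, pow_mul, pow_eq_one_of_mem_omegaOne (comm_iff_le.1 hc) h3, inv_pow, hx'] at this
    simpa using this

/-- a maximal normal elementary abelian subgroup of a `p`-group of odd order is a maximal elementary
abelian subgroup -/
theorem maxEl_of_max_normal (h2 : p ≠ 2) (hR : IsPGroup p R) (h1 : A ≤ R) (hn : R ≤ Nm(A))
    (hA : IsElementaryAbelian p A)
    (hmax : ∀ B, B ≤ R → R ≤ Nm(B) → IsElementaryAbelian p B → A ≤ B → B = A) : MaxEl p A R := by
  obtain ⟨B, hAB, hB⟩ := exists_scn_ge hR.isNilpotent h1 hA.1 hn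
  have hO : omegaOne p B = A := hmax _ ((omegaOne_le p B).trans hB.le) (le_normalizer_omegaOne hB.norm)
    (isElementaryAbelian_omegaOne hB.le_Ct) (le_omegaOne hAB hA.2)
  set D := omegaOne p (R ⊓ Ct(A)) with hD
  have hDC : D ≤ R ⊓ Ct(A) := omegaOne_le _ _
  have k1 : ⁅D, B⁆ ≤ A := commutator_closure_left_le (fun x hx => hn hx.1.1) fun x hx b hb => by
    rw [← hO]
    exact commutator_mem_of_omega h2 (hR.to_le hB.le) hB.comm (hB.norm hx.1.1) (hO ▸ hx.1.2) hx.2 hb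
  have k2 : ⁅D, D⁆ ≤ B := by
    refine hB.le_of_le_Ct ((commutator_le_left_of_le_normalizer le_normalizer).trans
      (hDC.trans inf_le_left)) (Transfer.commutator_le_centralizer_of_quad ?_)
    rw [commutator_comm B, commutator_eq_bot_iff_le]
    exact k1.trans (le_Ct_comm.1 (hDC.trans inf_le_right))
  have k3 : ∀ x ∈ D, x ^ p = 1 := by
    refine pow_eq_one_of_step (hR.to_le inf_le_left).isNilpotent fun W hW he x hx y hy hyn hy' => ?_
    have h3 := he _ (commutator_inv_mem hx hyn)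
    have h4 : ⁅y⁻¹, x⁻¹⁆ ∈ A := hO ▸ mem_omegaOne (k2 (commutator_mem_commutator
      (inv_mem (mem_omegaOne hy hy')) (inv_mem (mem_omegaOne (hW hx) (he x hx))))) h3
    rw [mul_pow_of_class2 h2 ((hW hx).2 _ h4) (hy.2 _ h4) h3, he x hx, hy', one_mul]
  refine maxEl_iff.2 ⟨hA, h1, fun x a b c => ?_⟩
  refine (by_contra fun h => ?_ : D ≤ A) (mem_omegaOne ⟨a, b⟩ c)
  obtain ⟨y, hy, hy1, hy2⟩ := Solv.exists_central_mod hR.isNilpotent (hDC.trans inf_le_left)
    (le_normalizer_omegaOne (le_normalizer_inf le_normalizer (le_normalizer_centralizer hn))) h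
  refine hy1 ((hmax (A ⊔ zpowers y) (sup_le h1 (zpowers_le.2 (hDC hy).1)) ?_
    (Transfer.elem_sup_zpowers hA (hDC hy).2 (k3 y hy)) le_sup_left).le (mem_sup_right (mem_zpowers y)))
  exact Solv.le_normalizer_of_commutator_le_of_le (commutator_sup_left_le le_normalizer
    (zpowers_le.2 (hn (hDC hy).1)) (commutator_le_left_of_le_normalizer hn)
    (commutator_zpowers_left_le (hn (hDC hy).1) hy2)) le_sup_left

theorem exists_normal_maxEl (h2 : p ≠ 2) (hR : IsPGroup p R) (h1 : E ≤ R) (hn : R ≤ Nm(E))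
    (hE : IsElementaryAbelian p E) : ∃ A, E ≤ A ∧ R ≤ Nm(A) ∧ MaxEl p A R := by
  obtain ⟨A, a, b, c⟩ := exists_maximal_subgroup
    (P := fun B => B ≤ R ∧ R ≤ Nm(B) ∧ IsElementaryAbelian p B) ⟨h1, hn, hE⟩
  exact ⟨A, a, b.2.1, maxEl_of_max_normal h2 hR b.1 b.2.1 b.2.2 fun B d e f g => c B ⟨d, e, f⟩ g⟩

theorem MaxEl.three_le_prank (hA : MaxEl p A R) (hR : IsPGroup p R) (hn : R ≤ Nm(A))
    (h3 : 3 ≤ prank p R) : 3 ≤ prank p A := by
  by_contra! h
  obtain ⟨E, a, b⟩ := exists_el_of_le_prank h3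
  have hA' := el_prank_of_elem hA.elem
  obtain ⟨C, c, d⟩ := b.exists_le_inf (T := Ct(A)) (j := 1) (k := 2) ((relIndex_Ct_le b.isP hA'.isP
    (a.trans hn) (hA'.card.le.trans (Nat.pow_le_pow_right hp.out.pos (by omega)))).trans_eq
    (pow_one p).symm) le_rfl
  have e : C ≤ A := hA.le_of_le_Ct d.elem.2 (c.trans (inf_le_left.trans a)) (c.trans inf_le_right)
  have f := d.le_of_le hA' e
  obtain rfl : C = A := d.eq_of_le (by rwa [show prank p A = 2 by omega] at hA') e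
  have := b.le_of_le d (hA.le_of_le_Ct b.elem.2 a
    (b.le_Ct.trans (centralizer_mono (c.trans inf_le_left))))
  omega

/-- B & G 4.7 and 5.1(b) -/
theorem exists_normal_elem_three (h2 : p ≠ 2) (hR : IsPGroup p R) (h3 : 3 ≤ prank p R) (h1 : E ≤ R)
    (hn : R ≤ Nm(E)) (hE : IsElementaryAbelian p E) :
    ∃ A, E ≤ A ∧ R ≤ Nm(A) ∧ MaxEl p A R ∧ 3 ≤ prank p A := by
  obtain ⟨A, a, b, c⟩ := exists_normal_maxEl h2 hR h1 hn hE
  exact ⟨A, a, b, c, c.three_le_prank hR b h3⟩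

/-- B & G 5.1(b) -/
theorem exists_scn_three (h2 : p ≠ 2) (hR : IsPGroup p R) (h3 : 3 ≤ prank p R) (h1 : E ≤ R)
    (hn : R ≤ Nm(E)) (hE : IsElementaryAbelian p E) : ∃ B, E ≤ B ∧ IsSCN R B ∧ 3 ≤ prank p B := by
  obtain ⟨A, a, b, c, d⟩ := exists_normal_elem_three h2 hR h3 h1 hn hE
  obtain ⟨B, e, f⟩ := exists_scn_ge hR.isNilpotent c.le c.elem.1 b
  exact ⟨B, a.trans e, f, d.trans (prank_mono e)⟩

/-- B & G 4.7 -/
theorem exists_scn_three' (h2 : p ≠ 2) (hR : IsPGroup p R) (h3 : 3 ≤ prank p R) :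
    ∃ B, IsSCN R B ∧ 3 ≤ prank p B :=
  (exists_scn_three h2 hR h3 bot_le (le_Nm_bot R) Transfer.elem_bot).imp fun _ h => h.2

theorem exists_normal_el_three (h2 : p ≠ 2) (hR : IsPGroup p R) (h3 : 3 ≤ prank p R) :
    ∃ E, E ≤ R ∧ El p 3 E ∧ R ≤ Nm(E) := by
  obtain ⟨A, -, b, c, d⟩ := exists_normal_elem_three h2 hR h3 bot_le (le_Nm_bot R) Transfer.elem_bot
  obtain ⟨E, e, f, g⟩ := exists_normal_el hR c.le b c.elem d
  exact ⟨E, e.trans c.le, f, g⟩

/-- B & G 4.8(a) -/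
theorem card_le_of_prank_le_two (he : ∀ x ∈ R, x ^ p = 1) (h : prank p R ≤ 2) :
    Nat.card R ≤ p ^ 3 := by
  have hR := Solv.isPGroup_of_pow_eq_one he
  obtain ⟨A, -, hA⟩ := exists_scn_ge hR.isNilpotent bot_le inferInstance (le_Nm_bot R)
  have h1 : Nat.card A ≤ p ^ 2 := (card_le_pow_prank ⟨hA.comm, fun x hx => he x (hA.le hx)⟩ hA.le).trans
    (Nat.pow_le_pow_right hp.out.pos h)
  rw [← relIndex_mul_card_inf Ct(A) R, inf_comm, hA.inf_eq, pow_succ']
  exact Nat.mul_le_mul (relIndex_Ct_le hR (hR.to_le hA.le) hA.norm h1) h1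

/-- B & G 4.8(b) -/
theorem pow_eq_one_of_prank_le_two (h3 : 3 < p) (hR : IsPGroup p R) (h : prank p R ≤ 2) :
    ∀ x ∈ omegaOne p R, x ^ p = 1 := by
  refine pow_eq_one_of_step hR.isNilpotent fun W hW he x hx y hy hn hy' => ?_
  have hT : IsPGroup p (W ⊔ zpowers y : Subgroup G) := hR.to_le (sup_le hW (zpowers_le.2 hy))
  have hn' : W ⊔ zpowers y ≤ Nm(W) := sup_le le_normalizer (zpowers_le.2 hn)
  have h1 := commutator_le_left_of_le_normalizer hn'
  have h2 := le_normalizer_commutator hn' le_normalizer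
  rw [mul_pow_of_class3 h3 (T := W ⊔ zpowers y) (W := ⁅W, W ⊔ zpowers y⁆) (h1.trans le_sup_left) h2
    (fun w hw => he w (h1 hw)) (commutator_le_Ct_of_card_le hT (hR.to_le (h1.trans hW)) h2
      (card_commutator_le hT (hR.to_le hW) hn' (card_le_of_prank_le_two he ((prank_mono hW).trans h))))
    (mem_sup_left hx) (mem_sup_right (mem_zpowers y)) (by
      rw [commutator_comm]
      exact commutator_mem_commutator (inv_mem (mem_sup_right (mem_zpowers y))) (inv_mem hx)),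
    he x hx, hy', one_mul]

theorem card_omegaOne_le_of_prank_le_two (h3 : 3 < p) (hR : IsPGroup p R) (h : prank p R ≤ 2) :
    Nat.card (omegaOne p R) ≤ p ^ 3 :=
  card_le_of_prank_le_two (pow_eq_one_of_prank_le_two h3 hR h) (by rwa [prank_omegaOne])

end

end Cfsg.Agent.BG
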