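/-
Bender-Glauberman 2.6 and 2.7: groups of odd order acting on an elementary abelian group of rank two.
-/
import Cfsg.Agent.Lib.BG.Pgp
import Cfsg.Agent.Lib.Perm.GL2a

set_option autoImplicit false
set_option linter.unusedSectionVars false

namespace Cfsg.Agent.BG

open Subgroup Comp
open scoped commutatorElement

universe u

section
variable {G : Type u} [Group G] [Finite G]

theorem commute_of_commute_sq {g x : G} (ho : Odd (orderOf g)) (h : Commute (g * g) x) :
    Commute g x := by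
  obtain ⟨k, hk⟩ := ho
  have : g = (g * g) ^ (k + 1) := by
    rw [← sq, ← pow_mul, show 2 * (k + 1) = orderOf g + 1 by omega, pow_succ, pow_orderOf_eq_one, one_mul]
  rw [this]; exact h.pow_left _

theorem odd_orderOf {H : Subgroup G} (ho : Odd (Nat.card H)) {g : G} (hg : g ∈ H) : Odd (orderOf g) :=
  ho.of_dvd_nat (Solv.orderOf_dvd_card_of_mem hg)

/-- a group in which commuting conjugates are equal is abelian -/
theorem comm_of_forall_conj {H : Subgroup G}
    (h : ∀ x ∈ H, ∀ g ∈ H, Commute (g * x * g⁻¹) x → Commute g x) : IsMulCommutative H := by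
  refine comm_of_commutator_eq_bot (by_contra fun h0 => ?_)
  obtain ⟨q, hq, hd⟩ := Solv.exists_prime_dvd_card h0
  haveI := Fact.mk hq
  obtain ⟨P, hP⟩ := exists_sylIn q H
  have hc : IsMulCommutative P := comm_iff_le.2 (by_contra fun h1 => by
    obtain ⟨x, hx, hx1, hx2⟩ := Solv.exists_central_mod (N := Ct(P)) hP.isP.isNilpotent le_rfl
      le_normalizer h1
    refine hx1 fun g hg => h x (hP.le hx) g (hP.le hg) ?_
    have : g * x * g⁻¹ = ⁅x, g⁆⁻¹ * x := by simp only [commutatorElement_def]; group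
    rw [this]
    exact (commute_of_mem_Ct (inv_mem (hx2 g hg)) hx).mul_left (Commute.refl x))
  refine not_dvd_commutator_of_hasNPC (hasNPC_of_le_Ct hP fun g hg x hx => ?_) hP hc hd
  exact (h x (hP.le hx) g hg.1 (Transfer.comm_iff.1 hc _ (conj_mem_of_mem_normalizer hg.2 hx) _ hx)).symm

end

section
open Perm.GL2 Matrix
variable {F : Type*} [Field F]

theorem disc_ne_zero {m : M2 F} (hm : ¬ IsScal m) {n : ℕ} (ho : Odd n) (hn : (n : F) ≠ 0)
    (h : m ^ n = 1) : m.trace ^ 2 - 4 * m.det ≠ 0 := by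
  intro hD
  have hd : m.det ≠ 0 := fun e => by
    have := congrArg det h
    rw [det_pow, e, zero_pow ho.pos.ne', det_one] at this
    exact zero_ne_one this
  by_cases h2 : (2 : F) = 0
  · have ht : m.trace = 0 := by
      rw [show (4 : F) = 2 * 2 by norm_num, h2, zero_mul, zero_mul, sub_zero] at hD
      exact pow_eq_zero_iff two_ne_zero |>.1 hD
    have hc := cayley m
    rw [ht, zero_smul, zero_sub, ← neg_smul, ← sq] at hc
    obtain ⟨k, rfl⟩ := ho
    rw [pow_succ, pow_mul, hc, smul_pow, one_pow, smul_mul_assoc, one_mul] at h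
    have := (comb_inj hm (a := 0) (b := (-m.det) ^ k) (a' := 1) (b' := 0) (by simpa using h)).1
    exact zero_ne_one this
  · set c := m.trace / 2 with hc
    have ht : m.trace = 2 * c := by rw [hc]; field_simp
    have hdet : m.det = c ^ 2 := by
      rw [ht] at hD
      have : (2 : F) * (2 * (c ^ 2 - m.det)) = 0 := by rw [← hD]; ring
      exact (sub_eq_zero.1 ((mul_eq_zero.1 ((mul_eq_zero.1 this).resolve_left h2)).resolve_left h2)).symm
    have key : ∀ k : ℕ, c • m ^ k = ((1 - k) * c ^ (k + 1)) • (1 : M2 F) + (k * c ^ k) • m := fun k => by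
      induction k with
      | zero => simp
      | succ k ih =>
        rw [pow_succ, ← smul_mul_assoc, ih, add_mul, smul_mul_assoc, smul_mul_assoc, one_mul, cayley, ht,
          hdet]
        push_cast
        module
    have := key n
    rw [h] at this
    have := (comb_inj hm (a := c) (b := 0) (by simpa using this)).2
    exact mul_ne_zero hn (pow_ne_zero _ fun e => hd (by rw [hdet, e, zero_pow two_ne_zero])) this.symm

theorem eq_or_eq_adj_of_comm {m y : M2 F} (hm : ¬ IsScal m) (hD : m.trace ^ 2 - 4 * m.det ≠ 0)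
    (h : y * m = m * y) (h1 : y.trace = m.trace) (h2 : y.det = m.det) :
    y = m ∨ y = m.trace • (1 : M2 F) - m := by
  obtain ⟨a, b, rfl⟩ := (comm_iff hm y).1 h
  rw [trace_comb] at h1
  rw [det_comb] at h2
  have h3 : (b - 1) * (b + 1) = 0 := by
    refine mul_left_cancel₀ hD ?_
    linear_combination (2 * a + b * m.trace + m.trace) * h1 - 4 * h2
  by_cases h0 : (2 : F) = 0
  · have hb : b = 1 := by
      rcases mul_eq_zero.1 h3 with e | e
      · exact sub_eq_zero.1 e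
      · linear_combination e - h0
    subst hb
    have : a * (a - m.trace) = 0 := by linear_combination h2 - a * m.trace * h0
    rcases mul_eq_zero.1 this with e | e
    · left; rw [e]; simp
    · right
      rw [sub_eq_zero.1 e, one_smul, sub_eq_add_neg, ← neg_one_smul F m,
        show (-1 : F) = 1 by linear_combination -h0, one_smul]
  · rcases mul_eq_zero.1 h3 with e | e
    · obtain rfl := sub_eq_zero.1 e
      have : a = 0 := mul_left_cancel₀ h0 (by linear_combination h1)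
      left; rw [this]; simp
    · obtain rfl := eq_neg_of_add_eq_zero_left e
      have : a = m.trace := mul_left_cancel₀ h0 (by linear_combination h1)
      right; rw [this, neg_one_smul, sub_eq_add_neg]

/-- B & G 2.6(a) -/
theorem comm_of_gl2 {X : Type u} [Group X] [Finite X] (φ : X →* GL (Fin 2) F)
    (hφ : Function.Injective φ) (ho : Odd (Nat.card X)) (hc : (Nat.card X : F) ≠ 0) (a b : X) :
    Commute a b := by
  refine Transfer.comm_iff.1 (comm_of_forall_conj (H := ⊤) fun x _ g _ h => ?_) a (mem_top a) b (mem_top b)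
  have inj : ∀ u v : X, (φ u : M2 F) * φ v = φ v * φ u → Commute u v := fun u v e =>
    hφ (by rw [map_mul, map_mul]; exact Units.ext e)
  by_cases hs : IsScal (φ x : M2 F)
  · exact inj _ _ (hs.comm _)
  have hD := disc_ne_zero hs ho hc (by rw [← Units.val_pow_eq_pow_val, ← map_pow, pow_card_eq_one', map_one]; rfl)
  have hcj : IsConj (φ x) (φ (g * x * g⁻¹)) := isConj_iff.2 ⟨φ g, by simp⟩
  have h1 : (φ (g * x * g⁻¹) : M2 F) * φ g = φ g * φ x := by
    rw [← Units.val_mul, ← Units.val_mul, ← map_mul, ← map_mul, inv_mul_cancel_right]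
  rcases eq_or_eq_adj_of_comm hs hD (y := φ (g * x * g⁻¹))
    (by rw [← Units.val_mul, ← Units.val_mul, ← map_mul, ← map_mul, h.eq])
    (trace_eq_of_isConj hcj).symm (det_eq_of_isConj hcj).symm with e | e
  · exact inj _ _ (by rw [← h1, e])
  · refine commute_of_commute_sq (ho.of_dvd_nat (orderOf_dvd_natCard g)) (inj _ _ ?_)
    rw [e] at h1
    rw [map_mul, Units.val_mul, mul_assoc, ← h1, ← mul_assoc, mul_sub, ← h1]
    simp [sub_mul, mul_assoc]

end

section
variable {G : Type u} [Group G] [Finite G] {p : ℕ} [hp : Fact p.Prime] {V L Y : Subgroup G}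

/-- the action on an elementary abelian group of order `p ^ n` in coordinates -/
theorem exists_gl_rep {n : ℕ} (hV : El p n V) :
    ∃ φ : Nm(V) →* GL (Fin n) (ZMod p), φ.ker = Ct(V).subgroupOf Nm(V) := by
  have hr : Module.finrank (ZMod p) (Solv.EMod hV.elem) = n :=
    Nat.pow_right_injective hp.out.two_le ((Solv.EMod.card_eq_pow_finrank (h := hV.elem)).symm.trans hV.card)
  let b := Module.finBasisOfFinrankEq (ZMod p) (Solv.EMod hV.elem) hr
  refine ⟨(((LinearMap.toMatrixAlgEquiv b).toMulEquiv.toMonoidHom).comp (Solv.EMod.rep hV.elem)).toHomUnits,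
    ?_⟩
  ext g
  rw [MonoidHom.mem_ker, mem_subgroupOf, ← Solv.EMod.rep_eq_one_iff (h := hV.elem), Units.ext_iff]
  exact (LinearMap.toMatrixAlgEquiv b).toMulEquiv.map_eq_one_iff

theorem relIndex_Ct_dvd_card_gl {n : ℕ} (hV : El p n V) (hL : L ≤ Nm(V)) :
    Ct(V).relIndex L ∣ Nat.card (GL (Fin n) (ZMod p)) := by
  obtain ⟨φ, hφ⟩ := exists_gl_rep hV
  refine (relIndex_dvd_of_le_of_normalizer (Ct_le_Nm V) hL (le_normalizer_centralizer hL)).trans ?_
  rw [relIndex, ← hφ, index_ker]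
  exact card_subgroup_dvd_card _

theorem relIndex_Ct_dvd_of_el_two (hV : El p 2 V) (hL : L ≤ Nm(V)) :
    Ct(V).relIndex L ∣ p * (p + 1) * (p - 1) ^ 2 := by
  have := relIndex_Ct_dvd_card_gl hV hL
  rwa [Perm.GL2.card_GL2, ZMod.card] at this

theorem commutator_le_Ct_of_el_two (hV : El p 2 V) (hL : L ≤ Nm(V)) (ho : Odd (Ct(V).relIndex L))
    (hc : ¬ p ∣ Ct(V).relIndex L) : ⁅L, L⁆ ≤ Ct(V) := by
  obtain ⟨φ, hφ⟩ := exists_gl_rep hV
  let ψ := φ.comp (inclusion hL)
  have hk : ψ.ker = Ct(V).subgroupOf L := by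
    rw [← MonoidHom.comap_ker, hφ]; rfl
  have hcard : Nat.card ψ.range = Ct(V).relIndex L := by rw [← index_ker, hk, relIndex]
  rw [commutator_le]
  intro a ha b hb
  have := comm_of_gl2 ψ.range.subtype (subtype_injective _) (hcard ▸ ho)
    (by rwa [hcard, Ne, ZMod.natCast_eq_zero_iff]) (ψ.rangeRestrict ⟨a, ha⟩) (ψ.rangeRestrict ⟨b, hb⟩)
  have h1 : ⁅(⟨a, ha⟩ : L), ⟨b, hb⟩⁆ ∈ ψ.ker := by
    rw [MonoidHom.mem_ker, map_commutatorElement, commutatorElement_eq_one_iff_mul_comm]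
    exact congrArg Subtype.val this
  rwa [hk] at h1

/-- B & G 2.6(a), internal form -/
theorem commutator_le_Ct_of_card_le_sq (hV : IsElementaryAbelian p V) (h : Nat.card V ≤ p ^ 2)
    (hL : L ≤ Nm(V)) (ho : Odd (Nat.card L)) (hc : ¬ p ∣ Ct(V).relIndex L) : ⁅L, L⁆ ≤ Ct(V) := by
  by_cases h1 : IsCyclic V
  · exact Solv.commutator_le_centralizer_of_isCyclic h1 hL
  obtain ⟨n, hn⟩ := exists_el_of_elem hV
  have : n ≤ 2 := by rwa [hn.card, Nat.pow_le_pow_iff_right hp.out.one_lt] at h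
  interval_cases n
  · exact absurd (eq_bot_of_card_le_pow_zero hn.card.le ▸ Solv.isCyclic_bot') h1
  · exact absurd hn.isCyclic h1
  · exact commutator_le_Ct_of_el_two hn hL (ho.of_dvd_nat (relIndex_dvd_card' _ _)) hc

/-- a `p`-subgroup acting on a group of order at most `p ^ 2` lies in `O_p` modulo the kernel -/
theorem img_le_Op_of_card_le_sq {P : Subgroup G} (hV : IsPGroup p V) (h : Nat.card V ≤ p ^ 2)
    (hL : L ≤ Nm(V)) (ho : Odd (Nat.card L)) (hP : IsPGroup p P) (h1 : P ≤ L) (hn : L ≤ Nm(Ct(V))) :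
    img hn P ≤ Op p ⊤ := by
  by_cases h0 : P = ⊥
  · rw [h0, img_bot]; exact bot_le
  exact img_le_Op_of_quadratic (ne_two_of_isPGroup hP h0 (odd_of_le h1 ho)) ho hV hL h1
    (commutator_eq_bot_iff_le.2 (commutator_le_Ct_of_card_le hP hV (h1.trans hL) h)) hn

omit hp in
theorem exists_zpow_conj (hY : IsCyclic Y) {g : G} (hg : g ∈ Nm(Y)) :
    ∃ k : ℤ, ∀ u ∈ Y, g * u * g⁻¹ = u ^ k := by
  obtain ⟨k, hk⟩ := MonoidHom.map_cyclic (Y.normalizerMonoidHom ⟨g, hg⟩).toMonoidHom
  exact ⟨k, fun u hu => congrArg Subtype.val (hk ⟨u, hu⟩)⟩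

theorem zpow_eq_zpow_iff_cast {y : G} (hy : orderOf y = p) {i j : ℤ} :
    y ^ i = y ^ j ↔ (i : ZMod p) = j := by
  rw [zpow_eq_zpow_iff_modEq, hy, ZMod.intCast_eq_intCast_iff]

/-- the character of the action on a group of order `p` -/
theorem exists_chi (hY : El p 1 Y) : ∃ χ : Nm(Y) →* (ZMod p)ˣ, ∀ (g : Nm(Y)) (k : ℤ),
    (χ g : ZMod p) = k ↔ ∀ u ∈ Y, g * u * (g : G)⁻¹ = u ^ k := by
  obtain ⟨y, hy, rfl⟩ := hY.exists_zpowers
  choose k hk using fun g : Nm(zpowers y) => exists_zpow_conj hY.isCyclic g.2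
  let χ : Nm(zpowers y) →* ZMod p :=
    { toFun := fun g => k g
      map_one' := by
        rw [← Int.cast_one, ← zpow_eq_zpow_iff_cast hy, ← hk 1 y (mem_zpowers y)]; simp
      map_mul' := fun a b => by
        rw [← Int.cast_mul, ← zpow_eq_zpow_iff_cast hy, ← hk _ y (mem_zpowers y), zpow_mul,
          ← hk a y (mem_zpowers y), conj_zpow, ← hk b y (mem_zpowers y), coe_mul]; group }
  refine ⟨χ.toHomUnits, fun g j => ⟨fun h u hu => ?_, fun h => ?_⟩⟩
  · obtain ⟨i, rfl⟩ := mem_zpowers_iff.1 hu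
    rw [hk g _ hu, ← zpow_mul, ← zpow_mul, zpow_eq_zpow_iff_cast hy, Int.cast_mul, Int.cast_mul, ← h]
    rfl
  · exact (zpow_eq_zpow_iff_cast hy).1 ((hk g y (mem_zpowers y)).symm.trans (h y (mem_zpowers y)))

theorem relIndex_Ct_dvd_of_el_one (hY : El p 1 Y) (hL : L ≤ Nm(Y)) : Ct(Y).relIndex L ∣ p - 1 := by
  obtain ⟨χ, hχ⟩ := exists_chi hY
  refine (relIndex_dvd_of_le_of_normalizer (Ct_le_Nm Y) hL (le_normalizer_centralizer hL)).trans ?_
  have : χ.ker = Ct(Y).subgroupOf Nm(Y) := by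
    ext g
    rw [MonoidHom.mem_ker, Units.ext_iff, Units.val_one, ← Int.cast_one, hχ, mem_subgroupOf, mem_Ct]
    exact forall₂_congr fun u _ => by rw [zpow_one, mul_inv_eq_iff_eq_mul, eq_comm]
  rw [relIndex, ← this, index_ker, ← ZMod.card_units p, ← Nat.card_eq_fintype_card]
  exact card_subgroup_dvd_card _

/-- B & G 2.7 -/
theorem exists_scalar_of_el_two {q : ℕ} [hq : Fact q.Prime] {P Q : Subgroup G} (hP : El p 2 P)
    (hQ : El q 2 Q) (hn : Q ≤ Nm(P)) (h : Q ⊓ Ct(P) = ⊥) :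
    q ∣ p - 1 ∧ ∃ a ∈ Q, a ≠ 1 ∧ ∃ r : ℤ, (r : ZMod p) ^ q = 1 ∧ ∀ x ∈ P, a * x * a⁻¹ = x ^ r := by
  have hne : p ≠ q := by
    rintro rfl
    have := relIndex_Ct_le hQ.isP hP.isP hn hP.card.le
    rw [← inf_relIndex_left, h, relIndex_bot_left, hQ.card] at this
    exact absurd this (not_le.2 (lt_self_pow₀ hp.out.one_lt one_lt_two))
  have hc := (Solv.coprime_card_of_isPGroup_ne hne hP.isP hQ.isP).symm
  have h1 : ∀ a ∈ Q, a ≠ 1 → P ⊓ C1(a) ≠ ⊥ → El p 1 (P ⊓ C1(a)) := fun a ha h1 h2 => by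
    refine el_one_iff.2 (card_eq_of_card_le (hP.isP.to_le inf_le_left) h2 ((card_le_pow_of_lt hP.isP
      (lt_of_le_not_ge inf_le_left fun e => h1 ?_) hP.card.le).trans_eq (pow_one p)))
    exact mem_bot.1 (h.le ⟨ha, le_centralizer_singleton_iff.1 (e.trans inf_le_right)⟩)
  have hQn : ∀ a ∈ Q, Q ≤ Nm(P ⊓ C1(a)) := fun a ha => le_normalizer_inf hn
    ((le_centralizer_singleton_iff.2 (hQ.le_Ct ha)).trans le_normalizer)
  obtain ⟨a, ha, ha1, ha2⟩ := exists_inf_C1_ne_bot hQ.comm (hQ.not_isCyclic le_rfl) hn hc hP.ne_bot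
  have hA := h1 a ha ha1 ha2
  obtain ⟨b, hb, hb1, hb2⟩ : ∃ b ∈ Q, b ≠ 1 ∧ ¬ P ⊓ C1(b) ≤ P ⊓ C1(a) := by
    by_contra! hh
    have := hP.le_of_le hA (le_of_forall_C1 hQ.comm (hQ.not_isCyclic le_rfl) hn hc hh)
    omega
  have hB := h1 b hb hb1 fun e => hb2 (e ▸ bot_le)
  have hs := hP.eq_sup hA hB inf_le_left inf_le_left fun e => hb2 e.ge
  refine ⟨?_, ?_⟩
  · refine dvd_trans ?_ (relIndex_Ct_dvd_of_el_one hB (hQn b hb))
    obtain ⟨k, hk⟩ := relIndex_eq_pow hQ.isP Ct(P ⊓ C1(b))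
    rw [hk]
    refine dvd_pow_self q ?_
    rintro rfl
    refine ha1 (mem_bot.1 (h.le ⟨ha, ?_⟩))
    rw [← hs, centralizer_sup]
    exact ⟨le_centralizer_singleton_iff.1 inf_le_right, relIndex_eq_one.1 hk ha⟩
  obtain ⟨χ, hχ⟩ := exists_chi hA
  obtain ⟨ψ, hψ⟩ := exists_chi hB
  let f : Q →* (ZMod p)ˣ := χ.comp (inclusion (hQn a ha)) / ψ.comp (inclusion (hQn b hb))
  obtain ⟨c, hc1, hc2⟩ : ∃ c : Q, c ≠ 1 ∧ f c = 1 := by
    by_contra! hh
    exact hQ.not_isCyclic le_rfl (isCyclic_of_injective f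
      ((injective_iff_map_eq_one f).2 fun c hc => by_contra fun e => hh c e hc))
  obtain ⟨r, hr⟩ := ZMod.intCast_surjective (χ (inclusion (hQn a ha) c) : ZMod p)
  have e1 := (hχ _ r).1 hr.symm
  have e2 := (hψ (inclusion (hQn b hb) c) r).1 (by rw [hr]; exact congrArg _ (div_eq_one.1 hc2).symm)
  refine ⟨c, c.2, fun e => hc1 (Subtype.ext e), r, ?_, fun x hx => ?_⟩
  · rw [hr, ← Units.val_pow_eq_pow_val, ← map_pow, ← map_pow,
      show c ^ q = 1 from Subtype.ext (hQ.pow c.2), map_one, map_one, Units.val_one]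
  · rw [← hs] at hx
    obtain ⟨u, hu, v, hv, rfl⟩ := (mem_sup_of_le_normalizer
      (Transfer.le_normalizer_of_comm hP.comm inf_le_left inf_le_left)).1 hx
    rw [(Transfer.elem_commute hP.elem hu.1 hv.1).mul_zpow, ← e1 u hu, ← e2 v hv]
    simp [mul_assoc]

end

end Cfsg.Agent.BG
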