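/-
Bender-Glauberman, 4.13, 4.17 - 4.20 and section 5: automorphisms of `p`-groups of rank two and
of narrow `p`-groups.
-/
import Cfsg.Agent.Lib.BG.GL2

set_option autoImplicit false
set_option linter.unusedSectionVars false

namespace Cfsg.Agent.BG

open Subgroup Comp
open scoped commutatorElement

universe u

variable {G : Type u} [Group G] [Finite G] {p : ℕ} [hp : Fact p.Prime]

omit hp in
theorem le_Nm_of_commutator_le_right {H K : Subgroup G} (h : ⁅H, K⁆ ≤ K) : H ≤ Nm(K) :=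
  le_normalizer_of_commutator_le le_rfl h

omit hp in
theorem le_Nm_of_commutator_le_left {H K : Subgroup G} (h : ⁅H, K⁆ ≤ H) : K ≤ Nm(H) :=
  le_normalizer_of_commutator_le le_rfl (by rwa [commutator_comm])

omit hp in
theorem le_Nm_of_der_le {H K : Subgroup G} (h1 : ⁅H, H⁆ ≤ K) (h2 : K ≤ H) : H ≤ Nm(K) :=
  le_normalizer_of_commutator_le h2 h1

omit hp [Finite G] in
theorem der_le (H : Subgroup G) : ⁅H, H⁆ ≤ H := commutator_le_left_of_le_normalizer le_normalizer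

/-! ### action on chief factors -/

section
variable {X U V D : Subgroup G}

theorem Chief.img_bot (h : Chief X U V) (hU : U ≤ X) : Chief ⊤ (BG.img h.nV U) ⊥ := by
  have := h.img (hq := h.nV) le_rfl hU le_rfl
  rwa [img_top, img_ker] at this

theorem Chief.isPGroup_img (h : Chief X U V) (hU : U ≤ X) (hi : PiN {p} (V.relIndex U)) :
    IsPGroup p (BG.img h.nV U) :=
  isPi_singleton.1 ((isPi_img_iff hU).2 hi)

theorem Chief.elem_of_isPGroup (h : Chief X U ⊥) (hU : IsPGroup p U) : IsElementaryAbelian p U := by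
  obtain ⟨E, h1, h2, h3, h4⟩ := exists_elem_invariant_of_isPGroup h.nU hU h.lt.ne'
  rwa [(h.min E h4.nU bot_le h1).resolve_left h2] at h3

theorem Chief.elem_img (h : Chief X U V) (hU : U ≤ X) (hi : PiN {p} (V.relIndex U)) :
    IsElementaryAbelian p (BG.img h.nV U) :=
  (h.img_bot hU).elem_of_isPGroup (h.isPGroup_img hU hi)

theorem piN_relIndex_of_isPGroup (hU : IsPGroup p U) (V : Subgroup G) : PiN {p} (V.relIndex U) :=
  (isPi_singleton.2 hU).relIndex V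

theorem Chief.le_Ct_of_res (h : Chief X U ⊥) (hU : IsPGroup p U) (hD : D ≤ X) (hn : X ≤ Nm(D))
    (h1 : Res p D ≤ Ct(U)) : D ≤ Ct(U) := by
  obtain ⟨P, hP⟩ := exists_sylIn p D
  have h2 := inf_centralizer_ne_bot hP.isP hU (hP.le.trans (hD.trans h.nU)) h.lt.ne'
  rcases h.sup_inf (le_normalizer_centralizer hn) with e | e
  · refine absurd (le_bot_iff.1 (le_trans ?_ e)) h2
    rw [← hP.Res_sup, centralizer_sup]
    exact le_inf inf_le_left (le_inf (inf_le_left.trans (le_Ct_comm.1 h1)) inf_le_right)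
  · rw [bot_sup_eq, inf_eq_left] at e
    exact le_Ct_comm.1 e

/-- a normal subgroup whose `p'`-elements centralize a `p`-chief factor centralizes it -/
theorem Chief.commutator_le_of_res (h : Chief X U V) (hU : U ≤ X) (hi : PiN {p} (V.relIndex U))
    (hD : D ≤ X) (hn : X ≤ Nm(D)) (h1 : ⁅U, Res p D⁆ ≤ V) : ⁅U, D⁆ ≤ V := by
  rw [← img_le_centralizer_iff (h := h.nV) hU hD, le_Ct_comm]
  refine (h.img_bot hU).le_Ct_of_res (h.isPGroup_img hU hi) le_top
    (img_top h.nV ▸ img_le_normalizer hn) ?_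
  rw [← img_Res hD, le_Ct_comm, img_le_centralizer_iff hU ((Res_le p D).trans hD)]
  exact h1

theorem Chief.der_le_Ct_of_le_sq (h : Chief X U ⊥) (hU : IsPGroup p U) (hc : Nat.card U ≤ p ^ 2)
    (ho : Odd (Nat.card X)) : ⁅X, X⁆ ≤ Ct(U) := by
  have hn : X ≤ Nm(Ct(U)) := le_normalizer_centralizer h.nU
  refine commutator_le_Ct_of_card_le_sq (h.elem_of_isPGroup hU) hc h.nU ho ?_
  obtain ⟨P, hP⟩ := exists_sylIn p X
  have h1 := img_le_Op_of_card_le_sq hU hc h.nU ho hP.isP hP.le hn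
  have h2 : BG.pre hn (Op p ⊤) ≤ Ct(U) := by
    haveI : (Op p (⊤ : Subgroup (Quo hn))).Normal :=
      normal_iff_top_le_normalizer.2 (le_normalizer_Op_of_le le_rfl)
    refine h.le_Ct_of_res hU (pre_le _) (top_le_normalizer_pre _) ?_
    rw [← img_eq_bot_iff (h := hn) ((Res_le _ _).trans (pre_le _)), img_Res (pre_le _), img_pre,
      Res_eq_bot_iff]
    exact isPGroup_Op p _
  have h3 : P ≤ X ⊓ Ct(U) := le_inf hP.le ((le_pre hP.le h1).trans h2)
  have := hP.not_dvd_relIndex_of_le h3 inf_le_left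
  rwa [inf_relIndex_left] at this

/-- the derived subgroup of a group of odd order centralizes the chief factors of order `≤ p²` -/
theorem Chief.commutator_der_le (h : Chief X U V) (hU : U ≤ X) (hi : PiN {p} (V.relIndex U))
    (hc : V.relIndex U ≤ p ^ 2) (ho : Odd (Nat.card X)) : ⁅U, ⁅X, X⁆⁆ ≤ V := by
  have hX : ⁅X, X⁆ ≤ X := commutator_le_left_of_le_normalizer le_normalizer
  rw [← img_le_centralizer_iff (h := h.nV) hU hX, le_Ct_comm, img_commutator le_rfl le_rfl, img_top]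
  refine (h.img_bot hU).der_le_Ct_of_le_sq (h.isPGroup_img hU hi) (by rwa [card_img hU]) ?_
  rw [card_top]; exact odd_quo ho

theorem dvd_of_not_le_Ct {q : ℕ} [hq : Fact q.Prime] {Q : Subgroup G}
    (hU : IsElementaryAbelian p U) (hc : Nat.card U ≤ p ^ 2) (hQ : IsPGroup q Q) (hn : Q ≤ Nm(U))
    (h : ¬ Q ≤ Ct(U)) (hne : q ≠ p) : q ∣ p ^ 2 - 1 := by
  obtain ⟨n, hn'⟩ := exists_el_of_elem hU
  obtain ⟨k, hk⟩ := relIndex_eq_pow hQ Ct(U)
  have hd : q ∣ Ct(U).relIndex Q := by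
    rcases k with _ | k
    · exact absurd (relIndex_eq_one.1 (by rw [hk, pow_zero])) h
    · rw [hk]; exact dvd_pow_self q k.succ_ne_zero
  have e : p ^ 2 - 1 = (p + 1) * (p - 1) := by rw [← Nat.sq_sub_sq, one_pow]
  have hle : n ≤ 2 := (Nat.pow_le_pow_iff_right hp.out.one_lt).1 (hn'.card ▸ hc)
  rw [e]
  interval_cases n
  · rw [eq_bot_of_card_le_pow_zero hn'.card.le] at h
    exact absurd (le_Ct_comm.1 bot_le) h
  · exact (hd.trans (relIndex_Ct_dvd_of_el_one hn' hn)).mul_left _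
  · have := hd.trans (relIndex_Ct_dvd_of_el_two hn' hn)
    rcases (Nat.Prime.dvd_mul hq.out).1 this with h1 | h1
    · rcases (Nat.Prime.dvd_mul hq.out).1 h1 with h2 | h2
      · exact absurd ((Nat.prime_dvd_prime_iff_eq hq.out hp.out).1 h2) hne
      · exact h2.mul_right _
    · exact (hq.out.dvd_of_dvd_pow h1).mul_left _

theorem Chief.dvd_of_not_le {q : ℕ} [hq : Fact q.Prime] {Q : Subgroup G} (h : Chief X U V)
    (hU : U ≤ X) (hi : PiN {p} (V.relIndex U)) (hc : V.relIndex U ≤ p ^ 2) (hQ : IsPGroup q Q)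
    (h1 : Q ≤ X) (h2 : ¬ ⁅U, Q⁆ ≤ V) (hne : q ≠ p) : q ∣ p ^ 2 - 1 := by
  rw [← img_le_centralizer_iff (h := h.nV) hU h1, le_Ct_comm] at h2
  exact dvd_of_not_le_Ct (h.elem_img hU hi) (by rwa [card_img hU]) (BG.isPGroup_img hQ)
    (img_le_normalizer (h1.trans h.nU)) h2 hne

theorem Chief.commutator_pow_le (h : Chief X U V) (hU : U ≤ X) (hi : PiN {p} (V.relIndex U))
    (hc : V.relIndex U ≤ p) {a : G} (ha : a ∈ X) : ⁅U, zpowers (a ^ (p - 1))⁆ ≤ V := by
  have h1 : zpowers (a ^ (p - 1)) ≤ X := zpowers_le_of_mem (pow_mem ha _)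
  rw [← img_le_centralizer_iff (h := h.nV) hU h1, le_Ct_comm]
  have h2 : Nat.card (BG.img h.nV U) = p :=
    card_eq_of_card_le (h.isPGroup_img hU hi) (h.img_bot hU).lt.ne' (by rwa [card_img hU])
  have := img_zpowers (h := h.nV) (⟨a, ha⟩ ^ (p - 1))
  rw [SubgroupClass.coe_pow] at this
  rw [this, map_pow, zpowers_le]
  exact Solv.pow_sub_one_mem_centralizer_of_card_prime hp.out h2 ((h.img_bot hU).nU (mem_top _))

end

/-! ### narrow `p`-groups -/

/-- `R` is narrow (in the form of B & G 5.3) -/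
def Narrow (p : ℕ) (R : Subgroup G) : Prop := 3 ≤ prank p R → ∃ E, El p 2 E ∧ MaxEl p E R

/-- the subgroup `T = C_R(Ω₁(Z₂(R)))` of section 5 -/
def NT (p : ℕ) (R : Subgroup G) : Subgroup G := R ⊓ Ct(omegaOne p (Z2 R))

section
variable {R E S A : Subgroup G}

theorem narrow_of_prank_le (h : prank p R ≤ 2) : Narrow p R := fun h1 => by omega

theorem Narrow.cj (h : Narrow p R) (g : G) : Narrow p cj(g, R) := fun h1 => by
  obtain ⟨E, a, b⟩ := h (by rwa [prank_cj] at h1)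
  exact ⟨_, a.cj g, b.cj g⟩

omit [Finite G] hp in
theorem NT_le (R : Subgroup G) : NT p R ≤ R := inf_le_left

omit hp in
theorem le_normalizer_NT (h : A ≤ Nm(R)) : A ≤ Nm(NT p R) :=
  le_normalizer_inf h (le_normalizer_centralizer (le_normalizer_omegaOne (le_normalizer_Z2 h)))

omit hp in
theorem center_le_NT (R : Subgroup G) : R ⊓ Ct(R) ≤ NT p R :=
  inf_le_inf_left _ (centralizer_le ((omegaOne_le p _).trans (Z2_le R)))

theorem MaxEl.not_le_normalizer (h2 : p ≠ 2) (hR : IsPGroup p R) (h3 : 3 ≤ prank p R)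
    (hE : El p 2 E) (hm : MaxEl p E R) : ¬ R ≤ Nm(E) := fun hn => by
  have := hm.three_le_prank hR hn h3
  rw [hE.prank_eq] at this; omega

/-- B & G 5.2 -/
theorem MaxEl.omega_Z2 (h2 : p ≠ 2) (hR : IsPGroup p R) (h3 : 3 ≤ prank p R) (hE : El p 2 E)
    (hm : MaxEl p E R) : ¬ E ≤ NT p R ∧ El p 1 (OmZ p R) ∧ El p 2 (omegaOne p (Z2 R)) ∧
      (NT p R).relIndex R = p := by
  have hn := hm.not_le_normalizer h2 hR h3 hE
  have hR0 : R ≠ ⊥ := fun e => hE.ne_bot (le_bot_iff.1 (e ▸ hm.le))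
  have hZ : El p 1 (OmZ p R) := by
    rw [el_one_iff]
    refine card_eq_of_card_le (isPGroup_OmZ p R) (OmZ_ne_bot hR hR0) ?_
    have := card_le_pow_of_lt (k := 1) hE.isP (lt_of_le_of_ne hm.OmZ_le fun e => hn
      (e ▸ le_normalizer_OmZ le_normalizer)) hE.card.le
    rwa [pow_one] at this
  set W := omegaOne p (Z2 R) with hW
  have hWR : W ≤ R := (omegaOne_le p _).trans (Z2_le R)
  have hWe : ∀ x ∈ W, x ^ p = 1 := pow_eq_one_of_mem_omega_Z2 h2
  have hc : ⁅W, R⁆ ≤ OmZ p R := commutator_omega_Z2_le h2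
  have hWn : R ≤ Nm(W) := le_normalizer_omegaOne (le_normalizer_Z2 le_normalizer)
  have hWE : W ≤ Nm(E) := le_Nm_of_commutator_le_right
    ((commutator_mono le_rfl hm.le).trans (hc.trans hm.OmZ_le))
  have hEW : ¬ E ≤ W := fun e => hn (le_Nm_of_commutator_le_left
    ((commutator_mono e le_rfl).trans (hc.trans hm.OmZ_le)))
  have h4 : Nat.card (W ⊓ Ct(E) : Subgroup G) ≤ p ^ 1 := by
    refine card_le_pow_of_lt hE.isP (lt_of_le_of_ne (hm.le_of_le_Ct (fun x hx => hWe x hx.1)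
      (inf_le_left.trans hWR) inf_le_right) fun e => hEW (e.ge.trans inf_le_left)) hE.card.le
  have h5 := relIndex_Ct_le (hR.to_le hWR) hE.isP hWE hE.card.le
  have h6 : Nat.card W ≤ p ^ 2 := by
    rw [← Solv.card_mul_relIndex (inf_le_left : W ⊓ Ct(E) ≤ W), inf_relIndex_left, pow_succ]
    exact Nat.mul_le_mul h4 h5
  have hnc : ¬ IsCyclic R := fun e => by have := prank_le_one_of_isCyclic (p := p) e; omega
  obtain ⟨B, hB, hB2⟩ := exists_el_of_le_prank (two_le_prank_omega_Z2 h2 hR hnc)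
  have hW2 : El p 2 W := by
    rwa [hW, ← eq_of_le_of_card_ge hB (hB2.card ▸ h6)]
  have h7 : ¬ E ≤ NT p R := fun e => hEW (hW2.eq_of_le hE (hm.le_of_le_Ct hWe hWR
    (le_Ct_comm.1 (e.trans inf_le_right)))).ge
  refine ⟨h7, hZ, hW2, ?_⟩
  rw [NT, inf_relIndex_left]
  exact relIndex_Ct_eq hR hW2.isP hWn h6 fun e => h7 (le_inf hm.le (hm.le.trans e))

theorem maxEl_sup_OmZ (hR : IsPGroup p R) (h3 : 3 ≤ prank p R) (hS : El p 1 S) (h1 : S ≤ R)
    (h : prank p (R ⊓ Ct(S)) ≤ 2) : El p 2 (S ⊔ OmZ p R) ∧ MaxEl p (S ⊔ OmZ p R) R := by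
  have hR0 : R ≠ ⊥ := fun e => hS.ne_bot (le_bot_iff.1 (e ▸ h1))
  have hc : S ≤ Ct(OmZ p R) := h1.trans (le_centralizer_OmZ p R)
  have hSZ : S ⊓ OmZ p R = ⊥ := (le_or_inf_eq_bot hS.card_prime _).resolve_left fun e => by
    rw [inf_eq_left.2 (le_Ct_comm.1 (e.trans (OmZ_le_centralizer p R)))] at h; omega
  obtain ⟨n, hn⟩ := exists_el_of_elem (isElementaryAbelian_OmZ p R)
  have h4 := hS.sup hn hc hSZ
  have h5 : S ⊔ OmZ p R ≤ R ⊓ Ct(S) :=
    sup_le (le_inf h1 hS.le_Ct) (le_inf (OmZ_le p R) (le_Ct_comm.1 hc))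
  have h6 := h4.le_prank h5
  have h7 : n ≠ 0 := by
    rintro rfl
    exact OmZ_ne_bot hR hR0 (eq_bot_of_card_le_pow_zero hn.card.le)
  obtain rfl : n = 1 := by omega
  refine ⟨h4, h4.elem, h5.trans inf_le_left, fun B hB a b => (h4.maxEl h5 h).max B hB
    (le_inf a ((elem_le_Ct hB).trans (centralizer_mono (le_sup_left.trans b)))) b⟩

/-- B & G 5.4, one direction -/
theorem narrow_of_Ct (hR : IsPGroup p R) (hS : El p 1 S) (h1 : S ≤ R)
    (h : prank p (R ⊓ Ct(S)) ≤ 2) : Narrow p R := fun h3 =>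
  ⟨_, maxEl_sup_OmZ hR h3 hS h1 h⟩

/-- B & G 5.4, the other direction -/
theorem Narrow.exists_Ct (h : Narrow p R) (h2 : p ≠ 2) (hR : IsPGroup p R) (h3 : 3 ≤ prank p R) :
    ∃ S, S ≤ R ∧ El p 1 S ∧ prank p (R ⊓ Ct(S)) ≤ 2 := by
  obtain ⟨E, hE, hm⟩ := h h3
  obtain ⟨-, hZ, -⟩ := hm.omega_Z2 h2 hR h3 hE
  obtain ⟨S, a, b, c⟩ := hE.exists_ne le_rfl hZ.isCyclic
  refine ⟨S, a.trans hm.le, b, prank_le_of_forall fun m B hB hB' => hB'.le_of_le hE ?_⟩
  refine hm.le_of_le_Ct hB'.elem.2 (hB.trans inf_le_left) ?_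
  rw [← hE.eq_sup b hZ a hm.OmZ_le fun e => c e.le, centralizer_sup]
  exact le_inf (hB.trans inf_le_right) ((hB.trans inf_le_left).trans (le_centralizer_OmZ p R))

/-- B & G 5.3(d) -/
theorem narrow_cent_dprod (h2 : p ≠ 2) (hR : IsPGroup p R) (h3 : 3 ≤ prank p R) (hS : El p 1 S)
    (h1 : S ≤ R) (h : prank p (R ⊓ Ct(S)) ≤ 2) :
    IsCyclic (NT p R ⊓ Ct(S) : Subgroup G) ∧ S ⊓ ⁅R, R⁆ = ⊥ ∧ S ⊓ NT p R = ⊥ ∧
      S ⊔ NT p R ⊓ Ct(S) = R ⊓ Ct(S) ∧ (NT p R).relIndex R = p := by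
  obtain ⟨hE, hm⟩ := maxEl_sup_OmZ hR h3 hS h1 h
  obtain ⟨a, -, -, b⟩ := hm.omega_Z2 h2 hR h3 hE
  have h4 : ¬ S ≤ NT p R := fun e => a (sup_le e
    ((le_inf (OmZ_le p R) (OmZ_le_centralizer p R)).trans (center_le_NT R)))
  have h5 := (le_or_inf_eq_bot hS.card_prime _).resolve_left h4
  have hn : R ≤ Nm(NT p R) := le_normalizer_NT le_normalizer
  have h6 : S ⊔ NT p R = R := by
    refine eq_of_le_of_card_ge (sup_le h1 (NT_le R)) ?_
    rw [← Solv.card_mul_relIndex (NT_le (p := p) R), b, mul_comm]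
    exact mul_card_le_of_lt (hR.to_le (sup_le h1 (NT_le R))) (right_lt_sup.2 h4)
  have h7 : S ⊔ NT p R ⊓ Ct(S) = R ⊓ Ct(S) := by
    rw [← sup_inf_of_le_normalizer (h1.trans hn) hS.le_Ct, h6]
  refine ⟨isCyclic_of_prank h2 (hR.to_le (inf_le_left.trans (NT_le R))) ?_, ?_, h5, h7, b⟩
  · rw [← h7, prank_sup_of_disjoint (le_Ct_comm.1 inf_le_right)
      (eq_bot_iff.2 (h5 ▸ inf_le_inf_left _ inf_le_left)), hS.prank_eq] at h
    omega
  · refine eq_bot_iff.2 (h5 ▸ inf_le_inf_left _ ?_)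
    rw [← comm_img_iff (h := hn) le_rfl]
    exact comm_of_isCyclic (isCyclic_of_prime_card (p := p) (by rw [card_img le_rfl, b]))

theorem isNarrow_iff (h2 : p ≠ 2) (hR : IsPGroup p R) : IsNarrow p R ↔ Narrow p R := by
  constructor
  · rintro (h | ⟨R₀, R₁, a, b, c, d, e⟩)
    · exact narrow_of_prank_le (prank_le_iff.2 h)
    · refine narrow_of_Ct hR (el_one_iff.2 a).map_subtype (map_subtype_le _) ?_
      have : R ⊓ Ct(R₀.map R.subtype) = (Ct(R₀)).map R.subtype := (map_subtype_centralizer R₀).symm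
      rw [this, prank_map_subtype, ← e, prank_sup_of_disjoint (fun x hx y hy => (d x hx y hy).symm) c,
        (el_one_iff.2 a).prank_eq]
      have := prank_le_one_of_isCyclic (p := p) b
      omega
  · intro h
    by_cases h3 : prank p R ≤ 2
    · exact Or.inl (prank_le_iff.1 h3)
    obtain ⟨S, a, b, c⟩ := h.exists_Ct h2 hR (by omega)
    obtain ⟨d, -, e, f, -⟩ := narrow_cent_dprod h2 hR (by omega) b a c
    have h4 : NT p R ⊓ Ct(S) ≤ R := inf_le_left.trans (NT_le R)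
    refine Or.inr ⟨S.subgroupOf R, (NT p R ⊓ Ct(S)).subgroupOf R, (b.subgroupOf a).card_one,
      isCyclic_subgroupOf d R, ?_, fun x hx y hy => Subtype.ext (hy.2 x hx), ?_⟩
    · rw [← subgroupOf_inf', eq_bot_iff.2 (e ▸ inf_le_inf_left _ inf_le_left :
        S ⊓ (NT p R ⊓ Ct(S)) ≤ ⊥), bot_subgroupOf]
    · rw [← subgroupOf_sup' a h4, f, inf_subgroupOf_left, subgroupOf_centralizer a]

/-! ### automorphisms of narrow groups -/

theorem Narrow.exists_critical (h : Narrow p R) (h2 : p ≠ 2) (hR : IsPGroup p R) :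
    ∃ H, H ≤ R ∧ Nm(R) ≤ Nm(H) ∧
      (∀ A, A ≤ Nm(R) → (Nat.card A).Coprime p → A ≤ Ct(H) → A ≤ Ct(R)) ∧
      ∀ X U V, R ≤ X → X ≤ Nm(R) → Chief X U V → U ≤ H →
        V.relIndex U ≤ p ^ 2 ∧ (3 ≤ prank p R → V.relIndex U ≤ p) := by
  obtain ⟨H, h1, h3, -, h5, -, h6⟩ := exists_critical_odd h2 hR
  refine ⟨H, h1, h3, h6, fun X U V hX hn hc hU => ?_⟩
  have hUR := hU.trans h1
  by_cases hr : prank p R ≤ 2
  · refine ⟨?_, fun e => by omega⟩
    have h7 := card_le_of_prank_le_two h5 ((prank_mono h1).trans hr)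
    by_cases hV : V = ⊥
    · subst hV
      rw [relIndex_bot_left]
      exact (card_le_pow_prank (hc.elem_of_isPGroup (hR.to_le hUR)) hUR).trans
        (Nat.pow_le_pow_right hp.out.pos hr)
    · have h8 := le_card_of_ne_bot (hR.to_le (hc.lt.le.trans hUR)) hV
      have h9 := (card_le_of_le hU).trans h7
      rw [← Solv.card_mul_relIndex hc.lt.le, pow_succ'] at h9
      exact Nat.le_of_mul_le_mul_left ((Nat.mul_le_mul_right _ h8).trans h9) hp.out.pos
  suffices V.relIndex U ≤ p from ⟨this.trans (Nat.le_self_pow two_ne_zero p), fun _ => this⟩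
  obtain ⟨S, a, b, c⟩ := h.exists_Ct h2 hR (by omega)
  obtain ⟨d, -, -, -, e⟩ := narrow_cent_dprod h2 hR (by omega) b a c
  obtain ⟨s, -, rfl⟩ := b.exists_zpowers
  have hT : X ≤ Nm(NT p R) := le_normalizer_NT hn
  rcases hc.sup_inf hT with f | f
  · calc V.relIndex U ≤ (U ⊓ NT p R).relIndex U := relIndex_le_of_le_left f (relIndex_ne_zero' _ _)
      _ = (NT p R).relIndex U := inf_relIndex_left _ _
      _ ≤ (NT p R).relIndex R := relIndex_le_of_le_right hUR (relIndex_ne_zero' _ _)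
      _ = p := e
  · have hUV : U ≤ Nm(V) := hUR.trans (hX.trans hc.nV)
    have h7 := hc.commutator_nilpotent_le (hUR.trans hX) hX hn hR.isNilpotent
    have h8 : ⁅NT p R, R⁆ ≤ NT p R := commutator_le_left_of_le_normalizer (hX.trans hT)
    have hs : s ∈ R := a (mem_zpowers s)
    have h9 : U ⊓ NT p R ⊓ C1(s) ≤ omegaOne p (NT p R ⊓ Ct(zpowers s)) :=
      le_omegaOne (by rw [centralizer_zpowers]; exact inf_le_inf_right _ inf_le_right)
        fun x hx => h5 x (hU hx.1.1)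
    calc V.relIndex U = V.relIndex (U ⊓ NT p R ⊔ V) := by rw [sup_comm, f]
      _ = V.relIndex (U ⊓ NT p R) := relIndex_sup_of_le_normalizer (inf_le_left.trans hUV)
      _ = (V ⊓ NT p R).relIndex (U ⊓ NT p R) := relIndex_congr_inf (by
          rw [inf_comm V, ← inf_assoc, inf_assoc U _ (NT p R), inf_idem])
      _ ≤ Nat.card (U ⊓ NT p R ⊓ C1(s) : Subgroup G) :=
          relIndex_le_card_inf_C1 (inf_le_inf_right _ hc.lt.le) fun g hg =>
            ⟨h7 (commutator_mem_commutator hg.1 hs), h8 (commutator_mem_commutator hg.2 hs)⟩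
      _ ≤ p := by
          have h10 := (el_omegaOne_of_comm (p := p) (comm_iff_le.1 (comm_of_isCyclic d))).card
          refine (card_le_of_le h9).trans (h10.le.trans ?_)
          exact (Nat.pow_le_pow_right hp.out.pos (prank_le_one_of_isCyclic d)).trans (pow_one p).le

/-- B & G 4.17 and 5.5(a) -/
theorem Narrow.res_der_le (h : Narrow p R) (h2 : p ≠ 2) (hR : IsPGroup p R) (hA : A ≤ Nm(R))
    (ho : Odd (Nat.card A)) : Res p ⁅A, A⁆ ≤ Ct(R) := by
  obtain ⟨H, h1, h3, h4, h5⟩ := h.exists_critical h2 hR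
  have hX : A ⊔ R ≤ Nm(R) := sup_le hA le_normalizer
  have hXo : Odd (Nat.card (A ⊔ R : Subgroup G)) :=
    Odd.of_dvd_nat (ho.mul (odd_of_isPGroup h2 hR)) (card_sup_dvd hA)
  refine Res_le_of_forall_coprime fun Q a b => h4 Q (a.trans ((der_le A).trans hA)) b ?_
  refine le_Ct_of_chief (hX.trans h3) (coprime_of_isPGroup (hR.to_le h1) b).symm fun U V c d => ?_
  exact (commutator_mono le_rfl (a.trans (commutator_mono le_sup_left le_sup_left))).trans
    (c.commutator_der_le (d.trans (h1.trans le_sup_right))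
      (piN_relIndex_of_isPGroup (hR.to_le (d.trans h1)) V) (h5 _ U V le_sup_right hX c d).1 hXo)

/-- B & G 4.13 -/
theorem Narrow.dvd_of_not_le_Ct {q : ℕ} [hq : Fact q.Prime] {Q : Subgroup G} (h : Narrow p R)
    (h2 : p ≠ 2) (hR : IsPGroup p R) (hQ : IsPGroup q Q) (hn : Q ≤ Nm(R)) (hne : q ≠ p)
    (hc : ¬ Q ≤ Ct(R)) : q ∣ p ^ 2 - 1 := by
  obtain ⟨H, h1, h3, h4, h5⟩ := h.exists_critical h2 hR
  have hX : Q ⊔ R ≤ Nm(R) := sup_le hn le_normalizer
  have b : (Nat.card Q).Coprime p := coprime_of_isPGroup_of_ne hne hQ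
  by_contra hd
  refine hc (h4 Q hn b (le_Ct_of_chief (hX.trans h3) (coprime_of_isPGroup (hR.to_le h1) b).symm
    fun U V c d => by_contra fun e => hd ?_))
  exact c.dvd_of_not_le (d.trans (h1.trans le_sup_right))
    (piN_relIndex_of_isPGroup (hR.to_le (d.trans h1)) V) (h5 _ U V le_sup_right hX c d).1 hQ
    le_sup_left e hne

theorem Narrow.dvd_of_dvd_relIndex {q : ℕ} (hq : q.Prime) (h : Narrow p R) (h2 : p ≠ 2)
    (hR : IsPGroup p R) (hA : A ≤ Nm(R)) (hne : q ≠ p) (hd : q ∣ Ct(R).relIndex A) :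
    q ∣ p ^ 2 - 1 := by
  haveI := Fact.mk hq
  obtain ⟨Q, hQ⟩ := exists_sylIn q A
  refine h.dvd_of_not_le_Ct h2 hR hQ.isP (hQ.le.trans hA) hne fun e => ?_
  have := hQ.not_dvd_relIndex_of_le (le_inf hQ.le e) inf_le_left
  rw [inf_relIndex_left] at this
  exact this hd

omit hp in
theorem dvd_half_of_dvd_sq_sub_one {q : ℕ} (hq : q.Prime) (hp : Odd p) (h : q ∣ p ^ 2 - 1) :
    q ∣ (p + 1) / 2 ∨ q ∣ (p - 1) / 2 := by
  obtain ⟨k, rfl⟩ := hp
  have e : (2 * k + 1) ^ 2 - 1 = 2 ^ 2 * ((k + 1) * k) := by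
    rw [Nat.sub_eq_iff_eq_add (Nat.one_le_pow _ _ (by omega))]; ring
  rw [show (2 * k + 1 + 1) / 2 = k + 1 by omega, show (2 * k + 1 - 1) / 2 = k by omega,
    ← hq.dvd_mul]
  rw [e, hq.dvd_mul] at h
  refine h.elim (fun h1 => ?_) id
  rw [(Nat.prime_dvd_prime_iff_eq hq Nat.prime_two).1 (hq.dvd_of_dvd_pow h1), mul_comm]
  exact (Nat.even_mul_succ_self k).two_dvd

theorem lt_of_dvd_sq_sub_one {q : ℕ} (hq : q.Prime) (h2 : p ≠ 2) (h : q ∣ p ^ 2 - 1) : q < p := by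
  have h1 := hp.out.two_le
  rcases dvd_half_of_dvd_sq_sub_one hq (hp.out.odd_of_ne_two h2) h with h3 | h3 <;>
    have := Nat.le_of_dvd (by omega) h3 <;> omega

/-- B & G 5.5(b) -/
theorem Narrow.pow_mem_Ct (h : Narrow p R) (h2 : p ≠ 2) (hR : IsPGroup p R) (h3 : 3 ≤ prank p R)
    {a : G} (ha : a ∈ Nm(R)) (hc : (orderOf a).Coprime p) : a ^ (p - 1) ∈ Ct(R) := by
  obtain ⟨H, h1, h3', h4, h5⟩ := h.exists_critical h2 hR
  have hX : zpowers a ⊔ R ≤ Nm(R) := sup_le (zpowers_le_of_mem ha) le_normalizer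
  have b : (Nat.card (zpowers (a ^ (p - 1)))).Coprime p := by
    rw [Nat.card_zpowers]; exact hc.of_dvd_left (orderOf_pow_dvd _)
  rw [← zpowers_le]
  refine h4 _ (zpowers_le_of_mem (pow_mem ha _)) b (le_Ct_of_chief (hX.trans h3')
    (coprime_of_isPGroup (hR.to_le h1) b).symm fun U V c d => ?_)
  exact c.commutator_pow_le (d.trans (h1.trans le_sup_right))
    (piN_relIndex_of_isPGroup (hR.to_le (d.trans h1)) V) ((h5 _ U V le_sup_right hX c d).2 h3)
    (mem_sup_left (mem_zpowers a))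

end

/-! ### solvable groups with narrow Sylow subgroups -/

section
variable {H T S K L U V E : Subgroup G}

theorem Res_sup_le_sup (h : K ≤ Nm(L)) : Res p (L ⊔ K) ≤ L ⊔ Res p K := by
  have hq : L ⊔ K ≤ Nm(L) := sup_le le_normalizer h
  rw [sup_comm L (Res p K), ← img_le_img_iff (h := hq) (Res_le _ _) ((Res_le _ _).trans le_sup_right)
    le_sup_left, img_Res le_rfl, img_Res le_sup_right, img_ker_sup le_sup_right le_sup_left]

theorem le_Oppp_of_Res_le (h1 : K ≤ H) (h2 : H ≤ Nm(K)) (h : Res p K ≤ Oppp p H) : K ≤ Oppp p H :=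
  le_Oppp h1 h2 (Res_Res (p := p) K ▸ (ResPi_mono h).trans (Res_Oppp_le H))

theorem Opp_eq_of_odd (ho : Odd (Nat.card H)) : Opp 2 H = H :=
  Opp_eq_self (Nat.coprime_two_right.2 ho)

theorem Opp_sup_normalizer (hT : SylIn p T (Oppp p H)) : Opp p H ⊔ H ⊓ Nm(T) = H := by
  have h1 := hT.frattini (Oppp_le H) (le_normalizer_Oppp_self H)
  rw [← hT.Opp_sup_eq_Oppp, sup_assoc,
    sup_eq_right.2 (le_inf (hT.le.trans (Oppp_le H)) le_normalizer)] at h1
  exact h1

/-- B & G 4.18(e), 5.6(e) -/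
theorem Narrow.der_le_Oppp (h : Narrow p T) (hs : Group.IsSolvable H) (ho : Odd (Nat.card H))
    (hT : SylIn p T (Oppp p H)) : ⁅H, H⁆ ≤ Oppp p H := by
  by_cases h2 : p = 2
  · subst h2; exact (der_le H).trans ((Opp_eq_of_odd ho).ge.trans (Opp_le_Oppp H))
  refine le_Oppp_of_Res_le (der_le H) (le_normalizer_commutator le_normalizer le_normalizer) ?_
  have hn : H ⊓ Nm(T) ≤ Nm(Opp p H) := le_normalizer_Opp_of_le inf_le_left
  have h1 : ⁅H, H⁆ ≤ Opp p H ⊔ ⁅H ⊓ Nm(T), H ⊓ Nm(T)⁆ := by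
    conv_lhs => rw [← Opp_sup_normalizer hT]
    exact commutator_sup_le_sup_commutator hn
  refine (ResPi_mono h1).trans ((Res_sup_le_sup ((der_le _).trans hn)).trans
    (sup_le (Opp_le_Oppp H) (le_trans (le_inf ?_ ?_) (inf_Ct_le_Oppp hs hT))))
  · exact (Res_le _ _).trans ((der_le _).trans inf_le_left)
  · exact h.res_der_le h2 hT.isP inf_le_right (odd_of_le inf_le_left ho)

theorem pl1_of_der_le_Oppp (h : ⁅H, H⁆ ≤ Oppp p H) : PL1 p H := by
  obtain ⟨P, hP⟩ := exists_sylIn p H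
  have h1 : Oppp p H ⊔ P ≤ H := sup_le (Oppp_le H) hP.le
  exact (pl1_iff_sylIn hP).2 (le_sup_right.trans (le_Oppp_of_Res_le h1
    (le_Nm_of_der_le (h.trans le_sup_left) h1)
    (Res_sup_le' (hP.le.trans (le_normalizer_Oppp_self H)) hP.isP)))

theorem hasNPC_der_of_le_Oppp (h : ⁅H, H⁆ ≤ Oppp p H) :
    HasNormalPComplement p (⁅H, H⁆ : Subgroup G) :=
  Transfer.hasNPC_mono (hasNPC_Oppp H) h

theorem Narrow.dvd_of_dvd_relIndex_Opp {q : ℕ} (h : Narrow p T) (hs : Group.IsSolvable H)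
    (ho : Odd (Nat.card H)) (hT : SylIn p T (Oppp p H)) (hq : q.Prime)
    (hd : q ∣ (Opp p H).relIndex H) (hne : q ≠ p) : p ≠ 2 ∧ q ∣ p ^ 2 - 1 := by
  by_cases h2 : p = 2
  · subst h2
    rw [Opp_eq_of_odd ho, relIndex_self] at hd
    exact absurd (Nat.dvd_one.1 hd) hq.ne_one
  refine ⟨h2, ?_⟩
  rw [← relIndex_mul_relIndex _ _ _ (Opp_le_Oppp H) (Oppp_le H), hq.dvd_mul] at hd
  rcases hd with hd | hd
  · obtain ⟨k, hk⟩ := relIndex_eq_pow hT.isP (Opp p H)
    rw [← hT.Opp_sup_eq_Oppp, sup_comm, relIndex_sup_of_le_normalizer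
      (le_normalizer_Opp_of_le (hT.le.trans (Oppp_le H))), hk] at hd
    exact absurd ((Nat.prime_dvd_prime_iff_eq hq hp.out).1 (hq.dvd_of_dvd_pow hd)) hne
  refine h.dvd_of_dvd_relIndex hq h2 hT.isP (A := H ⊓ Nm(T)) inf_le_right hne (hd.trans ?_)
  have h1 : H ⊓ Nm(T) ⊔ Oppp p H = H := le_antisymm (sup_le inf_le_left (Oppp_le H))
    ((Opp_sup_normalizer hT).ge.trans (sup_le ((Opp_le_Oppp H).trans le_sup_right) le_sup_left))
  calc (Oppp p H).relIndex H = (Oppp p H).relIndex (H ⊓ Nm(T) ⊔ Oppp p H) := by rw [h1]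
    _ = (Oppp p H).relIndex (H ⊓ Nm(T)) :=
      relIndex_sup_of_le_normalizer (inf_le_left.trans (le_normalizer_Oppp_self H))
    _ ∣ (H ⊓ Ct(T)).relIndex (H ⊓ Nm(T)) := relIndex_dvd_of_le_left _ (inf_Ct_le_Oppp hs hT)
    _ = Ct(T).relIndex (H ⊓ Nm(T)) := relIndex_congr_inf (by
      rw [← inf_assoc, inf_comm (H ⊓ Nm(T)) H, ← inf_assoc, inf_idem])

/-- B & G 4.18(a), 5.6(a) -/
theorem Narrow.le_of_dvd_relIndex_Opp {q : ℕ} (h : Narrow p T) (hs : Group.IsSolvable H)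
    (ho : Odd (Nat.card H)) (hT : SylIn p T (Oppp p H)) (hq : q.Prime)
    (hd : q ∣ (Opp p H).relIndex H) : q ≤ p := by
  by_cases hne : q = p
  · exact hne.le
  obtain ⟨a, b⟩ := h.dvd_of_dvd_relIndex_Opp hs ho hT hq hd hne
  exact (lt_of_dvd_sq_sub_one hq a b).le

/-- B & G 4.18(b), 5.6(b) -/
theorem Narrow.hasNPC (h : Narrow p T) (hs : Group.IsSolvable H) (ho : Odd (Nat.card H))
    (hT : SylIn p T (Oppp p H)) (hm : p = 3 ∨ ∀ q : ℕ, q.Prime → q ∣ Nat.card H → p ≤ q) :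
    HasNormalPComplement p H := by
  rw [hasNPC_iff_relIndex, ← piN_singleton (relIndex_ne_zero' _ _)]
  intro q hq hd
  have h1 := h.le_of_dvd_relIndex_Opp hs ho hT hq hd
  have h2 := hd.trans (relIndex_dvd_card _ _)
  rcases hm with rfl | hm
  · have := ne_two_of_dvd ho h2
    have := hq.two_le
    exact Set.mem_singleton_iff.2 (by omega)
  · exact le_antisymm h1 (hm q hq h2)

theorem exists_narrow_of_prank_le (h : prank p H ≤ 2) : ∃ T, SylIn p T (Oppp p H) ∧ Narrow p T := by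
  obtain ⟨T, hT⟩ := exists_sylIn p (Oppp p H)
  exact ⟨T, hT, narrow_of_prank_le ((prank_mono (hT.le.trans (Oppp_le H))).trans h)⟩

theorem exists_narrow_of_sylIn (hS : SylIn p S H) (h : Narrow p S) (h1 : 3 ≤ prank p S → PL1 p H) :
    ∃ T, SylIn p T (Oppp p H) ∧ Narrow p T := by
  by_cases h3 : 3 ≤ prank p S
  · exact ⟨S, (h1 h3).sylIn_Oppp hS, h⟩
  · exact exists_narrow_of_prank_le (by rw [← hS.prank_eq]; omega)

/-- B & G 4.18(e) -/
theorem der_le_Oppp_of_prank_le (hs : Group.IsSolvable H) (ho : Odd (Nat.card H))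
    (h : prank p H ≤ 2) : ⁅H, H⁆ ≤ Oppp p H := by
  obtain ⟨T, a, b⟩ := exists_narrow_of_prank_le h
  exact b.der_le_Oppp hs ho a

theorem pl1_of_prank_le (hs : Group.IsSolvable H) (ho : Odd (Nat.card H)) (h : prank p H ≤ 2) :
    PL1 p H := pl1_of_der_le_Oppp (der_le_Oppp_of_prank_le hs ho h)

/-- B & G 4.18(c) -/
theorem hasNPC_der_of_prank_le (hs : Group.IsSolvable H) (ho : Odd (Nat.card H))
    (h : prank p H ≤ 2) : HasNormalPComplement p (⁅H, H⁆ : Subgroup G) :=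
  hasNPC_der_of_le_Oppp (der_le_Oppp_of_prank_le hs ho h)

/-- B & G 4.18(a) -/
theorem le_of_dvd_relIndex_Opp_of_prank_le {q : ℕ} (hs : Group.IsSolvable H)
    (ho : Odd (Nat.card H)) (h : prank p H ≤ 2) (hq : q.Prime) (hd : q ∣ (Opp p H).relIndex H) :
    q ≤ p := by
  obtain ⟨T, a, b⟩ := exists_narrow_of_prank_le h
  exact b.le_of_dvd_relIndex_Opp hs ho a hq hd

/-- B & G 4.18(b) -/
theorem hasNPC_of_prank_le (hs : Group.IsSolvable H) (ho : Odd (Nat.card H)) (h : prank p H ≤ 2)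
    (hm : p = 3 ∨ ∀ q : ℕ, q.Prime → q ∣ Nat.card H → p ≤ q) : HasNormalPComplement p H := by
  obtain ⟨T, a, b⟩ := exists_narrow_of_prank_le h
  exact b.hasNPC hs ho a hm

/-- B & G 4.18(d) -/
theorem le_Opp_of_le_der_of_prank_le (hs : Group.IsSolvable H) (ho : Odd (Nat.card H))
    (h : prank p H ≤ 2) (h1 : L ≤ ⁅H, H⁆) (h2 : (Nat.card L).Coprime p) : L ≤ Opp p H :=
  le_Opp_of_le_Oppp (h1.trans (der_le_Oppp_of_prank_le hs ho h)) h2

/-- B & G 5.6(c) -/
theorem Narrow.hasNPC_der (h : Narrow p S) (hs : Group.IsSolvable H) (ho : Odd (Nat.card H))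
    (hS : SylIn p S H) (h1 : 3 ≤ prank p S → PL1 p H) :
    HasNormalPComplement p (⁅H, H⁆ : Subgroup G) := by
  obtain ⟨T, a, b⟩ := exists_narrow_of_sylIn hS h h1
  exact hasNPC_der_of_le_Oppp (b.der_le_Oppp hs ho a)

/-- B & G 5.6(a) -/
theorem Narrow.le_of_dvd_relIndex_Opp' {q : ℕ} (h : Narrow p S) (hs : Group.IsSolvable H)
    (ho : Odd (Nat.card H)) (hS : SylIn p S H) (h1 : 3 ≤ prank p S → PL1 p H) (hq : q.Prime)
    (hd : q ∣ (Opp p H).relIndex H) : q ≤ p := by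
  obtain ⟨T, a, b⟩ := exists_narrow_of_sylIn hS h h1
  exact b.le_of_dvd_relIndex_Opp hs ho a hq hd

theorem Chief.dvd_relIndex {X : Subgroup G} (h : Chief X U V) (hi : PiN {p} (V.relIndex U)) :
    p ∣ V.relIndex U := by
  obtain ⟨k, hk⟩ := (piN_singleton (relIndex_ne_zero' _ _)).1 hi
  rcases k with _ | k
  · exact absurd (relIndex_eq_one.1 (by rw [hk, pow_zero])) h.lt.not_ge
  · rw [hk]; exact dvd_pow_self p k.succ_ne_zero

theorem sup_eq_of_piN {P : Subgroup G} (hP : SylIn p P U) (h1 : V ≤ U) (hn : U ≤ Nm(V))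
    (hi : PiN {p} (V.relIndex U)) : V ⊔ P = U :=
  le_antisymm (sup_le h1 hP.le) (hP.Res_sup.ge.trans
    (sup_le_sup_right ((SubnIn.of_normalizer h1 hn).ResPi_le hi) _))

/-- B & G 4.19 -/
theorem Chief.commutator_der_le_of_narrow {P : Subgroup G} (h : Chief H U V) (hU : U ≤ H)
    (hi : PiN {p} (V.relIndex U)) (ho : Odd (Nat.card H)) (hP : SylIn p P U) (hn : Narrow p P) :
    ⁅U, ⁅H, H⁆⁆ ≤ V := by
  have h2 : p ≠ 2 := ne_two_of_dvd (odd_of_le hU ho) ((h.dvd_relIndex hi).trans (relIndex_dvd_card _ _))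
  refine h.commutator_le_of_res hU hi (der_le H)
    (le_normalizer_commutator le_normalizer le_normalizer) ?_
  have h0 : H ⊓ Nm(P) ≤ Nm(U) := inf_le_left.trans h.nU
  have h1 : ⁅H, H⁆ ≤ U ⊔ ⁅H ⊓ Nm(P), H ⊓ Nm(P)⁆ := by
    conv_lhs => rw [← hP.frattini hU h.nU]
    exact commutator_sup_le_sup_commutator h0
  have h3 : Res p ⁅H ⊓ Nm(P), H ⊓ Nm(P)⁆ ≤ Nm(V) :=
    (Res_le _ _).trans ((der_le _).trans (inf_le_left.trans h.nV))
  refine (commutator_mono le_rfl ((ResPi_mono h1).trans (Res_sup_le_sup ((der_le _).trans h0)))).trans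
    (commutator_sup_right_le (hU.trans h.nV) h3 ((elem_img_iff hU).1 (h.elem_img hU hi)).1 ?_)
  rw [← sup_eq_of_piN hP h.lt.le (hU.trans h.nV) hi]
  refine commutator_sup_left_le le_normalizer (hP.le.trans (hU.trans h.nV))
    (commutator_le_left_of_le_normalizer h3) ?_
  rw [commutator_eq_bot_iff_le.2 (le_Ct_comm.1
    (hn.res_der_le h2 hP.isP inf_le_right (odd_of_le inf_le_left ho)))]
  exact bot_le

theorem Chief.commutator_der_le_of_prank_le (h : Chief H U V) (hU : U ≤ H)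
    (hi : PiN {p} (V.relIndex U)) (ho : Odd (Nat.card H)) (hr : prank p U ≤ 2) :
    ⁅U, ⁅H, H⁆⁆ ≤ V := by
  obtain ⟨P, hP⟩ := exists_sylIn p U
  exact h.commutator_der_le_of_narrow hU hi ho hP (narrow_of_prank_le (hP.prank_eq ▸ hr))

omit hp in
theorem Chief.exists_piN {X : Subgroup G} (h : Chief X U V) (hU : U ≤ Nm(V))
    (hs : Group.IsSolvable U) : ∃ q : ℕ, q.Prime ∧ PiN {q} (V.relIndex U) := by
  obtain ⟨q, hq, -, a⟩ := h.exists_prime hU hs
  haveI := Fact.mk hq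
  exact ⟨q, hq, (isPi_img_iff (h := hU) le_rfl).1 (isPi_singleton.2
    (elem_isP ((elem_img_iff le_rfl).2 ⟨h.commutator_le hU hs, a⟩)))⟩

omit hp in
theorem der_le_Fit_of_narrow (hs : Group.IsSolvable H) (ho : Odd (Nat.card H))
    (h : ∀ q : ℕ, q.Prime → Narrow q (Op q H)) : ⁅H, H⁆ ≤ Fit H := by
  have hn : H ≤ Nm(⁅H, H⁆) := le_normalizer_commutator le_normalizer le_normalizer
  refine le_Fit_of_chief hs le_rfl le_normalizer (der_le H) hn fun U V c d => ?_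
  have hU := d.trans (Fit_le H)
  obtain ⟨q, hq, hi⟩ := c.exists_piN (hU.trans c.nV) (isSolvable_of_le hU hs)
  haveI := Fact.mk hq
  have h2 : q ≠ 2 := ne_two_of_dvd (odd_of_le hU ho) ((c.dvd_relIndex hi).trans (relIndex_dvd_card _ _))
  refine c.commutator_le_of_res hU hi (der_le H) hn ?_
  obtain ⟨P, hP⟩ := exists_sylIn q U
  have h1 : P ≤ Op q H := by
    rw [← Op_Fit, ← Opi_singleton]
    exact le_Opi_of_isNilpotent (isNilpotent_Fit H) (hP.le.trans d) (isPi_singleton.2 hP.isP)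
  rw [← sup_eq_of_piN hP c.lt.le (hU.trans c.nV) hi]
  refine commutator_sup_left_le le_normalizer (hP.le.trans (hU.trans c.nV))
    (commutator_le_left_of_le_normalizer ((Res_le _ _).trans ((der_le H).trans c.nV))) ?_
  rw [commutator_eq_bot_iff_le.2 (h1.trans (le_Ct_comm.1 ((h q hq).res_der_le h2 (isPGroup_Op q H)
    (le_normalizer_Op_of_le le_rfl) ho)))]
  exact bot_le

omit hp in
/-- B & G 4.20(a) -/
theorem der_le_Fit_of_rank_le (hs : Group.IsSolvable H) (ho : Odd (Nat.card H))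
    (h : rank (Fit H) ≤ 2) : ⁅H, H⁆ ≤ Fit H :=
  der_le_Fit_of_narrow hs ho fun q hq => by
    haveI := Fact.mk hq
    exact narrow_of_prank_le (prank_Fit (p := q) H ▸ (prank_le_rank _).trans h)

theorem narrow_of_elem {R : Subgroup G} (hR : IsPGroup p R) (hE : IsElementaryAbelian p E)
    (h1 : E ≤ R) (h : prank p (R ⊓ Ct(E)) ≤ 2) : Narrow p R := fun h3 => by
  obtain ⟨A, a, b⟩ := exists_maxEl_ge hE h1
  obtain ⟨n, hn⟩ := exists_el_of_elem b.elem
  have h4 := hn.le_prank (le_inf b.le (hn.le_Ct.trans (centralizer_mono a)))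
  refine ⟨A, ?_, b⟩
  by_contra h5
  have h6 : n ≤ 1 := by
    by_contra h6
    exact h5 (by rwa [show n = 2 by omega] at hn)
  obtain ⟨B, c, d⟩ := exists_el_of_le_prank h3
  have hR0 : R ≠ ⊥ := fun e => d.ne_bot (le_bot_iff.1 (e ▸ c))
  have h7 : OmZ p R = A := eq_of_le_of_card_ge b.OmZ_le (hn.card.le.trans
    (((Nat.pow_le_pow_right hp.out.pos h6).trans (pow_one p).le).trans
      (le_card_of_ne_bot (isPGroup_OmZ p R) (OmZ_ne_bot hR hR0))))
  have := d.le_of_le hn (b.le_of_le_Ct d.elem.2 c (h7 ▸ c.trans (le_centralizer_OmZ p R)))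
  omega

/-- B & G 5.7 -/
theorem der_le_Fit_of_rank_Ct_le (hs : Group.IsSolvable H) (ho : Odd (Nat.card H))
    (hE : IsElementaryAbelian p E) (h1 : E ≤ Fit H) (h : rank (Fit H ⊓ Ct(E)) ≤ 2) :
    ⁅H, H⁆ ≤ Fit H := by
  refine der_le_Fit_of_narrow hs ho fun q hq => ?_
  haveI := Fact.mk hq
  have h2 : E ≤ Op p H := by
    rw [← Op_Fit, ← Opi_singleton]
    exact le_Opi_of_isNilpotent (isNilpotent_Fit H) h1 (isPi_singleton.2 (elem_isP hE))
  by_cases hqp : q = p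
  · subst hqp
    exact narrow_of_elem (isPGroup_Op q H) hE h2
      ((prank_mono (inf_le_inf_right _ (Op_le_Fit _ H))).trans ((prank_le_rank _).trans h))
  · refine narrow_of_prank_le ((prank_mono (le_inf (Op_le_Fit _ H) ?_)).trans
      ((prank_le_rank _).trans h))
    refine le_trans ?_ (centralizer_mono h2)
    rw [← Opi_singleton, ← Opi_singleton]
    exact Opi_le_Ct_Opi (fun r a b => hqp (a.symm.trans b)) H

/-- B & G 4.20(b) -/
theorem le_normalizer_of_der_le_Fit (h : ⁅H, H⁆ ≤ Fit H) (hS : SylIn p S H) (h1 : T ≤ ⁅S, S⁆)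
    (hn : H ⊓ Nm(S) ≤ Nm(T)) : H ≤ Nm(T) := by
  have h2 : Fit H ⊔ S ≤ H := sup_le (Fit_le H) hS.le
  have h3 := (hS.of_le le_sup_right h2).frattini h2 (le_Nm_of_der_le (h.trans le_sup_left) h2)
  have hSn : S ≤ Nm(T) := (le_inf hS.le le_normalizer).trans hn
  have h4 : T ≤ Op p H := by
    rw [← Op_Fit, ← Opi_singleton]
    exact le_Opi_of_isNilpotent (isNilpotent_Fit H) (h1.trans ((commutator_mono hS.le hS.le).trans h))
      (isPi_singleton.2 (hS.isP.to_le (h1.trans (der_le S))))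
  rw [← h3]
  refine sup_le (sup_le ((Fit_le_Op_sup_Opp (p := p) H).trans (sup_le (hS.Op_le.trans hSn) ?_)) hSn) hn
  refine le_trans ?_ ((centralizer_mono h4).trans (Ct_le_Nm T))
  rw [← Opi_singleton, ← Opi_compl_singleton, le_Ct_comm]
  exact Opi_le_Ct_Opi_compl _ H

/-- B & G 4.20(c), the last factor -/
theorem hasNPC_of_rank_Fit_le (hs : Group.IsSolvable H) (ho : Odd (Nat.card H))
    (h : rank (Fit H) ≤ 2) (hm : p = 3 ∨ ∀ q : ℕ, q.Prime → q ∣ Nat.card H → p ≤ q) :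
    HasNormalPComplement p H := by
  have h1 := der_le_Fit_of_rank_le hs ho h
  have hq : H ≤ Nm(Fit H) := le_normalizer_Fit le_normalizer
  have hK : Res p H ≤ pre hq (Opp p ⊤) := by
    refine le_pre (Res_le p H) ?_
    rw [img_Res le_rfl, img_top, ← hasNPC_iff_le]
    have := (comm_img_iff (h := hq) le_rfl).2 h1
    rw [img_top] at this
    haveI := Solv.isNilpotent_of_isMulCommutative this
    exact Transfer.hasNPC_of_nilpotent
  have h2 : ¬ p ∣ (Fit H).relIndex (pre hq (Opp p ⊤)) := by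
    rw [relIndex_ker_pre]; exact coprime_iff_not_dvd.1 (coprime_Opp p _)
  have h3 : prank p (pre hq (Opp p ⊤)) ≤ 2 := by
    rw [← prank_eq_of_not_dvd (ker_le_pre (Fit_le H) _) h2]
    exact (prank_le_rank _).trans h
  have h4 := hasNPC_of_prank_le (isSolvable_of_le (pre_le _) hs) (odd_of_le (pre_le _) ho) h3
    (hm.imp_right fun e q a b => e q a (b.trans (card_dvd_of_le (pre_le _))))
  have h5 := Transfer.hasNPC_mono h4 hK
  rwa [hasNPC_iff_coprime, Res_Res, ← hasNPC_iff_coprime] at h5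

omit hp in
/-- B & G 4.20(c) -/
theorem hallIn_Opi_of_rank_Fit_le {π : Set ℕ}
    (hπ : ∀ q r : ℕ, q.Prime → r.Prime → q ∈ π → q ≤ r → r ∈ π) (hs : Group.IsSolvable H)
    (ho : Odd (Nat.card H)) (h : rank (Fit H) ≤ 2) : HallIn π (Opi π H) H := by
  induction H using WellFoundedLT.induction with
  | ind H ih =>
  by_cases hH : IsPi π H
  · rw [Opi_eq_self hH]; exact hallIn_self hH
  have hne : Nat.card H ≠ 1 := fun e => hH (by rw [IsPi, e]; exact piN_one)
  haveI := Fact.mk (Nat.minFac_prime hne)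
  have hm : (Nat.card H).minFac ∉ π := fun e => hH fun r a b =>
    hπ _ r (Nat.minFac_prime hne) a e (Nat.minFac_le_of_dvd a.two_le b)
  have h1 := hasNPC_iff_hallIn.1 (hasNPC_of_rank_Fit_le hs ho h
    (Or.inr fun r a b => Nat.minFac_le_of_dvd a.two_le b))
  have h2 : Opp (Nat.card H).minFac H < H := lt_of_le_of_ne (Opp_le _ H) fun e =>
    coprime_iff_not_dvd.1 (coprime_Opp (Nat.card H).minFac H) (by rw [e]; exact Nat.minFac_dvd _)
  have h3 := (ih _ h2 (isSolvable_of_le h2.le hs) (odd_of_le h2.le ho)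
    ((rank_mono (Fit_le_Fit_of_subnIn (Opp_subnIn _ H))).trans h)).trans h1
    fun r a b => hm (Set.mem_singleton_iff.1 b ▸ a)
  rwa [← h3.eq_Opi (le_normalizer_Opi (le_normalizer_Opp_of_le le_rfl))]

/-- B & G 4.20(c), the first factor -/
theorem sylIn_Op_of_rank_Fit_le (hs : Group.IsSolvable H) (ho : Odd (Nat.card H))
    (h : rank (Fit H) ≤ 2) (hm : ∀ q : ℕ, q.Prime → q ∣ Nat.card H → q ≤ p) :
    SylIn p (Op p H) H := by
  have h1 := hallIn_Opi_of_rank_Fit_le (π := {q | p ≤ q}) (fun q r _ _ a b => le_trans a b) hs ho h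
  have h2 : ∀ q : ℕ, q.Prime → q ∣ Nat.card H → (q ∈ {q | p ≤ q} ↔ q ∈ ({p} : Set ℕ)) :=
    fun q a b => ⟨fun c => le_antisymm (hm q a b) c, fun c => le_of_eq c.symm⟩
  rw [← hallIn_singleton, ← Opi_singleton, ← Opi_congr h2]
  exact h1.congr h2

end

end Cfsg.Agent.BG
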