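/-
Representation theory behind Bender-Glauberman 2.5, 3.4 and 3.5.
-/
import Cfsg.Agent.Lib.Char.Rep
import Cfsg.Agent.Lib.BG.Sec5

set_option autoImplicit false
set_option linter.unusedSectionVars false

namespace Cfsg.Agent.BG

open Module Representation LinearMap
open scoped commutatorElement

universe u v w

/-- the combinatorial lemma B & G 2.4 -/
theorem exists_eq_of_sum_sq_le {α : Type*} (S : Finset α) (hS : S.Nonempty) (n : α → ℕ)
    (h1 : S.card * ∑ s ∈ S, n s ^ 2 + 1 ≤ (∑ s ∈ S, n s) ^ 2 + S.card)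
    (h2 : (∑ s ∈ S, n s) ^ 2 ≡ 1 [MOD S.card]) :
    ∃ a, (∀ s ∈ S, a ≤ n s) ∧
      (∑ s ∈ S, n s = S.card * a + 1 ∨ ∑ s ∈ S, n s + 1 = S.card * (a + 1)) := by
  classical
  obtain ⟨s₀, hs₀, hmin⟩ := S.exists_min_image n hS
  refine ⟨n s₀, hmin, ?_⟩
  obtain ⟨b, hb⟩ : ∃ b : α → ℕ, ∀ s ∈ S, n s = n s₀ + b s :=
    ⟨fun s => n s - n s₀, fun s hs => (Nat.add_sub_cancel' (hmin s hs)).symm⟩
  have e1 : ∑ s ∈ S, n s = S.card * n s₀ + ∑ s ∈ S, b s := by
    rw [Finset.sum_congr rfl hb, Finset.sum_add_distrib, Finset.sum_const, smul_eq_mul]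
  have e2 : ∑ s ∈ S, n s ^ 2 =
      S.card * n s₀ ^ 2 + 2 * n s₀ * ∑ s ∈ S, b s + ∑ s ∈ S, b s ^ 2 := by
    rw [Finset.mul_sum, ← smul_eq_mul S.card, ← Finset.sum_const, ← Finset.sum_add_distrib,
      ← Finset.sum_add_distrib]
    exact Finset.sum_congr rfl fun s hs => by rw [hb s hs]; ring
  set T := S.filter fun s => b s ≠ 0 with hT
  have e3 : ∑ s ∈ T, b s = ∑ s ∈ S, b s := Finset.sum_filter_ne_zero S
  have e4 : ∑ s ∈ T, b s ^ 2 = ∑ s ∈ S, b s ^ 2 :=
    Finset.sum_filter_of_ne fun s _ h e => h (by rw [e]; rfl)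
  have h3 : T.card < S.card := Finset.card_lt_card ⟨Finset.filter_subset _ _, fun h => by
    have := hb s₀ hs₀
    exact (Finset.mem_filter.1 (h hs₀)).2 (by omega)⟩
  have h4 : T.card ≤ ∑ s ∈ T, b s := by
    rw [Finset.card_eq_sum_ones]
    exact Finset.sum_le_sum fun s hs => Nat.one_le_iff_ne_zero.2 (Finset.mem_filter.1 hs).2
  have h5 : ∑ s ∈ T, b s ≤ ∑ s ∈ T, b s ^ 2 :=
    Finset.sum_le_sum fun s _ => Nat.le_self_pow two_ne_zero _
  have h6 : (∑ s ∈ T, b s) ^ 2 ≤ T.card * ∑ s ∈ T, b s ^ 2 := sq_sum_le_card_mul_sum_sq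
  rw [e1, e2, ← e3, ← e4] at h1
  rw [e1, ← e3] at h2 ⊢
  generalize ∑ s ∈ T, b s = B at *
  generalize ∑ s ∈ T, b s ^ 2 = Q at *
  generalize T.card = k at *
  obtain ⟨t, ht⟩ : ∃ t, S.card = k + t + 1 := ⟨S.card - k - 1, by omega⟩
  rw [ht] at h1 h2 ⊢
  have h7 : (t + 1) * Q ≤ k + t := by nlinarith
  rcases Nat.eq_zero_or_pos k with rfl | hk
  · obtain rfl : B = 0 := by nlinarith
    have h8 : 0 + t + 1 ∣ 1 := (Nat.ModEq.dvd_iff h2 dvd_rfl).1
      (dvd_pow (by rw [add_zero]; exact dvd_mul_right _ _) two_ne_zero)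
    obtain rfl : t = 0 := by have := Nat.le_of_dvd one_pos h8; omega
    right; ring
  rcases Nat.eq_zero_or_pos t with rfl | ht0
  · obtain rfl : B = k := by omega
    right; ring
  · obtain rfl : k = 1 := by nlinarith
    obtain rfl : B = 1 := by nlinarith
    left; rfl

variable {F : Type w} [Field F] {W : Type v} [AddCommGroup W] [Module F W] [FiniteDimensional F W]
  {X : Type u} [Group X] [Finite X]

theorem exists_dual_one {v : W} (hv : v ≠ 0) : ∃ φ : Dual F W, φ v = 1 := by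
  obtain ⟨φ, h⟩ := not_forall.1 (mt (forall_dual_apply_eq_zero_iff F v).1 hv)
  exact ⟨(φ v)⁻¹ • φ, by rw [LinearMap.smul_apply, smul_eq_mul, inv_mul_cancel₀ h]⟩

/-- a normal subgroup acting nontrivially acts nontrivially on an irreducible constituent -/
theorem exists_irr_ne_one (ρ : Representation F X W) (hc : (Nat.card X : F) ≠ 0) (N : Subgroup X)
    [hN : N.Normal] (h : ¬ N ≤ ρ.ker) :
    ∃ (U : Type v) (_ : AddCommGroup U) (_ : Module F U) (_ : FiniteDimensional F U)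
      (σ : Representation F X U) (ι : U →ₗ[F] W), σ.IsIrreducible ∧ Function.Injective ι ∧
        (∀ g u, ι (σ g u) = ρ g (ι u)) ∧ ¬ N ≤ σ.ker := by
  haveI := NeZero.mk hc
  let W₀ : Subrepresentation ρ := ⟨⨅ z : N, LinearMap.ker (ρ z - 1), fun g v hv => by
    simp only [Submodule.mem_iInf, mem_ker, LinearMap.sub_apply, End.one_apply, sub_eq_zero] at hv ⊢
    intro z
    have := hv ⟨_, hN.conj_mem' _ z.2 g⟩
    conv_rhs => rw [← this]
    rw [← End.mul_apply, ← End.mul_apply, ← map_mul, ← map_mul]; congr 2; group⟩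
  have hW : ∀ v, v ∈ W₀.toSubmodule ↔ ∀ z ∈ N, ρ z v = v := fun v => by
    simp [W₀, Submodule.mem_iInf, sub_eq_zero]
  obtain ⟨U', hU'⟩ := exists_isCompl W₀
  have h1 := Char.isCompl_toSubmodule hU'
  haveI : Nontrivial U'.toSubmodule := Submodule.nontrivial_iff_ne_bot.2 fun e => h fun z hz => by
    rw [e] at h1
    exact LinearMap.ext fun v => (hW v).1 (eq_top_of_isCompl_bot h1 ▸ Submodule.mem_top) z hz
  obtain ⟨U, hU⟩ := Char.exists_irreducible_sub U'.toRepresentation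
  refine ⟨U.toSubmodule, inferInstance, inferInstance, inferInstance, U.toRepresentation,
    U'.toSubmodule.subtype ∘ₗ U.toSubmodule.subtype, hU,
    Subtype.val_injective.comp Subtype.val_injective, fun _ _ => rfl, fun e => ?_⟩
  haveI := Char.nontrivial_of_isIrreducible U.toRepresentation
  obtain ⟨u, hu⟩ := exists_ne (0 : U.toSubmodule)
  refine hu (Subtype.ext (Subtype.ext ((Submodule.disjoint_def.1 h1.disjoint) _
    ((hW _).2 fun z hz => ?_) u.1.2)))
  exact congrArg (fun w : U.toSubmodule => (w.1 : W)) (LinearMap.congr_fun (e hz) u)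

theorem trace_eq_zero_of_commutator (ρ : Representation F X W) {g h : X} {c : F} (hc : c ≠ 1)
    (e : ρ ⁅h, g⁆ = c • 1) : trace F W (ρ g) = 0 := by
  have h1 : trace F W (ρ (h * g * h⁻¹)) = trace F W (ρ g) := ρ.char_conj g h
  rw [show h * g * h⁻¹ = ⁅h, g⁆ * g by rw [commutatorElement_def]; group, map_mul, e, smul_mul_assoc,
    one_mul, map_smul, smul_eq_mul] at h1
  exact (mul_left_eq_self₀.1 h1).resolve_left hc

variable [IsAlgClosed F]

theorem exists_scalar_hom (ρ : Representation F X W) [ρ.IsIrreducible] {A : Type*} [Group A]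
    (j : A →* X) (h : ∀ a g, Commute (j a) g) : ∃ l : A →* F, ∀ a, ρ (j a) = l a • 1 := by
  choose c hc using fun a => Char.schur_scalar ρ (ρ (j a)) fun g => by
    rw [← End.mul_eq_comp, ← End.mul_eq_comp, ← map_mul, ← map_mul, (h a g).eq]
  haveI := Char.nontrivial_of_isIrreducible ρ
  have hi : Function.Injective fun c : F => c • (1 : End F W) := smul_left_injective F one_ne_zero
  refine ⟨⟨⟨c, hi ?_⟩, fun a b => hi ?_⟩, hc⟩
  · exact (hc 1).symm.trans (by simp)
  · refine (hc _).symm.trans ?_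
    rw [map_mul, map_mul, hc a, hc b, smul_mul_smul_comm]; rfl

theorem exists_sum_conj_eq [Fintype X] (ρ : Representation F X W) [ρ.IsIrreducible] (a : End F W) :
    ∃ c : F, ∑ g, ρ g * a * ρ g⁻¹ = c • 1 ∧ c * finrank F W = Nat.card X * trace F W a := by
  obtain ⟨c, hc⟩ := Char.schur_scalar ρ (∑ g, ρ g * a * ρ g⁻¹) fun h => by
    rw [← End.mul_eq_comp, ← End.mul_eq_comp, Finset.sum_mul, Finset.mul_sum]
    refine (Fintype.sum_equiv (Equiv.mulLeft h) _ _ fun g => ?_).symm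
    rw [Equiv.coe_mulLeft, mul_assoc _ _ (ρ h), ← map_mul, map_mul ρ h g, mul_inv_rev,
      inv_mul_cancel_right, mul_assoc, mul_assoc, mul_assoc]
  refine ⟨c, hc, ?_⟩
  have := congrArg (trace F W) hc
  rw [map_smul, trace_id, map_sum, Finset.sum_congr rfl (g := fun _ => trace F W a) fun g _ => by
    rw [trace_mul_comm, ← mul_assoc, ← map_mul, inv_mul_cancel, map_one, one_mul]] at this
  rw [← smul_eq_mul, ← this, Finset.sum_const, nsmul_eq_mul, Finset.card_univ, Fintype.card_eq_nat_card]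

theorem finrank_cast_ne_zero (ρ : Representation F X W) [ρ.IsIrreducible]
    (hc : (Nat.card X : F) ≠ 0) : (finrank F W : F) ≠ 0 := by
  haveI := Fintype.ofFinite X
  haveI := Char.nontrivial_of_isIrreducible ρ
  obtain ⟨v, hv⟩ := exists_ne (0 : W)
  obtain ⟨φ, hφ⟩ := exists_dual_one (F := F) hv
  obtain ⟨c, -, h⟩ := exists_sum_conj_eq ρ (φ.smulRight v)
  rw [trace_smulRight, hφ, mul_one] at h
  exact fun e => hc (by rw [← h, e, mul_zero])

/-- Burnside: an irreducible group spans the endomorphism algebra -/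
theorem eq_zero_of_trace_mul (ρ : Representation F X W) [ρ.IsIrreducible]
    (hc : (Nat.card X : F) ≠ 0) {f : End F W} (h : ∀ g, trace F W (f * ρ g) = 0) : f = 0 := by
  haveI := Fintype.ofFinite X
  refine LinearMap.ext fun w => (forall_dual_apply_eq_zero_iff F _).1 fun φ => ?_
  have h1 : (finrank F W : F) • ∑ g, φ (ρ g⁻¹ w) • ρ g = (Nat.card X : F) • φ.smulRight w := by
    refine LinearMap.ext fun v => ?_
    obtain ⟨c, h1, h2⟩ := exists_sum_conj_eq ρ (φ.smulRight v)
    have h3 := LinearMap.congr_fun h1 w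
    simp only [LinearMap.sum_apply, End.mul_apply, smulRight_apply, map_smul, LinearMap.smul_apply,
      End.one_apply] at h3 ⊢
    rw [h3, smul_smul, smul_smul, mul_comm, h2, trace_smulRight]
  have h2 := congrArg (fun a => trace F W (f * a)) h1
  simp only [mul_smul_comm, Finset.mul_sum, map_smul, map_sum, h, smul_zero,
    Finset.sum_const_zero] at h2
  rw [show f * φ.smulRight w = φ.smulRight (f w) from LinearMap.ext fun v => by simp,
    trace_smulRight] at h2
  exact (smul_eq_zero.1 h2.symm).resolve_left hc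

theorem exists_eigenbasis {y : End F W} {m : ℕ} (hm : (m : F) ≠ 0) (hy : y ^ m = 1) :
    ∃ (I : Type w) (_ : Fintype I) (b : Basis I F W) (μ : I → F), ∀ i, y (b i) = μ i • b i := by
  classical
  have hs : y.IsSemisimple := End.isSemisimple_of_squarefree_aeval_eq_zero
    (Polynomial.X_pow_sub_one_separable_iff.2 hm).squarefree (by simp [hy])
  let D := DirectSum.isInternal_submodule_of_iSupIndep_of_iSup_eq_top
    y.eigenspaces_iSupIndep hs.iSup_eigenspace_eq_top
  let I := (ν : F) × Fin (finrank F (y.eigenspace ν))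
  let b : Basis I F W := D.collectedBasis fun μ => finBasis F (y.eigenspace μ)
  have hb (i : I) : y (b i) = i.1 • b i := End.mem_eigenspace_iff.mp (D.collectedBasis_mem _ i)
  exact ⟨I, FiniteDimensional.fintypeBasisIndex b, b, Sigma.fst, hb⟩

/-- multiplicities of the eigenvalues of an operator of finite order -/
theorem exists_mult {y : End F W} {m : ℕ} (hm : (m : F) ≠ 0) (hy : y ^ m = 1) :
    ∃ (S : Finset F) (n : F → ℕ), S.card = m ∧ 1 ∈ S ∧ ∑ s ∈ S, n s = finrank F W ∧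
      ∑ s ∈ S, n s ^ 2 ≤ finrank F (LinearMap.ker (mulLeft F y - mulRight F y)) ∧
      ((∀ w, y w = w → w = 0) → n 1 = 0) := by
  classical
  obtain ⟨I, _, b, μ, hb⟩ := exists_eigenbasis hm hy
  have hm0 : 0 < m := Nat.pos_of_ne_zero fun e => hm (by rw [e, Nat.cast_zero])
  haveI := NeZero.mk hm
  haveI := NeZero.of_pos hm0
  obtain ⟨ζ, hζ⟩ := HasEnoughRootsOfUnity.exists_primitiveRoot F m
  have hμ : ∀ i, μ i ∈ Polynomial.nthRootsFinset m (1 : F) := fun i => by
    rw [Polynomial.mem_nthRootsFinset hm0]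
    have := (End.HasEigenvector.pow_apply ⟨End.mem_eigenspace_iff.2 (hb i), b.ne_zero i⟩ m).symm
    rw [hy, End.one_apply] at this
    exact smul_left_injective F (b.ne_zero i) (this.trans (one_smul F _).symm)
  refine ⟨_, fun s => (Finset.univ.filter fun i => μ i = s).card, hζ.card_nthRootsFinset,
    Polynomial.one_mem_nthRootsFinset hm0, ?_, ?_, fun h => ?_⟩
  · rw [finrank_eq_card_basis b]
    exact (Finset.card_eq_sum_card_fiberwise fun i _ => hμ i).symm
  · let v : {ij : I × I // μ ij.1 = μ ij.2} → LinearMap.ker (mulLeft F y - mulRight F y) :=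
      fun ij => ⟨b.end ij.1, by
        rw [mem_ker, LinearMap.sub_apply, mulLeft_apply, mulRight_apply, sub_eq_zero]
        refine b.ext fun k => ?_
        rw [End.mul_apply, End.mul_apply, hb, map_smul, Basis.end_apply_apply]
        split_ifs with e
        · rw [hb, ij.2, e]
        · rw [map_zero, smul_zero]⟩
    have hv : LinearIndependent F v :=
      .of_comp (Submodule.subtype _) (b.end.linearIndependent.comp _ Subtype.val_injective)
    refine le_trans (le_of_eq ?_) hv.fintype_card_le_finrank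
    rw [Fintype.card_subtype, Finset.card_eq_sum_card_fiberwise (f := fun ij => μ ij.1)
      (t := Polynomial.nthRootsFinset m (1 : F)) fun ij _ => hμ ij.1]
    refine Finset.sum_congr rfl fun s _ => ?_
    rw [sq, ← Finset.card_product]
    congr 1
    ext ij
    simp only [Finset.mem_product, Finset.mem_filter, Finset.mem_univ, true_and]
    exact ⟨fun h => ⟨h.1.trans h.2.symm, h.1⟩, fun h => ⟨h.2, h.1.symm.trans h.2⟩⟩
  · rw [Finset.card_eq_zero, Finset.filter_eq_empty_iff]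
    exact fun i _ e => b.ne_zero i (h _ (by rw [hb, e, one_smul]))

section
variable (ρ : Representation F X W) {K Z A : Subgroup X}

/-- the restriction of a representation to a subgroup -/
abbrev resRep (K : Subgroup X) : Representation F K W := MonoidHom.comp ρ K.subtype

theorem cast_card_ne_zero (hc : (Nat.card X : F) ≠ 0) (K : Subgroup X) : (Nat.card K : F) ≠ 0 :=
  fun e => hc (by rw [← K.card_mul_index, Nat.cast_mul, e, zero_mul])

theorem sq_finrank_eq [(resRep ρ K).IsIrreducible] (hc : (Nat.card K : F) ≠ 0)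
    (hs : ∀ z ∈ Z, ∃ c : F, ρ z = c • 1)
    (hnd : ∀ g ∈ K, g ∉ Z → ∃ h : X, ∃ c : F, c ≠ 1 ∧ ρ ⁅h, g⁆ = c • 1) :
    finrank F W ^ 2 = Z.relIndex K := by
  classical
  haveI := Fintype.ofFinite (K ⧸ Z.subgroupOf K)
  let v : K ⧸ Z.subgroupOf K → End F W := fun q => ρ (q.out : K)
  have h1 : LinearIndependent F v := Fintype.linearIndependent_iff.2 fun c h q₀ => by
    have := congrArg (fun a => trace F W (ρ (q₀.out : K)⁻¹ * a)) h
    simp only [Finset.mul_sum, mul_smul_comm, map_sum, map_smul, mul_zero, map_zero, v,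
      ← map_mul] at this
    rw [Finset.sum_eq_single q₀ (fun q _ hq => ?_) (fun h => absurd (Finset.mem_univ _) h),
      inv_mul_cancel, map_one, trace_one] at this
    · exact (smul_eq_zero.1 this).resolve_right (finrank_cast_ne_zero (resRep ρ K) hc)
    · obtain ⟨h, d, h1, h2⟩ := hnd _ (mul_mem (inv_mem q₀.out.2) q.out.2) fun e => hq (by
        rw [← q.out_eq', ← q₀.out_eq', eq_comm, QuotientGroup.eq]; exact e)
      rw [trace_eq_zero_of_commutator ρ h1 h2, smul_zero]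
  let Φ : End F W →ₗ[F] (K ⧸ Z.subgroupOf K → F) :=
    LinearMap.pi fun q => trace F W ∘ₗ mulRight F (v q)
  have h2 : Function.Injective Φ := (injective_iff_map_eq_zero Φ).2 fun f hf =>
    eq_zero_of_trace_mul (resRep ρ K) hc fun g => by
      obtain ⟨z, hz⟩ := QuotientGroup.mk_out_eq_mul (Z.subgroupOf K) g
      obtain ⟨c, hc⟩ := hs ((z : K) : X)⁻¹ (inv_mem z.2)
      have h3 : trace F W (f * ρ ((g : K ⧸ Z.subgroupOf K).out : K)) = 0 := congrFun hf g
      have h4 : resRep ρ K g = ρ ((g : K ⧸ Z.subgroupOf K).out : K) * ρ ((z : K) : X)⁻¹ := by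
        rw [hz, ← map_mul]; simp
      rw [h4, hc, mul_smul_comm, mul_one, mul_smul_comm, map_smul, h3, smul_zero]
  have h3 := LinearMap.finrank_le_finrank_of_injective h2
  have h4 := h1.fintype_card_le_finrank
  rw [finrank_linearMap] at h3 h4
  rw [finrank_fintype_fun_eq_card] at h3
  rw [sq, Subgroup.relIndex, Subgroup.index, Nat.card_eq_fintype_card]
  exact le_antisymm h3 h4

theorem exists_orbits [K.Normal] [Z.Normal] [(resRep ρ K).IsIrreducible] (hc : (Nat.card K : F) ≠ 0)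
    (hs : ∀ z ∈ Z, ∃ c : F, ρ z = c • 1)
    (hf : ∀ a ∈ A, a ≠ 1 → ∀ g ∈ K, ⁅a, g⁆ ∈ Z → g ∈ Z) (C : Submodule F (End F W))
    (hC : ∀ f ∈ C, ∀ a ∈ A, f * ρ a = ρ a * f) :
    ∃ o, o * Nat.card A + 1 = Z.relIndex K + Nat.card A ∧ finrank F C ≤ o := by
  classical
  let π := QuotientGroup.mk' Z
  haveI : (K.map π).Normal := Subgroup.Normal.map inferInstance _ (QuotientGroup.mk'_surjective Z)
  letI : MulAction A (K.map π) :=
    MulAction.compHom _ ((MulAut.conjNormal (H := K.map π)).comp (π.comp A.subtype))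
  have hsm : ∀ (a : A) (q : K.map π), ((a • q : K.map π) : X ⧸ Z) = π a * q * (π a)⁻¹ :=
    fun a q => rfl
  haveI := Fintype.ofFinite A
  haveI := Fintype.ofFinite (K.map π)
  haveI := Fintype.ofFinite (MulAction.orbitRel.Quotient A (K.map π))
  refine ⟨Fintype.card (MulAction.orbitRel.Quotient A (K.map π)), ?_, ?_⟩
  · have h1 := MulAction.sum_card_fixedBy_eq_card_orbits_mul_card_group A (K.map π)
    have h2 : ∀ a ∈ Finset.univ.erase (1 : A), Fintype.card (MulAction.fixedBy (K.map π) a) = 1 := by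
      intro a ha
      rw [Fintype.card_eq_one_iff]
      refine ⟨⟨1, Subtype.ext (by rw [hsm]; simp)⟩, fun ⟨⟨_, g, hg, rfl⟩, hq⟩ => ?_⟩
      refine Subtype.ext (Subtype.ext ((QuotientGroup.eq_one_iff g).2 (hf a a.2
        (fun e => (Finset.mem_erase.1 ha).1 (Subtype.ext e)) g hg ?_)))
      have := congrArg Subtype.val (MulAction.mem_fixedBy.1 hq)
      rw [hsm] at this
      rw [← QuotientGroup.eq_one_iff, ← QuotientGroup.mk'_apply, map_commutatorElement,
        commutatorElement_def]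
      exact mul_inv_eq_one.2 this
    rw [← Finset.add_sum_erase _ _ (Finset.mem_univ 1), Finset.sum_congr rfl h2, Finset.sum_const,
      Finset.card_erase_of_mem (Finset.mem_univ _), smul_eq_mul, mul_one, Finset.card_univ] at h1
    have h3 : Fintype.card (MulAction.fixedBy (K.map π) (1 : A)) = Z.relIndex K := by
      rw [← Nat.card_eq_fintype_card, MulAction.fixedBy_one_eq_univ, Nat.card_univ,
        ← Subgroup.relIndex_ker, QuotientGroup.ker_mk']
    have h4 : 0 < Fintype.card A := Fintype.card_pos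
    rw [Nat.card_eq_fintype_card, ← h1, h3]
    omega
  · choose l hl1 hl2 using fun q : K.map π => q.2
    let Φ : C →ₗ[F] (MulAction.orbitRel.Quotient A (K.map π) → F) :=
      LinearMap.pi fun o => trace F W ∘ₗ mulRight F (ρ (l o.out)) ∘ₗ C.subtype
    have h2 : Function.Injective Φ := (injective_iff_map_eq_zero Φ).2 fun f hf =>
      Subtype.ext (eq_zero_of_trace_mul (resRep ρ K) hc fun g => by
        let q : K.map π := ⟨π g, g, g.2, rfl⟩
        let o : MulAction.orbitRel.Quotient A (K.map π) := Quotient.mk'' q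
        obtain ⟨a, ha⟩ : q ∈ MulAction.orbit A o.out :=
          MulAction.orbitRel_apply.1 (Quotient.exact' (Quotient.out_eq' o).symm)
        have h3 : trace F W (f.1 * ρ (l o.out)) = 0 := congrFun hf o
        have h4 : (a * l o.out * (a : X)⁻¹)⁻¹ * g ∈ Z := by
          rw [← QuotientGroup.eq, ← QuotientGroup.mk'_apply, map_mul, map_mul, map_inv, hl2]
          exact (hsm a _).symm.trans (congrArg Subtype.val ha)
        obtain ⟨c, hc⟩ := hs _ h4
        have h5 : resRep ρ K g = ρ a * ρ (l o.out) * ρ (a : X)⁻¹ *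
            ρ ((a * l o.out * (a : X)⁻¹)⁻¹ * g) := by
          rw [← map_mul, ← map_mul, ← map_mul, mul_inv_cancel_left]; rfl
        rw [h5, hc, mul_smul_comm, mul_one, mul_smul_comm, map_smul, ← mul_assoc, trace_mul_comm,
          ← mul_assoc f.1, hC _ f.2 a a.2, mul_assoc (ρ a), ← mul_assoc, ← map_mul, inv_mul_cancel,
          map_one, one_mul, h3, smul_zero])
    have h3 := LinearMap.finrank_le_finrank_of_injective h2
    rwa [finrank_fintype_fun_eq_card] at h3

theorem exists_intertwining [Fintype X] {U : Type v} [AddCommGroup U] [Module F U]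
    [FiniteDimensional F U] (τ τ' : Representation F X U) [τ.IsIrreducible]
    (hc : (Nat.card X : F) ≠ 0) (hs : ∀ z ∈ Z, ∃ c : F, τ z = c • 1) (he : ∀ z ∈ Z, τ' z = τ z)
    (hnd : ∀ g, g ∉ Z → ∃ h : X, ∃ c : F, c ≠ 1 ∧ τ ⁅h, g⁆ = c • 1) :
    ∃ y : IntertwiningMap τ τ', y ≠ 0 := by
  classical
  haveI := invertibleOfNonzero hc
  have h1 := card_inv_mul_sum_char_mul_char_eq_finrank τ τ'
  have h2 : ∀ g, τ'.character g * τ.character g⁻¹ =
      if g ∈ Z then (finrank F U : F) * finrank F U else 0 := fun g => by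
    split_ifs with hg
    · obtain ⟨c, h3⟩ := hs g hg
      obtain ⟨c', h4⟩ := hs _ (inv_mem hg)
      haveI := Char.nontrivial_of_isIrreducible τ
      have h5 : c * c' = 1 := smul_left_injective F (one_ne_zero (α := End F U)) (by
        have := map_mul τ g g⁻¹
        rw [mul_inv_cancel, map_one, h3, h4, smul_mul_smul_comm, mul_one] at this
        exact this.symm.trans (one_smul _ _).symm)
      rw [character, character, he g hg, h3, h4, map_smul, map_smul, trace_one, smul_eq_mul,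
        smul_eq_mul, mul_mul_mul_comm, h5, one_mul]
    · obtain ⟨h, c, h3, h4⟩ := hnd g⁻¹ fun e => hg (inv_mem_iff.1 e)
      rw [character, character, trace_eq_zero_of_commutator τ h3 h4, mul_zero]
  rw [Finset.sum_congr rfl fun g _ => h2 g, ← Finset.sum_filter, Finset.sum_const, nsmul_eq_mul,
    ← Fintype.card_subtype, ← Nat.card_eq_fintype_card] at h1
  have h3 := finrank_cast_ne_zero τ hc
  have h4 : finrank F (IntertwiningMap τ τ') ≠ 0 := fun e => by
    rw [e, Nat.cast_zero] at h1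
    exact mul_ne_zero (inv_ne_zero hc) (mul_ne_zero (cast_card_ne_zero hc Z) (mul_ne_zero h3 h3)) h1
  haveI := nontrivial_of_finrank_pos (Nat.pos_of_ne_zero h4)
  exact exists_ne 0

theorem isIrreducible_resRep [ρ.IsIrreducible] [hK : K.Normal] {x : X}
    (hX : K ⊔ Subgroup.zpowers x = ⊤) (hc : (Nat.card K : F) ≠ 0)
    (hs : ∀ z ∈ Z, ∃ c : F, ρ z = c • 1) (hx : ∀ z ∈ Z, Commute x z)
    (hnd : ∀ g ∈ K, g ∉ Z → ∃ h ∈ K, ∃ c : F, c ≠ 1 ∧ ρ ⁅h, g⁆ = c • 1) :
    (resRep ρ K).IsIrreducible := by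
  haveI := Char.nontrivial_of_isIrreducible ρ
  haveI := Fintype.ofFinite K
  obtain ⟨U, hU⟩ := Char.exists_irreducible_sub (resRep ρ K)
  have hτ : ∀ (g : K) (c : F), ρ g = c • 1 → U.toRepresentation g = c • 1 := fun g c h =>
    LinearMap.ext fun u => Subtype.ext (LinearMap.congr_fun h u)
  let σ : K →* K := (MulAut.conjNormal x⁻¹ : MulAut K)
  have hσ : ∀ g : K, (σ g : X) = x⁻¹ * g * x := fun g => MulAut.conjNormal_inv_apply x g
  obtain ⟨y, hy⟩ := exists_intertwining (Z := Z.subgroupOf K) U.toRepresentation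
    (MonoidHom.comp U.toRepresentation σ) hc (fun z hz => (hs z hz).imp (hτ z))
    (fun z hz => congrArg U.toRepresentation (Subtype.ext (by
      rw [hσ, mul_assoc, ← (hx z hz).eq, inv_mul_cancel_left])))
    fun g hg => by
      obtain ⟨h, h1, c, h2, h3⟩ := hnd g g.2 hg
      exact ⟨⟨h, h1⟩, c, h2, hτ _ c h3⟩
  have hy1 : Function.Injective y := (IsIrreducible.injective_or_eq_zero y).resolve_right hy
  have hy2 : Function.Surjective y :=
    (LinearMap.injective_iff_surjective (f := y.toLinearMap)).1 hy1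
  let T : End F (IntertwiningMap U.toRepresentation (resRep ρ K)) :=
    { toFun := fun θ => ⟨ρ x ∘ₗ θ.toLinearMap ∘ₗ y.toLinearMap, fun g => LinearMap.ext fun u => by
        have h1 := LinearMap.congr_fun (y.2 g) u
        have h2 := LinearMap.congr_fun (θ.2 (σ g)) (y.toLinearMap u)
        simp only [LinearMap.comp_apply, MonoidHom.comp_apply, Subgroup.subtype_apply] at h1 h2 ⊢
        rw [h1, h2, hσ, ← End.mul_apply, ← End.mul_apply (ρ g), ← map_mul, ← map_mul]
        congr 2; group⟩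
      map_add' := fun a b => IntertwiningMap.ext (by
        change ρ x ∘ₗ (a.toLinearMap + b.toLinearMap) ∘ₗ _ = _ + _
        rw [add_comp, comp_add])
      map_smul' := fun c a => IntertwiningMap.ext (by
        change ρ x ∘ₗ (c • a.toLinearMap) ∘ₗ _ = c • _
        rw [smul_comp, comp_smul]) }
  haveI := Char.nontrivial_of_isIrreducible U.toRepresentation
  haveI : Nontrivial (IntertwiningMap U.toRepresentation (resRep ρ K)) :=
    ⟨⟨U.toSubmodule.subtype, fun g => rfl⟩, 0, fun e => by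
      obtain ⟨u, hu⟩ := exists_ne (0 : U.toSubmodule)
      exact hu (Subtype.ext (LinearMap.congr_fun (congrArg IntertwiningMap.toLinearMap e) u))⟩
  obtain ⟨μ, hμ⟩ := T.exists_eigenvalue
  obtain ⟨θ, h1, h2⟩ := hμ.exists_hasEigenvector
  have h3 : ∀ u, ρ x (θ (y u)) = μ • θ u := fun u =>
    LinearMap.congr_fun (congrArg IntertwiningMap.toLinearMap (End.mem_eigenspace_iff.1 h1)) u
  have h4 : ∀ g, ∀ v ∈ LinearMap.range θ.toLinearMap, ρ g v ∈ LinearMap.range θ.toLinearMap := by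
    let S : Submonoid X :=
      { carrier := {g | ∀ v ∈ LinearMap.range θ.toLinearMap, ρ g v ∈ LinearMap.range θ.toLinearMap}
        one_mem' := fun v hv => by rwa [map_one]
        mul_mem' := fun a b v hv => by rw [map_mul]; exact a _ (b v hv) }
    have h5 : x ∈ S := by
      rintro _ ⟨u, rfl⟩
      obtain ⟨u, rfl⟩ := hy2 u
      exact ⟨μ • u, (map_smul _ _ _).trans (h3 u).symm⟩
    intro g
    obtain ⟨k, hk, a, ha, rfl⟩ := Subgroup.mem_sup_of_normal_left.1 (hX ▸ Subgroup.mem_top g)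
    refine S.mul_mem ?_ (Submonoid.powers_le.2 h5 (mem_powers_iff_mem_zpowers.2 ha))
    rintro _ ⟨u, rfl⟩
    exact ⟨_, LinearMap.congr_fun (θ.2 ⟨k, hk⟩) u⟩
  have h5 := (((Char.isIrreducible_iff ρ).1 inferInstance).2 _ h4).resolve_left fun e =>
    h2 (IntertwiningMap.ext (LinearMap.range_eq_bot.1 e))
  exact Char.isIrreducible_of_equiv (IntertwiningMap.ofBijective θ
    ⟨(IsIrreducible.injective_or_eq_zero θ).resolve_right h2, LinearMap.range_eq_top.1 h5⟩)

/-- B & G 2.5 for an irreducible representation -/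
theorem exists_dim_of_irr [ρ.IsIrreducible] [K.Normal] {x : X} (hX : K ⊔ Subgroup.zpowers x = ⊤)
    (hc : (Nat.card X : F) ≠ 0) (hZ : Z ≤ Subgroup.center X) (hd : ⁅K, K⁆ ≤ Z)
    (hnd : ∀ g ∈ K, g ∉ Z → ∃ h ∈ K, ρ ⁅h, g⁆ ≠ 1)
    (hf : ∀ a ∈ Subgroup.zpowers x, a ≠ 1 → ∀ g ∈ K, ⁅a, g⁆ ∈ Z → g ∈ Z) :
    ∃ d a, d ^ 2 = Z.relIndex K ∧ (d = orderOf x * a + 1 ∨ d + 1 = orderOf x * (a + 1)) ∧
      ((∀ w, ρ x w = w → w = 0) → a = 0) := by
  haveI : Z.Normal := ⟨fun z hz g => by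
    rwa [Subgroup.mem_center_iff.1 (hZ hz) g, mul_inv_cancel_right]⟩
  obtain ⟨l, hl⟩ := exists_scalar_hom ρ Z.subtype fun z g =>
    (Subgroup.mem_center_iff.1 (hZ z.2) g).symm
  have hs : ∀ z ∈ Z, ∃ c : F, ρ z = c • 1 := fun z hz => ⟨_, hl ⟨z, hz⟩⟩
  have hnd' : ∀ g ∈ K, g ∉ Z → ∃ h ∈ K, ∃ c : F, c ≠ 1 ∧ ρ ⁅h, g⁆ = c • 1 := fun g a b => by
    obtain ⟨h, h1, h2⟩ := hnd g a b
    obtain ⟨c, h3⟩ := hs _ (hd (Subgroup.commutator_mem_commutator h1 a))
    exact ⟨h, h1, c, fun e => h2 (by rw [h3, e, one_smul]), h3⟩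
  have hK := cast_card_ne_zero hc K
  haveI := isIrreducible_resRep ρ hX hK hs (fun z hz => Subgroup.mem_center_iff.1 (hZ hz) x) hnd'
  have h1 := sq_finrank_eq ρ hK hs fun g a b => (hnd' g a b).imp fun _ h => h.2
  obtain ⟨o, h2, h3⟩ := exists_orbits ρ hK hs hf (LinearMap.ker (mulLeft F (ρ x) - mulRight F (ρ x)))
    fun f h a ha => by
      obtain ⟨n, rfl⟩ := mem_powers_iff_mem_zpowers.2 ha
      have : Commute (ρ x) f := sub_eq_zero.1 h
      exact (map_pow ρ x n ▸ this.pow_left n).symm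
  have hm : (orderOf x : F) ≠ 0 := Nat.card_zpowers x ▸ cast_card_ne_zero hc _
  obtain ⟨S, n, h4, h5, h6, h7, h8⟩ := exists_mult (y := ρ x) hm
    (by rw [← map_pow, pow_orderOf_eq_one, map_one])
  rw [Nat.card_zpowers, ← h1, ← h6, ← h4] at h2
  obtain ⟨a, h9, h10⟩ := exists_eq_of_sum_sq_le S ⟨1, h5⟩ n
    (by rw [← h2, mul_comm]; exact Nat.add_le_add_right (Nat.mul_le_mul_right _ (h7.trans h3)) 1)
    (by
      have := congrArg (· % S.card) h2
      simp only [Nat.add_mod_right, Nat.mul_add_mod'] at this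
      exact this.symm)
  rw [h6, h4] at h10
  exact ⟨_, a, h1, h10, fun h => Nat.le_zero.1 (h8 h ▸ h9 1 h5)⟩

/-- B & G 2.5 -/
theorem exists_dim [K.Normal] {x : X} (hX : K ⊔ Subgroup.zpowers x = ⊤)
    (hc : (Nat.card X : F) ≠ 0) (hZ : Z ≤ Subgroup.center X) (hd : ⁅K, K⁆ ≤ Z)
    (h0 : ¬ ⁅K, K⁆ ≤ ρ.ker)
    (hnd : ∀ N : Subgroup X, N.Normal → ¬ ⁅K, K⁆ ≤ N → ∀ g ∈ K, g ∉ Z → ∃ h ∈ K, ⁅h, g⁆ ∉ N)
    (hf : ∀ a ∈ Subgroup.zpowers x, a ≠ 1 → ∀ g ∈ K, ⁅a, g⁆ ∈ Z → g ∈ Z) :
    ∃ d a, d ^ 2 = Z.relIndex K ∧ (d = orderOf x * a + 1 ∨ d + 1 = orderOf x * (a + 1)) ∧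
      ((∀ w, ρ x w = w → w = 0) → a = 0) := by
  obtain ⟨U, _, _, _, σ, ι, h1, h2, h3, h4⟩ := exists_irr_ne_one ρ hc ⁅K, K⁆ h0
  obtain ⟨d, a, h5, h6, h7⟩ := exists_dim_of_irr σ hX hc hZ hd (hnd σ.ker inferInstance h4) hf
  exact ⟨d, a, h5, h6, fun h => h7 fun u hu => h2 ((h _ (by rw [← h3, hu])).trans (map_zero ι).symm)⟩

/-- the representation theoretic part of B & G 3.5 -/
theorem der_le_ker {x : X} (hc : (Nat.card X : F) ≠ 0) (hZK : Z ≤ K)
    (hZ : ∀ z ∈ Z, ∀ g ∈ K, Commute z g) (hn : ∀ a ∈ Subgroup.zpowers x, ∀ z ∈ Z, a⁻¹ * z * a ∈ Z)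
    (hf : ∀ a ∈ Subgroup.zpowers x, a ≠ 1 → ∀ z ∈ Z, ∃ y ∈ Z, z = a⁻¹ * y * a * y⁻¹)
    (h0 : ∀ w, (∀ z ∈ Z, ρ z w = w) → w = 0)
    (h1 : ∀ v w, ρ x v = v → ρ x w = w → v ≠ 0 → ∃ c : F, w = c • v) : ⁅K, K⁆ ≤ ρ.ker := by
  classical
  by_contra h
  obtain ⟨U, _, _, _, σ, ι, h2, h3, h4, h5⟩ := exists_irr_ne_one (resRep ρ K)
    (cast_card_ne_zero hc K) ⁅⊤, ⊤⁆ fun e => h (by
      rw [← K.range_subtype, MonoidHom.range_eq_map, ← Subgroup.map_commutator,
        Subgroup.map_le_iff_le_comap]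
      exact e)
  obtain ⟨l, hl⟩ := exists_scalar_hom σ (Subgroup.inclusion hZK) fun z g =>
    Subtype.ext (hZ z z.2 g g.2)
  have hl' : ∀ (z : Z) u, ρ z (ι u) = l z • ι u := fun z u => by
    rw [← map_smul]
    exact (h4 (Subgroup.inclusion hZK z) u).symm.trans (congrArg ι (LinearMap.congr_fun (hl z) u))
  haveI := Char.nontrivial_of_isIrreducible σ
  obtain ⟨u₀, hu₀⟩ := exists_ne (0 : U)
  haveI := Fintype.ofFinite (Subgroup.zpowers x)
  let χ : Subgroup.zpowers x → Z →* F := fun a => l.comp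
    { toFun := fun z => ⟨(a : X)⁻¹ * z * a, hn a a.2 z z.2⟩
      map_one' := Subtype.ext (by simp)
      map_mul' := fun y z => Subtype.ext (by simp [mul_assoc]) }
  have hχ : ∀ (a : Subgroup.zpowers x) (z : Z) u, ρ z (ρ a (ι u)) = χ a z • ρ a (ι u) :=
    fun a z u => by
      rw [← map_smul]
      refine Eq.trans ?_ (congrArg (ρ a) (hl' ⟨_, hn a a.2 z z.2⟩ u))
      rw [← End.mul_apply, ← End.mul_apply, ← map_mul, ← map_mul]; congr 2; group
  have hinj : Function.Injective χ := fun a b e => by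
    by_contra hab
    have h6 : ((b⁻¹ * a : Subgroup.zpowers x) : X) ≠ 1 := fun e' =>
      hab (inv_mul_eq_one.1 (Subtype.ext e')).symm
    refine hu₀ (h3 ((h0 _ fun z hz => ?_).trans (map_zero ι).symm))
    obtain ⟨y, hy, rfl⟩ := hf _ (b⁻¹ * a).2 h6 z hz
    have h7 := DFunLike.congr_fun e ⟨_, hn _ b⁻¹.2 y hy⟩
    have h8 : l ⟨_, hn _ (b⁻¹ * a).2 y hy⟩ = l ⟨y, hy⟩ := by
      refine Eq.trans (congrArg l (Subtype.ext ?_)) (h7.trans (congrArg l (Subtype.ext ?_)))
      · simp [mul_assoc]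
      · simp [mul_assoc]
    have h9 := hl' (⟨_, hn _ (b⁻¹ * a).2 y hy⟩ * ⟨y, hy⟩⁻¹) u₀
    rwa [map_mul l, h8, ← map_mul, mul_inv_cancel, map_one, one_smul] at h9
  let S : U →ₗ[F] W := ∑ a : Subgroup.zpowers x, ρ a ∘ₗ ι
  have hS : ∀ u, S u = ∑ a : Subgroup.zpowers x, ρ a (ι u) := fun u => by simp [S]
  have hS1 : ∀ u, ρ x (S u) = S u := fun u => by
    rw [hS, map_sum]
    exact Fintype.sum_equiv (Equiv.mulLeft ⟨x, Subgroup.mem_zpowers x⟩) _ _ fun a => by
      rw [← End.mul_apply, ← map_mul]; rfl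
  have hS2 : ∀ u, S u = 0 → u = 0 := fun u hu => by
    refine h3 (Eq.trans ((forall_dual_apply_eq_zero_iff F _).1 fun φ => ?_) (map_zero ι).symm)
    have h6 := Fintype.linearIndependent_iff.1 ((linearIndependent_monoidHom Z F).comp χ hinj)
      (fun a => φ (ρ a (ι u))) (funext fun z => by
        have := congrArg (fun w => φ (ρ z w)) hu
        simp only [hS, map_sum, hχ, map_smul, map_zero, smul_eq_mul] at this
        simpa [mul_comm] using this) 1
    simpa using h6
  have h6 : ∀ f : End F U, ∃ c : F, f = c • 1 := fun f => by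
    have : ∀ u, ∃ c : F, u = c • u₀ := fun u =>
      (h1 _ _ (hS1 u₀) (hS1 u) (mt (hS2 _) hu₀)).imp fun c e =>
        sub_eq_zero.1 (hS2 _ (by rw [map_sub, map_smul, e, sub_self]))
    obtain ⟨c, hc⟩ := this (f u₀)
    refine ⟨c, LinearMap.ext fun u => ?_⟩
    obtain ⟨d, rfl⟩ := this u
    rw [map_smul, hc, LinearMap.smul_apply, End.one_apply, smul_comm]
  refine h5 (Subgroup.commutator_le.2 fun g _ k _ => ?_)
  obtain ⟨c, hc⟩ := h6 (σ g)
  have : σ g * σ k = σ k * σ g := by rw [hc, smul_mul_assoc, mul_smul_comm, one_mul, mul_one]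
  rw [MonoidHom.mem_ker, commutatorElement_def, map_mul, map_mul, map_mul, this, mul_assoc (σ k),
    ← map_mul, mul_inv_cancel, map_one, mul_one, ← map_mul, mul_inv_cancel, map_one]

end

end Cfsg.Agent.BG
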