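/-
Bender-Glauberman 2.5, 3.4, 3.5, 3.8 and 3.10.
-/
import Cfsg.Agent.Lib.BG.Rep
import Cfsg.Agent.Lib.FT.Wielandt

set_option autoImplicit false
set_option linter.unusedSectionVars false

namespace Cfsg.Agent.BG

open Subgroup Comp
open scoped commutatorElement

universe u v w

variable {G : Type u} [Group G] [Finite G] {p : ℕ}

section
variable {K Z L V R A M : Subgroup G} {x : G}

theorem commute_of_commutator_central {a g : G} (h : Commute ⁅g, a⁆ a)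
    (hc : (orderOf a).Coprime (orderOf ⁅g, a⁆)) : Commute g a := by
  have h1 : Commute (g * a * g⁻¹) a := by
    rw [show g * a * g⁻¹ = ⁅g, a⁆ * a by rw [commutatorElement_def]; group]
    exact h.mul_left (Commute.refl a)
  have h2 := commutator_pow_right_of_comm h1 (orderOf a)
  rw [pow_orderOf_eq_one, commutatorElement_one_right] at h2
  exact commutatorElement_eq_one_iff_commute.1 (orderOf_eq_one_iff.1
    (hc.symm.eq_one_of_dvd (orderOf_dvd_of_pow_eq_one h2.symm)))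

theorem Ct_le_C1 (h : x ∈ R) : Ct(R) ≤ C1(x) := centralizer_le_centralizer_singleton h

theorem C1_eq_Ct_of_prime (hr : (Nat.card R).Prime) (h : x ∈ R) (h1 : x ≠ 1) : C1(x) = Ct(R) := by
  haveI := Fact.mk hr
  rw [(el_one_iff.2 rfl : El _ 1 R).eq_zpowers h h1, centralizer_zpowers]

theorem fpf_of_prime (hr : (Nat.card R).Prime) (h : K ⊓ Ct(R) = ⊥) :
    ∀ a ∈ R, a ≠ 1 → K ⊓ C1(a) = ⊥ := fun a h1 h2 => by rwa [C1_eq_Ct_of_prime hr h1 h2]

theorem exists_eq_zpowers_of_prime (hr : (Nat.card R).Prime) :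
    ∃ x, orderOf x = Nat.card R ∧ R = zpowers x := by
  haveI := Fact.mk hr
  exact (el_one_iff.2 rfl : El _ 1 R).exists_zpowers

/-- B & G 2.5 for subgroups of an ambient group -/
theorem exists_dim_sub {F : Type w} [Field F] [IsAlgClosed F] {W : Type v} [AddCommGroup W]
    [Module F W] [FiniteDimensional F W] (hL : K ⊔ zpowers x = L) (hx : x ∈ Nm(K))
    (ρ : Representation F L W) (hc : (Nat.card L : F) ≠ 0) (hZK : Z ≤ K) (hZ : Z ≤ Ct(L))
    (hd : ⁅K, K⁆ ≤ Z) (h0 : ¬ ⁅K, K⁆.subgroupOf L ≤ ρ.ker)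
    (hnd : ∀ N : Subgroup G, L ≤ Nm(N) → ¬ ⁅K, K⁆ ≤ N → ∀ g ∈ K, g ∉ Z → ∃ h ∈ K, ⁅h, g⁆ ∉ N)
    (hf : ∀ a ∈ zpowers x, a ≠ 1 → K ⊓ C1(a) ≤ Z) (hcop : (orderOf x).Coprime (Nat.card Z)) :
    ∃ d a, d ^ 2 = Z.relIndex K ∧ (d = orderOf x * a + 1 ∨ d + 1 = orderOf x * (a + 1)) ∧
      ((∀ w, ρ ⟨x, hL ▸ mem_sup_right (mem_zpowers x)⟩ w = w → w = 0) → a = 0) := by
  have hK : K ≤ L := hL ▸ le_sup_left
  have hxL : zpowers x ≤ L := hL ▸ le_sup_right
  haveI : (K.subgroupOf L).Normal :=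
    normal_subgroupOf_of_le_normalizer (hL ▸ sup_le le_normalizer (zpowers_le_of_mem hx))
  have := exists_dim ρ (K := K.subgroupOf L) (Z := Z.subgroupOf L) (x := ⟨x, hxL (mem_zpowers x)⟩)
    (by rw [← subgroupOf_zpowers, ← subgroupOf_sup' hK hxL, hL, subgroupOf_self]) hc
    (fun z hz => mem_center_iff.2 fun g => Subtype.ext (hZ hz g g.2))
    (by rw [← subgroupOf_commutator hK hK]; exact comap_mono hd)
    (by rwa [← subgroupOf_commutator hK hK])
    (fun N hN h g h1 h2 => by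
      obtain ⟨k, h3, h4⟩ := hnd (N.map L.subtype) ((normal_iff_map_subtype N).1 hN) (fun e => h (by
        rw [← subgroupOf_commutator hK hK, ← subgroupOf_map_subtype_self N]
        exact comap_mono e)) g h1 h2
      exact ⟨⟨k, hK h3⟩, h3, fun e => h4 ⟨_, e, rfl⟩⟩)
    (fun a ha h1 g hg h2 => by
      rw [← subgroupOf_zpowers] at ha
      have h3 : ⁅(g : G), (a : G)⁆ ∈ Z := by rw [← commutatorElement_inv]; exact inv_mem h2
      refine hf a ha (fun e => h1 (Subtype.ext e)) ⟨hg, mem_C1.2 (commute_of_commutator_central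
        (hZ h3 a a.2).symm ((hcop.of_dvd_left (orderOf_dvd_of_mem_zpowers ha)).of_dvd_right
          (Z.orderOf_dvd_natCard h3))).symm⟩)
  rwa [relIndex_subgroupOf hK, ← orderOf_coe] at this

variable [hp : Fact p.Prime] {F : Type w} [Field F] [CharP F p]

/-- the kernel of an additive character -/
def dker (f : Transfer.dualMod F V) : Subgroup G where
  carrier := {g | ∃ h : g ∈ V, f.1 ⟨g, h⟩ = 0}
  one_mem' := ⟨one_mem _, Transfer.dual_one f⟩
  mul_mem' := fun ⟨a, ha⟩ ⟨b, hb⟩ => ⟨mul_mem a b,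
    (Transfer.dual_mul f ⟨_, a⟩ ⟨_, b⟩).trans (by rw [ha, hb, add_zero])⟩
  inv_mem' := fun ⟨a, ha⟩ => ⟨inv_mem a, (Transfer.dual_inv f ⟨_, a⟩).trans (by rw [ha, neg_zero])⟩

theorem commutator_le_dker (hA : A ≤ Nm(V)) {f : Transfer.dualMod F V}
    (h : ∀ a (ha : a ∈ A), Transfer.dualRep F V ⟨a, hA ha⟩ f = f) : ⁅V, A⁆ ≤ dker f :=
  commutator_le.2 fun v hv a ha => by
    have := Transfer.dualRep_sub_apply ⟨a⁻¹, hA (inv_mem ha)⟩ f ⟨v⁻¹, inv_mem hv⟩
    rw [h _ (inv_mem ha), sub_self] at this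
    exact ⟨commutator_le_left_of_le_normalizer hA (commutator_mem_commutator hv ha),
      Eq.trans (congrArg f.1 (Subtype.ext (by simp))) this.symm⟩

theorem eq_zero_of_le_dker {f : Transfer.dualMod F V} (h : V ≤ dker f) : f = 0 :=
  Subtype.ext (funext fun v => (h v.2).2)

theorem commutator_zpowers_le_dker (hx : x ∈ Nm(V)) {f : Transfer.dualMod F V}
    (h : Transfer.dualRep F V ⟨x, hx⟩ f = f) : ⁅V, zpowers x⁆ ≤ dker f :=
  commutator_le_dker (zpowers_le_of_mem hx) fun a ha => by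
    obtain ⟨n, rfl⟩ := mem_powers_iff_mem_zpowers.2 ha
    have : Transfer.dualRep F V (⟨x, hx⟩ ^ n) f = f := by
      rw [map_pow, Module.End.pow_apply]; exact Function.iterate_fixed h n
    exact this

theorem le_Ct_of_le_ker_dualRep (hV : IsPGroup p V) (hL : L ≤ Nm(V)) (hA : A ≤ L)
    (hc : (Nat.card A).Coprime p)
    (h : A.subgroupOf L ≤ ((Transfer.dualRep F V).comp (inclusion hL)).ker) : A ≤ Ct(V) :=
  fun a ha => Transfer.mem_centralizer_of_dualRep (K := F) hV ⟨a, hL (hA ha)⟩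
    (hc.of_dvd_left (A.orderOf_dvd_natCard ha)) (by
      have : Transfer.dualRep F V ⟨a, hL (hA ha)⟩ = 1 := h (show ⟨a, hA ha⟩ ∈ A.subgroupOf L from ha)
      rw [this]; exact ⟨1, by rw [pow_one]; exact sub_self (1 : Module.End F (Transfer.dualMod F V))⟩)

omit [CharP F p] in
theorem cast_ne_zero_of_coprime {n : ℕ} (h : n.Coprime p) : (n : AlgebraicClosure (ZMod p)) ≠ 0 :=
  fun e => coprime_iff_not_dvd.1 h ((CharP.cast_eq_zero_iff _ p n).1 e)

omit [CharP F p] in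
theorem exists_dim_int (hV : IsPGroup p V) (hx : x ∈ Nm(K)) (hL : K ⊔ zpowers x ≤ Nm(V))
    (hc : (Nat.card (K ⊔ zpowers x : Subgroup G)).Coprime p) (hZK : Z ≤ K)
    (hZ : Z ≤ Ct(K ⊔ zpowers x)) (hd : ⁅K, K⁆ ≤ Z) (h0 : ¬ ⁅K, K⁆ ≤ Ct(V))
    (hnd : ∀ N : Subgroup G, K ⊔ zpowers x ≤ Nm(N) → ¬ ⁅K, K⁆ ≤ N → ∀ g ∈ K, g ∉ Z →
      ∃ h ∈ K, ⁅h, g⁆ ∉ N)
    (hf : ∀ a ∈ zpowers x, a ≠ 1 → K ⊓ C1(a) ≤ Z) (hcop : (orderOf x).Coprime (Nat.card Z))
    (h1 : V ⊓ C1(x) = ⊥) : ∃ d, d ^ 2 = Z.relIndex K ∧ (d = 1 ∨ d + 1 = orderOf x) := by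
  have h2 : ⁅K, K⁆ ≤ K ⊔ zpowers x := (der_le K).trans le_sup_left
  obtain ⟨d, a, h3, h4, h5⟩ := exists_dim_sub rfl hx
    ((Transfer.dualRep (AlgebraicClosure (ZMod p)) V).comp (inclusion hL))
    (cast_ne_zero_of_coprime hc) hZK hZ hd
    (mt (le_Ct_of_le_ker_dualRep hV hL h2 (hc.of_dvd_left (card_dvd_of_le h2))) h0) hnd hf hcop
  obtain rfl := h5 fun f hf => eq_zero_of_le_dker (le_trans (le_of_eq (commutator_eq_of_inf_Ct_eq_bot
    (le_sup_right.trans hL) (coprime_of_isPGroup hV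
      (hc.of_dvd_left (card_dvd_of_le le_sup_right))).symm (Or.inl (Solv.isSolvable_zpowers x))
    (by rwa [centralizer_zpowers])).symm) (commutator_zpowers_le_dker _ hf))
  exact ⟨d, h3, by simpa using h4⟩

omit [CharP F p] in
theorem der_le_Ct_of_center (hV : IsPGroup p V) (hx : x ∈ Nm(Z)) (hL : K ⊔ zpowers x ≤ Nm(V))
    (hc : (Nat.card (K ⊔ zpowers x : Subgroup G)).Coprime p) (hZK : Z ≤ K) (hZ : Z ≤ Ct(K))
    (hf : ∀ a ∈ zpowers x, a ≠ 1 → Z ⊓ C1(a) = ⊥) (h0 : V ⊓ Ct(Z) = ⊥)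
    (h1 : IsCyclic (V ⊓ C1(x) : Subgroup G)) : ⁅K, K⁆ ≤ Ct(V) := by
  have hK : K ≤ K ⊔ zpowers x := le_sup_left
  have hxL : zpowers x ≤ K ⊔ zpowers x := le_sup_right
  have h2 := (der_le K).trans hK
  have hcop : ∀ A, A ≤ K ⊔ zpowers x → (Nat.card A).Coprime (Nat.card V) := fun A h =>
    (coprime_of_isPGroup hV (hc.of_dvd_left (card_dvd_of_le h))).symm
  refine le_Ct_of_le_ker_dualRep (F := AlgebraicClosure (ZMod p)) hV hL h2
    (hc.of_dvd_left (card_dvd_of_le h2)) ?_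
  rw [subgroupOf_commutator hK hK]
  refine der_le_ker _ (Z := Z.subgroupOf _) (x := ⟨x, hxL (mem_zpowers x)⟩)
    (cast_ne_zero_of_coprime hc) (comap_mono hZK)
    (fun z hz g hg => Subtype.ext (hZ hz g hg).symm) (fun a ha z hz => ?_)
    (fun a ha h3 z hz => ?_) (fun f hf => eq_zero_of_le_dker ?_) fun f g h3 h4 h5 => ?_
  · rw [← subgroupOf_zpowers] at ha
    exact conj_mem_of_mem_normalizer' (K := Z) (zpowers_le_of_mem hx ha) hz
  · rw [← subgroupOf_zpowers] at ha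
    have ha' : ((a : G))⁻¹ ∈ zpowers x := inv_mem ha
    obtain ⟨y, h4, h5⟩ := Solv.exists_conj_eq_mul_of_fpf (zpowers_le_of_mem hx ha')
      (hf _ ha' fun e => h3 (Subtype.ext (inv_eq_one.1 e))) (inv_mem hz)
    have h6 : (z : G) * (y * (a : G)⁻¹ * y⁻¹) = (a : G)⁻¹ := by rw [h5]; simp
    have h7 : y * (z : G) = z * y := hZ hz y (hZK h4)
    refine ⟨⟨y, hK (hZK h4)⟩, h4, Subtype.ext ?_⟩
    change (z : G) = (a : G)⁻¹ * y * a * y⁻¹
    rw [← h6]; group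
  · exact (commutator_eq_of_inf_Ct_eq_bot (hZK.trans (hK.trans hL)) (hcop _ (hZK.trans hK))
      (Or.inr (isSolvable_of_isPGroup hV)) h0).ge.trans
      (commutator_le_dker _ fun a ha => hf ⟨a, hK (hZK ha)⟩ ha)
  · obtain ⟨c, ⟨hcV, -⟩, hc'⟩ := Solv.isCyclic_iff_exists_le_zpowers.1 h1
    have h6 : ∀ f : Transfer.dualMod (AlgebraicClosure (ZMod p)) V,
        Transfer.dualRep _ V ⟨x, hL (hxL (mem_zpowers x))⟩ f = f → f.1 ⟨c, hcV⟩ = 0 → f = 0 :=
      fun f a b => eq_zero_of_le_dker ((commutator_sup_Ct (hxL.trans hL) (hcop _ hxL)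
        (Or.inl (Solv.isSolvable_zpowers x))).ge.trans (sup_le (commutator_zpowers_le_dker _ a)
          (by rw [centralizer_zpowers]; exact hc'.trans (zpowers_le_of_mem ⟨hcV, b⟩))))
    have h7 : f.1 ⟨c, hcV⟩ ≠ 0 := mt (h6 f h3) h5
    refine ⟨g.1 ⟨c, hcV⟩ / f.1 ⟨c, hcV⟩, sub_eq_zero.1 (h6 _ ?_ ?_)⟩
    · rw [map_sub, map_smul]; exact congrArg₂ (· - ·) h4 (congrArg _ h3)
    · change g.1 _ - _ * f.1 _ = 0
      rw [div_mul_cancel₀ _ h7, sub_self]

end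

/-! ### B & G 3.4 -/

section
variable {K V R A M X H U : Subgroup G}

theorem le_normalizer_actKer {N : Subgroup G} (h1 : A ≤ Nm(N)) (h2 : A ≤ Nm(K)) :
    A ≤ Nm(actKer N K) := le_normalizer_of_forall fun g hg x hx =>
  ⟨conj_mem_of_le_normalizer (le_normalizer_normalizer h1) hg hx.1, fun c hc => by
    have := conj_mem_of_le_normalizer h1 hg (hx.2 _ (conj_mem_of_mem_normalizer' (h2 hg) hc))
    convert this using 1
    simp only [commutatorElement_def]; group⟩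

theorem isSolvable_of_prime (hr : (Nat.card R).Prime) : Group.IsSolvable R :=
  haveI := Fact.mk hr
  isSolvable_of_isPGroup (p := Nat.card R) (IsPGroup.of_card (pow_one _).symm)

theorem exists_min_not_le_Ct (hX : X ≤ Nm(K)) (h : ¬ A ≤ Ct(K)) :
    ∃ L, L ≤ K ∧ X ≤ Nm(L) ∧ ¬ A ≤ Ct(L) ∧ ∀ Y, Y < L → X ≤ Nm(Y) → A ≤ Ct(Y) := by
  obtain ⟨L, ⟨a, b, c⟩, d⟩ := (wellFounded_lt (α := Subgroup G)).has_min
    {L | L ≤ K ∧ X ≤ Nm(L) ∧ ¬ A ≤ Ct(L)} ⟨K, le_rfl, hX, h⟩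
  exact ⟨L, a, b, c, fun Y e f => by_contra fun g => d Y ⟨e.le.trans a, f, g⟩ e⟩

theorem min_not_le_Ct (hs : Group.IsSolvable K) (hX : X ≤ Nm(K)) (hA : A ≤ X) (hn : X ≤ Nm(A))
    (hc : (Nat.card A).Coprime (Nat.card K)) (h : ¬ A ≤ Ct(K))
    (hm : ∀ Y, Y < K → X ≤ Nm(Y) → A ≤ Ct(Y)) :
    ⁅K, A⁆ = K ∧ ⁅K, K⁆ ≤ Ct(A) ∧ K ⊓ Ct(A) ≤ Ct(K) := by
  have h1 : ⁅K, A⁆ = K := by
    by_contra e
    have := hm _ (lt_of_le_of_ne (commutator_le_left_of_le_normalizer (hA.trans hX)) e)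
      (le_normalizer_commutator hX hn)
    rw [le_Ct_comm, ← commutator_eq_bot_iff_le, commutator_commutator_eq (hA.trans hX) hc (Or.inr hs),
      commutator_eq_bot_iff_le, le_Ct_comm] at this
    exact h this
  have h2 : ⁅K, K⁆ ≤ Ct(A) := le_Ct_comm.1 (hm _ (lt_of_le_of_ne (der_le K) fun e =>
    h (by rw [solvable_perfect_eq_bot e hs]; exact le_Ct_comm.1 bot_le))
    (le_normalizer_commutator hX hX))
  refine ⟨h1, h2, ?_⟩
  have h3 := three_subgroups_le (A := K) (B := K ⊓ Ct(A)) (C := A) (le_Nm_bot _) (le_Nm_bot _)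
    (le_Nm_bot _) (commutator_eq_bot_iff_le.2 ((commutator_mono le_rfl inf_le_left).trans h2)).le
    (by rw [commutator_eq_bot_iff_le.2 inf_le_right, commutator_bot_left])
  rwa [commutator_comm A, h1, le_bot_iff, commutator_eq_bot_iff_le, le_Ct_comm] at h3

theorem coprime_card_sup {n : ℕ} (h : A ≤ Nm(K)) (h1 : (Nat.card K).Coprime n)
    (h2 : (Nat.card A).Coprime n) : (Nat.card (K ⊔ A : Subgroup G)).Coprime n := by
  rw [sup_comm]; exact (Nat.Coprime.mul_left h2 h1).of_dvd_left (card_sup_dvd h)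

theorem odd_card_sup (h : A ≤ Nm(K)) (h1 : Odd (Nat.card K)) (h2 : Odd (Nat.card A)) :
    Odd (Nat.card (K ⊔ A : Subgroup G)) :=
  Nat.coprime_two_right.1 (coprime_card_sup h h1.coprime_two_right h2.coprime_two_right)

/-- the faithful case of B & G 3.4, with the exceptional case made explicit -/
theorem exists_fermat [hp : Fact p.Prime] (hV : IsPGroup p V) (hs : Group.IsSolvable K)
    (hn : R ≤ Nm(K)) (hK : K ≤ Nm(V)) (hR : R ≤ Nm(V)) (hr : (Nat.card R).Prime)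
    (hc : (Nat.card R).Coprime (Nat.card K)) (hKp : (Nat.card K).Coprime p)
    (hRp : (Nat.card R).Coprime p) (hf : K ⊓ Ct(V) = ⊥) (h0 : V ⊓ Ct(R) = ⊥) (h : ¬ R ≤ Ct(K)) :
    ¬ IsMulCommutative K ∧ ∃ d, 1 < d ∧ d + 1 = Nat.card R ∧ d ∣ Nat.card K := by
  obtain ⟨L, h1, h2, h3, h4⟩ := exists_min_not_le_Ct hn h
  have hc' := hc.of_dvd_right (card_dvd_of_le h1)
  have hLp := hKp.of_dvd_left (card_dvd_of_le h1)
  obtain ⟨h5, h6, h7⟩ := min_not_le_Ct (isSolvable_of_le h1 hs) h2 le_rfl le_normalizer hc' h3 h4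
  have hL : ¬ IsMulCommutative L := fun e => by
    have h8 := commutator_inf_Ct_of_comm e h2 hc'
    rw [h5] at h8
    have := Solv.frobenius_nilpotent_le_centralizer h2 (fpf_of_prime hr h8) hV.isNilpotent
      (h1.trans hK) hR (coprime_of_isPGroup hV hLp).symm (coprime_of_isPGroup hV hRp).symm h0
    rw [eq_bot_iff.2 (hf ▸ le_inf h1 (le_Ct_comm.1 this) : L ≤ ⊥)] at h3
    exact h3 (le_Ct_comm.1 bot_le)
  refine ⟨fun e => hL (comm_iff_le.2 (h1.trans ((comm_iff_le.1 e).trans (centralizer_mono h1)))), ?_⟩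
  obtain ⟨x, hx, rfl⟩ := exists_eq_zpowers_of_prime hr
  obtain ⟨d, h8, h9⟩ := exists_dim_int (Z := L ⊓ Ct(zpowers x)) hV (h2 (mem_zpowers x))
    (sup_le (h1.trans hK) hR) (coprime_card_sup h2 hLp hRp) inf_le_left
    (by rw [centralizer_sup]; exact le_inf h7 inf_le_right) (le_inf (der_le L) h6)
    (fun e => hL (comm_of_commutator_eq_bot (eq_bot_iff.2 (hf ▸ le_inf ((der_le L).trans h1) e))))
    (fun N a b g c d => by
      by_contra! e
      have h8 : L ⊓ actKer N L < L := lt_of_le_of_ne inf_le_left fun e =>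
        b (le_actKer_iff.1 (inf_eq_left.1 e)).2
      refine d ⟨c, le_Ct_comm.1 (h4 _ h8 (le_normalizer_inf h2 (le_normalizer_actKer
        (le_sup_right.trans a) h2))) ⟨c, a (mem_sup_left c), fun k hk => ?_⟩⟩
      rw [← commutatorElement_inv]; exact inv_mem (e k hk))
    (fun a b c => by rw [C1_eq_Ct_of_prime hr b c])
    (hx ▸ hc'.of_dvd_right (card_dvd_of_le inf_le_left)) (by rwa [← centralizer_zpowers])
  rw [inf_relIndex_left] at h8
  have h10 : d ≠ 1 := by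
    rintro rfl
    exact h3 (le_Ct_comm.1 (relIndex_eq_one.1 (by rw [← h8, one_pow])))
  have h11 : d ≠ 0 := by
    rintro rfl
    exact relIndex_ne_zero' _ _ h8.symm
  exact ⟨d, by omega, hx ▸ h9.resolve_left h10, (dvd_pow_self d two_ne_zero).trans
    (h8 ▸ (relIndex_dvd_card _ _).trans (card_dvd_of_le h1))⟩

theorem img_inf_Ct_eq_bot {N L : Subgroup G} {hq : L ≤ Nm(N)} (hK : K ≤ L) (hV : V ≤ L)
    (hn : K ≤ Nm(V)) (h1 : V ⊓ N = ⊥) (h2 : K ⊓ Ct(V) ≤ N) : img hq K ⊓ Ct(img hq V) = ⊥ := by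
  rw [eq_bot_iff]
  rintro _ ⟨⟨k, hk, rfl⟩, h⟩
  refine (qmap_eq_one hq).2 (h2 ⟨hk, ?_⟩)
  have h3 : zpowers (k : G) ≤ K := zpowers_le_of_mem hk
  have h4 := zpowers_le_of_mem h
  rw [← img_zpowers, img_le_centralizer_iff (h3.trans hK) hV] at h4
  exact commutator_eq_bot_iff_le.1 (eq_bot_iff.2
    (h1 ▸ le_inf (commutator_le_right_of_le_normalizer (h3.trans hn)) h4)) (mem_zpowers _)

theorem commutator_le_Ct_of_isPGroup [hp : Fact p.Prime] (hV : IsPGroup p V)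
    (hs : Group.IsSolvable K) (hn : R ≤ Nm(K)) (hK : K ≤ Nm(V)) (hR : R ≤ Nm(V))
    (hr : (Nat.card R).Prime) (hc : (Nat.card R).Coprime (Nat.card K))
    (hKp : (Nat.card K).Coprime p) (hRp : (Nat.card R).Coprime p) (hoK : Odd (Nat.card K))
    (hoR : Odd (Nat.card R)) (h0 : V ⊓ Ct(R) = ⊥) : ⁅K, R⁆ ≤ Ct(V) := by
  have hq : K ⊔ R ⊔ V ≤ Nm(K ⊓ Ct(V)) := sup_le (le_normalizer_inf (sup_le le_normalizer hn)
    (le_normalizer_centralizer (sup_le hK hR))) (le_Nm_of_le_Ct' inf_le_right)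
  have h1 : K ≤ K ⊔ R ⊔ V := le_sup_left.trans le_sup_left
  have h2 : R ≤ K ⊔ R ⊔ V := le_sup_right.trans le_sup_left
  have h3 : V ⊓ (K ⊓ Ct(V)) = ⊥ :=
    inf_eq_bot_of_isPGroup hV (hKp.of_dvd_left (card_dvd_of_le inf_le_left))
  have h4 : Nat.card (img hq R) = Nat.card R := card_img_of_disjoint h2
    (disjoint_of_coprime_natCard (hc.of_dvd_right (card_dvd_of_le inf_le_left))).eq_bot
  refine le_trans ?_ (inf_le_right (a := K))
  rw [commutator_comm, ← img_le_centralizer_iff (h := hq) h2 h1]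
  by_contra h
  obtain ⟨-, d, -, h5, h6⟩ := exists_fermat (isPGroup_img hV) (isSolvable_img hs)
    (img_le_normalizer hn) (img_le_normalizer hK) (img_le_normalizer hR) (h4 ▸ hr) (coprime_img hc)
    (coprime_img_left hKp) (coprime_img_left hRp) (img_inf_Ct_eq_bot h1 le_sup_right hK h3 le_rfl)
    (by rw [← img_inf_centralizer le_sup_right h2 hR (by rw [h3, card_bot]; exact Nat.coprime_one_right _)
      (Or.inr (by rw [h3]; infer_instance)), h0, img_bot]) h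
  rw [h4] at h5
  exact Nat.not_even_iff_odd.2 hoR (h5 ▸ (Odd.of_dvd_nat (odd_img hoK) h6).add_one)

theorem le_of_Op_le (hM : Group.IsNilpotent M)
    (h : ∀ q : ℕ, q.Prime → q ∣ Nat.card M → Op q M ≤ X) : M ≤ X := by
  rw [← Fit_eq_self hM]
  refine Fit_le_of_Op_le fun q hq => ?_
  haveI := Fact.mk hq
  by_cases hd : q ∣ Nat.card M
  · exact h q hq hd
  · rw [eq_bot_of_isPGroup_of_coprime (isPGroup_Op q M)
      ((coprime_iff_not_dvd.2 hd).of_dvd_left (card_dvd_of_le (Op_le q M)))]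
    exact bot_le

theorem ne_bot_of_prime (hr : (Nat.card R).Prime) : R ≠ ⊥ := ne_bot_of_dvd hr dvd_rfl

/-- B & G 3.4 -/
theorem commutator_le_Ct_of_fpf (hs : Group.IsSolvable K) (hn : R ≤ Nm(K)) (hK : K ≤ Nm(M))
    (hR : R ≤ Nm(M)) (hr : (Nat.card R).Prime) (hc : (Nat.card R).Coprime (Nat.card K))
    (hKM : (Nat.card K).Coprime (Nat.card M)) (hoK : Odd (Nat.card K)) (hoR : Odd (Nat.card R))
    (h0 : M ⊓ Ct(R) = ⊥) : ⁅K, R⁆ ≤ Ct(M) := by
  have hf := fpf_of_prime hr h0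
  refine le_Ct_comm.1 (le_of_Op_le (Solv.thompson_fpf hR (ne_bot_of_prime hr) hf) fun q hq hd => ?_)
  haveI := Fact.mk hq
  exact le_Ct_comm.1 (commutator_le_Ct_of_isPGroup (isPGroup_Op q M) hs hn (le_normalizer_Op hK)
    (le_normalizer_Op hR) hr hc (hKM.of_dvd_right hd) ((Solv.coprime_of_fpf hR hf).of_dvd_right hd)
    hoK hoR (eq_bot_iff.2 (h0 ▸ inf_le_inf_right _ (Op_le q M))))

/-! ### B & G 3.5 -/

theorem Chief.le_normalizer (h : Chief X U V) (hU : Group.IsNilpotent U) : U ≤ Nm(V) := by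
  have h1 := lt_inf_normalizer_of_isNilpotent hU h.lt
  exact inf_eq_left.1 ((h.min _ (le_normalizer_inf h.nU (le_normalizer_normalizer h.nV)) h1.le
    inf_le_left).resolve_left h1.ne')

theorem der_le_Ct_aux (n : ℕ) : ∀ {G : Type u} [Group G] [Finite G] {K R M : Subgroup G},
    Nat.card K + Nat.card M ≤ n → Group.IsNilpotent M → R ≤ Nm(K) → K ≤ Nm(M) → R ≤ Nm(M) →
    (Nat.card R).Prime → K ⊓ Ct(R) = ⊥ → (Nat.card K).Coprime (Nat.card M) →
    (Nat.card R).Coprime (Nat.card M) → IsCyclic (M ⊓ Ct(R) : Subgroup G) → ⁅K, K⁆ ≤ Ct(M) := by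
  induction n with
  | zero => intro G _ _ K R M h; have := card_ne_zero K; omega
  | succ n ih =>
  intro G _ _ K R M hle hM hn hK hR hr h0 hKM hRM hc
  have hf := fpf_of_prime hr h0
  have hRK := Solv.coprime_of_fpf hn hf
  have hsR := isSolvable_of_prime hr
  have h1 : K ≤ K ⊔ R ⊔ M := le_sup_left.trans le_sup_left
  have h2 : R ≤ K ⊔ R ⊔ M := le_sup_right.trans le_sup_left
  have quo : ∀ N, K ⊔ R ⊔ M ≤ Nm(N) → N ≠ ⊥ → N ≤ K ∨ N ≤ M → ⁅⁅K, K⁆, M⁆ ≤ N := by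
    intro N hq hN hN'
    have h3 : Nat.card (img hq R) = Nat.card R := card_img_of_disjoint h2
      (disjoint_of_coprime_natCard (hN'.elim (fun e => hRK.of_dvd_right (card_dvd_of_le e))
        fun e => hRM.of_dvd_right (card_dvd_of_le e))).eq_bot
    rw [← img_le_centralizer_iff (h := hq) ((der_le K).trans h1) le_sup_right, img_commutator h1 h1]
    refine ih ?_ (isNilpotent_img hM) (img_le_normalizer hn) (img_le_normalizer hK)
      (img_le_normalizer hR) (h3 ▸ hr) ?_ (coprime_img hKM) (coprime_img hRM) ?_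
    · have a := Nat.le_of_dvd Nat.card_pos (card_img_dvd (h := hq) K)
      have b := Nat.le_of_dvd Nat.card_pos (card_img_dvd (h := hq) M)
      have c : ∀ Y, Y ≤ K ⊔ R ⊔ M → N ≤ Y → Nat.card (img hq Y) < Nat.card Y := fun Y d e => by
        rw [← card_img_mul (h := hq) d, inf_eq_right.2 e]
        exact lt_mul_of_one_lt_right Nat.card_pos (one_lt_card_iff_ne_bot N |>.2 hN)
      rcases hN' with e | e
      · have := c K h1 e; omega
      · have := c M le_sup_right e; omega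
    · rw [← img_inf_centralizer h1 h2 hn (hRK.of_dvd_right (card_dvd_of_le inf_le_left))
        (Or.inl hsR), h0, img_bot]
    · rw [← img_inf_centralizer le_sup_right h2 hR (hRM.of_dvd_right (card_dvd_of_le inf_le_left))
        (Or.inl hsR)]
      exact isCyclic_img hc
  by_cases hM0 : M = ⊥
  · rw [hM0]; exact le_Ct_comm.1 bot_le
  have hX : K ⊔ R ≤ Nm(M) := sup_le hK hR
  obtain ⟨W, -, hW⟩ := exists_chief_below hX (le_Nm_bot _) (bot_lt_iff_ne_bot.2 hM0)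
  by_cases hW0 : W = ⊥
  swap
  · have h3 := card_dvd_of_le hW.lt.le
    refine le_Ct_of_commutator_le ((hKM.of_dvd_left (card_dvd_of_le (der_le K))).of_dvd_right h3)
      (commutator_comm _ M ▸ quo W (sup_le hW.nV (hW.le_normalizer hM)) hW0 (Or.inr hW.lt.le))
      (ih ?_ (isNilpotent_of_le hW.lt.le hM) hn (le_sup_left.trans hW.nV) (le_sup_right.trans hW.nV)
        hr h0 (hKM.of_dvd_right h3) (hRM.of_dvd_right h3)
        (isCyclic_of_le (inf_le_inf_right _ hW.lt.le) hc))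
    have := card_lt_of_lt hW.lt; omega
  subst hW0
  by_cases hN : K ⊓ Ct(M) = ⊥
  swap
  · have := quo _ (sup_le (le_normalizer_inf (sup_le le_normalizer hn) (le_normalizer_centralizer hX))
      (le_Nm_of_le_Ct' inf_le_right)) hN (Or.inl inf_le_left)
    rw [← commutator_eq_bot_iff_le, eq_bot_iff, ← (disjoint_of_coprime_natCard hKM).eq_bot]
    exact le_inf (this.trans inf_le_left)
      (commutator_le_right_of_le_normalizer ((der_le K).trans hK))
  by_cases hK0 : K = ⊥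
  · rw [hK0, commutator_bot_left]; exact bot_le
  obtain ⟨q, hq, hE⟩ := hW.elem (by haveI := hM; infer_instance)
  haveI := Fact.mk hq
  have hd : q ∣ Nat.card M := dvd_card_of_isPGroup (elem_isP hE) hM0
  have hZ : K ⊔ R ≤ Nm(K ⊓ Ct(K)) := le_normalizer_inf (sup_le le_normalizer hn)
    (le_normalizer_centralizer (sup_le le_normalizer hn))
  obtain ⟨x, hx, rfl⟩ := exists_eq_zpowers_of_prime hr
  refine der_le_Ct_of_center (elem_isP hE) (hZ (mem_sup_right (mem_zpowers x))) hX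
    (coprime_card_sup hn (hKM.of_dvd_right hd) (hRM.of_dvd_right hd)) inf_le_left inf_le_right
    (Solv.fpf_mono inf_le_left le_rfl hf) ?_ (by rwa [← centralizer_zpowers])
  refine le_bot_iff.1 ((hW.sup_inf (le_normalizer_centralizer hZ)).resolve_right fun e => ?_)
  rw [bot_sup_eq, inf_eq_left] at e
  exact inf_centralizer_ne_bot_of_isNilpotent (Solv.thompson_fpf hn (ne_bot_of_prime hr) hf) le_rfl
    le_normalizer hK0 (eq_bot_iff.2 (hN ▸ le_inf inf_le_left (le_Ct_comm.1 e)))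

/-- B & G 3.5 -/
theorem der_le_Ct_of_isCyclic (hM : Group.IsSolvable M) (hn : R ≤ Nm(K)) (hK : K ≤ Nm(M))
    (hR : R ≤ Nm(M)) (hr : (Nat.card R).Prime) (h0 : K ⊓ Ct(R) = ⊥)
    (hKM : (Nat.card K).Coprime (Nat.card M)) (hRM : (Nat.card R).Coprime (Nat.card M))
    (hc : IsCyclic (M ⊓ Ct(R) : Subgroup G)) : ⁅K, K⁆ ≤ Ct(M) := by
  have h1 := card_dvd_of_le (Fit_le M)
  exact le_Ct_of_le_Ct_Fit hM ((der_le K).trans hK) (hKM.of_dvd_left (card_dvd_of_le (der_le K)))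
    (der_le_Ct_aux _ le_rfl (isNilpotent_Fit M) hn (le_normalizer_Fit hK) (le_normalizer_Fit hR) hr
      h0 (hKM.of_dvd_right h1) (hRM.of_dvd_right h1)
      (isCyclic_of_le (inf_le_inf_right _ (Fit_le M)) hc))

/-! ### B & G 3.8 -/

theorem Chief.commutator_le_Ct_of_fpf [hp : Fact p.Prime] (h : Chief ⊤ U ⊥) (hU : IsPGroup p U)
    [hK : K.Normal] (hs : Group.IsSolvable K) (hr : (Nat.card R).Prime)
    (hc : (Nat.card R).Coprime (Nat.card K)) (hoK : Odd (Nat.card K)) (hoR : Odd (Nat.card R))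
    (h0 : U ⊓ Ct(R) = ⊥) : ⁅K, R⁆ ≤ Ct(U) := by
  have hKn : ⊤ ≤ Nm(K) := normal_iff_top_le_normalizer.1 hK
  have hq : ⊤ ≤ Nm(Ct(U)) := le_normalizer_centralizer h.nU
  obtain ⟨H, hH, hRH⟩ := exists_invariant_hallIn (le_top.trans hKn) hc hs {p}ᶜ
  have h1 := BG.commutator_le_Ct_of_fpf (isSolvable_of_le hH.le hs) hRH (le_top.trans h.nU)
    (le_top.trans h.nU) hr (hc.of_dvd_right (card_dvd_of_le hH.le))
    (coprime_of_isPGroup hU (isPi_compl_singleton.1 hH.isPi)).symm (odd_of_le hH.le hoK) hoR h0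
  rw [commutator_comm, ← img_le_centralizer_iff (h := hq) le_top le_top] at h1 ⊢
  refine le_Ct_of_le_Ct_Fit (isSolvable_img hs) (img_le_normalizer (le_top.trans hKn))
    (coprime_img hc) (h1.trans (centralizer_mono ?_))
  have h2 : Op p (BG.img hq K) = ⊥ := by
    haveI : (Op p (BG.img hq K)).Normal := normal_iff_top_le_normalizer.2 (le_normalizer_Op
      (normal_iff_top_le_normalizer.1 (img_normal hKn)))
    rw [← img_pre (Op p (BG.img hq K)), img_eq_bot_iff le_top]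
    refine h.le_Ct_of_res hU le_top (top_le_normalizer_pre _) ?_
    rw [← img_eq_bot_iff (h := hq) le_top, img_Res le_top, img_pre, Res_eq_bot_iff]
    exact isPGroup_Op p _
  refine (Fit_le_Op_sup_Opp (p := p) _).trans ?_
  rw [h2, bot_sup_eq, ← Opi_compl_singleton]
  exact (hH.img le_top).Opi_le

theorem commutator_le_Fit_of_prime (hs : Group.IsSolvable K) (hn : R ≤ Nm(K))
    (hr : (Nat.card R).Prime) (hc : (Nat.card R).Coprime (Nat.card K)) (hoK : Odd (Nat.card K))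
    (hoR : Odd (Nat.card R)) (h0 : Fit K ⊓ Ct(R) = ⊥) : ⁅K, R⁆ ≤ Fit K := by
  have hX : K ⊔ R ≤ Nm(K) := sup_le le_normalizer hn
  have h1 : ⁅K, R⁆ ≤ K := commutator_le_left_of_le_normalizer hn
  refine le_Fit_of_chief hs le_sup_left hX h1 (sup_le_normalizer_commutator K R) fun U V c d => ?_
  have hUK := d.trans (Fit_le K)
  have hU : U ≤ K ⊔ R := hUK.trans le_sup_left
  obtain ⟨q, hq, hi⟩ := c.exists_piN (hU.trans c.nV) (isSolvable_of_le hUK hs)
  haveI := Fact.mk hq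
  haveI := img_normal (h := c.nV) hX
  have h3 : Nat.card (img c.nV R) = Nat.card R := card_img_of_disjoint le_sup_right
    (disjoint_of_coprime_natCard (hc.of_dvd_right (card_dvd_of_le (c.lt.le.trans hUK)))).eq_bot
  rw [← img_le_centralizer_iff (h := c.nV) hU (h1.trans le_sup_left), le_Ct_comm,
    img_commutator le_sup_left le_sup_right]
  refine (c.img_bot hU).commutator_le_Ct_of_fpf (c.isPGroup_img hU hi) (isSolvable_img hs) (h3 ▸ hr)
    (coprime_img hc) (odd_img hoK) (odd_img hoR) ?_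
  rw [← img_inf_centralizer hU le_sup_right (le_sup_right.trans c.nU)
    (hc.of_dvd_right (card_dvd_of_le (inf_le_left.trans hUK))) (Or.inl (isSolvable_of_prime hr)),
    eq_bot_iff.2 (h0 ▸ inf_le_inf_right _ d : U ⊓ Ct(R) ≤ ⊥), img_bot]

theorem exists_zpowers_prime (h : R ≠ ⊥) : ∃ x ∈ R, x ≠ 1 ∧ (Nat.card (zpowers x)).Prime := by
  obtain ⟨q, hq, Y, a, b⟩ := exists_el_one_of_ne_bot h
  haveI := Fact.mk hq
  obtain ⟨x, c, rfl⟩ := b.exists_zpowers
  exact ⟨x, a (mem_zpowers x), fun e => b.ne_bot (zpowers_eq_bot.2 e), b.card_prime⟩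

/-- B & G 3.8 -/
theorem commutator_le_Fit_of_semiprime (hs : Group.IsSolvable K) (hn : R ≤ Nm(K))
    (hc : (Nat.card R).Coprime (Nat.card K)) (hoK : Odd (Nat.card K)) (hoR : Odd (Nat.card R))
    (hp : ∀ x ∈ R, x ≠ 1 → K ⊓ C1(x) = K ⊓ Ct(R)) (h0 : Fit K ⊓ Ct(R) = ⊥) : ⁅K, R⁆ ≤ Fit K := by
  by_cases hR : R = ⊥
  · rw [hR, commutator_bot_right]; exact bot_le
  obtain ⟨x, h1, h2, h3⟩ := exists_zpowers_prime hR
  have h4 := zpowers_le_of_mem h1
  have hc' := hc.of_dvd_left (card_dvd_of_le h4)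
  have h5 : K ⊓ Ct(zpowers x) = K ⊓ Ct(R) := by rw [centralizer_zpowers, hp x h1 h2]
  have h6 := commutator_le_Fit_of_prime hs (h4.trans hn) h3 hc' hoK (odd_of_le h4 hoR) (by
    rw [← inf_eq_left.2 (Fit_le K), inf_assoc, h5, ← inf_assoc, inf_eq_left.2 (Fit_le K), h0])
  have h7 : K ≤ Fit K ⊔ K ⊓ Ct(R) :=
    h5 ▸ (commutator_sup_Ct (h4.trans hn) hc' (Or.inr hs)).ge.trans (sup_le_sup_right h6 _)
  refine (commutator_mono h7 le_rfl).trans (commutator_sup_left_le le_normalizer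
    (le_normalizer_Fit_of_le inf_le_left) (commutator_le_left_of_le_normalizer (le_normalizer_Fit hn)) ?_)
  rw [commutator_eq_bot_iff_le.2 inf_le_right]; exact bot_le

/-! ### B & G 3.10 -/

theorem card_eq_pow_of_fpf (hn : R ≤ Nm(K)) (hf : ∀ r ∈ R, r ≠ 1 → K ⊓ C1(r) = ⊥)
    (hM : Group.IsSolvable M) (hK : K ≤ Nm(M)) (hR : R ≤ Nm(M))
    (hc : (Nat.card (K ⊔ R : Subgroup G)).Coprime (Nat.card M)) (h0 : M ⊓ Ct(K) = ⊥) :
    Nat.card M = Nat.card (M ⊓ Ct(R) : Subgroup G) ^ Nat.card R := by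
  have := FT.frobenius_wielandt hn hf (sup_le hK hR) hM hc.symm
  rwa [h0, eq_bot_iff.2 (h0 ▸ inf_le_inf_left _ (centralizer_mono le_sup_left) :
    M ⊓ Ct(K ⊔ R) ≤ ⊥), card_bot, one_pow, one_mul, mul_one] at this

/-- B & G 3.10 -/
theorem frobenius_primact (hR0 : R ≠ ⊥) (hn : R ≤ Nm(K)) (hf : ∀ r ∈ R, r ≠ 1 → K ⊓ C1(r) = ⊥)
    (hM0 : M ≠ ⊥) (hM : Group.IsSolvable M) (hK : K ≤ Nm(M)) (hR : R ≤ Nm(M))
    (hc : (Nat.card (K ⊔ R : Subgroup G)).Coprime (Nat.card M)) (h0 : M ⊓ Ct(K) = ⊥)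
    (hp : ∀ x ∈ R, x ≠ 1 → M ⊓ C1(x) = M ⊓ Ct(R)) :
    (Nat.card R).Prime ∧ Nat.card M = Nat.card (M ⊓ Ct(R) : Subgroup G) ^ Nat.card R ∧
      (IsCyclic (M ⊓ Ct(R) : Subgroup G) → ⁅K, K⁆ ≤ Ct(M)) := by
  have h1 := card_eq_pow_of_fpf hn hf hM hK hR hc h0
  obtain ⟨x, h2, h3, h4⟩ := exists_zpowers_prime hR0
  have h5 := zpowers_le_of_mem h2
  have h6 := card_eq_pow_of_fpf (h5.trans hn) (Solv.fpf_mono le_rfl h5 hf) hM hK (h5.trans hR)
    (hc.of_dvd_left (card_dvd_of_le (sup_le_sup_left h5 K))) h0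
  rw [centralizer_zpowers, hp x h2 h3, h1] at h6
  have h7 : 2 ≤ Nat.card (M ⊓ Ct(R) : Subgroup G) := by
    have a := (one_lt_card_iff_ne_bot M).2 hM0
    by_contra e
    have b := card_ne_zero (M ⊓ Ct(R))
    rw [h1, show Nat.card (M ⊓ Ct(R) : Subgroup G) = 1 by omega, one_pow] at a
    exact lt_irrefl _ a
  have hr : (Nat.card R).Prime := Nat.pow_right_injective h7 h6 ▸ h4
  exact ⟨hr, h1, der_le_Ct_of_isCyclic hM hn hK hR hr
    (eq_bot_iff.2 (hf x h2 h3 ▸ inf_le_inf_left _ (Ct_le_C1 h2)))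
    (hc.of_dvd_left (card_dvd_of_le le_sup_left)) (hc.of_dvd_left (card_dvd_of_le le_sup_right))⟩

end

end Cfsg.Agent.BG
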