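/-
The linear algebra behind Theorem B of Hall and Higman.
-/
import Cfsg.Agent.Lib.BG.Sec3
import Cfsg.Agent.Lib.Transfer.Stab
import Cfsg.Agent.Lib.Char.ItoP

set_option autoImplicit false
set_option linter.unusedSectionVars false

namespace Cfsg.Agent.HH

open Module Representation LinearMap Cfsg.Agent.BG

universe u v w

variable {F : Type w} [Field F]

theorem geom_char {A : Type*} [Ring A] [Algebra F A] (p : ℕ) [Fact p.Prime] [CharP F p] (n : ℕ) (x : A) :
    (x - 1) ^ (p ^ n - 1) = ∑ i ∈ Finset.range (p ^ n), x ^ i := by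
  have h0 : 0 < p ^ n := pow_pos (Fact.out : p.Prime).pos _
  have h : ((Polynomial.X : Polynomial F) - 1) ^ (p ^ n - 1) = ∑ i ∈ Finset.range (p ^ n), Polynomial.X ^ i := by
    refine mul_right_cancel₀ (b := Polynomial.X - 1) (Polynomial.X_sub_C_ne_zero 1) ?_
    rw [geom_sum_mul, ← pow_succ, Nat.sub_add_cancel h0, sub_pow_char_pow, one_pow]
  simpa using congrArg (Polynomial.aeval x) h

theorem sub_pow_char' {A : Type*} [Ring A] [Algebra F A] (p : ℕ) [Fact p.Prime] [CharP F p] (n : ℕ) (x : A) :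
    (x - 1) ^ (p ^ n) = x ^ p ^ n - 1 := by
  have h : ((Polynomial.X : Polynomial F) - 1) ^ (p ^ n) = Polynomial.X ^ p ^ n - 1 := by
    rw [sub_pow_char_pow, one_pow]
  simpa using congrArg (Polynomial.aeval x) h

/-- commutant of an endomorphism -/
def Cm {W : Type v} [AddCommGroup W] [Module F W] (N : End F W) : Submodule F (End F W) where
  carrier := {f | f * N = N * f}
  add_mem' := fun {a b} h1 h2 => by
    simp only [Set.mem_setOf_eq] at *; rw [add_mul, mul_add, h1, h2]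
  zero_mem' := by simp
  smul_mem' := fun c a h => by
    simp only [Set.mem_setOf_eq] at *; rw [smul_mul_assoc, mul_smul_comm, h]

theorem cm_step {W : Type v} [AddCommGroup W] [Module F W] [FiniteDimensional F W] (N : End F W) :
    (finrank F W - finrank F (range N)) ^ 2 +
      finrank F (Cm (N.restrict (p := range N) (q := range N) fun x _ => mem_range_self _ x)) ≤ finrank F (Cm N) := by
  set N' := N.restrict (p := range N) (q := range N) fun x _ => mem_range_self _ x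
  have hm : ∀ f : Cm N, ∀ x ∈ range N, f.1 x ∈ range N := by
    rintro f _ ⟨x, rfl⟩
    exact ⟨f.1 x, (LinearMap.congr_fun f.2 x).symm⟩
  let res : Cm N →ₗ[F] Cm N' :=
    { toFun := fun f => ⟨f.1.restrict (hm f), LinearMap.ext fun x => Subtype.ext (LinearMap.congr_fun f.2 x.1)⟩
      map_add' := fun _ _ => rfl
      map_smul' := fun _ _ => rfl }
  have h1 : range res = ⊤ := by
    refine eq_top_iff.2 fun ψ _ => ?_
    obtain ⟨U, hU⟩ := (range N).exists_isCompl
    obtain ⟨s, hs⟩ := N.rangeRestrict.exists_rightInverse_of_surjective (range_rangeRestrict N)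
    let φ : End F W := LinearMap.ofIsCompl hU ((range N).subtype ∘ₗ ψ.1) (s ∘ₗ ψ.1 ∘ₗ N.rangeRestrict ∘ₗ U.subtype)
    have h2 : ∀ x : range N, φ x = ψ.1 x := fun x => ofIsCompl_apply_left _ _
    refine ⟨⟨φ, ?_⟩, Subtype.ext (LinearMap.ext fun x => Subtype.ext (h2 x))⟩
    refine LinearMap.ext_on_codisjoint hU.codisjoint (fun x hx => ?_) fun x hx => ?_
    · have h3 := h2 ⟨N x, mem_range_self _ x⟩
      have h4 := congrArg N (h2 ⟨x, hx⟩)
      exact h3.trans ((congrArg Subtype.val (LinearMap.congr_fun ψ.2 ⟨x, hx⟩)).trans h4.symm)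
    · have h3 := h2 ⟨N x, mem_range_self _ x⟩
      have h4 : φ x = s (ψ.1 ⟨N x, mem_range_self _ x⟩) := ofIsCompl_apply_right hU (v := ⟨x, hx⟩)
      refine h3.trans ?_
      rw [End.mul_apply, h4]
      exact (congrArg Subtype.val (LinearMap.congr_fun hs _)).symm
  let j : ((W ⧸ range N) →ₗ[F] ker N) →ₗ[F] ker res :=
    { toFun := fun g => ⟨⟨(ker N).subtype ∘ₗ g ∘ₗ (range N).mkQ, LinearMap.ext fun x => by
          have : (range N).mkQ (N x) = 0 := (Submodule.Quotient.mk_eq_zero _).2 (mem_range_self _ x)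
          simp only [End.mul_apply, comp_apply, this, map_zero]
          exact (g _).2.symm⟩,
        Subtype.ext (LinearMap.ext fun x => Subtype.ext (by
          have : (range N).mkQ x = 0 := (Submodule.Quotient.mk_eq_zero _).2 x.2
          show ((g ((range N).mkQ x)) : W) = 0
          rw [this, map_zero]; rfl))⟩
      map_add' := fun _ _ => rfl
      map_smul' := fun _ _ => rfl }
  have h2 : Function.Injective j := fun a b h => LinearMap.ext fun x => by
    obtain ⟨x, rfl⟩ := (range N).mkQ_surjective x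
    exact Subtype.ext (LinearMap.congr_fun (congrArg (fun y => y.1.1) h) x)
  have h3 := finrank_le_finrank_of_injective h2
  have h4 := finrank_range_add_finrank_ker (K := F) (V := Cm N) (V₂ := Cm N') res
  have h5 := N.finrank_range_add_finrank_ker
  have h6 := (range N).finrank_quotient_add_finrank
  rw [finrank_linearMap] at h3
  rw [h1, finrank_top] at h4
  rw [pow_two]
  have e1 : finrank F W - finrank F (range N) = finrank F (ker N) := by omega
  have e2 : finrank F (W ⧸ range N) = finrank F (ker N) := by omega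
  rw [e2] at h3; rw [e1]; omega

theorem nil_lower (s : ℕ) : ∀ {W : Type v} [AddCommGroup W] [Module F W] [FiniteDimensional F W] (N : End F W),
    N ^ s = 0 → finrank F W ^ 2 ≤ s * finrank F (Cm N) := by
  induction s with
  | zero =>
    intro W _ _ _ N h
    haveI : Subsingleton W := ⟨fun a b => (LinearMap.congr_fun h a).trans (LinearMap.congr_fun h b).symm⟩
    simp [finrank_zero_of_subsingleton]
  | succ t ih =>
    intro W _ _ _ N h
    have h1 := cm_step N
    have h2 := ih (N.restrict (p := range N) (q := range N) fun x _ => mem_range_self _ x) (by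
      refine LinearMap.ext fun x => Subtype.ext ?_
      rw [End.pow_restrict _ _ (fun x hx => ?_)]
      · obtain ⟨_, x, rfl⟩ := x
        exact LinearMap.congr_fun (pow_succ N t ▸ h) x
      · obtain ⟨x, rfl⟩ := hx
        exact ⟨(N ^ t) x, by rw [← End.mul_apply, ← End.mul_apply, ← pow_succ, ← pow_succ']⟩)
    have h3 := (range N).finrank_le
    obtain ⟨a, ha⟩ := Nat.exists_eq_add_of_le h3
    rw [ha, Nat.add_sub_cancel_left] at h1
    rw [ha]
    generalize finrank F (range N) = b at *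
    generalize finrank F (Cm N) = c at *
    generalize finrank F (Cm (N.restrict (p := range N) (q := range N) fun x _ => mem_range_self _ x)) = c' at *
    rcases Nat.eq_zero_or_pos t with rfl | ht
    · obtain rfl : b = 0 := by simpa using h2
      rw [zero_add]; omega
    · refine Nat.le_of_mul_le_mul_left ?_ ht
      zify at *
      nlinarith [sq_nonneg ((t : ℤ) * a - b), mul_le_mul_of_nonneg_left h1 (by positivity : (0 : ℤ) ≤ t * (t + 1))]

theorem nil_upper {E : Type v} [AddCommGroup E] [Module F E] [FiniteDimensional F E] (M : End F E) (k : ℕ)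
    (h : M ^ (k + 1) = 0) : finrank F (ker M) + k * finrank F (range (M ^ k)) ≤ finrank F E := by
  have h1 : ∀ i ≤ k, finrank F (range (M ^ (i + 1))) + finrank F (range (M ^ k)) ≤ finrank F (range (M ^ i)) := by
    intro i hi
    have h2 := (M.domRestrict (range (M ^ i))).finrank_range_add_finrank_ker
    rw [range_domRestrict, ← range_comp, ← End.mul_eq_comp, ← pow_succ', ker_domRestrict] at h2
    rw [← h2, ← Submodule.finrank_map_subtype_eq, Submodule.map_comap_subtype]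
    refine Nat.add_le_add_left (Submodule.finrank_mono ?_) _
    rintro _ ⟨x, rfl⟩
    refine ⟨⟨(M ^ (k - i)) x, by rw [← End.mul_apply, ← pow_add, Nat.add_sub_cancel' hi]⟩, ?_⟩
    show M _ = 0
    rw [← End.mul_apply, ← pow_succ', h]; rfl
  have h2 : ∀ i ≤ k, finrank F (range (M ^ (i + 1))) + i * finrank F (range (M ^ k)) ≤ finrank F (range M) := by
    intro i
    induction i with
    | zero => intro _; rw [zero_add, pow_one]; omega
    | succ i ih => intro hi; have := ih (by omega); have := h1 (i + 1) hi; rw [Nat.succ_mul]; omega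
  have := h2 k le_rfl
  have := M.finrank_range_add_finrank_ker
  omega


theorem sum_mem_range_norm {Q E : Type*} [AddCommGroup E] [Module F E] (α : Equiv.Perm Q) (T : End F E) {P : ℕ}
    (hP : 0 < P) (hα : α ^ P = 1) (g : Q → E) (hg : ∀ t, g (α t) = T (g t)) (S : Finset Q)
    (h1 : ∀ t ∈ S, α t ∈ S) (h2 : ∀ t ∈ S, ∀ i, 0 < i → i < P → (α ^ i) t ≠ t) :
    ∑ t ∈ S, g t ∈ range (∑ i ∈ Finset.range P, T ^ i) := by
  classical
  induction S using Finset.strongInduction with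
  | H S ih =>
  rcases S.eq_empty_or_nonempty with rfl | ⟨t, ht⟩
  · simp
  have h3 : ∀ i, (α ^ i) t ∈ S := fun i => by
    induction i with
    | zero => exact ht
    | succ i ih => rw [pow_succ']; exact h1 _ ih
  have h4 : ∀ i, g ((α ^ i) t) = (T ^ i) (g t) := fun i => by
    induction i with
    | zero => rfl
    | succ i ih => rw [pow_succ', pow_succ', Equiv.Perm.mul_apply, hg, ih]; rfl
  set O := (Finset.range P).image fun i => (α ^ i) t
  have hO : O ⊆ S := Finset.image_subset_iff.2 fun i _ => h3 i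
  have hm : ∀ i, (α ^ i) t ∈ O := fun i => Finset.mem_image.2 ⟨i % P, Finset.mem_range.2 (Nat.mod_lt _ hP), by
    rw [← pow_eq_pow_mod i hα]⟩
  have h5 : ∀ i j, i < j → j < P → (α ^ i) t ≠ (α ^ j) t := fun i j hij hj e =>
    h2 _ (h3 i) (j - i) (by omega) (by omega) (by
      rw [← Equiv.Perm.mul_apply, ← pow_add, Nat.sub_add_cancel hij.le, e])
  rw [← Finset.sum_sdiff hO]
  refine add_mem (ih _ (Finset.sdiff_ssubset hO ⟨_, hm 0⟩) (fun u hu => ?_)
    fun u hu => h2 u (Finset.mem_sdiff.1 hu).1) ⟨g t, ?_⟩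
  · rw [Finset.mem_sdiff] at hu ⊢
    refine ⟨h1 u hu.1, fun h => hu.2 ?_⟩
    obtain ⟨i, -, hi⟩ := Finset.mem_image.1 h
    have : u = (α ^ (P - 1 + i)) t := by
      rw [pow_add, Equiv.Perm.mul_apply, hi, ← Equiv.Perm.mul_apply, ← pow_succ, Nat.sub_add_cancel hP, hα]; rfl
    exact this ▸ hm _
  · rw [Finset.sum_image, LinearMap.sum_apply]
    · exact Finset.sum_congr rfl fun i _ => (h4 i).symm
    · intro i hi j hj e
      rw [Finset.coe_range, Set.mem_Iio] at hi hj
      rcases lt_trichotomy i j with h | h | h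
      · exact absurd e (h5 i j h hj)
      · exact h
      · exact absurd e.symm (h5 j i h hi)

variable [IsAlgClosed F] {W : Type v} [AddCommGroup W] [Module F W] [FiniteDimensional F W]
  {Q : Type u} [Group Q] [Finite Q]

theorem inversion [Fintype Q] (σ : Representation F Q W) [σ.IsIrreducible] (e : End F W) :
    (finrank F W : F) • ∑ t, trace F W (e * σ t⁻¹) • σ t = (Nat.card Q : F) • e := by
  refine LinearMap.ext fun w => sub_eq_zero.1 ((forall_dual_apply_eq_zero_iff F _).1 fun φ => ?_)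
  have h1 : (finrank F W : F) • ∑ g, φ (σ g⁻¹ w) • σ g = (Nat.card Q : F) • φ.smulRight w := by
    refine LinearMap.ext fun v => ?_
    obtain ⟨c, h1, h2⟩ := exists_sum_conj_eq σ (φ.smulRight v)
    have h3 := LinearMap.congr_fun h1 w
    simp only [LinearMap.sum_apply, End.mul_apply, smulRight_apply, map_smul, LinearMap.smul_apply,
      End.one_apply] at h3 ⊢
    rw [h3, smul_smul, smul_smul, mul_comm, h2, trace_smulRight]
  have h2 := congrArg (fun a => trace F W (e * a)) h1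
  simp only [mul_smul_comm, Finset.mul_sum, map_smul, map_sum] at h2
  rw [show e * φ.smulRight w = φ.smulRight (e w) from LinearMap.ext fun v => by simp,
    trace_smulRight, ← Equiv.sum_comp (Equiv.inv Q)] at h2
  simp only [map_sub, LinearMap.smul_apply, LinearMap.sum_apply, map_smul, map_sum]
  rw [← h2, sub_eq_zero]
  simp only [Equiv.inv_apply, inv_inv, smul_eq_mul, mul_comm]

theorem core_ineq (p : ℕ) [Fact p.Prime] [CharP F p] (σ : Representation F Q W) [σ.IsIrreducible]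
    (hc : (Nat.card Q : F) ≠ 0) (α : MulAut Q) (B : End F W) (n : ℕ) (hB : B ^ p ^ n = 1) (hα : α ^ p ^ n = 1)
    (hσ : ∀ t, B * σ t = σ (α t) * B)
    (hs : ∀ t i, 0 < i → i < p ^ n → (α ^ i) t = t → ∃ c : F, σ t = c • 1) :
    p ^ n * finrank F (Cm (B - 1)) + 1 ≤ finrank F W ^ 2 + p ^ n := by
  classical
  haveI := Fintype.ofFinite Q
  have h0 : 0 < p ^ n := pow_pos (Fact.out : p.Prime).pos _
  obtain ⟨k, hk⟩ : ∃ k, p ^ n = k + 1 := ⟨_, (Nat.sub_add_cancel h0).symm⟩
  have e1 : B * B ^ k = 1 := by rw [← pow_succ', ← hk, hB]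
  have e2 : B ^ k * B = 1 := by rw [← pow_succ, ← hk, hB]
  let T : End F (End F W) := mulLeft F B * mulRight F (B ^ k)
  have hT : ∀ e, T e = B * (e * B ^ k) := fun e => rfl
  have hTi : ∀ i e, (T ^ i) e = B ^ i * (e * (B ^ k) ^ i) := fun i e => by
    induction i with
    | zero => simp
    | succ i ih => rw [pow_succ', End.mul_apply, ih, hT, pow_succ', pow_succ (B ^ k)]; simp only [mul_assoc]
  have hT1 : (T - 1) ^ (k + 1) = 0 := by
    rw [← hk, sub_pow_char' (F := F), sub_eq_zero]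
    exact LinearMap.ext fun e => by rw [hTi, ← pow_mul, mul_comm k, pow_mul, hB, one_pow, one_mul, mul_one]; rfl
  have h1 := nil_upper (T - 1) k hT1
  have h2 : ker (T - 1) = Cm (B - 1) := by
    ext e
    rw [mem_ker, LinearMap.sub_apply, hT, End.one_apply, sub_eq_zero]
    show _ ↔ e * (B - 1) = (B - 1) * e
    rw [mul_sub, sub_mul, mul_one, one_mul, sub_left_inj]
    exact ⟨fun h => by conv_lhs => rw [← h, mul_assoc, mul_assoc, e2, mul_one],
      fun h => by rw [← mul_assoc, ← h, mul_assoc, e1, mul_one]⟩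
  have h3 : Cm (B - 1) ≤ Submodule.span F {1} ⊔ range ((T - 1) ^ k) := by
    intro e he
    have he' : T e = e := sub_eq_zero.1 (mem_ker.1 (h2.ge he))
    rw [← Submodule.smul_mem_iff _ hc, ← inversion σ e]
    refine Submodule.smul_mem _ _ ?_
    rw [← Finset.sum_filter_add_sum_filter_not Finset.univ fun t => ∃ i, 0 < i ∧ i < p ^ n ∧ (α ^ i) t = t]
    refine Submodule.add_mem_sup (Submodule.sum_mem _ fun t ht => ?_) ?_
    · obtain ⟨i, a, b, c⟩ := (Finset.mem_filter.1 ht).2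
      obtain ⟨d, hd⟩ := hs t i a b c
      rw [hd]
      exact Submodule.smul_mem _ _ (Submodule.smul_mem _ _ (Submodule.mem_span_singleton_self _))
    · have h4 : ∀ t, σ (α t) = T (σ t) := fun t => by rw [hT, ← mul_assoc, hσ, mul_assoc, e1, mul_one]
      have hcoe : ∀ i t, ((MulAut.toPerm Q α) ^ i) t = (α ^ i) t := fun i t => by rw [← map_pow]; rfl
      rw [show k = p ^ n - 1 by omega, geom_char (F := F)]
      refine sum_mem_range_norm (MulAut.toPerm Q α) T h0 (by rw [← map_pow, hα, map_one]) _ (fun t => ?_) _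
        (fun t ht => ?_) fun t ht i a b c => (Finset.mem_filter.1 ht).2 ⟨i, a, b, (hcoe i t).symm.trans c⟩
      · show trace F W (e * σ (α t)⁻¹) • σ (α t) = _
        rw [map_smul, ← map_inv, h4, h4]
        congr 1
        conv_lhs => rw [← he']
        rw [hT, hT, mul_assoc, mul_assoc, ← mul_assoc (B ^ k), e2, one_mul, trace_mul_comm, mul_assoc, mul_assoc,
          e2, mul_one]
      · refine Finset.mem_filter.2 ⟨Finset.mem_univ _, fun ⟨i, a, b, c⟩ => (Finset.mem_filter.1 ht).2 ⟨i, a, b, ?_⟩⟩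
        refine α.injective (Eq.trans ?_ c)
        show (α * α ^ i) t = (α ^ i * α) t
        rw [← pow_succ, ← pow_succ']
  have h4 := (Submodule.finrank_mono h3).trans (Submodule.finrank_add_le_finrank_add_finrank _ _)
  have h5 : finrank F (Submodule.span F {(1 : End F W)}) ≤ 1 := (finrank_span_le_card _).trans (by simp)
  rw [h2, finrank_linearMap] at h1
  rw [hk, pow_two]
  nlinarith

theorem pow_finrank_eq_zero {N : End F W} {s : ℕ} (h : N ^ s = 0) : N ^ finrank F W = 0 := by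
  have := N.aeval_self_charpoly
  rwa [IsNilpotent.charpoly_eq_X_pow_finrank ⟨s, h⟩, map_pow, Polynomial.aeval_X] at this

/-- the critical case of Hall–Higman -/
theorem core (p : ℕ) [Fact p.Prime] [CharP F p] (σ : Representation F Q W) [σ.IsIrreducible]
    (hc : (Nat.card Q : F) ≠ 0) (α : MulAut Q) (B : End F W) (n : ℕ) (hB : B ^ p ^ n = 1) (hα : α ^ p ^ n = 1)
    (hσ : ∀ t, B * σ t = σ (α t) * B)
    (hs : ∀ t i, 0 < i → i < p ^ n → (α ^ i) t = t → ∃ c : F, σ t = c • 1) (h1 : B ≠ 1)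
    (h2 : (B - 1) ^ (p ^ n - 1) = 0) : finrank F W = p ^ n - 1 ∧ (B - 1) ^ (p ^ n - 2) ≠ 0 := by
  classical
  haveI := Char.nontrivial_of_isIrreducible σ
  have hex : ∃ s, (B - 1) ^ s = 0 := ⟨_, h2⟩
  have a1 := Nat.find_spec hex
  have a2 := Nat.find_min' hex h2
  have a3 := Nat.find_min' hex (pow_finrank_eq_zero h2)
  have a4 := nil_lower _ _ a1
  have a5 := core_ineq p σ hc α B n hB hα hσ hs
  have a6 : 1 < Nat.find hex := (Nat.lt_find_iff _ _).2 fun m hm h => by
    interval_cases m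
    · exact one_ne_zero h
    · exact h1 (sub_eq_zero.1 ((pow_one _).symm.trans h))
  have key : Nat.find hex = p ^ n - 1 ∧ finrank F W = p ^ n - 1 := by
    generalize Nat.find hex = s at *
    generalize finrank F W = D at *
    generalize finrank F (Cm (B - 1)) = c at *
    obtain ⟨t, ht⟩ : ∃ t, p ^ n = s + t + 1 := ⟨p ^ n - s - 1, by omega⟩
    obtain ⟨d, rfl⟩ := Nat.exists_eq_add_of_le a3
    rw [ht] at a5 ⊢
    have b1 : (t + 1) * (s + d) ^ 2 ≤ s * (s + t) := by nlinarith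
    obtain rfl : t = 0 := by
      by_contra h
      obtain ⟨t, rfl⟩ := Nat.exists_eq_succ_of_ne_zero h
      obtain ⟨s, rfl⟩ := Nat.exists_eq_add_of_lt a6
      simp only [Nat.succ_eq_add_one] at b1
      nlinarith [Nat.zero_le (s * d), Nat.zero_le (t * d), Nat.zero_le (d * d), Nat.zero_le (s * s * t),
        Nat.zero_le (s * t), Nat.zero_le (s * t * d), Nat.zero_le (t * d * d), Nat.zero_le (s * s)]
    obtain rfl : d = 0 := by nlinarith
    omega
  exact ⟨key.2, Nat.find_min hex (by omega)⟩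

theorem exists_period {G : Type*} [Group G] (S : Subgroup G) (g : G) {k : ℕ} (hk : 0 < k) (h : g ^ k ∈ S) :
    ∃ m, 0 < m ∧ ∀ i, g ^ i ∈ S ↔ m ∣ i := by
  classical
  have hex : ∃ m, 0 < m ∧ g ^ m ∈ S := ⟨k, hk, h⟩
  obtain ⟨h1, h2⟩ := Nat.find_spec hex
  refine ⟨_, h1, fun i => ⟨fun hi => Nat.dvd_of_mod_eq_zero ?_, ?_⟩⟩
  · by_contra h3
    refine Nat.find_min hex (Nat.mod_lt i h1) ⟨Nat.pos_of_ne_zero h3, ?_⟩
    rwa [← Nat.div_add_mod i (Nat.find hex), pow_add, pow_mul, S.mul_mem_cancel_left (pow_mem h2 _)] at hi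
  · rintro ⟨c, rfl⟩; rw [pow_mul]; exact pow_mem h2 _

variable {U : Type*} [AddCommGroup U] [Module F U] [FiniteDimensional F U]

/-- the automorphisms fixing the isomorphism type of `σ` -/
def Tw (σ : Representation F Q U) : Subgroup (MulAut Q) where
  carrier := {α | ∃ A : (End F U)ˣ, ∀ t, A.1 * σ t = σ (α t) * A.1}
  one_mem' := ⟨1, fun t => by simp⟩
  mul_mem' := fun ⟨A, hA⟩ ⟨B, hB⟩ => ⟨A * B, fun t => by
    rw [Units.val_mul, mul_assoc, hB, ← mul_assoc, hA, mul_assoc]; rfl⟩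
  inv_mem' := fun {α} ⟨A, hA⟩ => ⟨A⁻¹, fun t => by
    rw [Units.inv_mul_eq_iff_eq_mul, ← mul_assoc, hA, Units.mul_inv_cancel_right]
    exact congrArg σ (α.apply_symm_apply t).symm⟩

theorem mem_Tw (σ : Representation F Q U) [h : σ.IsIrreducible] {α : MulAut Q} {A : End F U} (h0 : A ≠ 0)
    (hA : ∀ t, A * σ t = σ (α t) * A) : α ∈ Tw σ := by
  have := (((Char.isIrreducible_iff σ).1 h).2 (ker A) fun g v hv => by
    rw [mem_ker, ← End.mul_apply, hA, End.mul_apply, mem_ker.1 hv, map_zero]).resolve_right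
    fun e => h0 (ker_eq_top.1 e)
  obtain ⟨A, rfl⟩ := (LinearMap.isUnit_iff_ker_eq_bot A).2 this
  exact ⟨A, hA⟩

theorem exists_proj (ρ : Representation F Q W) (σ : Representation F Q U) (hc : (Nat.card Q : F) ≠ 0)
    {ι : U →ₗ[F] W} (h1 : Function.Injective ι) (h2 : ∀ t u, ι (σ t u) = ρ t (ι u)) :
    ∃ π : W →ₗ[F] U, (∀ u, π (ι u) = u) ∧ ∀ t w, π (ρ t w) = σ t (π w) := by
  haveI := Fintype.ofFinite Q
  obtain ⟨π, hπ⟩ := ι.exists_leftInverse_of_injective (ker_eq_bot.2 h1)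
  refine ⟨(Nat.card Q : F)⁻¹ • ∑ g, σ g ∘ₗ π ∘ₗ ρ g⁻¹, fun u => ?_, fun t w => ?_⟩
  · have : ∀ g, σ g (π (ρ g⁻¹ (ι u))) = u := fun g => by
      rw [← h2, show π (ι _) = _ from LinearMap.congr_fun hπ _, id_apply, ← End.mul_apply, ← map_mul,
        mul_inv_cancel, map_one, End.one_apply]
    simp only [LinearMap.smul_apply, LinearMap.sum_apply, comp_apply, this, Finset.sum_const, Finset.card_univ]
    rw [← Nat.cast_smul_eq_nsmul F, smul_smul, Fintype.card_eq_nat_card, inv_mul_cancel₀ hc, one_smul]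
  · simp only [LinearMap.smul_apply, LinearMap.sum_apply, comp_apply, map_smul, map_sum]
    congr 1
    refine (Fintype.sum_equiv (Equiv.mulLeft t) _ _ fun g => ?_).symm
    rw [Equiv.coe_mulLeft, ← End.mul_apply (ρ _), ← map_mul, mul_inv_rev, inv_mul_cancel_right, map_mul]; rfl

theorem exists_stable (ρ : Representation F Q W) (σ : Representation F Q U) [hσ : σ.IsIrreducible]
    {ι : U →ₗ[F] W} (h1 : Function.Injective ι) (h2 : ∀ t u, ι (σ t u) = ρ t (ι u)) {α : MulAut Q}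
    (hα : α ∈ Tw σ) {Y : End F W} (hY : ∀ t, Y * ρ t = ρ (α t) * Y) :
    ∃ (ι : U →ₗ[F] W) (B : End F U), Function.Injective ι ∧ (∀ t u, ι (σ t u) = ρ t (ι u)) ∧
      ∀ u, Y (ι u) = ι (B u) := by
  obtain ⟨A, hA⟩ := hα
  have hA' : ∀ t u, A⁻¹.1 (σ (α t) u) = σ t (A⁻¹.1 u) := fun t u => by
    rw [← End.mul_apply, ← End.mul_apply, (Units.inv_mul_eq_iff_eq_mul _).2 (by
      rw [← mul_assoc, hA, Units.mul_inv_cancel_right])]
  let T : End F (IntertwiningMap σ ρ) :=
    { toFun := fun θ => ⟨Y ∘ₗ θ.toLinearMap ∘ₗ A⁻¹.1, fun g => LinearMap.ext fun u => by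
        obtain ⟨g, rfl⟩ := α.surjective g
        have h2 := LinearMap.congr_fun (θ.2 g) (A⁻¹.1 u)
        simp only [LinearMap.comp_apply] at h2 ⊢
        rw [hA', h2, ← End.mul_apply, hY, End.mul_apply]⟩
      map_add' := fun a b => IntertwiningMap.ext (by
        change Y ∘ₗ (a.toLinearMap + b.toLinearMap) ∘ₗ _ = _ + _
        rw [add_comp, comp_add])
      map_smul' := fun c a => IntertwiningMap.ext (by
        change Y ∘ₗ (c • a.toLinearMap) ∘ₗ _ = c • _
        rw [smul_comp, comp_smul]) }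
  haveI := Char.nontrivial_of_isIrreducible σ
  haveI : Nontrivial (IntertwiningMap σ ρ) :=
    ⟨⟨ι, fun g => LinearMap.ext (h2 g)⟩, 0, fun e => by
      obtain ⟨u, hu⟩ := exists_ne (0 : U)
      exact hu (h1 ((LinearMap.congr_fun (congrArg IntertwiningMap.toLinearMap e) u).trans (map_zero _).symm))⟩
  obtain ⟨μ, hμ⟩ := T.exists_eigenvalue
  obtain ⟨θ, h1, h2⟩ := hμ.exists_hasEigenvector
  have h3 : ∀ u, Y (θ (A⁻¹.1 u)) = μ • θ u := fun u =>
    LinearMap.congr_fun (congrArg IntertwiningMap.toLinearMap (End.mem_eigenspace_iff.1 h1)) u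
  refine ⟨θ.toLinearMap, μ • A.1, (IsIrreducible.injective_or_eq_zero θ).resolve_right h2,
    fun t u => LinearMap.congr_fun (θ.2 t) u, fun u => ?_⟩
  have := h3 (A.1 u)
  rw [← End.mul_apply A⁻¹.1, Units.inv_mul, End.one_apply] at this
  rw [LinearMap.smul_apply, map_smul]; exact this

theorem pow_comm_aut (ρ : Representation F Q W) {α : MulAut Q} {Y : End F W} (hY : ∀ t, Y * ρ t = ρ (α t) * Y)
    (i : ℕ) (t : Q) : Y ^ i * ρ t = ρ ((α ^ i) t) * Y ^ i := by
  induction i with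
  | zero => simp
  | succ i ih => rw [pow_succ', mul_assoc, ih, ← mul_assoc, hY, mul_assoc, pow_succ' α]; rfl

/-- Clifford theory for a cyclic extension -/
theorem cliff (ρ : Representation F Q W) (σ : Representation F Q U) [σ.IsIrreducible] (hc : (Nat.card Q : F) ≠ 0)
    {ι : U →ₗ[F] W} (h1 : Function.Injective ι) (h2 : ∀ t u, ι (σ t u) = ρ t (ι u)) {α : MulAut Q}
    {Y : End F W} (hY : ∀ t, Y * ρ t = ρ (α t) * Y) {k : ℕ} (hk : 0 < k) (hα : α ^ k ∈ Tw σ) :
    ∃ (m : ℕ) (ι : U →ₗ[F] W) (π : W →ₗ[F] U) (B : End F U), 0 < m ∧ m ∣ k ∧ (∀ u, π (ι u) = u) ∧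
      (∀ t u, ι (σ t u) = ρ t (ι u)) ∧ (∀ t w, π (ρ t w) = σ t (π w)) ∧ (∀ u, (Y ^ m) (ι u) = ι (B u)) ∧
      ∀ i, ¬ m ∣ i → ∀ u, π ((Y ^ i) (ι u)) = 0 := by
  obtain ⟨m, hm, h3⟩ := exists_period _ α hk hα
  obtain ⟨ι, B, h4, h5, h6⟩ := exists_stable ρ σ h1 h2 ((h3 m).2 dvd_rfl) (pow_comm_aut ρ hY m)
  obtain ⟨π, h7, h8⟩ := exists_proj ρ σ hc h4 h5
  refine ⟨m, ι, π, B, hm, (h3 k).1 hα, h7, h5, h8, h6, fun i hi u => ?_⟩
  by_contra h
  refine hi ((h3 i).1 (mem_Tw σ (A := π ∘ₗ (Y ^ i) ∘ₗ ι) (fun e => h (LinearMap.congr_fun e u)) fun t =>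
    LinearMap.ext fun u => ?_))
  simp only [End.mul_apply, comp_apply]
  rw [h5, ← End.mul_apply, pow_comm_aut ρ hY, End.mul_apply, h8]

theorem finrank_pow {q : ℕ} [hq : Fact q.Prime] (hc : (q : F) ≠ 0) (n : ℕ) : ∀ {Q : Type u} [Group Q] [Finite Q]
    {W : Type v} [AddCommGroup W] [Module F W] [FiniteDimensional F W] (ρ : Representation F Q W) [ρ.IsIrreducible],
    Nat.card Q = q ^ n → ∃ b, finrank F W = q ^ b := by
  induction n with
  | zero =>
    intro Q _ _ W _ _ _ ρ hρ h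
    haveI : Subsingleton Q := (Nat.card_eq_one_iff_unique.1 h).1
    obtain ⟨_, h1⟩ := (Char.isIrreducible_iff ρ).1 hρ
    exact ⟨0, (isSimpleModule_iff_finrank_eq_one (R := F)).1 ((isSimpleModule_iff _ _).2
      ⟨fun U => h1 U fun g v hv => by rwa [Subsingleton.elim g 1, map_one]⟩)⟩
  | succ n ih =>
    intro Q _ _ W _ _ _ ρ hρ h
    obtain ⟨K, hK⟩ := Sylow.exists_subgroup_card_pow_prime_of_le_card hq.out (IsPGroup.of_card h)
      (h ▸ Nat.pow_le_pow_right hq.out.pos n.le_succ)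
    have hi : K.index = q := by
      have := K.card_mul_index
      rw [hK, h, pow_succ] at this
      exact mul_left_cancel₀ (pow_pos hq.out.pos n).ne' this
    haveI : K.Normal := K.normal_of_index_eq_minFac_card (by rw [hi, h, hq.out.pow_minFac n.succ_ne_zero])
    obtain ⟨x, hx⟩ : ∃ x, x ∉ K := not_forall.1 fun e => hq.out.ne_one (hi ▸ Subgroup.index_eq_one.2 (eq_top_iff.2 fun x _ => e x))
    have hxq : x ^ q ∈ K := hi ▸ K.pow_index_mem x
    have hX : K ⊔ Subgroup.zpowers x = ⊤ := by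
      refine Subgroup.index_eq_one.1 (((Nat.dvd_prime hq.out).1 (hi ▸ Subgroup.index_dvd_of_le le_sup_left)).resolve_right
        fun e => hx ?_)
      have := Subgroup.relIndex_mul_index (le_sup_left : K ≤ K ⊔ Subgroup.zpowers x)
      rw [e, hi, mul_eq_right₀ hq.out.ne_zero, Subgroup.relIndex_eq_one] at this
      exact this (Subgroup.mem_sup_right (Subgroup.mem_zpowers x))
    obtain ⟨_, hirr⟩ := (Char.isIrreducible_iff ρ).1 hρ
    have hirr' : ∀ S : Submodule F W, S ≠ ⊥ → (∀ t ∈ K, ∀ v ∈ S, ρ t v ∈ S) → (∀ v ∈ S, ρ x v ∈ S) → S = ⊤ := by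
      intro S h0 h1 h2
      refine (hirr S fun g => ?_).resolve_left h0
      obtain ⟨k, hk, a, ha, rfl⟩ := Subgroup.mem_sup_of_normal_left.1 (hX ▸ Subgroup.mem_top g)
      obtain ⟨i, rfl⟩ := mem_powers_iff_mem_zpowers.2 ha
      intro v hv
      rw [map_mul]
      refine h1 k hk _ ?_
      induction i with
      | zero => simpa using hv
      | succ i ih => simp only [pow_succ', map_mul] at ih ⊢; exact h2 _ (ih (Subgroup.npow_mem_zpowers x i))
    obtain ⟨U, hU⟩ := Char.exists_irreducible_sub (resRep ρ K)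
    obtain ⟨b, hb⟩ := ih U.toRepresentation hK
    have hY : ∀ t : K, ρ x * resRep ρ K t = resRep ρ K (MulAut.conjNormal x t) * ρ x := fun t => by
      show ρ x * ρ t = ρ (x * t * x⁻¹) * ρ x
      rw [← map_mul, ← map_mul, inv_mul_cancel_right]
    obtain ⟨m, ι, π, B, h1, h2, h3, h4, h5, h6, h7⟩ := cliff (resRep ρ K) U.toRepresentation
      (by rw [hK, Nat.cast_pow]; exact pow_ne_zero _ hc) U.toSubmodule.injective_subtype (fun _ _ => rfl) hY hq.out.pos
      ⟨U.toRepresentation.asGroupHom ⟨_, hxq⟩, fun t => by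
        rw [asGroupHom_apply, ← map_mul, ← map_mul, ← map_pow]
        exact congrArg _ (Subtype.ext (inv_mul_cancel_right _ _).symm)⟩
    haveI := Char.nontrivial_of_isIrreducible U.toRepresentation
    obtain ⟨u₀, hu₀⟩ := exists_ne (0 : U.toSubmodule)
    have h8 : ι u₀ ≠ 0 := fun e => hu₀ (by rw [← h3 u₀, e, map_zero])
    rcases (Nat.dvd_prime hq.out).1 h2 with rfl | rfl
    · refine ⟨b, hb ▸ (LinearEquiv.ofBijective ι ⟨Function.LeftInverse.injective h3, range_eq_top.1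
        (hirr' _ (fun e => h8 ((Submodule.eq_bot_iff _).1 e _ ⟨u₀, rfl⟩)) ?_ ?_)⟩).finrank_eq.symm⟩
      · rintro t ht _ ⟨u, rfl⟩; exact ⟨_, h4 ⟨t, ht⟩ u⟩
      · rintro _ ⟨u, rfl⟩; exact ⟨_, (h6 u).symm.trans (by rw [pow_one])⟩
    · let Φ : (Fin m → U.toSubmodule) →ₗ[F] W := ∑ i : Fin m, (ρ x ^ (i : ℕ)) ∘ₗ ι ∘ₗ LinearMap.proj i
      have hΦ : ∀ u, Φ u = ∑ i : Fin m, (ρ x ^ (i : ℕ)) (ι (u i)) := fun u => by simp [Φ]
      have h9 : ∀ (i : Fin m) u, (ρ x ^ (i : ℕ)) (ι u) ∈ range Φ := fun i u => ⟨Pi.single i u, by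
        rw [hΦ, Finset.sum_eq_single i (fun j _ hj => by rw [Pi.single_eq_of_ne hj, map_zero, map_zero]) (by simp),
          Pi.single_eq_same]⟩
      refine ⟨b + 1, ?_⟩
      suffices h : Function.Bijective Φ by
        rw [pow_succ', ← hb, ← (LinearEquiv.ofBijective Φ h).finrank_eq,
          finrank_pi_fintype, Finset.sum_const, Finset.card_fin, smul_eq_mul]
      refine ⟨(injective_iff_map_eq_zero _).2 fun u hu => funext fun j => ?_,
        range_eq_top.1 (hirr' _ (fun e => h8 ((Submodule.eq_bot_iff _).1 e _ (h9 ⟨0, h1⟩ u₀))) ?_ ?_)⟩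
      · have := congrArg (fun w => π ((ρ x ^ (m - j)) w)) hu
        simp only [hΦ, map_sum, map_zero, ← End.mul_apply, ← pow_add] at this
        have hne : ∀ i : Fin m, i ≠ j → ¬ m ∣ m - j + i := fun i hi ⟨c, hc⟩ => hi (Fin.ext (by
          have := i.2; have := j.2
          obtain rfl : c = 1 := by
            rcases c with _ | _ | c
            · omega
            · rfl
            · rw [mul_add, mul_add] at hc; omega
          omega))
        rw [Finset.sum_eq_single j (fun i _ hi => h7 _ (hne i hi) _) (by simp),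
          Nat.sub_add_cancel j.2.le, ← map_pow] at this
        have h10 := (h5 ⟨_, hxq⟩ _).symm.trans this
        rw [h3] at h10
        exact (map_eq_zero_iff _ (U.toRepresentation.apply_bijective _).1).1 h10
      · rintro t ht _ ⟨u, rfl⟩
        rw [hΦ, map_sum]
        refine Submodule.sum_mem _ fun i _ => ?_
        obtain ⟨t', ht'⟩ := (MulAut.conjNormal (H := K) x ^ (i : ℕ)).surjective ⟨t, ht⟩
        have := LinearMap.congr_fun (pow_comm_aut _ hY i t') (ι (u i))
        rw [ht', End.mul_apply, End.mul_apply, ← h4] at this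
        exact (show _ = ρ t _ from this) ▸ h9 _ _
      · rintro _ ⟨u, rfl⟩
        rw [hΦ, map_sum]
        refine Submodule.sum_mem _ fun i _ => ?_
        rw [← End.mul_apply, ← pow_succ']
        rcases (Nat.succ_le_of_lt i.2).lt_or_eq with h | h
        · exact h9 ⟨_, h⟩ _
        · rw [show (i : ℕ) + 1 = m from h, h6]; exact h9 ⟨0, h1⟩ _

theorem finrank_eq_one_of_comm (σ : Representation F Q U) [h : σ.IsIrreducible] (hc : ∀ a b, σ a * σ b = σ b * σ a) :
    finrank F U = 1 := by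
  obtain ⟨_, h1⟩ := (Char.isIrreducible_iff σ).1 h
  refine (isSimpleModule_iff_finrank_eq_one (R := F)).1 ((isSimpleModule_iff _ _).2 ⟨fun S => h1 S fun g v hv => ?_⟩)
  obtain ⟨c, hc⟩ := Char.schur_scalar σ (σ g) (hc g)
  rw [hc]; exact S.smul_mem c hv

theorem eq_one_of_finrank_eq_one (p : ℕ) [Fact p.Prime] [CharP F p] (h : finrank F U = 1) {B : End F U} {n : ℕ}
    (hB : B ^ p ^ n = 1) : B = 1 := by
  have := pow_finrank_eq_zero (N := B - 1) (s := p ^ n) (by rw [sub_pow_char' (F := F), hB, sub_self])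
  rwa [h, pow_one, sub_eq_zero] at this

/-- Theorem B for a minimal configuration -/
theorem thmB_min (p : ℕ) [hp : Fact p.Prime] [CharP F p] {q : ℕ} [hq : Fact q.Prime] (hpq : q ≠ p) (hQ : IsPGroup q Q)
    (ρ : Representation F Q W) (h0 : ¬ ⊤ ≤ ρ.ker) (α : MulAut Q) (Y : End F W) (n : ℕ) (hY : Y ^ p ^ (n + 1) = 1)
    (hα : α ^ p ^ (n + 1) = 1) (hρ : ∀ t, Y * ρ t = ρ (α t) * Y)
    (h1 : ∀ t, (α ^ p ^ n) t = t → t ∈ Subgroup.center Q)
    (h2 : ∀ N : Subgroup Q, (∀ t, (α ^ p ^ n) t * t⁻¹ ∈ N) → N = ⊤) :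
    (Y - 1) ^ (p ^ (n + 1) - 1) ≠ 0 ∨ ∃ n₀ m : ℕ, 1 ≤ n₀ ∧ n₀ ≤ n + 1 ∧ 1 ≤ m ∧ p ^ n₀ - 1 = q ^ m ∧
      ¬ IsMulCommutative Q ∧ (Y - 1) ^ (p ^ (n + 1 - n₀) * (p ^ n₀ - 1) - 1) ≠ 0 := by
  have hq0 : (q : F) ≠ 0 := fun e => hpq ((Nat.prime_dvd_prime_iff_eq hp.out hq.out).1
    ((CharP.cast_eq_zero_iff F p q).1 e)).symm
  obtain ⟨k, hk⟩ := hQ.exists_card_eq
  have hc : (Nat.card Q : F) ≠ 0 := by rw [hk, Nat.cast_pow]; exact pow_ne_zero _ hq0
  obtain ⟨U, _, _, _, σ, ι, hσ, a1, a2, a3⟩ := exists_irr_ne_one ρ hc ⊤ h0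
  obtain ⟨m, ι, π, B, b1, b2, b3, b4, b5, b6, b7⟩ := cliff ρ σ hc a1 a2 hρ (pow_pos hp.out.pos (n + 1))
    (hα ▸ one_mem _)
  obtain ⟨j, hj, rfl⟩ := (Nat.dvd_prime_pow hp.out).1 b2
  obtain ⟨n₀, hn⟩ := Nat.exists_eq_add_of_le hj
  have hι := Function.LeftInverse.injective b3
  have c1 : ∀ k u, ((Y ^ p ^ j) ^ k) (ι u) = ι ((B ^ k) u) := fun k u => by
    induction k with
    | zero => rfl
    | succ k ih => rw [pow_succ', pow_succ', End.mul_apply, ih, b6]; rfl
  have c2 : ∀ (k : ℕ) u, ((Y ^ p ^ j - 1) ^ k : End F W) (ι u) = ι (((B - 1) ^ k : End F U) u) := fun k u => by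
    induction k with
    | zero => rfl
    | succ k ih => rw [pow_succ', pow_succ', End.mul_apply, ih, LinearMap.sub_apply, b6, End.mul_apply,
        LinearMap.sub_apply, map_sub]; rfl
  have key : ∀ k, (Y - 1) ^ (p ^ j * (k + 1) - 1) = 0 → (B - 1) ^ k = 0 := fun k h => LinearMap.ext fun u => by
    have := congrArg π (LinearMap.congr_fun h (ι u))
    rw [show p ^ j * (k + 1) - 1 = p ^ j - 1 + p ^ j * k by rw [mul_add]; omega, pow_add, pow_mul,
      sub_pow_char' (F := F), geom_char (F := F), End.mul_apply, c2, LinearMap.sum_apply, map_sum,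
      Finset.sum_eq_single 0 (fun i hi h0 => b7 i (fun h => h0 (Nat.eq_zero_of_dvd_of_lt h (Finset.mem_range.1 hi))) _)
      (fun h => (h (Finset.mem_range.2 b1)).elim), pow_zero, End.one_apply, b3, LinearMap.zero_apply, map_zero] at this
    exact this
  haveI := Char.nontrivial_of_isIrreducible σ
  have h3 : 0 < p ^ n₀ := pow_pos hp.out.pos _
  by_cases h4 : (B - 1) ^ (p ^ n₀ - 1) = 0
  swap
  · exact Or.inl fun e => h4 (key _ (by rwa [Nat.sub_add_cancel h3, ← pow_add, ← hn]))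
  obtain rfl | ⟨r, rfl⟩ := n₀.eq_zero_or_eq_succ_pred.imp_right fun e => (⟨_, e⟩ : ∃ r, n₀ = r + 1)
  · exact (one_ne_zero h4).elim
  obtain rfl : n = j + r := by omega
  have d1 : B ^ p ^ (r + 1) = 1 := LinearMap.ext fun u => hι (by rw [← c1, ← pow_mul, ← pow_add, ← add_assoc, hY]; rfl)
  have d2 : ∀ t, B * σ t = σ ((α ^ p ^ j) t) * B := fun t => LinearMap.ext fun u => hι (by
    rw [End.mul_apply, End.mul_apply, ← b6, b4, b4, ← b6, ← End.mul_apply, pow_comm_aut ρ hρ]; rfl)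
  have d3 : (α ^ p ^ j) ^ p ^ (r + 1) = 1 := by rw [← pow_mul, ← pow_add, ← add_assoc, hα]
  have d4 : B ^ p ^ r ≠ 1 := fun e => a3 (h2 _ (fun t => by
    have := pow_comm_aut σ d2 (p ^ r) t
    rw [e, one_mul, mul_one, ← pow_mul, ← pow_add] at this
    rw [MonoidHom.mem_ker, map_mul, ← this, ← map_mul, mul_inv_cancel, map_one])).ge
  obtain ⟨e1, e2⟩ := core p σ hc _ B _ d1 d3 d2 (fun t i hi hi' ht => by
    obtain ⟨m, -, hm⟩ := exists_period (MulAction.stabilizer (MulAut Q) t) (α ^ p ^ j) h3 (d3 ▸ one_mem _)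
    obtain ⟨a, ha, rfl⟩ := (Nat.dvd_prime_pow hp.out).1 ((hm _).1 (d3 ▸ one_mem _))
    have h5 := (Nat.pow_lt_pow_iff_right hp.out.one_lt).1 ((Nat.le_of_dvd hi ((hm i).1 ht)).trans_lt hi')
    have h6 := (hm _).2 (pow_dvd_pow p (Nat.le_of_lt_succ h5))
    rw [← pow_mul, ← pow_add] at h6
    have h7 := Subgroup.mem_center_iff.1 (h1 t h6)
    exact Char.schur_scalar σ (σ t) fun g => by
      rw [← End.mul_eq_comp, ← End.mul_eq_comp, ← map_mul, ← map_mul, h7]) (fun e => d4 (by rw [e, one_pow])) h4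
  have d5 : finrank F U ≠ 1 := fun e => d4 (by rw [eq_one_of_finrank_eq_one p e d1, one_pow])
  obtain ⟨b, hb⟩ := finrank_pow hq0 k σ hk
  have d6 : 0 < finrank F U := finrank_pos
  refine Or.inr ⟨r + 1, b, by omega, by omega, Nat.pos_of_ne_zero fun e => d5 (by rw [hb, e, pow_zero]),
    e1.symm.trans hb, fun e => d5 (finrank_eq_one_of_comm σ fun a b => by rw [← map_mul, ← map_mul, e.1.1 a b]),
    fun e => e2 (key _ ?_)⟩
  rwa [show j + r + 1 - (r + 1) = j by omega, show p ^ (r + 1) - 1 = p ^ (r + 1) - 2 + 1 by omega] at e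

open Subgroup Cfsg.Agent.Comp in
/-- Theorem B of Hall and Higman -/
theorem thmB (p : ℕ) [hp : Fact p.Prime] [CharP F p] {G : Type u} [Group G] [Finite G] (ρ : Representation F G W)
    (hρ : Function.Injective ρ) [Nontrivial W] (hs : PSol p (⊤ : Subgroup G)) (hO : pCore p G = ⊥) {x : G} {n : ℕ}
    (hx : orderOf x = p ^ n) :
    (ρ x - 1) ^ (p ^ n - 1) ≠ 0 ∨ ∃ n₀ q m : ℕ, 1 ≤ n₀ ∧ n₀ ≤ n ∧ q.Prime ∧ 1 ≤ m ∧ p ^ n₀ - 1 = q ^ m ∧
      (∀ Q : Sylow q G, ¬ IsMulCommutative Q) ∧ (ρ x - 1) ^ (p ^ (n - n₀) * (p ^ n₀ - 1) - 1) ≠ 0 := by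
  rcases n with _ | n
  · exact Or.inl one_ne_zero
  set y := x ^ p ^ n with hy
  have h1 : orderOf y = p := by
    rw [orderOf_pow_of_dvd (pow_pos hp.out.pos _).ne' (hx ▸ pow_dvd_pow p n.le_succ), hx, pow_succ,
      Nat.mul_div_cancel_left _ (pow_pos hp.out.pos _)]
  have h2 : ¬ zpowers y ≤ Ct(pPrimeCore p G) := fun e => Solv.not_dvd_card_pPrimeCore (G := G) (p := p)
    (h1.symm.dvd.trans (Subgroup.orderOf_dvd_natCard _ (Char.psol_centralizer_le hs hO (e (mem_zpowers y)))))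
  have hcop : ∀ L ≤ pPrimeCore p G, (Nat.card (zpowers x)).Coprime (Nat.card L) := fun L hL => by
    rw [Nat.card_zpowers, hx]
    exact ((Solv.coprime_card_pPrimeCore p).of_dvd_left (card_dvd_of_le hL)).symm.pow_left _
  obtain ⟨L, a1, a2, a3, a4⟩ := exists_min_not_le_Ct (X := zpowers x) le_normalizer_of_normal h2
  obtain ⟨q, hq, hQ⟩ : ∃ q, q.Prime ∧ IsPGroup q L := by
    by_contra h
    refine a3 (le_Ct_comm.1 (inf_eq_left.1 (eq_of_forall_sylIn inf_le_left fun q hq _ => ?_)))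
    haveI := Fact.mk hq
    obtain ⟨T, b1, b2⟩ := exists_invariant_sylIn q a2 (hcop L a1) (Or.inl inferInstance)
    exact ⟨T, b1, le_inf b1.le (le_Ct_comm.1 (a4 T (lt_of_le_of_ne b1.le fun e => h ⟨q, hq, e ▸ b1.isP⟩) b2))⟩
  haveI := Fact.mk hq
  have hyx : zpowers y ≤ zpowers x := zpowers_le.2 (npow_mem_zpowers x _)
  obtain ⟨b1, -, b3⟩ := min_not_le_Ct (haveI := hQ.isNilpotent; inferInstance) a2 hyx
    ((le_centralizer_iff.1 (hyx.trans (le_centralizer _))).trans (centralizer_le_normalizer _))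
    ((hcop L a1).of_dvd_left (card_dvd_of_le hyx)) a3 a4
  have hL : L ≠ ⊥ := fun e => a3 (by rw [e]; exact le_Ct_comm.1 bot_le)
  have hpq : q ≠ p := by
    rintro rfl
    exact Solv.not_dvd_card_pPrimeCore ((Solv.dvd_card_of_isPGroup hQ hL).trans (card_dvd_of_le a1))
  let x' : Nm(L) := ⟨x, a2 (mem_zpowers x)⟩
  have hα : ∀ i t, ((L.normalizerMonoidHom x' ^ i) t : G) = x ^ i * t * (x ^ i)⁻¹ := fun i t => by
    rw [← map_pow]; rfl
  have hx1 : x ^ p ^ (n + 1) = 1 := hx ▸ pow_orderOf_eq_one x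
  refine (thmB_min p hpq hQ (resRep ρ L) (fun e => hL (eq_bot_iff.2 fun t ht =>
    hρ ((e (mem_top (⟨t, ht⟩ : L))).trans (map_one ρ).symm))) (L.normalizerMonoidHom x') (ρ x) n
    (by rw [← map_pow, hx1, map_one]) (MulEquiv.ext fun t => Subtype.ext (by rw [hα, hx1]; simp))
    (fun t => by
      show ρ x * ρ t = ρ (x * t * x⁻¹) * ρ x
      rw [← map_mul, ← map_mul, inv_mul_cancel_right])
    (fun t ht => mem_center_iff.2 fun g => Subtype.ext (b3 ⟨t.2, ?_⟩ g g.2)) fun N hN => ?_).imp_right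
    fun ⟨n₀, m, c1, c2, c3, c4, c5, c6⟩ => ⟨n₀, q, m, c1, c2, hq, c3, c4, fun Q hc => c5 ?_, c6⟩
  · have := congrArg Subtype.val ht
    rw [hα, mul_inv_eq_iff_eq_mul] at this
    rw [zpowers_eq_closure, centralizer_closure]
    exact mem_centralizer_singleton_iff.2 this.symm
  · let S : Subgroup G :=
      { carrier := {a | a ∈ Nm(L) ∧ ∀ t ∈ L, a * t * a⁻¹ * t⁻¹ ∈ N.map L.subtype}
        one_mem' := ⟨one_mem _, fun t _ => by simp⟩
        mul_mem' := fun {a b} ha hb => ⟨mul_mem ha.1 hb.1, fun t ht => by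
          convert mul_mem (ha.2 _ (Solv.conj_mem_of_mem_normalizer hb.1 ht)) (hb.2 t ht) using 1; group⟩
        inv_mem' := fun {a} ha => ⟨inv_mem ha.1, fun t ht => by
          convert inv_mem (ha.2 _ (Solv.conj_mem_of_mem_normalizer' ha.1 ht)) using 1; group⟩ }
    have h3 : zpowers y ≤ S := zpowers_le.2 ⟨a2 (hyx (mem_zpowers y)), fun t ht =>
      ⟨_, hN ⟨t, ht⟩, by rw [coe_subtype, coe_mul, hα]; rfl⟩⟩
    refine eq_top_iff.2 fun t _ => (mem_map_iff_mem L.subtype_injective).1 (?_ : (t : G) ∈ _)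
    exact (commutator_le.2 fun a ha t ht => (h3 ha).2 t ht : ⁅zpowers y, L⁆ ≤ _) (by rw [commutator_comm, b1]; exact t.2)
  · obtain ⟨T, hT⟩ := hQ.exists_le_sylow
    have e := (Sylow.equiv Q T).symm
    exact Solv.isMulCommutative_of_le hT ⟨⟨fun a b => e.injective (by rw [map_mul, map_mul, hc.1.1])⟩⟩

end Cfsg.Agent.HH
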