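/-
The upper `p`-series and the `p`-length.
-/
import Cfsg.Agent.Lib.BG.HH

set_option autoImplicit false
set_option linter.unusedSectionVars false

namespace Cfsg.Agent.PL

open Subgroup Cfsg.Agent.Solv
open scoped commutatorElement Pointwise

universe u

variable {G : Type*} [Group G] {H : Type*} [Group H] {p : ℕ}

abbrev U (p : ℕ) (G : Type*) [Group G] (n : ℕ) : Subgroup G := (upperPSeries p G n).1

instance instNormalU (n : ℕ) : (U p G n).Normal := (upperPSeries p G n).2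

def good (p n m : ℕ) : Prop := if Even n then m.Coprime p else ∃ k, m = p ^ k

theorem good_even {n m : ℕ} (h : Even n) : good p n m ↔ m.Coprime p := by rw [good, if_pos h]
theorem good_odd {n m : ℕ} (h : ¬ Even n) : good p n m ↔ ∃ k, m = p ^ k := by rw [good, if_neg h]

theorem good_congr {a b m : ℕ} (h : Even a ↔ Even b) (h1 : good p a m) : good p b m := by
  unfold good at *; rwa [← if_congr h rfl rfl]

theorem good_mul {n a b : ℕ} (h1 : good p n a) (h2 : good p n b) : good p n (a * b) := by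
  by_cases h : Even n
  · rw [good_even h] at *; exact h1.mul_left h2
  · rw [good_odd h] at *
    obtain ⟨a, rfl⟩ := h1; obtain ⟨b, rfl⟩ := h2; exact ⟨_, (pow_add _ _ _).symm⟩

theorem good_one (n : ℕ) : good p n 1 := by
  by_cases h : Even n
  · exact (good_even h).2 (Nat.coprime_one_left _)
  · exact (good_odd h).2 ⟨0, rfl⟩

theorem U_zero : U p G 0 = ⊥ := rfl
theorem U_even {n : ℕ} (h : Even n) : U p G (n + 1) = (pPrimeCore p (G ⧸ U p G n)).comap (QuotientGroup.mk' _) := by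
  simp only [U, upperPSeries, if_pos h]
theorem U_odd {n : ℕ} (h : ¬ Even n) : U p G (n + 1) = (pCore p (G ⧸ U p G n)).comap (QuotientGroup.mk' _) := by
  simp only [U, upperPSeries, if_neg h]

variable [Finite G] [Finite H] [hp : Fact p.Prime]

theorem coprime_of_forall {K : Subgroup G} (h : ∀ x ∈ K, ∃ m : ℕ, m.Coprime p ∧ x ^ m = 1) : (Nat.card K).Coprime p :=
  (hp.out.coprime_iff_not_dvd.2 fun e => by
    obtain ⟨x, hx⟩ := exists_prime_orderOf_dvd_card' p e
    obtain ⟨m, h1, h2⟩ := h x x.2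
    exact hp.out.coprime_iff_not_dvd.1 h1.symm (hx ▸ orderOf_coe x ▸ orderOf_dvd_of_pow_eq_one h2)).symm

theorem U_step {n : ℕ} {x : G} (hx : x ∈ U p G (n + 1)) : ∃ m, good p n m ∧ x ^ m ∈ U p G n := by
  by_cases h : Even n
  · rw [U_even h] at hx
    exact ⟨_, (good_even h).2 (coprime_card_pPrimeCore p), (QuotientGroup.eq_one_iff _).1
      (congrArg Subtype.val (pow_card_eq_one' (x := (⟨_, hx⟩ : pPrimeCore p _))))⟩
  · rw [U_odd h] at hx
    obtain ⟨k, hk⟩ := isPGroup_pCore p _ ⟨_, hx⟩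
    exact ⟨_, (good_odd h).2 ⟨k, rfl⟩, (QuotientGroup.eq_one_iff _).1 (congrArg Subtype.val hk)⟩

theorem le_U_succ {n : ℕ} {K : Subgroup G} [K.Normal] (hK : ∀ x ∈ K, ∃ m, good p n m ∧ x ^ m ∈ U p G n) :
    K ≤ U p G (n + 1) := by
  by_cases h : Even n
  · rw [U_even h, ← map_le_iff_le_comap]
    refine le_pPrimeCore (coprime_of_forall ?_)
    rintro _ ⟨x, hx, rfl⟩
    obtain ⟨m, h1, h2⟩ := hK x hx
    exact ⟨m, (good_even h).1 h1, (QuotientGroup.eq_one_iff _).2 h2⟩
  · rw [U_odd h, ← map_le_iff_le_comap]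
    refine le_pCore ?_
    rintro ⟨_, x, hx, rfl⟩
    obtain ⟨m, h1, h2⟩ := hK x hx
    obtain ⟨k, rfl⟩ := (good_odd h).1 h1
    exact ⟨k, Subtype.ext ((QuotientGroup.eq_one_iff _).2 h2)⟩

theorem le_U_succ' {n : ℕ} {K : Subgroup G} [K.Normal] (hK : ∀ x ∈ K, ∃ m, good p n m ∧ x ^ m ∈ U p G (n + 1)) :
    K ≤ U p G (n + 1) := le_U_succ fun x hx => by
  obtain ⟨a, h1, h2⟩ := hK x hx
  obtain ⟨b, h3, h4⟩ := U_step h2
  exact ⟨a * b, good_mul h1 h3, pow_mul x a b ▸ h4⟩

theorem U_mono : Monotone (U p G) :=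
  monotone_nat_of_le_succ fun n => le_U_succ fun x hx => ⟨1, good_one n, (pow_one x).symm ▸ hx⟩

theorem U_one : U p G 1 = pPrimeCore p G := BG.upperPSeries_one
theorem U_two : U p G 2 = pPrimePCore p G := BG.upperPSeries_two

theorem comap_le_add (f : G →* H) {a b : ℕ} (e : Even a ↔ Even b) (h : (U p H a).comap f ≤ U p G b) (n : ℕ) :
    (U p H (a + n)).comap f ≤ U p G (b + n) := by
  induction n with
  | zero => exact h
  | succ n ih =>
    refine le_U_succ fun x hx => ?_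
    obtain ⟨m, h1, h2⟩ := U_step (n := a + n) hx
    exact ⟨m, good_congr (b := b + n) (by simp only [Nat.even_add, e]) h1, ih (by rwa [mem_comap, map_pow])⟩

theorem map_le_add {f : G →* H} (hf : Function.Surjective f) {a b : ℕ} (e : Even a ↔ Even b)
    (h : (U p G a).map f ≤ U p H b) (n : ℕ) : (U p G (a + n)).map f ≤ U p H (b + n) := by
  induction n with
  | zero => exact h
  | succ n ih =>
    haveI := normal_map_of_surjective hf (U p G (a + (n + 1)))
    refine le_U_succ ?_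
    rintro _ ⟨x, hx, rfl⟩
    obtain ⟨m, h1, h2⟩ := U_step (n := a + n) hx
    exact ⟨m, good_congr (b := b + n) (by simp only [Nat.even_add, e]) h1, ih ⟨_, h2, map_pow _ _ _⟩⟩

theorem comap_le {f : G →* H} (hf : Function.Injective f) (n : ℕ) : (U p H n).comap f ≤ U p G n := by
  simpa using comap_le_add (p := p) f (a := 0) (b := 0) Iff.rfl ((MonoidHom.ker_eq_bot_iff f).2 hf).le n

theorem map_le {f : G →* H} (hf : Function.Surjective f) (n : ℕ) : (U p G n).map f ≤ U p H n := by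
  simpa using map_le_add (p := p) hf (a := 0) (b := 0) Iff.rfl (Subgroup.map_bot f).le n

instance instCharU (n : ℕ) : (U p G n).Characteristic :=
  characteristic_iff_map_le.2 fun e => map_le e.surjective n

theorem comap_le_even (f : G →* H) {a : ℕ} (h : f.ker ≤ U p G (2 * a)) (n : ℕ) :
    (U p H n).comap f ≤ U p G (2 * a + n) := by
  simpa using comap_le_add (p := p) f (a := 0) (b := 2 * a) (by simp) h n

theorem comap_le_odd (f : G →* H) {a : ℕ} (h : f.ker ≤ U p G (2 * a + 1)) (n : ℕ) :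
    (U p H (n + 1)).comap f ≤ U p G (2 * a + (n + 1)) := by
  have := comap_le_add (p := p) f (a := 1) (b := 2 * a + 1) (by simp) (le_U_succ' fun x hx => by
    obtain ⟨m, h1, h2⟩ := U_step (n := 0) hx
    exact ⟨m, good_congr (by simp) h1, h (by rwa [MonoidHom.mem_ker, map_pow])⟩) n
  rwa [add_comm 1 n, add_assoc, add_comm 1 n] at this

theorem map_subtype_le (N : Subgroup G) [N.Normal] (n : ℕ) : (U p N n).map N.subtype ≤ U p G n := by
  induction n with
  | zero => exact (Subgroup.map_bot _).le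
  | succ n ih =>
    refine le_U_succ ?_
    rintro _ ⟨x, hx, rfl⟩
    obtain ⟨m, h1, h2⟩ := U_step hx
    exact ⟨m, h1, ih ⟨_, h2, map_pow _ _ _⟩⟩

theorem inf_le {H' : Type*} [Group H'] [Finite H'] (f : G →* H) (g : G →* H') (h : f.ker ⊓ g.ker = ⊥) (n : ℕ) :
    (U p H n).comap f ⊓ (U p H' n).comap g ≤ U p G n := by
  induction n with
  | zero => exact h.le
  | succ n ih =>
    refine le_U_succ fun x hx => ?_
    obtain ⟨a, h1, h2⟩ := U_step (n := n) hx.1
    obtain ⟨b, h3, h4⟩ := U_step (n := n) hx.2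
    refine ⟨a * b, good_mul h1 h3, ih ⟨?_, ?_⟩⟩
    · refine mem_comap.2 ?_
      rw [map_pow, pow_mul]; exact pow_mem h2 _
    · refine mem_comap.2 ?_
      rw [map_pow, mul_comm, pow_mul]; exact pow_mem h4 _

theorem top_of_inj {f : G →* H} (hf : Function.Injective f) {n : ℕ} (h : U p H n = ⊤) : U p G n = ⊤ :=
  eq_top_iff.2 (le_trans (by rw [h, comap_top]) (comap_le hf n))

theorem top_of_surj {f : G →* H} (hf : Function.Surjective f) {n : ℕ} (h : U p G n = ⊤) : U p H n = ⊤ :=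
  eq_top_iff.2 (le_trans (by rw [h, map_top_of_surjective f hf]) (map_le hf n))

theorem top_mono {a b : ℕ} (e : a ≤ b) (h : U p G a = ⊤) : U p G b = ⊤ := eq_top_iff.2 (h.ge.trans (U_mono e))

theorem top_of_even (f : G →* H) {a n : ℕ} (h : f.ker ≤ U p G (2 * a)) (h1 : U p H n = ⊤) : U p G (2 * a + n) = ⊤ :=
  eq_top_iff.2 (le_trans (by rw [h1, comap_top]) (comap_le_even f h n))

theorem top_of_odd (f : G →* H) {a n : ℕ} (h : f.ker ≤ U p G (2 * a + 1)) (h1 : U p H (n + 1) = ⊤) :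
    U p G (2 * a + (n + 1)) = ⊤ :=
  eq_top_iff.2 (le_trans (by rw [h1, comap_top]) (comap_le_odd f h n))

theorem top_of_inf {A B : Subgroup G} [A.Normal] [B.Normal] (h : A ⊓ B = ⊥) {n : ℕ} (h1 : U p (G ⧸ A) n = ⊤)
    (h2 : U p (G ⧸ B) n = ⊤) : U p G n = ⊤ :=
  eq_top_iff.2 (le_trans (by rw [h1, h2]; exact fun _ _ => ⟨trivial, trivial⟩)
    (inf_le (QuotientGroup.mk' A) (QuotientGroup.mk' B) (by rwa [QuotientGroup.ker_mk', QuotientGroup.ker_mk']) n))

theorem le_U_of_top {N : Subgroup G} [N.Normal] {n : ℕ} (h : U p N n = ⊤) : N ≤ U p G n :=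
  le_trans (by rw [h, ← MonoidHom.range_eq_map, range_subtype]) (map_subtype_le N n)

theorem pl_ext {N : Subgroup G} [N.Normal] {a b : ℕ} (h1 : PLengthLE p a N) (h2 : PLengthLE p b (G ⧸ N)) :
    PLengthLE p (a + b) G := by
  have := top_of_odd (QuotientGroup.mk' N) (by rw [QuotientGroup.ker_mk']; exact le_U_of_top h1) h2
  rwa [← add_assoc, ← mul_add] at this

theorem pl_zero_iff : PLengthLE p 0 G ↔ ¬ p ∣ Nat.card G := by
  show U p G 1 = ⊤ ↔ _
  rw [U_one]
  exact ⟨fun h => by simpa [h] using not_dvd_card_pPrimeCore (G := G) (p := p),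
    fun h => eq_top_iff.2 (le_pPrimeCore (by rw [card_top]; exact (hp.out.coprime_iff_not_dvd.2 h).symm))⟩

theorem pl_succ {k : ℕ} (h : PLengthLE p k (G ⧸ pPrimePCore p G)) : PLengthLE p (k + 1) G := by
  have := top_of_even (QuotientGroup.mk' _) (a := 1) (by rw [QuotientGroup.ker_mk', U_two]) h
  rwa [show 2 * 1 + (2 * k + 1) = 2 * (k + 1) + 1 by ring] at this

theorem top_of_succ {n : ℕ} {N : Subgroup G} [N.Normal] (hN : pPrimePCore p G ≤ N) (h : U p G (2 + n) = ⊤) :
    U p (G ⧸ N) n = ⊤ := by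
  have := map_le_add (p := p) (QuotientGroup.mk'_surjective N) (a := 2) (b := 0) (by simp)
    (by rw [U_two, U_zero, le_bot_iff, Subgroup.map_eq_bot_iff, QuotientGroup.ker_mk']; exact hN) n
  rwa [h, map_top_mk, zero_add, top_le_iff] at this

theorem pl_of_succ {k : ℕ} {N : Subgroup G} [N.Normal] (hN : pPrimePCore p G ≤ N) (h : PLengthLE p (k + 1) G) :
    PLengthLE p k (G ⧸ N) := top_of_succ hN (by rwa [show 2 + (2 * k + 1) = 2 * (k + 1) + 1 by ring])

theorem top_of_quot_pPrimeCore {n : ℕ} (h : U p (G ⧸ pPrimeCore p G) (n + 1) = ⊤) : U p G (n + 1) = ⊤ := by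
  simpa using top_of_odd (QuotientGroup.mk' _) (a := 0) (by rw [QuotientGroup.ker_mk', U_one]) h

theorem pPrimePCore_eq (h : pPrimeCore p G = ⊥) : pPrimePCore p G = pCore p G := by
  rw [← Comp.Oppp_top, Comp.Oppp_eq_Op (by rwa [Comp.Opp_top]), Comp.Op_top]

theorem U_two_iff : U p G 2 = ⊤ ↔ ∃ K : Subgroup G, K.Normal ∧ ¬ p ∣ Nat.card K ∧ ∃ k : ℕ, K.index = p ^ k := by
  refine ⟨fun h => ⟨pPrimeCore p G, inferInstance, not_dvd_card_pPrimeCore, IsPGroup.iff_card.1 fun x => ?_⟩,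
    fun ⟨K, _, h1, k, h2⟩ => eq_top_iff.2 (le_U_succ fun x _ => ⟨_, (good_odd (by decide)).2 ⟨k, rfl⟩, ?_⟩)⟩
  · obtain ⟨x, rfl⟩ := QuotientGroup.mk_surjective x
    obtain ⟨m, h1, h2⟩ := U_step (h.ge (mem_top x))
    obtain ⟨k, rfl⟩ := (good_odd (by decide)).1 h1
    exact ⟨k, (QuotientGroup.eq_one_iff _).2 (U_one (p := p) (G := G) ▸ h2)⟩
  · rw [U_one]
    exact le_pPrimeCore (hp.out.coprime_iff_not_dvd.2 h1).symm (h2 ▸ K.pow_index_mem x)

theorem card_map_mk' (K N : Subgroup G) [N.Normal] : Nat.card (K.map (QuotientGroup.mk' N)) = N.relIndex K := by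
  rw [← relIndex_ker, QuotientGroup.ker_mk']

theorem relIndex_even {n : ℕ} (h : Even n) : ¬ p ∣ (U p G n).relIndex (U p G (n + 1)) := by
  have := card_map_mk' (U p G (n + 1)) (U p G n)
  rw [← this, U_even h, map_comap_eq_self_of_surjective (QuotientGroup.mk'_surjective _)]
  exact not_dvd_card_pPrimeCore

theorem relIndex_odd {n : ℕ} (h : ¬ Even n) : ∃ k, (U p G n).relIndex (U p G (n + 1)) = p ^ k := by
  have := card_map_mk' (U p G (n + 1)) (U p G n)
  rw [← this, U_odd h, map_comap_eq_self_of_surjective (QuotientGroup.mk'_surjective _)]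
  exact (isPGroup_pCore p _).exists_card_eq

theorem normal_compl_of_frattini {N K B : Subgroup G} [N.Normal] [K.Normal] (hN : IsPGroup p N) (h : N ≤ frattini G)
    (b2 : N ⊓ B = ⊥) (b3 : N ⊔ B = K) (h6 : (Nat.card B).Coprime p) : B.Normal := by
  obtain ⟨k, hk⟩ := hN.exists_card_eq
  refine normalizer_eq_top_iff.1 (eq_top_of_sup_le_frattini h (eq_top_iff.2 fun g _ => ?_))
  have a1 := Normal.conj_smul_eq_self g N
  have a2 := Normal.conj_smul_eq_self g K
  obtain ⟨c, hc, e⟩ := sz_conj_internal (A := B) (B := MulAut.conj g • B) (K := N) le_normalizer_of_normal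
    (by rw [hk]; exact h6.pow_right k) (Or.inr (haveI := hN.isNilpotent; inferInstance))
    (by rw [← a1, ← smul_inf, b2, smul_bot]) (by rw [b3, ← a1, ← smul_sup, b3, a2])
  have : c⁻¹ * g ∈ normalizer (B : Set G) := by
    rw [← conj_smul_eq_self_iff, map_mul, mul_smul, ← e, map_inv, inv_smul_smul]
  rw [← mul_inv_cancel_left c g]
  exact mul_mem (mem_sup_right hc) (mem_sup_left this)

theorem comap_two_le_of_frattini {N : Subgroup G} [N.Normal] (hN : IsPGroup p N) (h : N ≤ frattini G) :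
    (U p (G ⧸ N) 2).comap (QuotientGroup.mk' N) ≤ U p G 2 := by
  obtain ⟨K, hK⟩ : ∃ K, K = (pPrimeCore p (G ⧸ N)).comap (QuotientGroup.mk' N) := ⟨_, rfl⟩
  haveI : K.Normal := hK ▸ inferInstance
  have h1 : N ≤ K := fun x hx => by
    rw [hK, mem_comap, QuotientGroup.mk'_apply, (QuotientGroup.eq_one_iff _).2 hx]; exact one_mem _
  have h2 : (N.relIndex K).Coprime p := by
    rw [← card_map_mk', hK, map_comap_eq_self_of_surjective (QuotientGroup.mk'_surjective _)]
    exact coprime_card_pPrimeCore p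
  obtain ⟨k, hk⟩ := hN.exists_card_eq
  obtain ⟨B, b1, b2, b3, b4⟩ := sz_exists_internal h1 le_normalizer_of_normal (by rw [hk]; exact h2.symm.pow_left k)
  have h6 : (Nat.card B).Coprime p := by rw [b4]; exact h2
  haveI := normal_compl_of_frattini hN h b2 b3 h6
  refine le_U_succ (n := 1) fun x hx => ?_
  obtain ⟨m, h3, h4⟩ := U_step (n := 1) (mem_comap.1 hx)
  rw [U_one, ← map_pow, ← mem_comap, ← hK, ← b3] at h4
  obtain ⟨n, hn, b, hb, e⟩ := mem_sup_of_normal_right.1 h4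
  refine ⟨_, good_mul h3 ((good_odd (by decide)).2 ⟨k, rfl⟩), ?_⟩
  rw [U_one, pow_mul, ← e]
  have h7 : n ^ p ^ k = 1 := by rw [← hk]; exact congrArg Subtype.val (pow_card_eq_one' (x := (⟨n, hn⟩ : N)))
  refine le_pPrimeCore h6 ((QuotientGroup.eq_one_iff _).1 ?_)
  rw [QuotientGroup.mk_pow, QuotientGroup.mk_mul, (QuotientGroup.eq_one_iff _).2 hb, mul_one, ← QuotientGroup.mk_pow, h7]
  rfl

theorem top_of_frattini {N : Subgroup G} [N.Normal] (hN : IsPGroup p N) (h : N ≤ frattini G) {n : ℕ}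
    (h1 : U p (G ⧸ N) (2 + n) = ⊤) : U p G (2 + n) = ⊤ :=
  eq_top_iff.2 (le_trans (by rw [h1, comap_top]) (comap_le_add _ Iff.rfl (comap_two_le_of_frattini hN h) n))

theorem centralizer_le {G : Type u} [Group G] [Finite G] (h : Comp.PSol p (⊤ : Subgroup G)) :
    centralizer (pCore p (G ⧸ pPrimeCore p G) : Set (G ⧸ pPrimeCore p G)) ≤ pCore p (G ⧸ pPrimeCore p G) :=
  Transfer.psol_charP (Transfer.psol_surj (QuotientGroup.mk'_surjective _) h) pPrimeCore_quotient_pPrimeCore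

theorem mem_of_comm {G : Type u} [Group G] [Finite G] (h : Comp.PSol p (⊤ : Subgroup G)) (P : Sylow p G) {z : G}
    (hz : ∀ x ∈ P, Commute x z) : z ∈ pPrimePCore p G := by
  refine centralizer_le h fun y hy => ?_
  obtain ⟨x, hx, rfl⟩ := pCore_le_sylow (P.mapSurjective (QuotientGroup.mk'_surjective _)) hy
  exact (hz x hx).map _

abbrev kk (p : ℕ) [Fact p.Prime] := AlgebraicClosure (ZMod p)

/-- the action of `G` on the dual of the Frattini quotient of a normal subgroup -/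
noncomputable def drep (p : ℕ) [Fact p.Prime] (R : Subgroup G) [R.Normal] : Representation (kk p) G (Transfer.dualMod (kk p) R) :=
  (Transfer.dualRep (kk p) R).comp ((MonoidHom.id G).codRestrict _ fun x => le_normalizer_of_normal (mem_top x))

theorem drep_apply {R : Subgroup G} [hR : R.Normal] (x : G) (f : Transfer.dualMod (kk p) R) (v : R) :
    (drep p R x f).1 v = f.1 ⟨x⁻¹ * v * x, hR.conj_mem' _ v.2 x⟩ := rfl

theorem le_ker_drep (R : Subgroup G) [R.Normal] : R ≤ (drep p R).ker := fun x hx =>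
  LinearMap.ext fun f => Subtype.ext (funext fun v => by
    rw [drep_apply]
    refine (Transfer.dual_mul f (⟨x, hx⟩⁻¹ * v) ⟨x, hx⟩).trans ?_
    rw [Transfer.dual_mul, Transfer.dual_inv, Module.End.one_apply]; ring)

theorem ker_drep {R : Subgroup G} [R.Normal] (hR : IsPGroup p R) (h : centralizer (R : Set G) ≤ R) :
    (drep p R).ker ≤ pCore p G := le_pCore fun x => by
  obtain ⟨k, hk⟩ := exists_pow_coprime_orderOf hp.out x.1
  have h1 := h (Transfer.mem_centralizer_of_dualRep (K := kk p) hR ⟨x.1 ^ p ^ k, le_normalizer_of_normal (mem_top _)⟩ hk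
    ⟨1, (pow_one _).trans (sub_eq_zero.2 (pow_mem x.2 _))⟩)
  obtain ⟨j, hj⟩ := hR ⟨_, h1⟩
  exact ⟨k, Subtype.ext (orderOf_eq_one_iff.1 ((hk.pow_right j).eq_one_of_dvd
    (orderOf_dvd_of_pow_eq_one (congrArg Subtype.val hj))))⟩

theorem dual_norm {R : Subgroup G} [hR : R.Normal] (x : G) (f : Transfer.dualMod (kk p) R) (v : R) (j : ℕ) :
    ∃ h : (x ^ j)⁻¹ * (x * v) ^ j ∈ R, f.1 ⟨_, h⟩ = ((∑ i ∈ Finset.range j, drep p R x ^ i) f).1 v := by
  induction j with
  | zero => exact ⟨by simp, Eq.trans (congrArg f.1 (Subtype.ext (by simp))) (Transfer.dual_one f)⟩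
  | succ j ih =>
    obtain ⟨h1, h2⟩ := ih
    have e : (x ^ (j + 1))⁻¹ * (x * v) ^ (j + 1) = (x ^ j)⁻¹ * v * x ^ j * ((x ^ j)⁻¹ * (x * v) ^ j) := by
      rw [pow_succ' x, pow_succ' (x * v)]; simp only [mul_inv_rev, mul_assoc, inv_mul_cancel_left, mul_inv_cancel_left]
    refine ⟨e ▸ mul_mem (hR.conj_mem' _ v.2 _) h1, ?_⟩
    rw [Finset.sum_range_succ, LinearMap.add_apply, Submodule.coe_add, Pi.add_apply, ← h2, ← map_pow, drep_apply,
      add_comm (f.1 _), ← Transfer.dual_mul]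
    exact congrArg f.1 (Subtype.ext e)

/-- the representation of `G / O_p(G)` -/
noncomputable def qrep (p : ℕ) [Fact p.Prime] (G : Type*) [Group G] [Finite G] :
    Representation (kk p) (G ⧸ pCore p G) (Transfer.dualMod (kk p) (pCore p G)) :=
  QuotientGroup.lift _ (drep p (pCore p G)) (le_ker_drep _)

theorem qrep_inj (h : centralizer (pCore p G : Set G) ≤ pCore p G) : Function.Injective (qrep p G) :=
  (injective_iff_map_eq_one _).2 fun x hx => by
    obtain ⟨x, rfl⟩ := QuotientGroup.mk_surjective x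
    exact (QuotientGroup.eq_one_iff _).2 (ker_drep (isPGroup_pCore p G) h hx)

/-- Hall–Higman B inside a group -/
theorem hh {G : Type u} [Group G] [Finite G] (hs : Comp.PSol p (⊤ : Subgroup G)) (hO : pPrimeCore p G = ⊥) {x : G}
    {n : ℕ} (hx : orderOf (x : G ⧸ pCore p G) = p ^ (n + 1)) :
    (drep p (pCore p G) x - 1) ^ (p ^ (n + 1) - 1) ≠ 0 ∨ ∃ n₀ q m : ℕ, 1 ≤ n₀ ∧ n₀ ≤ n + 1 ∧ q.Prime ∧ 1 ≤ m ∧
      p ^ n₀ - 1 = q ^ m ∧ (∀ Q : Sylow q G, ¬ IsMulCommutative Q) ∧
      (drep p (pCore p G) x - 1) ^ (p ^ (n + 1 - n₀) * (p ^ n₀ - 1) - 1) ≠ 0 := by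
  have h1 := qrep_inj (Transfer.psol_charP hs hO)
  haveI : Nontrivial (Transfer.dualMod (kk p) (pCore p G)) := by
    by_contra h
    rw [not_nontrivial_iff_subsingleton] at h
    rw [h1 (Subsingleton.elim (qrep p G x) (qrep p G 1)), orderOf_one] at hx
    exact (Nat.one_lt_pow n.succ_ne_zero hp.out.one_lt).ne hx
  refine (HH.thmB p (qrep p G) h1 (Transfer.psol_surj (QuotientGroup.mk'_surjective _) hs) pCore_quotient_pCore
    hx).imp_right fun ⟨n₀, q, m, a, b, c, d, e, f, g⟩ => ⟨n₀, q, m, a, b, c, d, e, fun Q hQ => ?_, g⟩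
  haveI := Fact.mk c
  exact f (Q.mapSurjective (QuotientGroup.mk'_surjective _)) (map_isMulCommutative _ _)

theorem exp_surj {f : G →* H} (hf : Function.Surjective f) {e : ℕ} (h : ∀ (x : G) k, x ^ p ^ k = 1 → x ^ p ^ e = 1)
    (x : H) (k : ℕ) (hx : x ^ p ^ k = 1) : x ^ p ^ e = 1 := by
  obtain ⟨P, -, h1, h2⟩ := Comp.exists_isPGroup_map_eq f (X := ⊤) (Q := zpowers x) (q := p)
    (by rw [map_top_of_surjective f hf]; exact le_top) (by
      rintro ⟨_, i, rfl⟩
      exact ⟨k, Subtype.ext (show (x ^ i) ^ p ^ k = 1 by rw [← zpow_natCast, ← zpow_mul, mul_comm, zpow_mul, zpow_natCast, hx, one_zpow])⟩)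
  obtain ⟨y, hy, rfl⟩ := h2.ge (mem_zpowers x)
  obtain ⟨j, hj⟩ := h1 ⟨y, hy⟩
  rw [← map_pow, h y j (congrArg Subtype.val hj), map_one]

theorem exp_of_sylow {e : ℕ} (h : ∀ (P : Sylow p G), ∀ x ∈ (P : Subgroup G), x ^ p ^ e = 1) (x : G) (k : ℕ)
    (hx : x ^ p ^ k = 1) : x ^ p ^ e = 1 := by
  obtain ⟨P, hP⟩ := IsPGroup.exists_le_sylow (P := zpowers x) (p := p) (by
    rintro ⟨_, i, rfl⟩
    exact ⟨k, Subtype.ext (show (x ^ i) ^ p ^ k = 1 by rw [← zpow_natCast, ← zpow_mul, mul_comm, zpow_mul, zpow_natCast, hx, one_zpow])⟩)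
  exact h P x (hP (mem_zpowers x))

/-- no exceptional prime -/
def NE (p : ℕ) (G : Type*) [Group G] : Prop :=
  ∀ n₀ q m : ℕ, 1 ≤ n₀ → q.Prime → 1 ≤ m → p ^ n₀ - 1 = q ^ m → ∃ Q : Sylow q G, IsMulCommutative Q

theorem NE.surj {f : G →* H} (hf : Function.Surjective f) (h : NE p G) : NE p H := fun n₀ q m a b c d => by
  haveI := Fact.mk b
  obtain ⟨Q, hQ⟩ := h n₀ q m a b c d
  exact ⟨Q.mapSurjective hf, map_isMulCommutative _ _⟩

theorem NE_of_not_fermat (hp2 : p ≠ 2) (h : ¬ ∃ k : ℕ, p = 2 ^ k + 1) : NE p G := fun n₀ q m a b c d => by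
  have h1 : 2 ∣ p ^ n₀ - 1 := (Nat.Odd.sub_odd (hp.out.odd_of_ne_two hp2).pow odd_one).two_dvd
  obtain rfl := (Nat.prime_dvd_prime_iff_eq Nat.prime_two b).1 (Nat.prime_two.dvd_of_dvd_pow (d ▸ h1))
  obtain ⟨k, -, hk⟩ := (Nat.dvd_prime_pow Nat.prime_two).1 (d ▸ Nat.sub_one_dvd_pow_sub_one p n₀)
  exact (h ⟨k, by have := hp.out.pos; omega⟩).elim

theorem pl_of_exp (e : ℕ) : ∀ {G : Type u} [Group G] [Finite G], Comp.PSol p (⊤ : Subgroup G) → NE p G →
    (∀ (x : G) k, x ^ p ^ k = 1 → x ^ p ^ e = 1) → PLengthLE p e G := by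
  induction e with
  | zero =>
    intro G _ _ _ _ h
    refine pl_zero_iff.2 fun hd => ?_
    obtain ⟨x, hx⟩ := exists_prime_orderOf_dvd_card' p hd
    have := h x 1 (by rw [pow_one, ← hx, pow_orderOf_eq_one])
    rw [pow_zero, pow_one] at this
    exact hp.out.ne_one (by rw [← hx, this, orderOf_one])
  | succ e ih =>
    suffices H : ∀ {G : Type u} [Group G] [Finite G], Comp.PSol p (⊤ : Subgroup G) → NE p G →
        (∀ (x : G) k, x ^ p ^ k = 1 → x ^ p ^ (e + 1) = 1) → pPrimeCore p G = ⊥ → PLengthLE p (e + 1) G from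
      @fun _ _ _ h1 h2 h3 => have hf := QuotientGroup.mk'_surjective (pPrimeCore p _)
        top_of_quot_pPrimeCore (H (Transfer.psol_surj hf h1) (h2.surj hf) (exp_surj hf h3) pPrimeCore_quotient_pPrimeCore)
    intro G _ _ h1 h2 h3 h4
    have hf := QuotientGroup.mk'_surjective (pCore p G)
    have := top_of_even (QuotientGroup.mk' _) (a := 1) (by rw [QuotientGroup.ker_mk', U_two, pPrimePCore_eq h4])
      (ih (Transfer.psol_surj hf h1) (h2.surj hf) fun x k hx => ?_)
    · rwa [show 2 * 1 + (2 * e + 1) = 2 * (e + 1) + 1 by ring] at this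
    by_contra h5
    have h6 := orderOf_eq_prime_pow h5 (exp_surj hf h3 x k hx)
    obtain ⟨x, rfl⟩ := QuotientGroup.mk_surjective x
    have h7 : ∀ v ∈ pCore p G, (x * v) ^ p ^ (e + 1) = 1 := fun v hv => by
      obtain ⟨j, hj⟩ := isPGroup_pCore p G ⟨(x * v) ^ p ^ k, (QuotientGroup.eq_one_iff _).1 (by
        rwa [QuotientGroup.mk_pow, QuotientGroup.mk_mul, (QuotientGroup.eq_one_iff _).2 hv, mul_one])⟩
      exact h3 _ (k + j) (by rw [pow_add, pow_mul]; exact congrArg Subtype.val hj)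
    obtain h | ⟨n₀, q, m, a, b, c, d, e, f, -⟩ := hh h1 h4 h6
    · refine h ((HH.geom_char (F := kk p) (A := Module.End (kk p) _) p (e + 1) (drep p (pCore p G) x)).trans (LinearMap.ext fun f => Subtype.ext (funext fun v => ?_)))
      obtain ⟨h8, h9⟩ := dual_norm x f v (p ^ (e + 1))
      rw [← h9]
      refine Eq.trans (congrArg f.1 (Subtype.ext ?_)) (Transfer.dual_one f)
      have := h7 1 (one_mem _)
      rw [mul_one] at this
      simp only [h7 v v.2, this, inv_one, mul_one, OneMemClass.coe_one]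
    · obtain ⟨Q, hQ⟩ := h2 n₀ q m a c d e
      exact f Q hQ

theorem pl_of_lcs (c : ℕ) : ∀ {G : Type u} [Group G] [Finite G], Comp.PSol p (⊤ : Subgroup G) →
    ∀ P : Sylow p G, Group.nilpotencyClass P ≤ c → PLengthLE p c G := by
  induction c with
  | zero =>
    intro G _ _ _ P h
    haveI := P.isPGroup'.isNilpotent
    haveI := Group.nilpotencyClass_zero_iff_subsingleton.1 (Nat.le_zero.1 h)
    refine pl_zero_iff.2 fun hd => ?_
    exact (P.ne_bot_of_dvd_card hd) (eq_bot_of_subsingleton _)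
  | succ c ih =>
    intro G _ _ hs P h
    haveI := P.isPGroup'.isNilpotent
    have hf := QuotientGroup.mk'_surjective (pPrimePCore p G)
    refine pl_succ (ih (Transfer.psol_surj hf hs) (P.mapSurjective hf) ?_)
    let φ : P →* P.mapSurjective hf := (QuotientGroup.mk' (pPrimePCore p G)).subgroupMap (P : Subgroup G)
    have h1 : center P ≤ φ.ker := fun z hz => Subtype.ext ((QuotientGroup.eq_one_iff _).2
      (mem_of_comm hs P fun x hx => congrArg Subtype.val (mem_center_iff.1 hz ⟨x, hx⟩)))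
    have h2 := Group.nilpotencyClass_le_of_surjective (QuotientGroup.lift _ φ h1)
      (QuotientGroup.lift_surjective_of_surjective _ _ (MonoidHom.subgroupMap_surjective _ _) _)
    rw [Group.nilpotencyClass_quotient_center] at h2
    omega

end Cfsg.Agent.PL
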