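/-
Hall complement systems, system normalizers and Carter subgroups of solvable groups.
-/
import Cfsg.Agent.Lib.BG.PLen
import Cfsg.Prelude.Def_SolvableStructure

set_option autoImplicit false
set_option linter.unusedSectionVars false

namespace Cfsg.Agent.Sys

open Subgroup Cfsg.Agent.Comp Cfsg.Agent.BG
open scoped commutatorElement Pointwise

universe u

variable {G : Type u} [Group G] [Finite G]

instance instFactPrimes (p : Nat.Primes) : Fact (p : ℕ).Prime := ⟨p.2⟩

theorem crt_top (H : Nat.Primes → Subgroup G) (hH : ∀ p : Nat.Primes, PiN {(p : ℕ)} (H p).index) (g : Nat.Primes → G) :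
    ∃ x, ∀ p, (g p)⁻¹ * x ∈ H p := by
  classical
  have key : ∀ s : Finset Nat.Primes, (∃ x, ∀ p ∈ s, (g p)⁻¹ * x ∈ H p) ∧
      PiN {q | ∃ p ∈ s, q = (p : ℕ)} (s.inf H).index := fun s => by
    induction s using Finset.induction_on with
    | empty => exact ⟨⟨1, by simp⟩, by simp [piN_one]⟩
    | insert q s hq ih =>
      obtain ⟨⟨x, hx⟩, h⟩ := ih
      have h1 := Solv.isProd_top_of_coprime (h.coprime_of_disjoint (hH q) (by
        rintro _ ⟨p, hp, rfl⟩ e; exact hq (Subtype.ext e ▸ hp)))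
      obtain ⟨d, d1, k, k1, e⟩ := h1 (x⁻¹ * g q) (mem_top _)
      refine ⟨⟨x * d, fun p hp => ?_⟩, ?_⟩
      · rcases Finset.mem_insert.1 hp with rfl | hp
        · rw [show (g p)⁻¹ * (x * d) = (x⁻¹ * g p)⁻¹ * d by group, e]; simpa using k1
        · rw [← mul_assoc]; exact mul_mem (hx p hp) (Finset.inf_le (f := H) hp d1)
      · rw [Finset.inf_insert, ← relIndex_mul_index inf_le_right, inf_relIndex_right, h1.relIndex_eq_index]
        exact ((hH q).mono (by rintro _ rfl; exact ⟨q, Finset.mem_insert_self _ _, rfl⟩)).mul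
          (h.mono fun _ ⟨p, hp, e⟩ => ⟨p, Finset.mem_insert_of_mem hp, e⟩)
  obtain ⟨x, hx⟩ := (key ((Nat.card G).primeFactors.subtype Nat.Prime)).1
  refine ⟨x, fun p => ?_⟩
  by_cases h : (p : ℕ) ∣ Nat.card G
  · exact hx p (Finset.mem_subtype.2 (Nat.mem_primeFactors.2 ⟨p.2, h, Nat.card_pos.ne'⟩))
  · rw [index_eq_one.1 ((hH p).eq_one (piN_compl_singleton'.2 fun e => h (e.trans (index_dvd_card _))))]; exact mem_top _

theorem crt {M : Subgroup G} (H : Nat.Primes → Subgroup G) (hH : ∀ p : Nat.Primes, PiN {(p : ℕ)} ((H p).relIndex M)) (g : Nat.Primes → G)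
    (hg : ∀ p, g p ∈ M) : ∃ x ∈ M, ∀ p, (g p)⁻¹ * x ∈ H p := by
  obtain ⟨x, hx⟩ := crt_top (fun p => (H p).subgroupOf M) hH fun p => ⟨g p, hg p⟩
  exact ⟨x, x.2, hx⟩

theorem cs_iff {K : Nat.Primes → Subgroup G} : IsComplementSystem K ↔ ∀ p : Nat.Primes, HallIn {(p : ℕ)}ᶜ (K p) ⊤ := by
  refine forall_congr' fun p => ?_
  obtain ⟨P, hP⟩ := exists_sylIn p (⊤ : Subgroup G)
  rw [← card_top (G := G), ← hP.card_eq]
  refine ⟨fun h => hP.hallIn.compl_of_card le_top ?_, fun h => ?_⟩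
  · refine Nat.eq_of_mul_eq_mul_left (Nat.card_pos (α := P)) ?_
    rw [Solv.card_mul_relIndex le_top, ← h, index_mul_card, card_top]
  · rw [h.card_eq_relIndex (by rw [compl_compl]; exact hP.hallIn), relIndex_top_right]

theorem exists_cs [hs : Group.IsSolvable G] : ∃ K : Nat.Primes → Subgroup G, IsComplementSystem K := by
  choose K hK using fun p : Nat.Primes => exists_hallIn (Solv.isSolvable_top_iff.2 hs) {(p : ℕ)}ᶜ
  exact ⟨K, cs_iff.2 hK⟩

variable {K L : Nat.Primes → Subgroup G}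

theorem exists_sylIn_le (hK : IsComplementSystem K) (q : Nat.Primes) : ∃ Q, SylIn q Q ⊤ ∧ ∀ p, p ≠ q → Q ≤ K p := by
  classical
  rw [cs_iff] at hK
  obtain ⟨Q, hQ⟩ := exists_sylIn q (⊤ : Subgroup G)
  have h1 : ∀ p, p ≠ q → ∃ g, cj(g, Q) ≤ K p := fun p hp => by
    obtain ⟨R, hR⟩ := exists_sylIn q (K p)
    obtain ⟨g, -, e⟩ := hQ.exists_cj_eq ((hK p).sylIn (fun e => hp (Subtype.ext e).symm) hR)
    exact ⟨g, e ▸ hR.le⟩
  choose! g hg using h1
  obtain ⟨x, hx⟩ := crt_top (fun p => if p = q then ⊤ else K p) (fun p => by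
    split_ifs
    · simp [piN_one]
    · simpa using (hK p).index) fun p => (g p)⁻¹
  refine ⟨_, hQ.cj_of_mem (g := x⁻¹) (le_normalizer (mem_top _)), fun p hp => ?_⟩
  have := hx p
  rw [if_neg hp, inv_inv] at this
  rw [show x⁻¹ = (g p * x)⁻¹ * g p by group, cj_mul]
  exact cj_le_of_mem (hg p hp) (le_normalizer (inv_mem this))

/-- the Sylow subgroup attached to a complement system -/
def syl (K : Nat.Primes → Subgroup G) (q : Nat.Primes) : Subgroup G := ⨅ (p) (_ : p ≠ q), K p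

theorem isPi_of_le (hK : IsComplementSystem K) {π : Set ℕ} {H : Subgroup G} (h : ∀ p : Nat.Primes, (p : ℕ) ∉ π → H ≤ K p) :
    IsPi π H := fun p hp hd => by
  by_contra e
  exact ((cs_iff.1 hK ⟨p, hp⟩).isPi.of_le (h ⟨p, hp⟩ e)) p hp hd rfl

theorem sylIn_syl (hK : IsComplementSystem K) (q : Nat.Primes) : SylIn q (syl K q) ⊤ := by
  obtain ⟨Q, h1, h2⟩ := exists_sylIn_le hK q
  rwa [h1.max (syl K q) (isPi_singleton.1 (isPi_of_le hK fun p hp => iInf₂_le p fun e => hp (congrArg Subtype.val e)))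
    (le_iInf₂ h2) le_top]

theorem syl_mul_comm (hK : IsComplementSystem K) (p q : Nat.Primes) : (syl K p : Set G) * syl K q = syl K q * syl K p := by
  by_cases e : p = q
  · rw [e]
  let T := ⨅ (r) (_ : r ≠ p ∧ r ≠ q), K r
  have h1 : syl K p ≤ T := le_iInf₂ fun r hr => iInf₂_le r hr.1
  have h2 : syl K q ≤ T := le_iInf₂ fun r hr => iInf₂_le r hr.2
  have h3 : IsPi {(p : ℕ), (q : ℕ)} T := isPi_of_le hK fun r hr => iInf₂_le r
    ⟨fun e => hr (.inl (congrArg Subtype.val e)), fun e => hr (.inr (congrArg Subtype.val e))⟩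
  refine (((sylIn_syl hK p).of_le h1 le_top).hallIn.isProd (((sylIn_syl hK q).of_le h2 le_top).hallIn.congr
    fun r hr hd => ⟨fun a b => e (Subtype.ext (b.symm.trans a)), fun a => (h3 r hr hd).resolve_left a⟩)).mul_comm h1 h2

theorem piN_normalizer (hK : IsComplementSystem K) (N : Subgroup G) [N.Normal] (p : Nat.Primes) :
    PiN {(p : ℕ)} ((Nm(K p)).relIndex N) := by
  have := ((cs_iff.1 hK p).inf_normal (N := N) le_top le_normalizer_of_normal).index
  rw [compl_compl, inf_relIndex_right] at this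
  exact this.of_dvd (relIndex_dvd_of_le_left _ le_normalizer)

theorem conj [hs : Group.IsSolvable G] (hK : IsComplementSystem K) (hL : IsComplementSystem L) : ∃ g, ∀ p, cj(g, K p) = L p := by
  choose g _ hg using fun p => (cs_iff.1 hK p).exists_cj_eq (Solv.isSolvable_top_iff.2 hs) (cs_iff.1 hL p)
  obtain ⟨x, -, hx⟩ := crt _ (piN_normalizer hK ⊤) g fun _ => mem_top _
  exact ⟨x, fun p => by rw [← hg p, ← mul_inv_cancel_left (g p) x, cj_mul, cj_eq_self_iff.2 (hx p)]⟩

theorem mem_sn {x : G} : x ∈ systemNormalizer K ↔ ∀ p, x ∈ Nm(K p) := mem_iInf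

theorem sn_le (p : Nat.Primes) : systemNormalizer K ≤ Nm(K p) := iInf_le _ p

theorem sn_nilpotent (hK : IsComplementSystem K) : Group.IsNilpotent (systemNormalizer K) := by
  refine isNilpotent_of_forall_sylIn fun q hq _ => ?_
  have h1 : systemNormalizer K ≤ Nm(syl K ⟨q, hq⟩) := le_normalizer_iInf fun p => le_normalizer_iInf fun _ => sn_le p
  have h2 := sylIn_syl hK ⟨q, hq⟩
  exact ⟨_ ⊓ _, ⟨inf_le_right, h2.isP.to_inf_left, fun Q a b c => le_antisymm
    (le_inf (h2.le_of_normalizer a le_top (c.trans h1)) c) b⟩, le_normalizer_inf h1 le_normalizer⟩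

theorem cs_map {G' : Type u} [Group G'] [Finite G'] (hK : IsComplementSystem K) {f : G →* G'} (hf : Function.Surjective f) :
    IsComplementSystem fun p => (K p).map f :=
  cs_iff.2 fun p => map_top_of_surjective f hf ▸ (cs_iff.1 hK p).map f

theorem cs_cj (hK : IsComplementSystem K) (g : G) : IsComplementSystem fun p => cj(g, K p) :=
  cs_map hK (MulAut.conj g).surjective

theorem sn_cj (g : G) : systemNormalizer (fun p => cj(g, K p)) = cj(g, systemNormalizer K) := by
  ext x; simp only [mem_sn, mem_cj, ← cj_normalizer]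

theorem sn_map [hs : Group.IsSolvable G] {G' : Type u} [Group G'] [Finite G'] (hK : IsComplementSystem K) {f : G →* G'}
    (hf : Function.Surjective f) : systemNormalizer (fun p => (K p).map f) = (systemNormalizer K).map f := by
  refine le_antisymm (fun y hy => ?_) (le_iInf fun p => map_le_normalizer_map f (sn_le p))
  obtain ⟨x, rfl⟩ := hf y
  have h1 : ∀ p, ∃ n ∈ f.ker, cj(n, K p) = cj(x, K p) := fun p => by
    have h2 : cj(x, K p) ≤ f.ker ⊔ K p := by
      rw [sup_comm, ← comap_map_eq, ← map_le_iff_le_comap, map_cj, cj_eq_self_iff.2 (mem_sn.1 hy p)]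
    obtain ⟨g, g1, g2⟩ := ((cs_iff.1 hK p).of_le le_sup_right le_top).exists_cj_eq inferInstance
      (((cs_iff.1 hK p).cj_of_mem (le_normalizer (mem_top x))).of_le h2 le_top)
    obtain ⟨n, n1, k, k1, rfl⟩ := (Comp.mem_sup_of_le_normalizer' le_normalizer_of_normal).1 g1
    exact ⟨n, n1, by rw [← g2, cj_mul, cj_eq_self_of_mem k1]⟩
  choose n n1 n2 using h1
  obtain ⟨m, m1, m2⟩ := crt _ (piN_normalizer hK f.ker) n n1
  refine ⟨m⁻¹ * x, mem_sn.2 fun p => cj_eq_self_iff.1 ?_, by rw [map_mul, map_inv, m1, inv_one, one_mul]⟩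
  rw [cj_mul, ← n2, ← cj_mul, cj_eq_self_iff, ← inv_mem_iff, mul_inv_rev, inv_inv]
  exact m2 p

theorem central_of_mem {p : ℕ} [Fact p.Prime] {B H : Subgroup G} [hB : B.Normal] (h1 : IsPGroup p B)
    (hmin : ∀ N : Subgroup G, N.Normal → N ≤ B → N = ⊥ ∨ N = B) (hH : HallIn {p}ᶜ H ⊤) (h : B ⊓ Nm(H) ≠ ⊥) : B ≤ center G := by
  obtain ⟨x, x1, x2⟩ := Solv.exists_ne_one_of_ne_bot h
  obtain ⟨P, hP⟩ := exists_sylIn p (⊤ : Subgroup G)
  have h2 : ⁅B ⊓ Nm(H), H⁆ = ⊥ := eq_bot_of_le_of_coprime ((commutator_mono inf_le_left le_rfl).trans (commutator_le_left _ _))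
    (commutator_le_right_of_le_normalizer inf_le_right) (coprime_card_of_isPGroup h1 (isPi_compl_singleton.1 hH.isPi))
  have h3 : ⁅zpowers x, (⊤ : Subgroup G)⁆ ≤ ⁅B, P⁆ := commutator_le.2 fun y hy g hg => by
    obtain ⟨a, a1, k, k1, rfl⟩ := hP.hallIn.isProd hH g hg
    have y1 := zpowers_le.2 x1 hy
    have := commutator_eq_bot_iff_le_centralizer.1 h2 y1 k k1
    rw [show ⁅y, a * k⁆ = y * a * (k * y⁻¹ * k⁻¹) * a⁻¹ by rw [commutatorElement_def]; group,
      show k * y⁻¹ * k⁻¹ = y⁻¹ by rw [mul_inv_eq_iff_eq_mul, mul_inv_eq_iff_eq_mul, mul_assoc, this, inv_mul_cancel_left]]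
    exact commutator_mem_commutator y1.1 a1
  have h4 : B ≤ P := hP.le_of_normalizer' h1 le_top le_normalizer_of_normal
  have h5 := Solv.commutator_lt_of_nilpotent hP.isP.isNilpotent h4 le_rfl le_normalizer_of_normal
    fun e => h (by rw [e, bot_inf_eq])
  have h6 := (hmin _ (normal_iff_top_le_normalizer.2 (le_sup_right.trans (sup_le_normalizer_commutator _ _)))
    (h3.trans h5.le)).resolve_right (h3.trans_lt h5).ne
  refine inf_eq_left.1 ((hmin (B ⊓ center G) inferInstance inf_le_left).resolve_left (ne_bot_of_mem (x := x) ⟨x1.1, ?_⟩ x2))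
  exact mem_center_iff.2 fun g => commutator_eq_bot_iff_le_centralizer.1 h6 (mem_zpowers x) g (mem_top g)

theorem cover [Group.IsSolvable G] (hK : IsComplementSystem K) {A B : Subgroup G} [A.Normal]
    (h : ⁅B, (⊤ : Subgroup G)⁆ ≤ A) : B ≤ A ⊔ systemNormalizer K := by
  rw [sup_comm, ← Solv.map_mk_le_map_mk_iff, ← sn_map hK (QuotientGroup.mk'_surjective A)]
  refine le_iInf fun p => le_trans ?_ (centralizer_le_normalizer _)
  rw [← commutator_eq_bot_iff_le_centralizer, map_eq_bot_iff_le_ker', QuotientGroup.ker_mk']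
  exact (commutator_mono le_rfl le_top).trans h

theorem avoid [Group.IsSolvable G] (hK : IsComplementSystem K) {A B : Subgroup G} [A.Normal] [B.Normal] (hAB : A < B)
    (hc : ∀ N : Subgroup G, N.Normal → A ≤ N → N ≤ B → N = A ∨ N = B) (h : ¬ ⁅B, (⊤ : Subgroup G)⁆ ≤ A) :
    B ⊓ systemNormalizer K ≤ A := by
  have hs := QuotientGroup.mk'_surjective A
  haveI : (B.map (QuotientGroup.mk' A)).Normal := Normal.map inferInstance _ hs
  have h1 : ∀ N : Subgroup (G ⧸ A), N.Normal → N ≤ B.map (QuotientGroup.mk' A) → N = ⊥ ∨ N = B.map (QuotientGroup.mk' A) :=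
    fun N _ hN => (hc (N.comap (QuotientGroup.mk' A)) inferInstance (Solv.le_comap_mk _ _) ((comap_mono hN).trans
      (by rw [Solv.comap_map_mk, sup_eq_left.2 hAB.le]))).imp
        (fun e => by rw [← Solv.map_comap_mk A N, e, Solv.map_mk_eq_bot_iff]) fun e => by rw [← e, Solv.map_comap_mk]
  obtain ⟨-, p, hp, h2⟩ := Solv.minimal_normal_elementary _ inferInstance
    (fun e => hAB.not_ge ((Solv.map_mk_eq_bot_iff A).1 e)) h1
  haveI := Fact.mk hp
  by_contra h3
  have := central_of_mem (Solv.isPGroup_of_pow_eq_one h2) h1 (cs_iff.1 (cs_map hK hs) ⟨p, hp⟩) fun e => h3 (by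
    rw [← Solv.map_mk_eq_bot_iff, ← le_bot_iff, ← e]
    exact le_inf (map_mono inf_le_left) (map_le_normalizer_map _ (inf_le_right.trans (sn_le _))))
  refine h ?_
  rw [← QuotientGroup.ker_mk' A, ← map_eq_bot_iff_le_ker', commutator_eq_bot_iff_le_centralizer]
  exact this.trans (Subgroup.center_le_centralizer _)

end Cfsg.Agent.Sys
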