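/-
Carter subgroups of finite solvable groups.
-/
import Cfsg.Agent.Lib.BG.Sys

set_option autoImplicit false
set_option linter.unusedSectionVars false

namespace Cfsg.Agent.Sys

open Subgroup Cfsg.Agent.Comp Cfsg.Agent.BG
open scoped commutatorElement Pointwise

universe u

variable {G : Type u} [Group G] [Finite G] {p : ℕ} {C D N X Q M : Subgroup G}

theorem nilp [Fact p.Prime] [N.Normal] (hN : IsPGroup p N) (h1 : N ≤ X) (hX : Group.IsNilpotent (X.map (QuotientGroup.mk' N)))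
    (hQ : HallIn {p}ᶜ Q X) : Group.IsNilpotent (X ⊓ Nm(Q) : Subgroup G) := by
  refine isNilpotent_of_forall_sylIn fun q hq _ => ?_
  haveI := Fact.mk hq
  by_cases e : q = p
  · subst e
    obtain ⟨P, p1, p2⟩ := exists_sylIn_ge hN h1
    have h2 := le_normalizer_comap_of_map _ ((p2.map (QuotientGroup.mk' N)).le_normalizer_of_isNilpotent hX)
    rw [Solv.comap_map_mk, sup_eq_left.2 p1] at h2
    exact ⟨_, p2.normal_inf h2 inf_le_left, le_normalizer_inf (inf_le_left.trans h2) le_normalizer⟩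
  · obtain ⟨R, hR⟩ := exists_sylIn q Q
    have h2 : Group.IsNilpotent Q := by
      haveI := Comp.isNilpotent_of_le (map_mono hQ.le) hX
      refine Group.nilpotent_of_mulEquiv (MulEquiv.ofBijective ((QuotientGroup.mk' N).subgroupMap Q)
        ⟨(injective_iff_map_eq_one _).2 fun x hx => Subtype.ext (mem_bot.1 ?_), MonoidHom.subgroupMap_surjective _ _⟩).symm
      rw [← hQ.isPi.inf_eq_bot (K := N) (by rw [compl_compl]; exact isPi_singleton.2 hN)]
      exact ⟨x.2, (QuotientGroup.eq_one_iff x.1).1 (congrArg Subtype.val hx)⟩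
    exact ⟨R, (hQ.of_le (le_inf hQ.le le_normalizer) inf_le_left).sylIn e hR,
      inf_le_right.trans (hR.normalizer_le (hR.le_normalizer_of_isNilpotent h2))⟩

theorem hall_sup [Fact p.Prime] [N.Normal] (hN : IsPGroup p N) (hQ : HallIn {p}ᶜ Q C) : HallIn {p}ᶜ Q (C ⊔ N) :=
  hQ.trans_index le_sup_left (by
    rw [compl_compl, ← (Solv.relIndex_eq_iff_isProd le_sup_right).2 (Solv.isProd_sup_of_le_normalizer le_normalizer_of_normal).symm]
    exact (isPi_singleton.2 hN).relIndex _)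

theorem eq_of_nilp (hC : IsCarterSubgroup C) (h : C ≤ X) (hX : Group.IsNilpotent X) : C = X := by
  by_contra e
  exact (lt_inf_normalizer_of_isNilpotent hX (lt_of_le_of_ne h e)).not_ge (inf_le_right.trans hC.2.le)

theorem eq_normalizer [Fact p.Prime] [N.Normal] (hN : IsPGroup p N) (hC : IsCarterSubgroup C) (hQ : HallIn {p}ᶜ Q C) :
    C = (C ⊔ N) ⊓ Nm(Q) :=
  eq_of_nilp hC (le_inf le_sup_left (hQ.le_normalizer_of_isNilpotent hC.1)) (nilp hN le_sup_right (by
    rw [Subgroup.map_sup, (Solv.map_mk_eq_bot_iff N).2 le_rfl, sup_bot_eq]; exact Comp.isNilpotent_map _ hC.1) (hall_sup hN hQ))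

theorem car_subgroupOf (hC : IsCarterSubgroup C) (h : C ≤ M) : IsCarterSubgroup (C.subgroupOf M) :=
  ⟨Solv.isNilpotent_subgroupOf hC.1 M, by rw [← subgroupOf_normalizer_eq h, hC.2]⟩

theorem car_cj (hC : IsCarterSubgroup C) (g : G) : IsCarterSubgroup cj(g, C) :=
  ⟨isNilpotent_cj.2 hC.1, by rw [← cj_normalizer, hC.2]⟩

theorem car_map_of {G' : Type u} [Group G'] {f : G →* G'} (hf : Function.Surjective f) (hC : IsCarterSubgroup C)
    (h : C ⊔ f.ker = ⊤ ∨ ∀ D, IsCarterSubgroup D → D ≤ C ⊔ f.ker → ∃ g ∈ C ⊔ f.ker, cj(g, C) = D) :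
    IsCarterSubgroup (C.map f) := by
  refine ⟨Comp.isNilpotent_map _ hC.1, le_antisymm (fun y hy => ?_) le_normalizer⟩
  obtain ⟨x, rfl⟩ := hf y
  rw [← mem_comap, comap_map_eq]
  rcases h with h | h
  · exact h.ge (mem_top x)
  · obtain ⟨g, g1, g2⟩ := h _ (car_cj hC x) (by rw [← comap_map_eq, ← map_le_iff_le_comap, map_cj, cj_eq_self_iff.2 hy])
    refine (mul_mem_cancel_left (inv_mem g1)).1 (mem_sup_left (hC.2.le (cj_eq_self_iff.1 ?_)))
    rw [cj_mul, ← g2, cj_inv_cj]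

theorem conj_sub (h : ∀ C D : Subgroup M, IsCarterSubgroup C → IsCarterSubgroup D → ∃ g, cj(g, C) = D)
    (hC : IsCarterSubgroup C) (hD : IsCarterSubgroup D) (h1 : C ≤ M) (h2 : D ≤ M) : ∃ g ∈ M, cj(g, C) = D := by
  obtain ⟨g, hg⟩ := h _ _ (car_subgroupOf hC h1) (car_subgroupOf hD h2)
  refine ⟨g, g.2, ?_⟩
  have := congrArg (Subgroup.map M.subtype) hg
  rwa [map_cj, map_subgroupOf_eq_of_le h1, map_subgroupOf_eq_of_le h2] at this

theorem exists_pnormal [hs : Group.IsSolvable G] (h : Nontrivial G) :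
    ∃ (N : Subgroup G) (p : ℕ), N.Normal ∧ p.Prime ∧ N ≠ ⊥ ∧ IsPGroup p N := by
  obtain ⟨N, -, n1, n2, n3⟩ := Solv.exists_minimal_normal_le (⊤ : Subgroup G) (Solv.top_ne_bot_iff.2 h)
  obtain ⟨-, p, hp, h2⟩ := Solv.minimal_normal_elementary N inferInstance n2 n3
  exact ⟨N, p, n1, hp, n2, Solv.isPGroup_of_pow_eq_one h2⟩

theorem car_conj_aux (G : Type u) [Group G] [Finite G] : Group.IsSolvable G → ∀ C D : Subgroup G,
    IsCarterSubgroup C → IsCarterSubgroup D → ∃ g, cj(g, C) = D := by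
  induction G, ‹Group G›, ‹Finite G› using Solv.card_induction' with | h G ih => ?_
  intro hs C D hC hD
  rcases subsingleton_or_nontrivial G with h | h
  · exact ⟨1, Subsingleton.elim _ _⟩
  obtain ⟨N, p, n1, hp, n2, n3⟩ := exists_pnormal h
  haveI := Fact.mk hp
  have h1 : ∀ M : Subgroup G, M ≠ ⊤ → ∀ C D : Subgroup M, IsCarterSubgroup C → IsCarterSubgroup D → ∃ g, cj(g, C) = D :=
    fun M hM => ih M (Solv.card_lt_of_ne_top hM) inferInstance
  have h2 : ∀ C : Subgroup G, IsCarterSubgroup C → IsCarterSubgroup (C.map (QuotientGroup.mk' N)) := fun C hC =>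
    car_map_of (QuotientGroup.mk'_surjective N) hC (or_iff_not_imp_left.2 fun e D hD h =>
      conj_sub (h1 _ e) hC hD le_sup_left h)
  obtain ⟨y, hy⟩ := ih (G ⧸ N) (Solv.card_quotient_lt n2) inferInstance _ _ (h2 C hC) (h2 D hD)
  obtain ⟨x, rfl⟩ := QuotientGroup.mk'_surjective N y
  have h3 : cj(x, C) ⊔ N = D ⊔ N := by rw [← Solv.comap_map_mk, map_cj, hy, Solv.comap_map_mk]
  suffices ∃ g, cj(g, cj(x, C)) = D by obtain ⟨g, hg⟩ := this; exact ⟨g * x, by rw [cj_mul, hg]⟩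
  have h4 := car_cj hC x
  by_cases e : D ⊔ N = ⊤
  · obtain ⟨Q, hQ⟩ := exists_hallIn (M := cj(x, C)) inferInstance {p}ᶜ
    obtain ⟨R, hR⟩ := exists_hallIn (M := D) inferInstance {p}ᶜ
    obtain ⟨g, -, hg⟩ := (hall_sup n3 hQ).exists_cj_eq inferInstance (h3 ▸ hall_sup n3 hR)
    refine ⟨g, ?_⟩
    rw [eq_normalizer n3 h4 hQ, eq_normalizer n3 hD hR, h3, e, top_inf_eq, top_inf_eq, cj_normalizer, hg]
  · exact (conj_sub (h1 _ e) h4 hD (le_sup_left.trans h3.le) le_sup_left).imp fun g hg => hg.2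

theorem car_conj [hs : Group.IsSolvable G] (hC : IsCarterSubgroup C) (hD : IsCarterSubgroup D) : ∃ g, cj(g, C) = D :=
  car_conj_aux G hs C D hC hD

theorem car_map [hs : Group.IsSolvable G] {G' : Type u} [Group G'] {f : G →* G'} (hf : Function.Surjective f)
    (hC : IsCarterSubgroup C) : IsCarterSubgroup (C.map f) :=
  car_map_of hf hC (.inr fun _ hD h => conj_sub (fun _ _ => car_conj) hC hD le_sup_left h)

theorem exists_car_aux (G : Type u) [Group G] [Finite G] : Group.IsSolvable G → ∃ C : Subgroup G, IsCarterSubgroup C := by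
  induction G, ‹Group G›, ‹Finite G› using Solv.card_induction' with | h G ih => ?_
  intro hs
  rcases subsingleton_or_nontrivial G with h | h
  · exact ⟨⊤, inferInstance, Subsingleton.elim _ _⟩
  obtain ⟨N, p, n1, hp, n2, n3⟩ := exists_pnormal h
  haveI := Fact.mk hp
  obtain ⟨C, hC⟩ := ih (G ⧸ N) (Solv.card_quotient_lt n2) inferInstance
  obtain ⟨Q, hQ⟩ := exists_hallIn (M := C.comap (QuotientGroup.mk' N)) inferInstance {p}ᶜ
  have h1 := nilp n3 (Solv.le_comap_mk N C) (by rw [Solv.map_comap_mk]; exact hC.1) hQ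
  have h2 : (C.comap (QuotientGroup.mk' N) ⊓ Nm(Q)).map (QuotientGroup.mk' N) = C := by
    have h3 := le_normalizer_comap_of_map _ ((hQ.map (QuotientGroup.mk' N)).le_normalizer_of_isNilpotent
      (by rw [Solv.map_comap_mk]; exact hC.1))
    rw [Solv.comap_map_mk] at h3
    have h4 := (hQ.of_le le_sup_left (sup_le hQ.le (Solv.le_comap_mk N C))).frattini inferInstance
      (sup_le hQ.le (Solv.le_comap_mk N C)) h3
    conv_rhs => rw [← Solv.map_comap_mk N C, ← h4, sup_comm Q, sup_assoc, Subgroup.map_sup, (Solv.map_mk_eq_bot_iff N).2 le_rfl,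
      bot_sup_eq, sup_eq_right.2 (le_inf hQ.le le_normalizer)]
  have h5 := hQ.of_le (le_inf hQ.le le_normalizer) inf_le_left
  refine ⟨_, h1, le_antisymm (le_inf ?_ (h5.normalizer_le inf_le_right)) le_normalizer⟩
  rw [← map_le_iff_le_comap]
  refine (le_normalizer_map _).trans ?_
  rw [h2, hC.2]

theorem exists_car [hs : Group.IsSolvable G] : ∃ C : Subgroup G, IsCarterSubgroup C := exists_car_aux G hs

theorem sn_le_car_aux (G : Type u) [Group G] [Finite G] : Group.IsSolvable G → ∀ (C : Subgroup G) (K : Nat.Primes → Subgroup G),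
    IsCarterSubgroup C → IsComplementSystem K → (∀ p : Nat.Primes, ∃ Q, HallIn {(p : ℕ)}ᶜ Q C ∧ Q ≤ K p) →
    systemNormalizer K ≤ C := by
  induction G, ‹Group G›, ‹Finite G› using Solv.card_induction' with | h G ih => ?_
  intro hs C K hC hK hQ
  rcases subsingleton_or_nontrivial G with h | h
  · exact (Subsingleton.elim _ _).le
  obtain ⟨N, p, n1, hp, n2, n3⟩ := exists_pnormal h
  haveI := Fact.mk hp
  have hf := QuotientGroup.mk'_surjective N
  have h1 := ih (G ⧸ N) (Solv.card_quotient_lt n2) inferInstance _ _ (car_map hf hC) (cs_map hK hf) fun p =>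
    (hQ p).elim fun Q h => ⟨_, h.1.map _, map_mono h.2⟩
  rw [sn_map hK hf, Solv.map_mk_le_map_mk_iff] at h1
  obtain ⟨Q, q1, q2⟩ := hQ ⟨p, hp⟩
  rw [eq_normalizer n3 hC q1, ← (hall_sup n3 q1).eq_of_le (K := (C ⊔ N) ⊓ K ⟨p, hp⟩) inf_le_left
    ((cs_iff.1 hK _).isPi.of_le inf_le_right) (le_inf (q1.le.trans le_sup_left) q2)]
  exact le_inf h1 (le_normalizer_inf (h1.trans le_normalizer) (sn_le _))

theorem exists_cs_red [hs : Group.IsSolvable G] (C : Subgroup G) : ∃ K : Nat.Primes → Subgroup G, IsComplementSystem K ∧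
    ∀ p : Nat.Primes, ∃ Q, HallIn {(p : ℕ)}ᶜ Q C ∧ Q ≤ K p := by
  choose Q hQ using fun p : Nat.Primes => exists_hallIn (M := C) inferInstance {(p : ℕ)}ᶜ
  choose K h1 h2 using fun p => exists_hallIn_ge (Solv.isSolvable_top_iff.2 hs) le_top (hQ p).isPi
  exact ⟨K, cs_iff.2 h1, fun p => ⟨_, hQ p, h2 p⟩⟩

theorem sn_conj [Group.IsSolvable G] {K L : Nat.Primes → Subgroup G} (hK : IsComplementSystem K) (hL : IsComplementSystem L) :
    ∃ g, cj(g, systemNormalizer K) = systemNormalizer L := by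
  obtain ⟨g, hg⟩ := conj hK hL
  exact ⟨g, by rw [← sn_cj, funext hg]⟩

theorem exists_sn_eq {F : Subgroup G} [F.Normal] (hF : Group.IsNilpotent F) (hG : Group.IsNilpotent (G ⧸ F))
    [hs : Group.IsSolvable G] (hC : IsCarterSubgroup C) : ∃ K, IsComplementSystem K ∧ C = systemNormalizer K := by
  obtain ⟨K, h1, h2⟩ := exists_cs_red C
  refine ⟨K, h1, le_antisymm (le_iInf fun p => ?_) (sn_le_car_aux G hs C K hC h1 h2)⟩
  obtain ⟨Q, q1, q2⟩ := h2 p
  have hf := QuotientGroup.mk'_surjective F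
  have h3 := q1.map (QuotientGroup.mk' F)
  rw [eq_of_nilp (car_map hf hC) le_top inferInstance] at h3
  have h4 : K p ≤ Q ⊔ F := by
    rw [← Solv.map_mk_le_map_mk_iff, h3.eq_Opi_of_isNilpotent inferInstance,
      (cs_iff.1 (cs_map h1 hf) p).eq_Opi_of_isNilpotent inferInstance]
  rw [← inf_eq_right.2 h4, sup_inf_of_le_normalizer le_normalizer_of_normal q2, inf_comm,
    ((cs_iff.1 h1 p).inf_normal le_top le_normalizer_of_normal).eq_Opi_of_isNilpotent hF]
  exact le_normalizer_sup (q1.le_normalizer_of_isNilpotent hC.1) (le_normalizer_Opi le_normalizer_of_normal)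

end Cfsg.Agent.Sys
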