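/-
Conjugacy class sizes: inheritance by normal subgroups and quotients.
-/
import Cfsg.Agent.Lib.BG.Sec1
import Cfsg.Agent.Lib.Solv.FrobCount

set_option autoImplicit false
set_option linter.unusedSectionVars false

namespace Cfsg.Agent.BG

open Subgroup Comp
open scoped commutatorElement Pointwise

universe u

variable {G : Type u} [Group G] [Finite G]

theorem index_C1_coe {N : Subgroup G} (x : N) : C1(x).index = C1((x : G)).relIndex N := by
  rw [relIndex]; congr 1; ext; simp [mem_subgroupOf, mem_centralizer_singleton_iff, Subtype.ext_iff]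

theorem index_C1_coe_dvd (N : Subgroup G) [N.Normal] (x : N) : C1(x).index ∣ C1((x : G)).index :=
  index_C1_coe x ▸ Solv.relIndex_dvd_index_of_normal' _ N

theorem map_C1_le {G' : Type*} [Group G'] (f : G →* G') (x : G) : C1(x).map f ≤ C1(f x) := by
  rintro _ ⟨z, hz, rfl⟩
  exact mem_centralizer_singleton_iff.2 (by simpa using congrArg f (mem_centralizer_singleton_iff.1 hz))

theorem index_C1_map_dvd {G' : Type*} [Group G'] {f : G →* G'} (hf : Function.Surjective f) (x : G) :
    C1(f x).index ∣ C1(x).index := (index_dvd_of_le (map_C1_le f x)).trans (index_map_dvd _ hf)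

theorem C1_le_of_mem_zpowers {x y : G} (h : y ∈ zpowers x) : C1(x) ≤ C1(y) := by
  rw [← Comp.centralizer_zpowers, ← Comp.centralizer_zpowers]; exact Comp.centralizer_mono (zpowers_le.2 h)

theorem index_C1_dvd_of_mem_zpowers {x y : G} (h : y ∈ zpowers x) : C1(y).index ∣ C1(x).index :=
  index_dvd_of_le (C1_le_of_mem_zpowers h)

theorem C1_mul_of_coprime {x y : G} (hc : Commute x y) (h : (orderOf x).Coprime (orderOf y)) : C1(x * y) = C1(x) ⊓ C1(y) :=
  le_antisymm (le_inf (C1_le_of_mem_zpowers (Solv.mem_zpowers_mul_of_coprime hc h))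
    (C1_le_of_mem_zpowers (Solv.mem_zpowers_mul_of_coprime' hc h))) fun g hg => mem_centralizer_singleton_iff.2 (by
      rw [← mul_assoc, mem_centralizer_singleton_iff.1 hg.1, mul_assoc, mem_centralizer_singleton_iff.1 hg.2, mul_assoc])

theorem index_C1_conj (g x : G) : C1(g * x * g⁻¹).index = C1(x).index := by
  rw [← cj_centralizer_singleton]; exact index_map_of_bijective (MulAut.conj g).bijective _

theorem C1_eq_top_iff {x : G} : C1(x) = ⊤ ↔ x ∈ center G := by
  simp [Subgroup.eq_top_iff', mem_center_iff, mem_centralizer_singleton_iff]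

end Cfsg.Agent.BG
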