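/-
Conjugacy class sizes: the lemma of Mann and Isaacs, unions of conjugates.
-/
import Cfsg.Agent.Lib.BG.Cls
import Cfsg.Agent.Lib.BG.Rank

set_option autoImplicit false
set_option linter.unusedSectionVars false

namespace Cfsg.Agent.BG

open Subgroup Comp
open scoped commutatorElement Pointwise

universe u

variable {G : Type u} [Group G] [Finite G]

theorem index_C1_eq_one {x : G} : C1(x).index = 1 ↔ x ∈ center G := index_eq_one.trans C1_eq_top_iff

theorem C1_eq_of_le {x y : G} (h : C1(x) ≤ C1(y)) (e : C1(x).index = C1(y).index) : C1(x) = C1(y) := by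
  have := relIndex_mul_index h
  rw [e, mul_eq_right₀ index_ne_zero_of_finite] at this
  exact le_antisymm h (relIndex_eq_one.1 this)

open Transfer in
theorem index_comm_lt {K : Subgroup G} [K.Normal] (hK : K ≤ Ct(K)) {x t : G} (ht : t ∈ K) (hx : x ∉ center G) :
    C1(⁅t, x⁆).index < C1(x).index := by
  by_cases h : ⁅t, x⁆ = 1
  · rw [h, index_C1_eq_one.2 (one_mem _)]
    exact lt_of_le_of_ne (Nat.pos_of_ne_zero index_ne_zero_of_finite) (mt index_C1_eq_one.1 hx ∘ Eq.symm)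
  have a : C1(⁅t, x⁆).relIndex (K ⊔ C1(x)) < C1(x).relIndex (K ⊔ C1(x)) := by
    rw [← Solv.card_class_eq_relIndex, ← Solv.card_class_eq_relIndex,
      ← cnt_erase (p := fun y => ∃ h ∈ K ⊔ C1(x), h * x * h⁻¹ = y) (a := x) ⟨1, one_mem _, by simp⟩]
    refine Nat.lt_succ_of_le (cnt_le_of_injOn (· * x) ?_ fun _ _ _ _ => mul_right_cancel)
    rintro _ ⟨g, hg, rfl⟩
    refine ⟨?_, fun e => h (conj_eq_one_iff.1 (mul_eq_right.1 e))⟩
    rw [← SetLike.mem_coe, normal_mul] at hg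
    obtain ⟨k, hk, c, hc, rfl⟩ := hg
    have b1 : c * t * c⁻¹ ∈ K := Normal.conj_mem inferInstance _ ht c
    have b2 : c * ⁅t, x⁆ * c⁻¹ = ⁅c * t * c⁻¹, x⁆ := by
      rw [conjugate_commutatorElement, mem_centralizer_singleton_iff.1 hc, mul_inv_cancel_right]
    refine ⟨_, mem_sup_left b1, ?_⟩
    rw [show k * c * ⁅t, x⁆ * (k * c)⁻¹ = k * (c * ⁅t, x⁆ * c⁻¹) * k⁻¹ by group, b2,
      hK (commutator_le_left K ⊤ (commutator_mem_commutator b1 (mem_top x))) k hk, mul_inv_cancel_right, commutatorElement_def,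
      inv_mul_cancel_right]
  rw [← relIndex_mul_index (le_sup_right : C1(x) ≤ K ⊔ C1(x))]
  refine lt_of_le_of_lt ?_ (mul_lt_mul_of_pos_right a (Nat.pos_of_ne_zero index_ne_zero_of_finite))
  rw [← inf_relIndex_right, relIndex_mul_index inf_le_right]
  exact Nat.le_of_dvd (Nat.pos_of_ne_zero index_ne_zero_of_finite) (index_dvd_of_le inf_le_left)

theorem comm_mem_center {K : Subgroup G} [K.Normal] (hK : K ≤ Ct(K)) {x t : G} (ht : t ∈ K)
    (h : ∀ y : G, y ∈ K → y ∉ center G → C1(x).index ≤ C1(y).index) : ⁅t, x⁆ ∈ center G := by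
  by_cases hx : x ∈ center G
  · rw [commutatorElement_eq_one_iff_mul_comm.2 (mem_center_iff.1 hx t)]; exact one_mem _
  exact by_contra fun e => (index_comm_lt hK ht hx).not_ge
    (h _ (commutator_le_left K ⊤ (commutator_mem_commutator ht (mem_top x))) e)

theorem lcs_three {A M : Subgroup G} [A.Normal] (hC : Ct(A) ≤ A) (h : ⁅A, M⁆ ≤ center G) : M.lowerCentralSeries 3 = ⊥ := by
  have a : ⁅⁅A, M⁆, M⁆ = ⊥ := commutator_eq_bot_iff_le.2 (h.trans (Subgroup.center_le_centralizer _))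
  have b : ⁅M, M⁆ ≤ A := (commutator_eq_bot_iff_le.1 (commutator_commutator_eq_bot_of_rotate
    (Subgroup.commutator_comm A M ▸ a) a)).trans hC
  exact le_bot_iff.1 (a ▸ commutator_mono (commutator_mono b le_rfl) le_rfl)

theorem commutator_closure_le_center {A : Subgroup G} {s : Set G} (h : ∀ t ∈ A, ∀ x ∈ s, ⁅t, x⁆ ∈ center G) :
    ⁅A, closure s⁆ ≤ center G := by
  rw [← QuotientGroup.ker_mk' (center G), ← Subgroup.map_eq_bot_iff, map_commutator, Subgroup.commutator_comm,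
    commutator_eq_bot_iff_le, MonoidHom.map_closure, closure_le]
  rintro _ ⟨x, hx, rfl⟩ _ ⟨t, ht, rfl⟩
  rw [← commutatorElement_eq_one_iff_mul_comm, ← map_commutatorElement]
  exact (QuotientGroup.eq_one_iff _).2 (h t ht x hx)

open Transfer in
theorem cnt_conj_le {C N : Subgroup G} (h : N ≤ Nm(C)) :
    Nat.card {x : G // x ≠ 1 ∧ ∃ g : G, x ∈ cj(g, C)} + N.index ≤ N.index * Nat.card C := by
  have h1 : Nat.card {x : G // x ≠ 1 ∧ ∃ g : G, x ∈ cj(g, C)} ≤ Nat.card {q : G ⧸ N // True} * (Nat.card C - 1) := by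
    refine cnt_le_mul (fun x (q : G ⧸ N) => x ∈ cj(q.out, C)) (fun x ⟨_, g, hg⟩ => ⟨g, trivial, ?_⟩) fun q _ => ?_
    · obtain ⟨m, hm⟩ := QuotientGroup.mk_out_eq_mul N g
      rwa [hm, Comp.cj_mul, Comp.cj_eq_self_iff.2 (h m.2)]
    · have := cnt_erase (p := fun x => x ∈ cj(q.out, C)) (a := 1) (one_mem _)
      rw [← Comp.card_cj q.out C]
      exact (cnt_mono fun x hx => ⟨hx.2, hx.1.1⟩).trans (Nat.le_sub_one_of_lt (Nat.lt_of_succ_le this.le))
  rw [cnt_true, ← index_eq_card, Nat.mul_sub_one] at h1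
  have := Nat.le_mul_of_pos_right N.index (Nat.card_pos (α := C))
  omega

theorem exists_sylIn_le_C1 {p : ℕ} [Fact p.Prime] {P : Subgroup G} (hP : SylIn p P ⊤) {x : G} (h : ¬ p ∣ C1(x).index) :
    ∃ g : G, x ∈ cj(g, Ct(P)) := by
  obtain ⟨Q, q⟩ := exists_sylIn p C1(x)
  obtain ⟨g, -, rfl⟩ := hP.exists_cj_eq (q.trans_of_not_dvd le_top (by rwa [relIndex_top_right]))
  exact ⟨g, cj_centralizer g P ▸ le_centralizer_singleton_iff.1 q.le⟩

end Cfsg.Agent.BG
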