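/-
Products of conjugacy classes of coprime sizes.
-/
import Cfsg.Agent.Lib.BG.Cls2

set_option autoImplicit false
set_option linter.unusedSectionVars false

namespace Cfsg.Agent.BG

open Subgroup Comp
open scoped commutatorElement Pointwise

universe u

variable {G : Type u} [Group G] [Finite G] {x y : G}

theorem C1_mul_inf : C1(x * y) ⊓ C1(y) = C1(x) ⊓ C1(y) := by
  ext g
  simp only [mem_inf, mem_centralizer_singleton_iff, and_congr_left_iff]
  intro h
  rw [← mul_assoc, mul_assoc x, ← h, ← mul_assoc, mul_left_inj]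

theorem index_le_index_mul (h : C1(x).index.Coprime C1(y).index) : C1(x).index ≤ C1(x * y).index := by
  rw [← (Solv.isProd_top_of_coprime h.symm).relIndex_eq_index, ← inf_relIndex_right, ← C1_mul_inf, inf_relIndex_right,
    ← relIndex_top_right]
  exact relIndex_le_of_le_right le_top (by rw [relIndex_top_right]; exact index_ne_zero_of_finite)

theorem index_mul_dvd (h : C1(x).index.Coprime C1(y).index) : C1(x * y).index ∣ C1(x).index * C1(y).index := by
  rw [← (Solv.isProd_top_of_coprime h.symm).relIndex_eq_index, ← inf_relIndex_right, relIndex_mul_index inf_le_right, ← C1_mul_inf]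
  exact index_dvd_of_le inf_le_left

theorem isConj_mul_of_coprime (h : C1(x).index.Coprime C1(y).index) {a b : G} (ha : IsConj x a) (hb : IsConj y b) :
    IsConj (x * y) (a * b) := by
  obtain ⟨g, rfl⟩ := isConj_iff.1 ha
  obtain ⟨k, rfl⟩ := isConj_iff.1 hb
  obtain ⟨c, hc, d, hd, e⟩ := Solv.isProd_top_of_coprime h (g⁻¹ * k) trivial
  rw [mem_centralizer_singleton_iff] at hc hd
  refine isConj_iff.2 ⟨g * c, ?_⟩
  rw [show k = g * c * d by rw [mul_assoc, ← e, mul_inv_cancel_left]]
  calc _ = g * (c * x) * y * (g * c)⁻¹ := by group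
    _ = g * x * g⁻¹ * (g * c * (y * d) * (g * c * d)⁻¹) := by rw [hc]; group
    _ = _ := by rw [← hd]; group

omit [Finite G] in
theorem card_dvd_of_mul_mem {S : Set G} {H : Subgroup G} (h : ∀ s ∈ S, ∀ t ∈ H, s * t ∈ S) : Nat.card H ∣ Nat.card S := by
  have : S = QuotientGroup.mk ⁻¹' ((QuotientGroup.mk : G → G ⧸ H) '' S) := (Set.subset_preimage_image _ _).antisymm (by
    rintro a ⟨s, hs, e⟩
    simpa using h s hs _ (QuotientGroup.eq.1 e))
  rw [this, QuotientGroup.card_preimage_mk]
  exact dvd_mul_right _ _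

theorem orderOf_dvd_of_mul_mem {S : Set G} {t : G} (h : ∀ s ∈ S, s * t ∈ S) : orderOf t ∣ Nat.card S := by
  rw [← Nat.card_zpowers]
  refine card_dvd_of_mul_mem fun s hs u hu => ?_
  obtain ⟨n, rfl⟩ := mem_powers_iff_mem_zpowers.2 hu
  clear hu
  induction n with
  | zero => simpa using hs
  | succ n ih => simpa only [pow_succ, ← mul_assoc] using h _ ih

theorem orderOf_commutator_dvd (h : C1(x).index.Coprime C1(y).index) (e : C1(x * y).index = C1(x).index) (g : G) :
    orderOf ⁅g, y⁆ ∣ C1(x).index := by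
  rw [← Transfer.card_isConj_eq_index]
  refine orderOf_dvd_of_mul_mem (S := {a | IsConj x a}) fun s hs => ?_
  have : (· * y) '' {a | IsConj x a} = {a | IsConj (x * y) a} := Set.eq_of_subset_of_ncard_le (by
    rintro _ ⟨a, ha, rfl⟩; exact isConj_mul_of_coprime h ha (IsConj.refl y)) (by
    rw [Set.ncard_image_of_injective _ (mul_left_injective y)]
    exact ((Transfer.card_isConj_eq_index _).trans (e.trans (Transfer.card_isConj_eq_index _).symm)).le)
  obtain ⟨a, ha, f⟩ := this.ge (isConj_mul_of_coprime h hs (isConj_iff.2 ⟨g, rfl⟩))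
  rwa [commutatorElement_def, ← mul_assoc, ← f, mul_inv_cancel_right]

end Cfsg.Agent.BG
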