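/-
Subgroups of index at most `p` in `p`-groups; Knoche's theorem.
-/
import Cfsg.Agent.Lib.BG.Cls3
import Cfsg.Agent.Lib.BG.Pgp

set_option autoImplicit false
set_option linter.unusedSectionVars false

namespace Cfsg.Agent.BG

open Subgroup Comp
open scoped commutatorElement Pointwise

universe u

variable {G : Type u} [Group G] [Finite G] {p : ℕ} [hp : Fact p.Prime] {P M A B : Subgroup G}

omit [Finite G] in
theorem exists_notMem_two (h1 : ¬ P ≤ A) (h2 : ¬ P ≤ B) : ∃ g ∈ P, g ∉ A ∧ g ∉ B := by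
  obtain ⟨x, x1, x2⟩ := SetLike.not_le_iff_exists.1 h1
  obtain ⟨y, y1, y2⟩ := SetLike.not_le_iff_exists.1 h2
  by_cases a : x ∈ B
  · by_cases b : y ∈ A
    · exact ⟨x * y, mul_mem x1 y1, mt (mul_mem_cancel_right b).1 x2, mt (mul_mem_cancel_left a).1 y2⟩
    · exact ⟨y, y1, b, y2⟩
  · exact ⟨x, x1, x2, a⟩

theorem idx_sup (hP : IsPGroup p P) (h : M.relIndex P ≤ p) {u : G} (hu : u ∈ P) (hu' : u ∉ M) : P ⊓ M ⊔ zpowers u = P := by
  by_contra e
  have a := sup_le (inf_le_left : P ⊓ M ≤ P) (zpowers_le.2 hu)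
  have b := mul_card_le_of_lt hP (a.lt_of_ne e)
  have c := mul_card_le_of_lt (hP.to_le a) (left_lt_sup.2 fun f => hu' (f (mem_zpowers u)).2)
  have d := Comp.relIndex_mul_card (inf_le_left : P ⊓ M ≤ P)
  rw [inf_relIndex_left] at d
  have := hp.out.one_lt
  have : 0 < Nat.card (P ⊓ M : Subgroup G) := Nat.card_pos
  nlinarith [Nat.mul_le_mul_right (Nat.card (P ⊓ M : Subgroup G)) h]

theorem idx_le (hP : IsPGroup p P) (h : M.relIndex P ≤ p) (h1 : A ≤ P) (h2 : P ⊓ M ≤ A) (h3 : A ≠ P) : A ≤ M := fun u hu => by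
  by_contra e
  exact h3 (h1.antisymm ((idx_sup hP h (h1 hu) e).ge.trans (sup_le h2 (zpowers_le.2 hu))))

theorem idx_comm (hP : IsPGroup p P) (h : M.relIndex P ≤ p) : ⁅P, P⁆ ≤ M := by
  by_cases e : P ≤ M
  · exact (Comp.commutator_le_left_of_le_normalizer le_normalizer).trans e
  obtain ⟨u, h1, h2⟩ := SetLike.not_le_iff_exists.1 e
  have := commutator_sup_le_sup_commutator ((zpowers_le.2 h1).trans (Solv.le_normalizer_of_relIndex_prime hP (inf_le_left (b := M))
    (by rw [inf_relIndex_left, relIndex_eq_of_le hP h e])))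
  rw [idx_sup hP h h1 h2, (commutator_eq_bot_iff_le_centralizer (H₁ := zpowers u)).2 (comm_iff_le.1 inferInstance), sup_bot_eq] at this
  exact this.trans inf_le_right

theorem eq_zpowers_of_card_le (hA : IsPGroup p A) (h : Nat.card A ≤ p) {a : G} (ha : a ∈ A) (h1 : a ≠ 1) : zpowers a = A := by
  simpa using sup_zpowers_eq_of_card_le (k := 0) hA (by simpa using h) bot_le (by simp) ha (mt mem_bot.1 h1)

theorem knoche (hP : IsPGroup p P) (h : ∀ g ∈ P, C1(g).relIndex P ≤ p) : Nat.card (⁅P, P⁆ : Subgroup G) ≤ p := by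
  have c : ∀ x ∈ P, ∀ y ∈ P, ∀ g ∈ P, ⁅x, y⁆ * g = g * ⁅x, y⁆ := fun x a y b g c =>
    mem_centralizer_singleton_iff.1 (idx_comm hP (h g c) (commutator_mem_commutator a b))
  have k : ∀ x ∈ P, ∃ L ≤ P, Nat.card L ≤ p ∧ ∀ y ∈ P, ⁅y, x⁆ ∈ L := fun x hx => by
    let f : P →* G := MonoidHom.mk' (fun y => ⁅(y : G), x⁆) fun a b => by
      rw [coe_mul, show ⁅(a : G) * b, x⁆ = a * ⁅(b : G), x⁆ * (a : G)⁻¹ * ⁅(a : G), x⁆ by simp only [commutatorElement_def]; group,
        ← c _ b.2 _ hx _ a.2, mul_inv_cancel_right, c _ b.2 _ hx _ (Comp.commutator_le_left_of_le_normalizer le_normalizer (commutator_mem_commutator a.2 hx))]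
    refine ⟨f.range, ?_, ?_, fun y hy => ⟨⟨y, hy⟩, rfl⟩⟩
    · rintro _ ⟨y, rfl⟩
      exact Comp.commutator_le_left_of_le_normalizer le_normalizer (commutator_mem_commutator y.2 hx)
    · rw [← index_ker]
      refine le_of_eq_of_le (congrArg index (Subgroup.ext fun y => ?_)) (h x hx)
      exact commutatorElement_eq_one_iff_mul_comm.trans mem_centralizer_singleton_iff.symm
  choose! L l1 l2 l3 using k
  have e : ∀ x ∈ P, ∀ g ∈ P, g ∉ C1(x) → L x = L g := fun x a g b c => by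
    have d := mt (commutatorElement_eq_one_iff_mul_comm.trans mem_centralizer_singleton_iff.symm).1 c
    rw [← eq_zpowers_of_card_le (hP.to_le (l1 x a)) (l2 x a) (l3 x a g b) d,
      eq_zpowers_of_card_le (hP.to_le (l1 g b)) (l2 g b) (by rw [← commutatorElement_inv]; exact inv_mem (l3 g b x a)) d]
  by_cases a : ∀ x ∈ P, P ≤ C1(x)
  · rw [commutator_eq_bot_iff_le_centralizer.2 fun y hy x hx => (mem_centralizer_singleton_iff.1 (a x hx hy)).symm, card_bot]
    exact hp.out.one_le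
  push Not at a
  obtain ⟨x, x1, x2⟩ := a
  refine (card_le_of_le (commutator_le.2 fun z hz y hy => ?_)).trans (l2 x x1)
  by_cases b : P ≤ C1(y)
  · rw [commutatorElement_eq_one_iff_mul_comm.2 (mem_centralizer_singleton_iff.1 (b hz))]; exact one_mem _
  obtain ⟨g, g1, g2, g3⟩ := exists_notMem_two x2 b
  exact e x x1 g g1 g2 ▸ e y hy g g1 g3 ▸ l3 y hy z hz

theorem relIndex_le_of_squarefree [P.Normal] (hP : IsPGroup p P) (h : Squarefree M.index) : M.relIndex P ≤ p := by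
  obtain ⟨k, hk⟩ := relIndex_eq_pow hP M
  have := (hk ▸ h.squarefree_of_dvd (Solv.relIndex_dvd_index_of_normal' M P) : Squarefree (p ^ k))
  rw [hk]
  rcases k with _ | k
  · simpa using hp.out.one_le
  · rw [show k + 1 = 1 from ((Nat.squarefree_pow_iff hp.out.ne_one k.succ_ne_zero).1 this).2, pow_one]

end Cfsg.Agent.BG
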