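/-
Class sizes: quasi-Frobenius groups.
-/
import Cfsg.Agent.Lib.BG.Cls4
import Cfsg.Agent.Lib.BG.PLen
import Cfsg.Agent.S4387
import Cfsg.Agent.S4160

set_option autoImplicit false
set_option linter.unusedSectionVars false

namespace Cfsg.Agent.Cls5

open Subgroup Cfsg.Agent.Comp Cfsg.Agent.BG
open scoped commutatorElement Pointwise

universe u

variable {G : Type u} [Group G] [Finite G] {N T P K : Subgroup G} {x y : G} {σ : Set ℕ}

theorem mem_Ct_of_cop [N.Normal] (h : (Nat.card N).Coprime C1(x).index) : x ∈ Ct(N) :=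
  le_centralizer_singleton_iff.1 (relIndex_eq_one.1 (Nat.eq_one_of_dvd_coprimes h (relIndex_dvd_card _ _)
    (Solv.relIndex_dvd_index_of_normal' _ _)))

theorem exists_pi (π : Set ℕ) (x : G) : ∃ a ∈ zpowers x, ∃ b ∈ zpowers x, a * b = x ∧ Commute a b ∧ PiN π (orderOf a) ∧
    PiN πᶜ (orderOf b) := by
  obtain ⟨a, a1, b, b1, e⟩ := (Comp.mem_sup_of_le_normalizer (le_normalizer_Opi_of_le (Opi_le π _))).1
    ((Opi_sup_Opi_compl (M := zpowers x) (@CommGroup.isNilpotent _ IsCyclic.commGroup) π).ge (mem_zpowers x))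
  exact ⟨a, Opi_le _ _ a1, b, Opi_le _ _ b1, e, Solv.isMulCommutative_iff.1 inferInstance a (Opi_le _ _ a1) b (Opi_le _ _ b1),
    (isPi_Opi _ _).orderOf a1, (isPi_Opi _ _).orderOf b1⟩

theorem le_of_cover (h1 : K ≤ N) (h : ∀ x ∈ N, ∃ g ∈ N, x ∈ cj(g, K)) : N ≤ K := by
  by_contra e
  obtain ⟨x, hx⟩ := S4387.exists_notMem_conj (subgroupOf_eq_top.not.2 e)
  obtain ⟨g, g1, g2⟩ := h x x.2
  exact hx ⟨g, g1⟩ (Solv.mem_conj_smul.2 (mem_subgroupOf.2 (mem_cj.1 g2)))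

theorem Ct_top : Ct((⊤ : Subgroup G)) = center G := by rw [coe_top, centralizer_univ]

theorem lemU [N.Normal] (hs : N ⊔ T = ⊤) (hi : N ⊓ T = ⊥) (hP : P ≤ T) (hn : T ≤ Nm(P))
    (h : ∀ x, x ∉ Ct(N) → ∃ g, x ∈ cj(g, Ct(P))) (h1 : ¬ T ≤ Ct(N)) (h2 : Ct(P) ≠ ⊤) : T ≤ Ct(P) ∧ N ≤ Ct(N) := by
  replace h : ∀ x, x ∉ Ct(N) → ∃ g ∈ N, x ∈ cj(g, Ct(P)) := fun x hx => by
    obtain ⟨g, hg⟩ := h x hx
    obtain ⟨n, n1, s, s1, rfl⟩ := (Comp.mem_sup_of_le_normalizer' le_normalizer_of_normal).1 (hs.ge (mem_top g))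
    exact ⟨n, n1, by rwa [cj_mul, cj_eq_self_iff.2 (Comp.le_normalizer_centralizer hn s1)] at hg⟩
  have a : T ≤ Ct(P) := by_contra fun e => by
    obtain ⟨t, t1, t2, t3⟩ := exists_notMem_two h1 e
    obtain ⟨n, n1, n2⟩ := h t t2
    refine t3 (mem_Ct.2 fun u hu => commutatorElement_eq_one_iff_mul_comm.1 (mem_bot.1 (hi.le (mem_inf.2 ⟨?_,
      Comp.commutator_le_left_of_le_normalizer le_normalizer (commutator_mem_commutator (hP hu) t1)⟩))))
    rw [← QuotientGroup.eq_one_iff, ← QuotientGroup.mk'_apply, map_commutatorElement, commutatorElement_eq_one_iff_mul_comm]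
    simpa [(QuotientGroup.eq_one_iff n).2 n1] using congrArg (QuotientGroup.mk' N) (mem_Ct.1 (mem_cj.1 n2) u hu)
  refine ⟨a, by_contra fun e => h2 (top_le_iff.1 (hs.ge.trans (sup_le ?_ a)))⟩
  have b : N ≤ N ⊓ Ct(N) ⊔ N ⊓ Ct(P) := le_of_cover (sup_le inf_le_left inf_le_left) fun x hx => by
    by_cases e : x ∈ Ct(N)
    · exact ⟨1, one_mem _, by rw [cj_one]; exact mem_sup_left ⟨hx, e⟩⟩
    obtain ⟨n, n1, n2⟩ := h x e
    exact ⟨n, n1, mem_cj.2 (mem_sup_right (mem_inf.2 ⟨mul_mem (mul_mem (inv_mem n1) hx) n1, mem_cj.1 n2⟩))⟩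
  obtain ⟨c, c1, c2⟩ := SetLike.not_le_iff_exists.1 fun f : N ⊓ Ct(P) ≤ Ct(N) => e (b.trans (sup_le inf_le_right f))
  refine b.trans (sup_le (fun z hz => ?_) inf_le_right)
  obtain ⟨n, n1, n2⟩ := h (z * c) fun f => c2 ((mul_mem_cancel_left (mem_inf.1 hz).2).1 f)
  obtain ⟨w, w1, d, d1, rfl⟩ := (Comp.mem_sup_of_le_normalizer' le_normalizer_of_normal).1 (b n1)
  rw [cj_mul, cj_eq_self_of_mem d1.2, mem_cj, mul_assoc, mem_Ct.1 w1.2 _ (mul_mem hz.1 c1.1), inv_mul_cancel_left] at n2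
  exact (mul_mem_cancel_right (mem_inf.1 c1).2).1 n2

/-- quasi-Frobenius data -/
structure QF (K T : Subgroup G) : Prop where
  normal : K.Normal
  sup : K ⊔ T = ⊤
  inf : K ⊓ T = center G
  cK : ∀ x ∈ K, x ∉ center G → C1(x) ≤ K
  cop : K.index.Coprime T.index
  neK : K ≠ ⊤
  neT : T ≠ ⊤

theorem QF.relIndex (h : QF K T) : (center G).relIndex K = T.index := by
  have := h.normal
  rw [← h.inf, inf_relIndex_left, ← relIndex_top_right, ← h.sup, ← Nat.mul_left_inj (card_ne_zero (K ⊓ T)),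
    ← Nat.mul_left_inj (card_ne_zero T), inf_comm, relIndex_mul_card_inf, mul_right_comm, Comp.relIndex_mul_card le_sup_right,
    sup_comm, Comp.card_sup_mul_card_inf le_normalizer_of_normal, mul_comm]

theorem QF.index (h : QF K T) : (center G).index = K.index * T.index := by
  rw [← relIndex_mul_index (h.inf.ge.trans inf_le_left), h.relIndex, mul_comm]

theorem QF.fpf (h : QF K T) : ∀ y ∈ T.map (QuotientGroup.mk' (center G)), y ≠ 1 →
    K.map (QuotientGroup.mk' (center G)) ⊓ C1(y) = ⊥ := by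
  have := h.normal
  rintro _ ⟨y, y1, rfl⟩ y2
  refine Solv.fpf_iff.2 ?_
  rintro _ ⟨k, k1, rfl⟩ e
  rw [← commutatorElement_eq_one_iff_mul_comm, ← map_commutatorElement, QuotientGroup.mk'_apply, QuotientGroup.eq_one_iff] at e
  have hc : ∀ a b : G, ⁅a, b⁆ ∈ center G → ∀ n, b ^ n ∈ center G → orderOf ⁅a, b⁆ ∣ n := fun a b e n f => by
    rw [orderOf_dvd_iff_pow_eq_one, ← commutator_pow_right_of_comm, commutatorElement_eq_one_iff_mul_comm, mem_center_iff.1 f]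
    rw [show a * b * a⁻¹ = ⁅a, b⁆ * b by group]
    exact Commute.mul_left (mem_center_iff.1 e b).symm rfl
  have h1 := hc y k e _ (pow_index_mem ((center G).subgroupOf K) ⟨k, k1⟩)
  have h2 := hc k y (by rw [← commutatorElement_inv]; exact inv_mem e) _ (h.inf.le ⟨pow_index_mem K y, pow_mem y1 _⟩)
  rw [← commutatorElement_inv, orderOf_inv] at h2
  have h3 := orderOf_eq_one_iff.1 (Nat.eq_one_of_dvd_coprimes h.cop h2 (h.relIndex ▸ h1))
  exact (QuotientGroup.eq_one_iff k).2 (by_contra fun f => y2 ((QuotientGroup.eq_one_iff y).2 (h.inf.le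
    ⟨h.cK k k1 f (mem_C1.2 (commutatorElement_eq_one_iff_mul_comm.1 h3).symm), y1⟩)))

theorem QF.not_le (h : QF K T) : ¬ K ≤ center G ∧ ¬ T ≤ center G :=
  ⟨fun e => h.neT (by rw [← h.sup, sup_eq_right.2 (e.trans (h.inf.ge.trans inf_le_right))]),
    fun e => h.neK (by rw [← h.sup, sup_eq_left.2 (e.trans (h.inf.ge.trans inf_le_left))])⟩

theorem QF.frob (h : QF K T) : IsFrobeniusComplement (T.map (QuotientGroup.mk' (center G))) ∧
    frobeniusKernel (T.map (QuotientGroup.mk' (center G))) = K.map (QuotientGroup.mk' (center G)) := by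
  have := h.normal
  have := h.normal.map _ (QuotientGroup.mk'_surjective (center G))
  have e : K.map (QuotientGroup.mk' (center G)) ⊔ T.map (QuotientGroup.mk' (center G)) = ⊤ := by
    rw [← Subgroup.map_sup, h.sup, map_top_of_surjective _ (QuotientGroup.mk'_surjective _)]
  exact ⟨Solv.isFrobeniusComplement_of_fpf e ((Solv.map_mk_eq_bot_iff _).not.2 h.not_le.1)
    ((Solv.map_mk_eq_bot_iff _).not.2 h.not_le.2) h.fpf, Solv.frobeniusKernel_eq_of_normal e h.fpf⟩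

theorem QF.cT (h : QF K T) (hT : T ≤ Ct(T)) (h1 : y ∈ T) (h2 : y ∉ center G) : C1(y) = T := by
  have := h.normal
  have e : T ≤ C1(y) := le_centralizer_singleton_iff.2 (hT h1)
  rw [← top_inf_eq C1(y), ← h.sup, sup_comm, sup_inf_of_le_normalizer le_normalizer_of_normal e, sup_eq_left]
  exact fun k hk => (h.inf.ge (by_contra fun f => h2 (h.inf.le ⟨h.cK k hk.1 f (mem_C1.2 (mem_C1.1 hk.2).symm), h1⟩))).2

theorem hall_of_npc (h : ∀ q : ℕ, q.Prime → q ∈ σ → HasNormalPComplement q G) : ∃ N T : Subgroup G, N.Normal ∧ HallIn σᶜ N ⊤ ∧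
    HallIn σ T ⊤ ∧ Group.IsNilpotent T := by
  have h1 : HallIn σᶜ (ResPi σ ⊤) (⊤ : Subgroup G) := hallIn_mk le_top (fun q hq d e => by
    have := Fact.mk hq
    refine coprime_iff_not_dvd.1 (hasNPC_iff_coprime.1 (Transfer.hasNPC_top.2 (h q hq e))) (d.trans (card_dvd_of_le ?_))
    exact Subgroup.closure_mono fun x hx => ⟨hx.1, fun r a b c => hx.2 r a b (c ▸ e)⟩)
    (by rw [compl_compl]; exact fun q => mem_of_dvd_relIndex_ResPi)
  obtain ⟨T, h2⟩ := h1.exists_compl le_normalizer_of_normal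
  rw [compl_compl] at h2
  refine ⟨_, T, inferInstance, h1, h2, Solv.isNilpotent_of_forall_hasNPC fun q hq => ?_⟩
  have := Fact.mk hq
  by_cases e : q ∣ Nat.card T
  · exact Transfer.hasNPC_subgroup (h q hq (h2.isPi q hq e)) T
  · exact Transfer.hasNPC_of_not_dvd e

theorem index_mul_dvd_of {a b : ℕ} (hc : Commute x y) (h : (orderOf x).Coprime (orderOf y)) (h1 : a ∣ C1(x).index)
    (h2 : b ∣ C1(y).index) (h3 : a.Coprime b) : a * b ∣ C1(x * y).index := by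
  rw [C1_mul_of_coprime hc h]
  exact h3.mul_dvd_of_dvd_of_dvd (h1.trans (index_dvd_of_le inf_le_left)) (h2.trans (index_dvd_of_le inf_le_right))

theorem not_le_Ct [N.Normal] (n1 : HallIn σᶜ N ⊤) (t1 : HallIn σ T ⊤) {p q : ℕ} (hp : p.Prime) (hq : q.Prime) (p1 : p ∈ σ)
    (q1 : q ∉ σ) (h1 : p ∣ C1(x).index) (h2 : q ∣ C1(y).index) (h : ∀ g : G, ¬ p * q ∣ C1(g).index) : ¬ T ≤ Ct(N) := fun e => by
  have hs := t1.sup_eq n1
  have : T.Normal := normal_iff_top_le_normalizer.2 (hs.ge.trans (sup_le le_normalizer (le_Nm_of_le_Ct' e)))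
  have k : ∀ g : G, ∃ a ∈ T, ∃ b ∈ N, C1(g).index ∣ C1(a).index * C1(b).index ∧ PiN σ C1(a).index ∧ PiN σᶜ C1(b).index := fun g => by
    obtain ⟨a, a1, b, b1, rfl⟩ := (Comp.mem_sup_of_le_normalizer le_normalizer_of_normal).1 (hs.ge (mem_top g))
    have a2 : PiN σ C1(a).index := by
      simpa only [compl_compl, relIndex_top_right] using n1.index_of_le (le_centralizer_singleton_iff.2 (e a1)) le_top
    have b2 : PiN σᶜ C1(b).index := by
      simpa only [relIndex_top_right] using t1.index_of_le (le_centralizer_singleton_iff.2 (le_Ct_comm.1 e b1)) le_top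
    exact ⟨a, a1, b, b1, index_mul_dvd (a2.coprime b2), a2, b2⟩
  obtain ⟨a, a1, b, -, a2, -, a3⟩ := k x
  obtain ⟨c, -, d, d1, d2, d3, -⟩ := k y
  exact h _ (index_mul_dvd_of (mem_Ct.1 (e a1) d d1).symm ((t1.isPi.orderOf a1).coprime (n1.isPi.orderOf d1))
    ((hp.dvd_mul.1 (h1.trans a2)).resolve_right fun f => a3 p hp f p1) ((hq.dvd_mul.1 (h2.trans d2)).resolve_left fun f => q1 (d3 q hq f))
    ((Nat.coprime_primes hp hq).2 fun f => q1 (f ▸ p1)))

theorem disc_aux (h : ∀ x : G, PiN σ C1(x).index ∨ PiN σᶜ C1(x).index) (h0 : ∀ q : ℕ, q.Prime → q ∈ σ → HasNormalPComplement q G)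
    (hx : ¬ PiN σ C1(x).index) (hy : ¬ PiN σᶜ C1(y).index) : ∃ K T : Subgroup G, QF K T ∧ K ≤ Ct(K) ∧ T ≤ Ct(T) := by
  obtain ⟨N, T, _, n1, t1, t2⟩ := hall_of_npc h0
  have hs := (sup_comm _ _).trans (t1.sup_eq n1)
  have hi := (inf_comm _ _).trans (t1.inf_eq_bot n1)
  have h1 : ∀ x, x ∉ Ct(N) → ∃ g, x ∈ cj(g, Ct(T)) := fun x hx => by
    obtain ⟨S, s1⟩ := (n1.normal_inf le_normalizer_of_normal (le_top (a := C1(x)))).exists_compl
      (Comp.le_normalizer_inf le_normalizer_of_normal le_normalizer)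
    rw [compl_compl] at s1
    have s2 := s1.trans_index le_top (by
      rw [relIndex_top_right]; exact (h x).resolve_left fun e => hx (mem_Ct_of_cop (n1.isPi.coprime' e)))
    obtain ⟨g, -, hg⟩ := Solv.sz_conj_internal le_normalizer_of_normal (t1.isPi.coprime n1.isPi) (.inl inferInstance)
      ((inf_comm _ _).trans (s2.inf_eq_bot n1)) (((sup_comm _ _).trans (s2.sup_eq n1)).trans hs.symm)
    exact ⟨g, by rw [cj_centralizer, ← smul_eq_cj, hg]; exact le_centralizer_singleton_iff.1 s1.le⟩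
  simp only [PiN, not_forall] at hx hy
  obtain ⟨q, hq, q1, q2⟩ := hx
  obtain ⟨p, hp, p1, p2⟩ := hy
  rw [Set.notMem_compl_iff] at p2
  have h2 := not_le_Ct n1 t1 hp hq p2 q2 p1 q1 fun g e => (h g).elim (fun f => q2 (f q hq ((dvd_mul_left _ _).trans e)))
    fun f => f p hp ((dvd_mul_right _ _).trans e) p2
  have h3 : Ct(T) ≠ ⊤ := fun e => h2 (le_Ct_comm.1 (le_top.trans e.ge))
  obtain ⟨a, b⟩ := lemU hs hi le_rfl le_normalizer h1 h2 h3
  have h4 : Ct(N) ⊓ Ct(T) = center G := by rw [← centralizer_sup, hs, Ct_top]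
  have h5 : Ct(N) = N ⊔ center G := le_antisymm (by
    rw [← top_inf_eq Ct(N), ← hs, sup_inf_of_le_normalizer' le_normalizer_of_normal b]
    exact sup_le_sup_left ((le_inf inf_le_right (inf_le_left.trans a)).trans h4.le) _) (sup_le b (center_le_centralizer _))
  have h6 : Ct(T) = T ⊔ center G := le_antisymm (by
    rw [← top_inf_eq Ct(T), ← hs, sup_comm N, sup_inf_of_le_normalizer le_normalizer_of_normal a]
    exact sup_le_sup_left ((inf_le_inf_right _ b).trans h4.le) _) (sup_le a (center_le_centralizer _))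
  have h7 : ∀ A : Subgroup G, Ct(A) = A ⊔ center G → Ct(A) ≤ Ct(Ct(A)) := fun A e => by
    conv_lhs => rw [e]
    exact sup_le (le_centralizer_iff.1 le_rfl) (center_le_centralizer _)
  refine ⟨Ct(N), Ct(T), ⟨inferInstance, top_le_iff.1 (hs.ge.trans (sup_le_sup b a)), h4, fun k k1 k2 g hg => by_contra fun e => ?_,
    ?_, fun e => h2 (le_top.trans e.ge), h3⟩, h7 N h5, h7 T h6⟩
  · obtain ⟨c, hc⟩ := h1 g e
    rw [h6, cj_sup, cj_eq_self_of_normal (center G)] at hc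
    obtain ⟨t, t3, z, z1, rfl⟩ := (Comp.mem_sup_of_le_normalizer le_normalizer_of_normal).1 hc
    obtain ⟨n, n2, w, w1, rfl⟩ := (Comp.mem_sup_of_le_normalizer le_normalizer_of_normal).1 (h5.le k1)
    have e1 : Commute n t := by
      have f1 : Commute (n * w) (t * z) := mem_C1.1 hg
      have f2 : ∀ g, ∀ z ∈ center G, Commute g z⁻¹ := fun g z hz => mem_center_iff.1 (inv_mem hz) g
      simpa only [mul_inv_cancel_right] using ((f1.mul_right (f2 _ z z1)).mul_left (f2 _ w w1).symm)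
    obtain ⟨d, hd⟩ := h1 (n * t) fun f => e (mul_mem ((mul_mem_cancel_left (b n2)).1 f) (center_le_centralizer _ z1))
    rw [cj_centralizer, ← le_centralizer_singleton_iff, C1_mul_of_coprime e1
      ((n1.isPi.orderOf n2).coprime' ((t1.isPi.cj c).orderOf t3))] at hd
    refine k2 (mul_mem ((cj_eq_self_of_normal (center G) d).le ?_) w1)
    rw [← h4, cj_inf, cj_eq_self_of_normal, cj_centralizer]
    exact ⟨b n2, le_centralizer_singleton_iff.1 (hd.trans inf_le_left)⟩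
  · simpa only [compl_compl, relIndex_top_right] using (n1.index_of_le b le_top).coprime' (π := σᶜ) (by
      simpa only [compl_compl, relIndex_top_right] using t1.index_of_le a le_top)

theorem npc_or {A B : Set ℕ} (h : ∀ p ∈ A, ∀ q ∈ B, p.Prime → q.Prime → p ≠ q ∧ (∃ x : G, p ∣ C1(x).index) ∧
    (∃ x : G, q ∣ C1(x).index) ∧ ∀ x : G, ¬ p * q ∣ C1(x).index) :
    (∀ p : ℕ, p.Prime → p ∈ A → HasNormalPComplement p G) ∨ ∀ p : ℕ, p.Prime → p ∈ B → HasNormalPComplement p G := by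
  by_contra e
  push Not at e
  obtain ⟨⟨p, a, b, c⟩, q, d, f, g⟩ := e
  obtain ⟨h1, h2, h3, h4⟩ := h p b q f a d
  exact (S4160.result p q a d h1 h2 h3 h4).elim c g

theorem disc (S : Set ℕ) (h1 : ∃ p ∈ S, p.Prime ∧ ∃ g : G, p ∣ C1(g).index) (h2 : ∃ q ∉ S, q.Prime ∧ ∃ g : G, q ∣ C1(g).index)
    (h : ∀ p q : ℕ, (p.Prime ∧ ∃ g : G, p ∣ C1(g).index) → (q.Prime ∧ ∃ g : G, q ∣ C1(g).index) → p ∈ S → q ∉ S →
      ¬ ∃ g : G, p * q ∣ C1(g).index) : ∃ K T : Subgroup G, QF K T ∧ K ≤ Ct(K) ∧ T ≤ Ct(T) := by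
  have k : ∀ S : Set ℕ, (∃ p ∈ S, p.Prime ∧ ∃ g : G, p ∣ C1(g).index) → (∃ q ∉ S, q.Prime ∧ ∃ g : G, q ∣ C1(g).index) →
      (∀ p q : ℕ, (p.Prime ∧ ∃ g : G, p ∣ C1(g).index) → (q.Prime ∧ ∃ g : G, q ∣ C1(g).index) → p ∈ S → q ∉ S →
      ¬ ∃ g : G, p * q ∣ C1(g).index) → (∀ p : ℕ, p.Prime → p ∈ {p ∈ S | ∃ g : G, p ∣ C1(g).index} → HasNormalPComplement p G) →
      ∃ K T : Subgroup G, QF K T ∧ K ≤ Ct(K) ∧ T ≤ Ct(T) := by
    rintro S ⟨p, p1, p2, x, p3⟩ ⟨q, q1, q2, y, q3⟩ h h0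
    refine disc_aux (fun g => or_iff_not_imp_left.2 fun e r r1 r2 r3 => e fun s s1 s2 => And.intro (by_contra fun f =>
      h r s ⟨r1, g, r2⟩ ⟨s1, g, s2⟩ r3.1 f ⟨g, ((Nat.coprime_primes r1 s1).2 fun e => f (e ▸ r3.1)).mul_dvd_of_dvd_of_dvd r2 s2⟩) ⟨g, s2⟩)
      h0 (fun e => q1 (e q q2 q3).1) fun e => e p p2 p3 (And.intro p1 ⟨x, p3⟩)
  refine (npc_or (A := {p ∈ S | ∃ g : G, p ∣ C1(g).index}) (B := {p ∈ Sᶜ | ∃ g : G, p ∣ C1(g).index}) fun p a q b c d => ⟨fun e => b.1 (e ▸ a.1), a.2, b.2,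
    fun x e => h p q ⟨c, a.2⟩ ⟨d, b.2⟩ a.1 b.1 ⟨x, e⟩⟩).elim (k S h1 h2 h) (k Sᶜ h2 (by simpa using h1) fun p q a b c d => ?_)
  rw [mul_comm]; exact h q p b a (not_not.1 d) c

end Cfsg.Agent.Cls5
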