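/-
Class sizes: elements of prime power index.
-/
import Cfsg.Agent.Lib.BG.Cls5

set_option autoImplicit false
set_option linter.unusedSectionVars false

namespace Cfsg.Agent.Cls5

open Subgroup Cfsg.Agent.Comp Cfsg.Agent.BG
open scoped commutatorElement Pointwise

universe u

variable {G : Type u} [Group G] [Finite G] {N T P K : Subgroup G} {x y : G} {p : ℕ} [hp : Fact p.Prime]

theorem exists_crit_two [Fact (2 : ℕ).Prime] (hP : IsPGroup 2 P) : ∃ H, H ≤ P ∧ Nm(P) ≤ Nm(H) ∧ (∀ x ∈ H, x ^ 4 = 1) ∧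
    ∀ A, A ≤ Nm(P) → (Nat.card A).Coprime 2 → A ≤ Ct(H) → A ≤ Ct(P) := by
  obtain ⟨C, h1, h3, h2, h4, h5⟩ := exists_critical hP
  have k : ∀ x ∈ C, ∀ y ∈ C, (x * y) ^ 4 = (x ^ 2 * y ^ 2) ^ 2 := fun x hx y hy => by
    have c1 := h4 (commutator_mem_commutator (inv_mem hx) (h1 hy))
    have c2 : ⁅x⁻¹, y⁆ ^ 2 = 1 := by
      rw [← commutator_pow_right_of_comm, commutatorElement_eq_one_iff_mul_comm, mem_Ct.1 (h2 y hy) _ (inv_mem hx)]
      rw [show x⁻¹ * y * x⁻¹⁻¹ = ⁅x⁻¹, y⁆ * y by group]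
      exact Commute.mul_left (mem_Ct.1 c1.2 y hy).symm rfl
    have c3 : Commute (x ^ 2 * y ^ 2) ⁅x⁻¹, y⁆ := mem_Ct.1 c1.2 _ (mul_mem (pow_mem hx 2) (pow_mem hy 2))
    rw [show 4 = 2 * 2 from rfl, pow_mul, show (x * y) ^ 2 = x ^ 2 * (⁅x⁻¹, y⁆ * y ^ 2) by simp only [sq]; group,
      ← mem_Ct.1 c1.2 _ (pow_mem hy 2), ← mul_assoc, c3.mul_pow, c2, mul_one]
  let H : Subgroup G := ⟨⟨⟨{x | x ∈ C ∧ x ^ 4 = 1}, fun {x y} a b => ⟨mul_mem a.1 b.1, by
    rw [k x a.1 y b.1, Commute.mul_pow (mem_Ct.1 (h2 y b.1) _ (pow_mem a.1 2)), ← pow_mul, ← pow_mul, a.2, b.2, mul_one]⟩⟩,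
    one_mem _, one_pow _⟩, fun a => ⟨inv_mem a.1, by rw [inv_pow, a.2, inv_one]⟩⟩
  have h6 : H ≤ C := fun _ h => h.1
  refine ⟨H, h6.trans h1, le_normalizer_of_cj_le fun g hg => cj_le_iff'.2 fun x hx => ⟨Comp.conj_mem_of_mem_normalizer (h3 hg) hx.1,
    by rw [conj_pow, hx.2, mul_one, mul_inv_cancel]⟩, fun _ h => h.2, fun A a b c => ?_⟩
  have hc := (coprime_of_isPGroup hP b).symm
  have h7 : A ≤ Ct((C ⊓ Ct(C) : Subgroup G)) := Solv.coprime_abelian_le_centralizer (comm_iff_le.2 (Comp.center_le_centralizer C))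
    (Comp.le_normalizer_inf (a.trans h3) (Comp.le_normalizer_centralizer (a.trans h3)))
    (hc.coprime_dvd_right (card_dvd_of_le (inf_le_left.trans h1))) fun v hv e g hg => (mem_Ct.1 (c hg) v ⟨hv.1, by
      obtain ⟨n, hn⟩ := IsPGroup.exists_pow_eq_one hP (h1 hv.1)
      rw [← orderOf_dvd_iff_pow_eq_one, (Nat.prime_dvd_prime_iff_eq e Nat.prime_two).1 (e.dvd_of_dvd_pow
        (orderOf_dvd_iff_pow_eq_one.2 hn))]
      norm_num⟩).symm
  refine le_Ct_of_critical a hc (le_normalizer.trans h3) h5 (le_Ct_of_commutator_le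
    (hc.coprime_dvd_right (card_dvd_of_le (h6.trans h1))) (commutator_le.2 fun x hx g hg => ?_) c)
  have e := Comp.conj_mem_of_mem_normalizer (h3 (a hg)) (inv_mem hx)
  rw [show ⁅x, g⁆ = x * (g * x⁻¹ * g⁻¹) by group]
  refine ⟨mul_mem hx e, ?_⟩
  rw [k x hx _ e, conj_pow, ← mem_Ct.1 (h7 hg) _ ⟨pow_mem (inv_mem hx) 2, h2 _ (inv_mem hx)⟩]
  simp

theorem exists_crit (hP : IsPGroup p P) : ∃ H, H ≤ P ∧ Nm(P) ≤ Nm(H) ∧ (∀ x ∈ H, x = 1 ∨ orderOf x = p ∨ p = 2 ∧ orderOf x = 4) ∧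
    ∀ A, A ≤ Nm(P) → (Nat.card A).Coprime p → A ≤ Ct(H) → A ≤ Ct(P) := by
  by_cases h2 : p = 2
  · subst h2
    obtain ⟨H, a, b, c, d⟩ := exists_crit_two hP
    refine ⟨H, a, b, fun x hx => ?_, d⟩
    obtain ⟨k, k1, k2⟩ := (Nat.dvd_prime_pow (m := 2) Nat.prime_two).1 (orderOf_dvd_iff_pow_eq_one.2 (c x hx))
    interval_cases k <;> simp_all
  · obtain ⟨H, a, b, -, c, -, d⟩ := exists_critical_odd h2 hP
    exact ⟨H, a, b, fun x hx => or_iff_not_imp_left.2 fun e => .inl (orderOf_eq_prime (c x hx) e), d⟩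

theorem mem_Op {a : ℕ} (hx : C1(x).index = p ^ a) (h : IsPGroup p (zpowers x)) : x ∈ Op p ⊤ := by
  obtain ⟨P, p1, hP⟩ := exists_sylIn_ge h le_top
  refine le_Op (N := normalClosure {x}) le_top le_normalizer_of_normal (hP.isP.to_le ((closure_le _).2 fun z hz => ?_))
    (subset_normalClosure rfl)
  obtain ⟨z, rfl, hz'⟩ := Group.mem_conjugatesOfSet_iff.1 hz
  obtain ⟨g, rfl⟩ := isConj_iff.1 hz'
  obtain ⟨u, hu, c, hc, rfl⟩ := Solv.isProd_top_of_coprime (H := P) (K := C1(z))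
    (hx ▸ (coprime_iff_not_dvd.2 (by simpa using hP.not_dvd_relIndex)).pow_right a) g (mem_top g)
  rw [show u * c * z * (u * c)⁻¹ = u * (c * z * c⁻¹) * u⁻¹ by group, mem_centralizer_singleton_iff.1 hc, mul_inv_cancel_right]
  exact mul_mem (mul_mem hu (p1 (mem_zpowers z))) (inv_mem hu)

theorem le_Ct_of_pow (G : Type u) [Group G] [Finite G] : ∀ (N A : Subgroup G) [N.Normal], IsPGroup p N →
    (∀ x ∈ N, ∃ a, C1(x).index = p ^ a) → (Nat.card A).Coprime p → A ≤ Ct(N) := by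
  induction G, ‹Group G›, ‹Finite G› using Solv.card_induction' with | h G ih => ?_
  intro N A _ h1 h2 h3
  by_cases h0 : N = ⊥
  · rw [h0, le_Ct_comm]; exact bot_le
  obtain ⟨P, p1, hP⟩ := exists_sylIn_ge h1 le_top
  obtain ⟨z, z1, z2⟩ := Solv.exists_ne_one_of_ne_bot (inf_centralizer_ne_bot_of_isNilpotent hP.isP.isNilpotent p1
    le_normalizer_of_normal h0)
  obtain ⟨a, ha⟩ := h2 z z1.1
  have z3 : z ∈ center G := index_C1_eq_one.1 (by
    have := hP.not_dvd_relIndex_of_le (le_centralizer_singleton_iff.2 z1.2) le_top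
    rw [relIndex_top_right, ha] at this
    rw [ha, Nat.eq_zero_of_not_pos fun e => this (dvd_pow_self p e.ne'), pow_zero])
  have := ih (G ⧸ N ⊓ center G) (Solv.card_quotient_lt fun e => z2 (mem_bot.1 (e.le ⟨z1.1, z3⟩))) (N.map (QuotientGroup.mk' _))
    (A.map (QuotientGroup.mk' _)) (h1.map _) (by
      rintro _ ⟨x, hx, rfl⟩
      obtain ⟨a, ha⟩ := h2 x hx
      exact ((Nat.dvd_prime_pow hp.out).1 (ha ▸ index_C1_map_dvd (QuotientGroup.mk'_surjective _) x)).imp fun _ h => h.2)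
    (h3.coprime_dvd_left (card_map_dvd _ _))
  rw [← commutator_eq_bot_iff', map_eq_bot_iff_le_ker', QuotientGroup.ker_mk'] at this
  exact le_Ct_of_commutator_le (coprime_of_isPGroup (h1.to_le inf_le_left) h3).symm this
    (le_Ct_comm.1 (inf_le_right.trans (Subgroup.center_le_centralizer _)))

end Cfsg.Agent.Cls5
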