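/-
Class sizes: Itô's theorem on groups with two class sizes.
-/
import Cfsg.Agent.Lib.BG.Cls6

set_option autoImplicit false
set_option linter.unusedSectionVars false

namespace Cfsg.Agent.Cls5

open Subgroup Cfsg.Agent.Comp Cfsg.Agent.BG
open scoped commutatorElement Pointwise

universe u

variable {G : Type u} [Group G] [Finite G] {N T P K : Subgroup G} {x y : G} {n : ℕ}

theorem orderOf_comm_dvd {a b : G} (e : Commute ⁅a, b⁆ b) : orderOf ⁅a, b⁆ ∣ orderOf b := by
  rw [orderOf_dvd_iff_pow_eq_one, ← commutator_pow_right_of_comm, pow_orderOf_eq_one, commutatorElement_one_right]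
  rw [show a * b * a⁻¹ = ⁅a, b⁆ * b by group]
  exact e.mul_left rfl

theorem comm_of_cop {a b : G} (h1 : Commute ⁅a, b⁆ a) (h2 : Commute ⁅a, b⁆ b) (hc : (orderOf a).Coprime (orderOf b)) :
    Commute a b := by
  have := orderOf_comm_dvd (a := b) (b := a) (by rw [← commutatorElement_inv]; exact h1.inv_left)
  rw [← commutatorElement_inv, orderOf_inv] at this
  exact commutatorElement_eq_one_iff_commute.1 (orderOf_eq_one_iff.1 (Nat.eq_one_of_dvd_coprimes hc this (orderOf_comm_dvd h2)))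

theorem map_comm_iff {a b : G} : QuotientGroup.mk' (center G) a * QuotientGroup.mk' (center G) b =
    QuotientGroup.mk' (center G) b * QuotientGroup.mk' (center G) a ↔ ⁅a, b⁆ ∈ center G := by
  rw [← commutatorElement_eq_one_iff_mul_comm, ← map_commutatorElement, QuotientGroup.mk'_apply, QuotientGroup.eq_one_iff]

theorem center_le_C1 (x : G) : center G ≤ C1(x) := Subgroup.center_le_centralizer _

theorem coprime_orderOf {p q : ℕ} [Fact p.Prime] [Fact q.Prime] (h : p ≠ q) (hx : IsPGroup p (zpowers x))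
    (hy : IsPGroup q (zpowers y)) : (orderOf x).Coprime (orderOf y) := by
  simpa only [Nat.card_zpowers] using Solv.coprime_card_of_isPGroup_ne h hx hy

theorem ito_aux (h : ∀ x : G, x ∉ center G → C1(x).index = n) {p q : ℕ} [hp : Fact p.Prime] [hq : Fact q.Prime] (hpq : p ≠ q)
    {P Q : Subgroup G} (hP : SylIn p P ⊤) (hQ : SylIn q Q ⊤) (h1 : ¬ P ≤ center G) (h2 : ¬ Q ≤ center G) :
    p ^ ((center G).index / n).factorization p < q ^ ((center G).index / n).factorization q := by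
  have a0 : ∀ x y : G, x ∉ center G → C1(y) ≤ C1(x) → C1(y) = C1(x) := fun x y a b =>
    C1_eq_of_le b ((h y fun e => a (C1_eq_top_iff.1 (top_le_iff.1 ((C1_eq_top_iff.2 e).ge.trans b)))).trans (h x a).symm)
  have a1 : ∀ x y : G, x ∉ center G → y ∉ center G → Commute x y → (orderOf x).Coprime (orderOf y) → C1(x) = C1(y) :=
    fun x y a b c d => by
    have e := C1_mul_of_coprime c d
    rw [← a0 x _ a (e.le.trans inf_le_left), a0 y _ b (e.le.trans inf_le_right)]
  have a2 : ∀ x : G, x ∉ center G → Nat.card (C1(x).map (QuotientGroup.mk' (center G))) = (center G).index / n := fun x a => by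
    rw [Solv.card_map_mk_eq_relIndex, ← relIndex_mul_index (center_le_C1 x), h x a, Nat.mul_div_cancel _
      (h x a ▸ Nat.pos_of_ne_zero index_ne_zero_of_finite)]
  have a3 : ∀ (r : ℕ) [Fact r.Prime] (R : Subgroup G), IsPGroup r R → ¬ R ≤ center G → ∀ x, x ∉ center G → ∀ S,
      SylIn r S C1(x) → ¬ S ≤ center G := fun r _ R r1 r2 x a S s e => by
    obtain ⟨u, u1, u2⟩ := SetLike.not_le_iff_exists.1 r2
    refine (s.map (QuotientGroup.mk' (center G))).eq_bot_iff.1 ((Solv.map_mk_eq_bot_iff _).2 e) ?_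
    rw [a2 x a, ← a2 u u2]
    exact (dvd_card_of_isPGroup ((Solv.isPGroup_zpowers_of_mem r1 u1).map _) ((Solv.map_mk_eq_bot_iff _).not.2
      (zpowers_le.not.2 u2))).trans (card_dvd_of_le (map_mono (zpowers_le.2 (self_mem_C1 u))))
  have a4 : ∀ x y : G, x ∉ center G → y ∉ center G → y ∈ C1(x) → C1(x) = C1(y) := fun x y a b c => by
    obtain ⟨r, hr, -, u, u1, u2, u3⟩ := Solv.exists_prime_pow_notMem a
    obtain ⟨s, hs, -, v, v1, v2, v3⟩ := Solv.exists_prime_pow_notMem b
    have := Fact.mk hr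
    have := Fact.mk hs
    have e1 := a0 u x u3 (C1_le_of_mem_zpowers u1)
    rw [e1, a0 v y v3 (C1_le_of_mem_zpowers v1)]
    have c1 : Commute u v := mem_C1.1 (e1.le (zpowers_le.2 c v1))
    by_cases e : r = s
    swap
    · exact a1 u v u3 v3 c1 (coprime_orderOf e u2 v2)
    subst e
    obtain ⟨t, _, T, t1, t2, t3⟩ : ∃ (t : ℕ) (_ : Fact t.Prime) (T : Subgroup G), IsPGroup t T ∧ ¬ T ≤ center G ∧ r ≠ t := by
      by_cases e : r = p
      · exact ⟨q, hq, Q, hQ.isP, h2, e ▸ hpq⟩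
      · exact ⟨p, hp, P, hP.isP, h1, e⟩
    obtain ⟨S, s⟩ := exists_sylIn t C1(u)
    obtain ⟨w, w1, w2⟩ := SetLike.not_le_iff_exists.1 (a3 t T t1 t2 u u3 S s)
    have w3 := Solv.isPGroup_zpowers_of_mem s.isP w1
    have e2 := a1 u w u3 w2 (mem_C1.1 (s.le w1)) (coprime_orderOf t3 u2 w3)
    rw [e2, a1 v w v3 w2 (Commute.symm (mem_C1.1 (e2.le (mem_C1.2 c1)))) (coprime_orderOf t3 v2 w3)]
  obtain ⟨_, ⟨⟨x, x1, rfl⟩, x2⟩, x3⟩ := Solv.exists_ne_one_of_ne_bot (inf_centralizer_ne_bot_of_isNilpotent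
    (hP.isP.map (QuotientGroup.mk' (center G))).isNilpotent le_rfl le_normalizer ((Solv.map_mk_eq_bot_iff _).not.2 h1))
  replace x3 : x ∉ center G := fun e => x3 ((QuotientGroup.eq_one_iff x).2 e)
  have x4 : P ≤ Nm(C1(x)) := fun u hu => cj_eq_self_iff.1 (by
    rw [cj_centralizer_singleton, show u * x * u⁻¹ = ⁅u, x⁆ * x by group]
    refine (a0 _ _ (fun e => x3 ((mul_mem_cancel_left (map_comm_iff.1 (mem_Ct.1 x2 _ ⟨u, hu, rfl⟩))).1 e)) fun g hg => ?_).symm
    exact mem_C1.2 (Commute.mul_left (mem_center_iff.1 (map_comm_iff.1 (mem_Ct.1 x2 _ ⟨u, hu, rfl⟩)) g).symm (mem_C1.1 hg)))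
  obtain ⟨y, y1⟩ : ∃ y, ∀ g, y ∉ cj(g, C1(x)) := by
    by_contra e
    push Not at e
    exact x3 (C1_eq_top_iff.1 (top_le_iff.1 (le_of_cover le_top fun y _ => (e y).imp fun g hg => ⟨mem_top g, hg⟩)))
  have y2 : y ∉ center G := fun e => y1 1 (by rw [cj_one]; exact center_le_C1 x e)
  obtain ⟨D, d1⟩ := exists_sylIn p C1(y)
  obtain ⟨g, -, d2⟩ := hP.exists_cj_le d1.isP le_top
  replace d1 := d1.cj g
  rw [cj_centralizer_singleton] at d1
  have y3 : g * y * g⁻¹ ∉ center G := fun e => y2 (by simpa [mul_assoc] using Normal.conj_mem inferInstance _ e g⁻¹)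
  have hC : C1(x) ≤ Ct(C1(x)) := fun u hu => mem_Ct.2 fun v hv => by
    by_cases e : u ∈ center G
    · exact mem_center_iff.1 e v
    · exact (mem_C1.1 ((a4 x u x3 e hu).le hv)).symm
  have k1 := sylIn_Op_of_isNilpotent (p := q) (isNilpotent_of_le_centralizer hC)
  have k2 := (Solv.map_mk_eq_bot_iff _).not.2 (a3 q Q hQ.isP h2 x x3 _ k1)
  have := Solv.card_dvd_sub_one_of_fpf (K := (Op q C1(x)).map (QuotientGroup.mk' (center G)))
    (H := cj(g, D).map (QuotientGroup.mk' (center G))) ((map_mono (d2.trans (le_normalizer_Op x4))).trans (le_normalizer_map _)) (by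
      rintro _ ⟨v, v1, rfl⟩ v2
      refine Solv.fpf_iff.2 ?_
      rintro _ ⟨k, k3, rfl⟩ e
      rw [map_comm_iff, mem_center_iff] at e
      replace v2 : v ∉ center G := fun e => v2 ((QuotientGroup.eq_one_iff v).2 e)
      refine (QuotientGroup.eq_one_iff k).2 (by_contra fun f => y1 g⁻¹ (mem_cj.2 ?_))
      rw [inv_inv, a4 x k x3 f (k1.le k3), ← a4 v k v2 f (mem_C1.2 (comm_of_cop (e v).symm (e k).symm (coprime_orderOf hpq
        (Solv.isPGroup_zpowers_of_mem d1.isP v1) (Solv.isPGroup_zpowers_of_mem k1.isP k3)))), ← a4 _ v y3 v2 (d1.le v1)]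
      exact self_mem_C1 _)
  rw [← a2 x x3, ← (k1.map _).card_eq, a2 x x3, ← a2 _ y3, ← (d1.map _).card_eq]
  have k3 := (one_lt_card_iff_ne_bot _).2 k2
  have := Nat.le_of_dvd (by omega) this
  omega

theorem ito (h : ∀ x : G, x ∉ center G → C1(x).index = n) : ∃ p : ℕ, p.Prime ∧ ∀ P : Subgroup G, SylIn p P ⊤ → P ⊔ center G = ⊤ := by
  by_cases e : ∃ p : ℕ, p.Prime ∧ ∃ P : Subgroup G, SylIn p P ⊤ ∧ ¬ P ≤ center G
  · obtain ⟨p, hp, P, p1, p2⟩ := e
    refine ⟨p, hp, fun S s => eq_of_forall_sylIn le_top fun q hq _ => ?_⟩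
    by_cases f : p = q
    · exact ⟨S, f ▸ s, le_sup_left⟩
    obtain ⟨Q, q1⟩ := exists_sylIn q (⊤ : Subgroup G)
    have := Fact.mk hp
    have := Fact.mk hq
    exact ⟨Q, q1, le_trans (by_contra fun q2 => lt_asymm (ito_aux h f p1 q1 p2 q2) (ito_aux h (Ne.symm f) q1 p1 q2 p2)) le_sup_right⟩
  · push Not at e
    exact ⟨2, Nat.prime_two, fun S _ => eq_of_forall_sylIn le_top fun q hq _ =>
      (exists_sylIn q ⊤).imp fun Q q1 => ⟨q1, (e q hq Q q1).trans le_sup_right⟩⟩

theorem relIndex_C1_lt {W : Subgroup G} (h : W ≤ Nm(K)) (h1 : x ∈ K) (h2 : x ≠ 1) : C1(x).relIndex W < Nat.card K := by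
  have a := Transfer.card_class_mul W x
  rw [← relIndex_mul_card_inf C1(x) W, inf_comm, Nat.mul_left_inj (card_ne_zero _)] at a
  have b := Transfer.cnt_erase (p := fun y => y ∈ K) (one_mem K)
  have c := Transfer.cnt_mono (p := fun y => ∃ h ∈ W, h * x * h⁻¹ = y) (q := fun y => y ∈ K ∧ y ≠ 1) (by
    rintro _ ⟨g, hg, rfl⟩
    exact ⟨Comp.conj_mem_of_mem_normalizer (h hg) h1, fun e => h2 (by simpa using e)⟩)
  exact a ▸ Nat.lt_of_succ_le ((Nat.succ_le_succ c).trans b.le)

/-- the right stabilizer of the class of `x` -/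
def St (x : G) : Subgroup G where
  carrier := {t | ∀ s, IsConj x s → IsConj x (s * t)}
  one_mem' := fun s h => by rwa [mul_one]
  mul_mem' := fun a b s h => by rw [← mul_assoc]; exact b _ (a s h)
  inv_mem' := fun {t} a => by
    obtain ⟨n, e⟩ := mem_powers_iff_mem_zpowers.2 (inv_mem (mem_zpowers t))
    rw [← e]
    clear e
    induction n with
    | zero => exact fun s h => by simpa using h
    | succ n ih => exact fun s h => by simpa only [pow_succ, ← mul_assoc] using a _ (ih s h)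

instance instNormalSt (x : G) : (St x).Normal := ⟨fun t h g s hs => by
  rw [show s * (g * t * g⁻¹) = g * (g⁻¹ * s * g⁻¹⁻¹ * t) * g⁻¹ by group]
  exact (h _ (hs.trans (Transfer.isConj_conj _ _))).trans (Transfer.isConj_conj _ _)⟩

theorem card_St (x : G) : Nat.card (St x) ∣ C1(x).index :=
  Transfer.card_isConj_eq_index x ▸ card_dvd_of_mul_mem (S := {a | IsConj x a}) fun s hs _ ht => ht s hs

theorem mem_St (h : C1(x).index.Coprime C1(y).index) (e : C1(x * y).index = C1(x).index) (g : G) : ⁅g, y⁆ ∈ St x := fun s hs => by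
  have : (· * y) '' {a | IsConj x a} = {a | IsConj (x * y) a} := Set.eq_of_subset_of_ncard_le (by
    rintro _ ⟨a, ha, rfl⟩; exact isConj_mul_of_coprime h ha (IsConj.refl y)) (by
    rw [Set.ncard_image_of_injective _ (mul_left_injective y)]
    exact ((Transfer.card_isConj_eq_index _).trans (e.trans (Transfer.card_isConj_eq_index _).symm)).le)
  obtain ⟨a, ha, f⟩ := this.ge (isConj_mul_of_coprime h hs (isConj_iff.2 ⟨g, rfl⟩))
  rwa [commutatorElement_def, ← mul_assoc, ← f, mul_inv_cancel_right]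

theorem mem_Ct_St (h : C1(x).index.Coprime C1(y).index) : y ∈ Ct(St x) := mem_Ct_of_cop (h.coprime_dvd_left (card_St x))

theorem central_of (h : C1(x).index.Coprime C1(y).index) (e : C1(x * y).index = C1(x).index)
    (ho : C1(x).index.Coprime (orderOf y)) : y ∈ center G := mem_center_iff.2 fun g =>
  commutatorElement_eq_one_iff_mul_comm.1 (orderOf_eq_one_iff.1 (Nat.eq_one_of_dvd_coprimes ho (orderOf_commutator_dvd h e g)
    (orderOf_comm_dvd (mem_Ct.1 (mem_Ct_St h) _ (mem_St h e g)))))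

theorem comm_of_St {z : G} (h : C1(x).index.Coprime C1(y).index) (e : C1(x * y).index = C1(x).index)
    (h' : C1(x).index.Coprime C1(z).index) : z ∈ C1(y) := by
  let f : Ct(St x) →* St x := MonoidHom.mk' (fun k => ⟨⁅(k : G), y⁆, mem_St h e _⟩) fun a b => Subtype.ext (by
    have h1 := mem_Ct.1 a.2 _ (mem_St h e b)
    have h2 := mem_Ct.1 (commutator_le_left Ct(St x) ⊤ (commutator_mem_commutator a.2 (mem_top y))) _ (mem_St h e b)
    simp only [coe_mul]
    rw [← h2, commutatorElement_mul_left_eq_conj_mul, ← h1, mul_inv_cancel_right])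
  have h1 : f.ker = C1(y).subgroupOf _ := Subgroup.ext fun k => by
    rw [MonoidHom.mem_ker, mem_subgroupOf, mem_C1, eq_comm (a := y * k), ← commutatorElement_eq_one_iff_mul_comm, Subtype.ext_iff]; rfl
  have h2 : C1(y).relIndex Ct(St x) ∣ C1(x).index := by
    rw [relIndex, ← h1, index_ker]; exact (card_subgroup_dvd_card _).trans (card_St x)
  exact relIndex_eq_one.1 (Nat.eq_one_of_dvd_coprimes h h2 (Solv.relIndex_dvd_index_of_normal' _ _)) (mem_Ct_St h')

theorem C1_mul_center (h : y ∈ center G) : C1(x * y) = C1(x) := by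
  rw [← inf_top_eq C1(x * y), ← C1_eq_top_iff.2 h, C1_mul_inf, C1_eq_top_iff.2 h, inf_top_eq]

end Cfsg.Agent.Cls5
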