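import Cfsg.Agent.Lib.BG.MinNA

set_option autoImplicit false
set_option linter.unusedSectionVars false
set_option linter.style.haveILetI false

/-! Centerless groups with a nilpotent minimal cover. -/

namespace Cfsg.Agent.Cover

open Cfsg.Agent.Comp Cfsg.Agent.BG Subgroup
open scoped commutatorElement

universe u
variable {G : Type u} [Group G] [Finite G] {p : ℕ} [hp : Fact p.Prime] {𝓐 : Finset (Subgroup G)} {A B P : Subgroup G}

def NC (𝓐 : Finset (Subgroup G)) : Prop := ((∀ A ∈ 𝓐, A ≠ ⊤) ∧ (∀ g : G, ∃ A ∈ 𝓐, g ∈ A)) ∧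
  (∀ 𝓑 : Finset (Subgroup G), (∀ A ∈ 𝓑, A ≠ ⊤) ∧ (∀ g : G, ∃ A ∈ 𝓑, g ∈ A) → 𝓐.card ≤ 𝓑.card) ∧
    (∀ A ∈ 𝓐, Group.IsNilpotent ↥A)

theorem NC.eq (h : NC 𝓐) (hA : A ∈ 𝓐) (hB : B ∈ 𝓐) (e : A ⊔ B ≠ ⊤) : A = B := by
  classical
  by_contra n
  have := h.2.1 (insert (A ⊔ B) ((𝓐.erase A).erase B)) ⟨fun C hC => ?_, fun g => ?_⟩
  · have a := Finset.card_insert_le (A ⊔ B) ((𝓐.erase A).erase B)
    have b := Finset.card_erase_add_one (Finset.mem_erase.2 ⟨Ne.symm n, hB⟩ : B ∈ 𝓐.erase A)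
    have c := Finset.card_erase_add_one hA
    omega
  · rcases Finset.mem_insert.1 hC with rfl | hC
    · exact e
    · exact h.1.1 C (Finset.mem_of_mem_erase (Finset.mem_of_mem_erase hC))
  · obtain ⟨C, c1, c2⟩ := h.1.2 g
    by_cases a : C = A
    · exact ⟨_, Finset.mem_insert_self _ _, mem_sup_left (a ▸ c2)⟩
    by_cases b : C = B
    · exact ⟨_, Finset.mem_insert_self _ _, mem_sup_right (b ▸ c2)⟩
    exact ⟨C, by simp [a, b, c1], c2⟩

theorem le_C1 (hP : SylIn p P ⊤) (hc : IsMulCommutative P) (hA : Group.IsNilpotent A) {y : G} (h1 : y ∈ A)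
    (h2 : IsPGroup p (zpowers y)) : A ≤ C1(y) := by
  have a : y ∈ Op p A := le_Op_of_isNilpotent hA (zpowers_le.2 h1) h2 (mem_zpowers y)
  obtain ⟨g, -, b⟩ := hP.exists_le_cj (isPGroup_Op p A) le_top
  rw [← Op_sup_Opp_of_isNilpotent (p := p) hA]
  refine sup_le (fun x hx => mem_centralizer_singleton_iff.2 (Solv.isMulCommutative_iff.1 (comm_cj.2 hc) _ (b hx) _ (b a)))
    fun x hx => mem_centralizer_singleton_iff.2 (Op_le_centralizer_Opp p A a x hx)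

theorem NC.eq_of_mem (h : NC 𝓐) (hZ : center G = ⊥) (hP : SylIn p P ⊤) (hc : IsMulCommutative P) (hA : A ∈ 𝓐) (hB : B ∈ 𝓐)
    {y : G} (h0 : y ≠ 1) (h1 : y ∈ A) (h1' : y ∈ B) (h2 : IsPGroup p (zpowers y)) : A = B := by
  refine h.eq hA hB fun e => h0 ?_
  have := sup_le (le_C1 hP hc (h.2.2 A hA) h1 h2) (le_C1 hP hc (h.2.2 B hB) h1' h2)
  rw [← mem_bot, ← hZ]
  exact mem_center_iff.2 fun g => mem_centralizer_singleton_iff.1 (this (e ▸ mem_top g))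

theorem NC.main (h : NC 𝓐) (hZ : center G = ⊥) (hP : SylIn p P ⊤) (hc : IsMulCommutative P) (h0 : P ≠ ⊥)
    (he : ¬ (IsElementaryAbelian p P ∧ p < Nat.card P)) : Ct(P) ∈ 𝓐 := by
  have q : ∀ y ∈ P, IsPGroup p (zpowers y) := fun y hy => hP.isP.to_le (zpowers_le.2 hy)
  have cm := Solv.isMulCommutative_iff.1 hc
  obtain ⟨A, a1, a2⟩ : ∃ A ∈ 𝓐, P ≤ A := by
    by_cases e : ∀ x ∈ P, x ^ p = 1
    · obtain ⟨x, -, x2⟩ := Solv.isCyclic_iff_exists_le_zpowers.1 (Solv.isCyclic_of_card_prime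
        ((card_eq_of_card_le hP.isP h0 (not_lt.1 fun t => he ⟨⟨hc, e⟩, t⟩)).symm ▸ hp.out))
      obtain ⟨A, a1, a2⟩ := h.1.2 x
      exact ⟨A, a1, x2.trans (zpowers_le.2 a2)⟩
    push Not at e
    have k : ∀ A ∈ 𝓐, ∀ x ∈ P, x ∈ A → x ^ p ≠ 1 → ∀ y ∈ P, y ^ p = 1 → y ∈ A := fun A a1 x x1 x2 x3 y y1 y2 => by
      obtain ⟨C, c1, c2⟩ := h.1.2 (x * y)
      have := pow_mem c2 p
      rw [Commute.mul_pow (cm x x1 y y1), y2, mul_one] at this
      rw [← h.eq_of_mem hZ hP hc a1 c1 x3 (pow_mem x2 p) this (q _ (pow_mem x1 p))] at c2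
      exact (mul_mem_cancel_left x2).1 c2
    obtain ⟨x, x1, x2⟩ := e
    obtain ⟨A, a1, a2⟩ := h.1.2 x
    refine ⟨A, a1, fun y hy => ?_⟩
    by_cases e : y ^ p = 1
    · exact k A a1 x x1 a2 x2 y hy e
    obtain ⟨B, b1, b2⟩ := h.1.2 y
    obtain ⟨z, z1, z2⟩ := exists_mem_orderOf_eq (Comp.dvd_card_of_isPGroup hP.isP h0)
    have z3 : z ^ p = 1 := z2 ▸ pow_orderOf_eq_one z
    rwa [h.eq_of_mem hZ hP hc a1 b1 (fun t => hp.out.one_lt.ne' (by rw [← z2, t, orderOf_one])) (k A a1 x x1 a2 x2 z z1 z3)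
      (k B b1 y hy b2 e z z1 z3) (q z z1)]
  have : Ct(P) = A := by
    refine le_antisymm (fun c hc' => ?_) fun g hg y hy =>
      (mem_centralizer_singleton_iff.1 (le_C1 hP hc (h.2.2 A a1) (a2 hy) (q y hy) hg)).symm
    by_contra e
    obtain ⟨r, hr, -, y, y1, y2, y3⟩ := Solv.exists_prime_pow_notMem e
    have y4 : y ∈ Ct(P) := zpowers_le.2 hc' y1
    haveI := Fact.mk hr
    by_cases t : r = p
    · subst t
      exact y3 (a2 (hP.le_of_normalizer y2 le_top ((zpowers_le.2 y4).trans (centralizer_le_normalizer _)) (mem_zpowers y)))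
    obtain ⟨x, x1, x2⟩ := (P.bot_or_exists_ne_one).resolve_left h0
    obtain ⟨B, b1, b2⟩ := h.1.2 (x * y)
    have := pow_mem b2 (orderOf y)
    rw [Commute.mul_pow (y4 x x1), pow_orderOf_eq_one, mul_one] at this
    rw [← h.eq_of_mem hZ hP hc a1 b1 (fun t' => x2 (orderOf_eq_one_iff.1 (Nat.Coprime.eq_one_of_dvd
      (Cls5.coprime_orderOf (Ne.symm t) (q x x1) y2) (orderOf_dvd_of_pow_eq_one t')))) (pow_mem (a2 x1) _) this
      (q _ (pow_mem x1 _))] at b2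
    exact y3 ((mul_mem_cancel_left (a2 x1)).1 b2)
  exact this ▸ a1

theorem NC.cj (h : NC 𝓐) (hZ : center G = ⊥) (hP : SylIn p P ⊤) (hc : IsMulCommutative P) (h0 : P ≠ ⊥)
    (he : ¬ (IsElementaryAbelian p P ∧ p < Nat.card P)) (g : G) : cj(g, Ct(P)) ∈ 𝓐 := by
  rw [cj_centralizer]
  exact h.main hZ (hP.cj_of_mem (le_normalizer (mem_top g))) (comm_cj.2 hc) (mt cj_eq_bot_iff.1 h0)
    (by rwa [elem_cj, card_cj])

theorem mem_Nm (hP : SylIn p P ⊤) (hc : IsMulCommutative P) {g : G} (h : Ct(P) = cj(g, Ct(P))) : g ∈ Nm(P) := by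
  have a : P ≤ Ct(P) := le_centralizer_iff_isMulCommutative.2 hc
  refine cj_eq_self_iff.1 (eq_of_le_of_card_ge (hP.le_of_normalizer (isPGroup_cj_iff.2 hP.isP) le_top ?_) (card_cj g P).ge)
  exact ((cj_mono g a).trans h.ge).trans (centralizer_le_normalizer _)

theorem NC.max (h : NC 𝓐) (hZ : center G = ⊥) (hP : SylIn p P ⊤) (hc : IsMulCommutative P) (hn : ¬ P.Normal)
    (he : ¬ (IsElementaryAbelian p P ∧ p < Nat.card P)) :
    IsCoatom Nm(P) ∧ ∀ M : Subgroup G, IsCoatom M → Ct(P) ≤ M → M = Nm(P) := by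
  have h0 : P ≠ ⊥ := by rintro rfl; exact hn inferInstance
  have k : ∀ M : Subgroup G, IsCoatom M → Ct(P) ≤ M → M = Nm(P) := fun M hM e =>
    ((hM.le_iff.1 fun g hg => mem_Nm hP hc (h.eq (h.main hZ hP hc h0 he) (h.cj hZ hP hc h0 he g) fun t => hM.1
      (top_le_iff.1 (t.ge.trans (sup_le e (cj_le_of_mem e (le_normalizer hg))))))).resolve_left
        (mt normalizer_eq_top_iff.1 hn)).symm
  obtain ⟨M, m1, m2⟩ := Solv.exists_coatom_ge (mt normalizer_eq_top_iff.1 hn)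
  exact ⟨k M m1 ((centralizer_le_normalizer _).trans m2) ▸ m1, k⟩

end Cfsg.Agent.Cover
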