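import Cfsg.Agent.Lib.BG.RkCnt

/-! A characteristic subgroup of class two and exponent four detecting odd automorphisms of a 2-group. -/

namespace Cfsg.Agent.Crit2

open Cfsg.Agent.Comp Cfsg.Agent.BG Subgroup commutatorElement

universe u

variable {G : Type u} [Group G] [Finite G]

omit [Finite G] in
theorem mul_pow_four {C : Subgroup G} (h1 : ∀ x ∈ C, x ^ 2 ∈ Ct(C)) (h2 : ⁅C, C⁆ ≤ Ct(C)) {x y : G}
    (hx : x ∈ C) (hy : y ∈ C) : (x * y) ^ 4 = x ^ 4 * y ^ 4 := by
  set c := ⁅x⁻¹, y⁆ with hc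
  have hcC : c ∈ Ct(C) := h2 (commutator_mem_commutator (inv_mem hx) hy)
  have cx : Commute c x := (hcC x hx).symm
  have cy : Commute c y := (hcC y hy).symm
  have c2 : c ^ 2 = 1 := by
    rw [hc, ← MinNA.comm_pow_left (by exact cx.inv_right) 2, commutatorElement_eq_one_iff_mul_comm]
    exact (h1 _ (inv_mem hx) y hy).symm
  have e : (x * y) ^ 2 = c * (x ^ 2 * y ^ 2) := by
    calc (x * y) ^ 2 = x ^ 2 * c * y ^ 2 := by rw [hc, commutatorElement_def, sq, sq, sq]; group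
      _ = _ := by rw [← (cx.pow_right 2).eq, mul_assoc]
  have cm : Commute c (x ^ 2 * y ^ 2) := (cx.pow_right 2).mul_right (cy.pow_right 2)
  have cm2 : Commute (x ^ 2) (y ^ 2) := (h1 y hy _ (pow_mem hx 2))
  rw [show (4 : ℕ) = 2 * 2 from rfl, pow_mul, e, cm.mul_pow, cm2.mul_pow, c2, one_mul, ← pow_mul, ← pow_mul]

theorem exists_crit {P : Subgroup G} (hP : IsPGroup 2 P) : ∃ H, H ≤ P ∧ Nm(P) ≤ Nm(H) ∧ ⁅H, H⁆ ≤ Ct(H) ∧
    (∀ x ∈ H, x ^ 4 = 1) ∧ ∀ A, A ≤ Nm(P) → Odd (Nat.card A) → A ≤ Ct(H) → A ≤ Ct(P) := by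
  haveI : Fact (Nat.Prime 2) := ⟨Nat.prime_two⟩
  obtain ⟨C, h1, h2, h3, h4, h5⟩ := exists_critical hP
  have h6 : ⁅C, C⁆ ≤ Ct(C) := (commutator_mono le_rfl h1).trans (h4.trans inf_le_right)
  let H : Subgroup G :=
    { carrier := {x | x ∈ C ∧ x ^ 4 = 1}
      one_mem' := ⟨one_mem _, one_pow _⟩
      mul_mem' := fun {a b} ha hb => ⟨mul_mem ha.1 hb.1, by rw [mul_pow_four h3 h6 ha.1 hb.1, ha.2, hb.2, one_mul]⟩
      inv_mem' := fun {a} ha => ⟨inv_mem ha.1, by rw [inv_pow, ha.2, inv_one]⟩ }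
  have hHC : H ≤ C := fun x hx => hx.1
  refine ⟨H, hHC.trans h1, fun g hg => ?_, (commutator_mono hHC hHC).trans (h6.trans (centralizer_le hHC)),
    fun x hx => hx.2, fun A hA ho hc => ?_⟩
  · refine Comp.mem_normalizer_of_conj_mem fun x hx => ⟨Comp.conj_mem_of_mem_normalizer (h2 hg) hx.1, ?_⟩
    rw [conj_pow, hx.2]; group
  refine le_Ct_of_critical hA (Solv.coprime_card_of_isPGroup hP ho.not_two_dvd_nat).symm
    (le_normalizer.trans h2) h5 ?_
  have key : ∀ k, ∀ x ∈ C, x ^ 2 ^ k = 1 → ∀ a ∈ A, a * x * a⁻¹ = x := by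
    intro k
    induction k with
    | zero => intro x _ hx a _; rw [pow_zero, pow_one] at hx; rw [hx]; group
    | succ k ih =>
      intro x hx hk a ha
      have e1 := ih (x ^ 2) (pow_mem hx 2) (by rw [← pow_mul, ← pow_succ']; exact hk) a ha
      have hax := Comp.conj_mem_of_mem_normalizer (h2 (hA ha)) hx
      set y := a * x * a⁻¹ * x⁻¹ with hy
      have hyH : y ∈ H := by
        refine ⟨mul_mem hax (inv_mem hx), ?_⟩
        rw [hy, mul_pow_four h3 h6 hax (inv_mem hx), conj_pow, show (4 : ℕ) = 2 * 2 from rfl, pow_mul,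
          ← conj_pow, e1, inv_pow, pow_mul, mul_inv_cancel]
      have hya : y * a = a * y := hc ha y hyH
      have e2 : ∀ n : ℕ, a ^ n * x * (a ^ n)⁻¹ = y ^ n * x := by
        intro n
        induction n with
        | zero => simp
        | succ n ih2 =>
          have cm : Commute a y := hya.symm
          calc a ^ (n + 1) * x * (a ^ (n + 1))⁻¹ = a * (a ^ n * x * (a ^ n)⁻¹) * a⁻¹ := by group
            _ = (a * y ^ n) * x * a⁻¹ := by rw [ih2]; group
            _ = y ^ n * (a * x * a⁻¹ * x⁻¹ * x) := by rw [(cm.pow_right n).eq]; group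
            _ = _ := by rw [← hy, pow_succ y, mul_assoc (y ^ n)]
      have e3 := e2 (Nat.card A)
      have e4 : a ^ Nat.card A = 1 := by
        have := pow_card_eq_one' (x := (⟨a, ha⟩ : A))
        exact congrArg Subtype.val this
      rw [e4] at e3
      have e5 : y ^ Nat.card A = 1 := by simpa using e3.symm
      have e6 : y = 1 := by
        rw [← orderOf_eq_one_iff]
        refine Nat.eq_one_of_dvd_coprimes (a := Nat.card A) (b := 2 ^ 2) ?_ (orderOf_dvd_of_pow_eq_one e5)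
          (orderOf_dvd_of_pow_eq_one hyH.2)
        exact (Nat.coprime_two_right.2 ho).pow_right 2
      rwa [hy, mul_inv_eq_one] at e6
  intro a ha x hx
  obtain ⟨k, hk⟩ := hP ⟨x, h1 hx⟩
  have := key k x hx (congrArg Subtype.val hk) a ha
  calc x * a = a * x * a⁻¹ * a := by rw [this]
    _ = a * x := by group

theorem le_Ct_of_four {P A : Subgroup G} (hP : IsPGroup 2 P) (hA : A ≤ Nm(P)) (ho : Odd (Nat.card A))
    (h : ∀ x ∈ P, x ^ 4 = 1 → x ∈ Ct(A)) : A ≤ Ct(P) := by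
  obtain ⟨H, h1, _, _, h4, h5⟩ := exists_crit hP
  exact h5 A hA ho (Subgroup.le_centralizer_iff.1 fun x hx => h x (h1 hx) (h4 x hx))

end Cfsg.Agent.Crit2
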