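import Cfsg.Agent.Lib.BG.Cls7

set_option autoImplicit false
set_option linter.unusedSectionVars false
set_option linter.style.haveILetI false

/-! Minimal non-abelian `p`-groups and a transfer fact on central elements. -/

namespace Cfsg.Agent.MinNA

open Cfsg.Agent.Comp Cfsg.Agent.BG Subgroup
open scoped commutatorElement

universe u
variable {G : Type u} [Group G] {p : ℕ}

theorem pow_index_mem_der {H : Subgroup G} [H.FiniteIndex] {z : G} (hz : z ∈ H) (hc : z ∈ center G)
    (hd : z ∈ _root_.commutator G) : z ^ H.index ∈ ⁅H, H⁆ := by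
  have h1 := Transfer.transfer_eq_pow_of_mem (Abelianization.of (G := H)) hz fun k a h => by
    rw [← map_pow]
    congr 1
    exact Subtype.ext (by simp [mul_assoc, ← mem_center_iff.1 (pow_mem hc k) a])
  rw [MonoidHom.mem_ker.1 (Abelianization.commutator_subset_ker _ hd), ← map_pow, eq_comm, ← MonoidHom.mem_ker,
    Abelianization.ker_of] at h1
  rw [← map_subtype_commutator]
  exact ⟨_, h1, rfl⟩

theorem comm_pow_left {a b : G} (h : Commute ⁅a, b⁆ a) (n : ℕ) : ⁅a ^ n, b⁆ = ⁅a, b⁆ ^ n := by
  induction n with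
  | zero => simp
  | succ n ih =>
    have e : ⁅a ^ (n + 1), b⁆ = a * ⁅a ^ n, b⁆ * a⁻¹ * ⁅a, b⁆ := by
      simp only [commutatorElement_def, pow_succ']; group
    rw [e, ih, ← (h.pow_left n).eq, mul_inv_cancel_right, pow_succ]

theorem commutator_le_of_closure {a b : G} (h : closure {a, b} = ⊤) {N : Subgroup G} [N.Normal] (hc : ⁅a, b⁆ ∈ N) :
    _root_.commutator G ≤ N := by
  set f := QuotientGroup.mk' N
  have e : f a * f b = f b * f a := by
    rw [← commutatorElement_eq_one_iff_mul_comm, ← map_commutatorElement]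
    exact (QuotientGroup.eq_one_iff _).2 hc
  have h1 : ∀ g, f g ∈ centralizer ({f a, f b} : Set (G ⧸ N)) := by
    intro g
    have : closure {a, b} ≤ (centralizer ({f a, f b} : Set (G ⧸ N))).comap f := by
      rw [closure_le]
      rintro x (rfl | rfl) y (rfl | rfl) <;> first | rfl | exact e | exact e.symm
    exact this (h ▸ mem_top g)
  have h2 : ∀ g, f g ∈ center (G ⧸ N) := by
    intro g
    have : closure {a, b} ≤ (center (G ⧸ N)).comap f := by
      rw [closure_le]
      rintro x hx
      refine mem_center_iff.2 fun y => ?_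
      obtain ⟨y, rfl⟩ := QuotientGroup.mk'_surjective N y
      exact (h1 y (f x) (by rcases hx with rfl | rfl <;> simp)).symm
    exact this (h ▸ mem_top g)
  refine commutator_le.2 fun x _ y _ => (QuotientGroup.eq_one_iff _).1 ?_
  change f _ = 1
  rw [map_commutatorElement, commutatorElement_eq_one_iff_mul_comm]
  exact (mem_center_iff.1 (h2 x) (f y)).symm

theorem frattini_le_center [Finite G] (h : ∀ H : Subgroup G, H ≠ ⊤ → IsMulCommutative H) : frattini G ≤ center G := by
  intro x hx
  refine mem_center_iff.2 fun a => ?_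
  by_cases e : zpowers a = ⊤
  · obtain ⟨k, rfl⟩ := mem_zpowers_iff.1 (e ▸ mem_top x : x ∈ zpowers a)
    exact ((Commute.refl a).zpow_right k).eq
  obtain ⟨M, hM, h1⟩ := (eq_top_or_exists_le_coatom (zpowers a)).resolve_left e
  exact Solv.isMulCommutative_iff.1 (h M hM.1) _ (h1 (mem_zpowers a)) _ (Solv.mem_frattini_iff.1 hx M hM)

/-- A `p`-group all of whose proper subgroups are abelian has derived group of order at most `p`. -/
theorem der_le [Finite G] [Fact p.Prime] (hG : IsPGroup p G) (h : ∀ H : Subgroup G, H ≠ ⊤ → IsMulCommutative H) :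
    ∃ c : G, c ^ p = 1 ∧ _root_.commutator G ≤ zpowers c := by
  by_cases hc : ∀ a b : G, a * b = b * a
  · refine ⟨1, one_pow _, commutator_le.2 fun x _ y _ => ?_⟩
    rw [commutatorElement_eq_one_iff_mul_comm.2 (hc x y)]
    exact one_mem _
  push Not at hc
  obtain ⟨a, b, hab⟩ := hc
  have h1 : closure {a, b} = ⊤ := by
    by_contra e
    exact hab (Solv.isMulCommutative_iff.1 (h _ e) _ (subset_closure (by simp)) _ (subset_closure (by simp)))
  have h2 : ⁅a, b⁆ ∈ center G := frattini_le_center h
    (Solv.commutator_le_frattini_of_isPGroup hG (commutator_mem_commutator (mem_top a) (mem_top b)))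
  haveI : (zpowers ⁅a, b⁆).Normal := ⟨fun x hx g => by
    rw [mem_center_iff.1 (zpowers_le.2 h2 hx) g, mul_inv_cancel_right]; exact hx⟩
  refine ⟨⁅a, b⁆, ?_, commutator_le_of_closure h1 (mem_zpowers _)⟩
  rw [← comm_pow_left (mem_center_iff.1 h2 a).symm, commutatorElement_eq_one_iff_mul_comm]
  exact (mem_center_iff.1 (frattini_le_center h (Solv.pow_mem_frattini hG a)) b).symm

end Cfsg.Agent.MinNA
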