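import Cfsg.Agent.Lib.Transfer.PG
import Cfsg.Agent.Lib.BG.MinNA

set_option autoImplicit false
set_option linter.unusedSectionVars false
set_option linter.style.haveILetI false

/-! Counting square roots of `1` in 2-groups whose Frattini subgroup has order 2. -/

namespace Cfsg.Agent.ES2

open Cfsg.Agent.Comp Cfsg.Agent.BG Subgroup Classical
open scoped commutatorElement

universe u
variable {G : Type u} [Group G] [Finite G] {z x y : G} {H K L : Subgroup G}

noncomputable def sm (H : Subgroup G) (f : G → ℤ) : ℤ := ∑ᶠ h : H, f h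

theorem sm_eq [Fintype G] (H : Subgroup G) (f : G → ℤ) : sm H f = ∑ h ∈ Finset.univ.filter (· ∈ H), f h := by
  rw [sm, finsum_eq_sum_of_fintype, Finset.sum_subtype (Finset.univ.filter (· ∈ H)) (p := (· ∈ H)) (by simp)]

theorem sm_congr {f g : G → ℤ} (h : ∀ x ∈ H, f x = g x) : sm H f = sm H g :=
  finsum_congr fun x => h x x.2

theorem sm_mul (c : ℤ) (f : G → ℤ) : sm H (fun x => c * f x) = c * sm H f := by
  haveI := Fintype.ofFinite G
  rw [sm_eq, sm_eq, Finset.mul_sum]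

theorem sm_one : sm H (fun _ => 1) = Nat.card H := by
  haveI := Fintype.ofFinite H
  rw [sm, finsum_eq_sum_of_fintype]
  simp

theorem sm_split (h1 : K ≤ L) {t : G} (h2 : t ∈ L) (h3 : t ∉ K) (h : ∀ l ∈ L, l ∈ K ∨ t⁻¹ * l ∈ K) (f : G → ℤ) :
    sm L f = sm K (fun k => f k + f (t * k)) := by
  haveI := Fintype.ofFinite G
  have e := Finset.sum_map (Finset.univ.filter (· ∈ K)) (mulLeftEmbedding t) f
  simp only [mulLeftEmbedding_apply] at e
  rw [sm_eq, sm_eq, Finset.sum_add_distrib, ← e, ← Finset.sum_union]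
  · congr 1
    ext l
    simp only [Finset.mem_filter, Finset.mem_univ, true_and, Finset.mem_union, Finset.mem_map, mulLeftEmbedding_apply]
    constructor
    · intro hl
      exact (h l hl).imp_right fun e => ⟨_, e, mul_inv_cancel_left _ _⟩
    · rintro (e | ⟨k, e, rfl⟩)
      · exact h1 e
      · exact mul_mem h2 (h1 e)
  · rw [Finset.disjoint_left]
    simp only [Finset.mem_filter, Finset.mem_univ, true_and, Finset.mem_map, mulLeftEmbedding_apply]
    rintro l e ⟨k, e', rfl⟩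
    exact h3 ((mul_mem_cancel_right e').1 e)

noncomputable def chi (h : G) : ℤ := if h ^ 2 = 1 then 1 else -1

theorem sm_chi (H : Subgroup G) : sm H chi + Nat.card H = 2 * Nat.card {x : H // (x : G) ^ 2 = 1} := by
  haveI := Fintype.ofFinite H
  rw [← sm_one, sm, sm, finsum_eq_sum_of_fintype, finsum_eq_sum_of_fintype, ← Finset.sum_add_distrib,
    Nat.card_eq_fintype_card, Fintype.card_subtype, Finset.card_filter]
  push_cast
  rw [Finset.mul_sum]
  refine Finset.sum_congr rfl fun x _ => ?_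
  unfold chi
  split_ifs <;> rfl

theorem sm_chi_top : sm (⊤ : Subgroup G) chi + Nat.card G = 2 * Nat.card {x : G // x ^ 2 = 1} := by
  rw [← card_top (G := G), sm_chi]
  congr 2
  exact Nat.card_congr ⟨fun x => ⟨x.1.1, x.2⟩, fun x => ⟨⟨x.1, mem_top _⟩, x.2⟩, fun _ => rfl, fun _ => rfl⟩

structure GS (z : G) (H : Subgroup G) : Prop where
  ord : orderOf z = 2
  mem : z ∈ H
  cen : z ∈ Ct(H)
  der : ⁅H, H⁆ ≤ zpowers z
  pw : ∀ h ∈ H, h ^ 2 ∈ zpowers z

theorem zp (h : orderOf z = 2) (hx : x ∈ zpowers z) : x = 1 ∨ x = z := by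
  rw [mem_zpowers_iff_mem_range_orderOf, h] at hx
  simp only [Finset.mem_image, Finset.mem_range] at hx
  obtain ⟨k, h1, rfl⟩ := hx
  interval_cases k <;> simp

theorem GS.ne (h : GS z H) : z ≠ 1 := fun e => by simpa [e] using h.ord

theorem GS.sq (h : GS z H) : z * z = 1 := by rw [← pow_two, ← h.ord, pow_orderOf_eq_one]

theorem GS.of_le (h : GS z H) (h1 : K ≤ H) (h2 : z ∈ K) : GS z K :=
  ⟨h.ord, h2, centralizer_le h1 h.cen, (commutator_mono h1 h1).trans h.der, fun k hk => h.pw k (h1 hk)⟩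

theorem GS.chi_mul (h : GS z H) (hx : x ∈ H) (hy : y ∈ H) (e : Commute x y) : chi (x * y) = chi x * chi y := by
  unfold chi
  rw [e.mul_pow]
  rcases zp h.ord (h.pw x hx) with a | a <;> rcases zp h.ord (h.pw y hy) with b | b <;> simp [a, b, h.ne, h.sq]

theorem GS.comm (h : GS z H) (hx : x ∈ H) (hy : y ∈ H) : x * y = y * x ∨ x * y = z * y * x := by
  refine (zp h.ord (h.der (commutator_mem_commutator hx hy))).imp commutatorElement_eq_one_iff_mul_comm.1 fun e => ?_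
  rw [← e, commutatorElement_def]; group

theorem GS.half (h : GS z H) (hx : x ∈ H) (hy : y ∈ H) (e : x * y ≠ y * x) {l : G} (hl : l ∈ H) :
    l ∈ C1(x) ∨ y⁻¹ * l ∈ C1(x) := by
  simp only [mem_centralizer_singleton_iff]
  refine (h.comm hl hx).imp_right fun a => ?_
  have b := (h.comm hx hy).resolve_left e
  have c := h.cen y hy
  have d := h.cen x hx
  calc y⁻¹ * l * x = y⁻¹ * (l * x) := by group
    _ = y⁻¹ * (z * x * l) := by rw [a]
    _ = y⁻¹ * z * (x * y) * (y⁻¹ * l) := by group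
    _ = y⁻¹ * (z * z) * y * x * (y⁻¹ * l) := by rw [b]; group
    _ = x * (y⁻¹ * l) := by rw [h.sq]; group

theorem GS.split (h : GS z H) (hx : x ∈ H) (hy : y ∈ H) (e : x * y ≠ y * x) :
    sm H chi = (if x ^ 2 = z ∧ y ^ 2 = z then -2 else 2) * sm (H ⊓ C1(x) ⊓ C1(y)) chi := by
  have a : x ∈ H ⊓ C1(x) := ⟨hx, mem_centralizer_singleton_iff.2 rfl⟩
  rw [sm_split (K := H ⊓ C1(x)) inf_le_left hy (fun t => e (mem_centralizer_singleton_iff.1 t.2).symm)
      (fun l hl => (h.half hx hy e hl).imp (And.intro hl) (And.intro (H.mul_mem (H.inv_mem hy) hl))),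
    sm_split (K := H ⊓ C1(x) ⊓ C1(y)) inf_le_left a (fun t => e (mem_centralizer_singleton_iff.1 t.2))
      (fun l hl => (h.half hy hx (Ne.symm e) hl.1).imp (And.intro hl) (And.intro ((H ⊓ C1(x)).mul_mem ((H ⊓ C1(x)).inv_mem a) hl))),
    ← sm_mul]
  refine sm_congr fun k ⟨⟨k1, k2⟩, k3⟩ => ?_
  have c1 : Commute x k := (mem_centralizer_singleton_iff.1 k2).symm
  have c2 : Commute y k := (mem_centralizer_singleton_iff.1 k3).symm
  rw [← mul_assoc, h.chi_mul hx k1 c1, h.chi_mul hy k1 c2, h.chi_mul (mul_mem hy hx) k1 (c2.mul_left c1)]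
  have b := (h.comm hx hy).resolve_left e
  have c : (y * x) ^ 2 = z * (y ^ 2 * x ^ 2) := by
    calc (y * x) ^ 2 = y * (x * y) * x := by rw [pow_two]; group
      _ = (y * z) * y * x * x := by rw [b]; group
      _ = _ := by rw [h.cen y hy, pow_two, pow_two]; group
  unfold chi
  rw [c]
  rcases zp h.ord (h.pw x hx) with a | a <;> rcases zp h.ord (h.pw y hy) with b | b <;>
    simp [a, b, h.ne, h.ne.symm, h.sq] <;> split_ifs <;> rfl

theorem GS.card (h : GS z H) (hx : x ∈ H) (hy : y ∈ H) (e : x * y ≠ y * x) :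
    Nat.card H = 4 * Nat.card (H ⊓ C1(x) ⊓ C1(y) : Subgroup G) ∧
      H ⊓ C1(x) ⊓ C1(y) ⊓ Ct((H ⊓ C1(x) ⊓ C1(y) : Subgroup G)) = H ⊓ Ct(H) := by
  haveI := Fact.mk Nat.prime_two
  have a : Nat.card (zpowers z) = 2 := by rw [Nat.card_zpowers, h.ord]
  have e' : ⁅x, y⁆ ≠ 1 := mt commutatorElement_eq_one_iff_mul_comm.1 e
  have h1 : ∀ g ∈ H, ⁅g, x⁆ ∈ zpowers z := fun g hg => h.der (commutator_mem_commutator hg hx)
  have h2 : ∀ g ∈ H, ⁅g, y⁆ ∈ zpowers z := fun g hg => h.der (commutator_mem_commutator hg hy)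
  refine ⟨Transfer.card_pair_cent a (zpowers_le.2 h.cen) hx hy e' h1 h2, le_antisymm (fun g hg => ⟨hg.1.1.1,
    Transfer.pair_center a (zpowers_le.2 h.cen) hx hy e' h1 h2 ⟨⟨hg.1.1.2, hg.1.2⟩, hg.2⟩⟩) fun g hg => ?_⟩
  exact ⟨⟨⟨hg.1, mem_centralizer_singleton_iff.2 (hg.2 x hx).symm⟩, mem_centralizer_singleton_iff.2 (hg.2 y hy).symm⟩,
    centralizer_le (inf_le_left.trans inf_le_left) hg.2⟩

theorem GS.sub (h : GS z H) (hx : x ∈ H) (hy : y ∈ H) : GS z (H ⊓ C1(x) ⊓ C1(y)) :=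
  h.of_le (inf_le_left.trans inf_le_left)
    ⟨⟨h.mem, mem_centralizer_singleton_iff.2 (h.cen x hx).symm⟩, mem_centralizer_singleton_iff.2 (h.cen y hy).symm⟩

theorem GS.main (n : ℕ) : ∀ {H : Subgroup G}, GS z H → Nat.card H = n → ∃ r : ℕ,
    Nat.card H = 2 ^ (2 * r) * Nat.card (H ⊓ Ct(H) : Subgroup G) ∧ (r = 0 → sm H chi = 0 ∨ ∀ x ∈ H, x ^ 2 = 1) ∧
    (sm H chi = 0 ∧ (∃ x ∈ H ⊓ Ct(H), x ^ 2 ≠ 1) ∨ sm H chi = 2 ^ r * Nat.card (H ⊓ Ct(H) : Subgroup G) ∨
      sm H chi = - (2 ^ r * Nat.card (H ⊓ Ct(H) : Subgroup G))) := by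
  induction n using Nat.strong_induction_on with
  | _ n ih =>
  intro H h hn
  by_cases hc : ∀ x ∈ H, ∀ y ∈ H, x * y = y * x
  · have e : H ⊓ Ct(H) = H := inf_eq_left.2 fun x hx y hy => hc y hy x hx
    rw [e]
    by_cases h2 : ∀ x ∈ H, x ^ 2 = 1
    · refine ⟨0, by simp, fun _ => Or.inr h2, Or.inr (Or.inl ?_)⟩
      rw [pow_zero, one_mul, ← sm_one]
      exact sm_congr fun x hx => if_pos (h2 x hx)
    push Not at h2
    obtain ⟨t, t1, t2⟩ := h2
    have : sm H chi = 0 := by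
      have a : sm H (fun k => chi (t * k)) = sm H chi := finsum_comp_equiv (Equiv.mulLeft (⟨t, t1⟩ : H)) (f := fun k : H => chi (k : G))
      have b : sm H (fun k => chi (t * k)) = -1 * sm H chi := by
        rw [← sm_mul]
        exact sm_congr fun k hk => by rw [h.chi_mul t1 hk (hc t t1 k hk), chi, if_neg t2]
      omega
    exact ⟨0, by simp, fun _ => Or.inl this, Or.inl ⟨this, t, t1, t2⟩⟩
  push Not at hc
  obtain ⟨x, hx, y, hy, e⟩ := hc
  obtain ⟨c1, c2⟩ := h.card hx hy e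
  have := Nat.card_pos (α := (H ⊓ C1(x) ⊓ C1(y) : Subgroup G))
  obtain ⟨r, r1, -, r2⟩ := ih _ (by omega) (h.sub hx hy) rfl
  rw [c2] at r1 r2
  refine ⟨r + 1, by rw [c1, r1]; ring, fun e => absurd e r.succ_ne_zero, ?_⟩
  rw [h.split hx hy e]
  rcases r2 with ⟨a, b⟩ | a | a <;> rw [a]
  · exact Or.inl ⟨mul_zero _, b⟩
  · split_ifs
    · exact Or.inr (Or.inr (by ring))
    · exact Or.inr (Or.inl (by ring))
  · split_ifs
    · exact Or.inr (Or.inl (by ring))
    · exact Or.inr (Or.inr (by ring))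

theorem gs_of_es (h : Transfer.ES 2 z H) : GS z H := ⟨h.ord, h.mem.1, h.mem.2, h.der, h.pw⟩

theorem iso {G' : Type*} [Group G'] [Finite G'] {z' : G'} (n : ℕ) : ∀ {H : Subgroup G} {H' : Subgroup G'},
    Transfer.ES 2 z H → Transfer.ES 2 z' H' → Nat.card H = n → Nat.card H' = n → sm H chi = sm H' chi →
      Transfer.ESIso z H z' H' := by
  haveI := Fact.mk Nat.prime_two
  induction n using Nat.strong_induction_on with
  | _ n ih =>
  intro H H' h h' c c' e
  by_cases hn : n = 2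
  · exact h.iso_base h' (c.trans hn) (c'.trans hn)
  obtain ⟨x, hx, y, hy, e1, a, ha, p1, q1, r1⟩ := h.two_pair (c ▸ hn)
  obtain ⟨x', hx', y', hy', e2, a', ha', p2, q2, r2⟩ := h'.two_pair (c' ▸ hn)
  obtain ⟨s1, d1⟩ := h.sub hx hy e1
  obtain ⟨s2, d2⟩ := h'.sub hx' hy' e2
  rw [(gs_of_es h).split hx hy fun t => h.ne (e1 ▸ commutatorElement_eq_one_iff_mul_comm.2 t),
    (gs_of_es h').split hx' hy' fun t => h'.ne (e2 ▸ commutatorElement_eq_one_iff_mul_comm.2 t), p1, q1, p2, q2] at e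
  by_cases hb : Nat.card (H ⊓ C1(x) ⊓ C1(y) : Subgroup G) = 2
  · have hb2 : Nat.card (H' ⊓ C1(x') ⊓ C1(y') : Subgroup G') = 2 := by omega
    have t1 : sm (H ⊓ C1(x) ⊓ C1(y)) chi = 2 := by
      refine Eq.trans (sm_congr fun k hk => if_pos ?_) (sm_one.trans (by rw [hb]; rfl))
      exact hb ▸ congrArg Subtype.val (pow_card_eq_one' (x := (⟨k, hk⟩ : (H ⊓ C1(x) ⊓ C1(y) : Subgroup G))))
    have t2 : sm (H' ⊓ C1(x') ⊓ C1(y')) chi = 2 := by
      refine Eq.trans (sm_congr fun k hk => if_pos ?_) (sm_one.trans (by rw [hb2]; rfl))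
      exact hb2 ▸ congrArg Subtype.val (pow_card_eq_one' (x := (⟨k, hk⟩ : (H' ⊓ C1(x') ⊓ C1(y') : Subgroup G'))))
    rw [t1, t2] at e
    obtain rfl : a = a' := by
      have := h.ne.symm
      have := h'.ne.symm
      interval_cases a <;> interval_cases a' <;> simp_all
    exact h.glue h' hx hy hx' hy' e1 e2 p1 p2 q1 q2 (s1.iso_base s2 hb hb2)
  · obtain rfl : a = 0 := by omega
    obtain rfl : a' = 0 := by omega
    have := Nat.card_pos (α := (H ⊓ C1(x) ⊓ C1(y) : Subgroup G))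
    simp only [pow_zero, h.ne.symm, h'.ne.symm, and_self, if_false] at e
    exact h.glue h' hx hy hx' hy' e1 e2 p1 p2 q1 q2 (ih _ (by omega) s1 s2 rfl (by omega) (by omega))

end Cfsg.Agent.ES2
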