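/-
Irreducible action of an element of prime order.
-/
import Cfsg.Agent.Lib.BG.PLen
import Cfsg.Agent.Lib.Comp.PMin
import Mathlib.RingTheory.Polynomial.Cyclotomic.Factorization

set_option autoImplicit false
set_option linter.unusedSectionVars false

namespace Cfsg.Agent.Irr

open Subgroup Cfsg.Agent.Comp Cfsg.Agent.BG Polynomial
open scoped commutatorElement Pointwise

theorem exists_irred {K V : Type*} [Field K] [AddCommGroup V] [Module K V] [Nontrivial V] (σ : Module.End K V)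
    (h : ∀ W : Submodule K V, (∀ x ∈ W, σ x ∈ W) → W = ⊥ ∨ W = ⊤) (f : K[X]) : f ≠ 0 → aeval σ f = 0 →
    ∃ g, Irreducible g ∧ g ∣ f ∧ aeval σ g = 0 := by
  induction f using WfDvdMonoid.induction_on_irreducible with
  | zero => exact fun h => absurd rfl h
  | unit u hu => exact fun _ e => absurd e (hu.map _).ne_zero
  | mul a i ha hi ih =>
    intro _ e
    rcases h (LinearMap.ker (aeval σ i)) (fun x hx => by
      rw [LinearMap.mem_ker, ← Module.End.mul_apply, ← aeval_X (R := K) σ, aeval_X (R := K) σ, ← aeval_X (R := K) σ,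
        aeval_X (R := K) σ] at *
      rw [show aeval σ i * σ = σ * aeval σ i by simpa using congrArg (aeval σ) (mul_comm i X), Module.End.mul_apply, hx, map_zero]) with e1 | e1
    · obtain ⟨g, g1, g2, g3⟩ := ih ha (LinearMap.ext fun v => LinearMap.ker_eq_bot.1 e1 (by
        rw [← Module.End.mul_apply, ← map_mul, e]; simp))
      exact ⟨g, g1, g2.mul_left _, g3⟩
    · exact ⟨i, hi, dvd_mul_right _ _, LinearMap.ker_eq_top.1 e1⟩

theorem finrank_eq {K V : Type*} [Field K] [AddCommGroup V] [Module K V] [Nontrivial V] (σ : Module.End K V)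
    (h : ∀ W : Submodule K V, (∀ x ∈ W, σ x ∈ W) → W = ⊥ ∨ W = ⊤) {g : K[X]} (h1 : Irreducible g) (h2 : aeval σ g = 0) :
    Module.finrank K V = g.natDegree := by
  obtain ⟨v, hv⟩ := exists_ne (0 : V)
  let φ : K[X] →ₗ[K] V := LinearMap.applyₗ v ∘ₗ (aeval σ).toLinearMap
  have e : ∀ r, φ r = aeval σ r v := fun _ => rfl
  have h3 : φ.range = ⊤ := (h _ (by rintro _ ⟨r, rfl⟩; exact ⟨X * r, by simp [e]⟩)).resolve_left fun e' =>
    hv (((Submodule.eq_bot_iff _).1 e') v ⟨1, by simp [e]⟩)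
  have h4 : φ.ker = (Ideal.span {g}).restrictScalars K := Submodule.ext fun r => by
    rw [LinearMap.mem_ker, Submodule.restrictScalars_mem, Ideal.mem_span_singleton]
    refine ⟨fun hr => by_contra fun hd => hv ?_, by rintro ⟨c, rfl⟩; simp [e, h2]⟩
    obtain ⟨a, b, hab⟩ := (h1.coprime_iff_not_dvd).2 hd
    simpa [h2, ← e, hr, show aeval σ r v = 0 from hr] using (congrArg (fun s => aeval σ s v) hab).symm
  rw [← finrank_quotient_span_eq_natDegree, ← (Submodule.Quotient.restrictScalarsEquiv K _).finrank_eq, ← h4,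
    φ.quotKerEquivRange.finrank_eq, h3, finrank_top]

universe u

variable {G : Type u} [Group G] [Finite G] {p q : ℕ} [hp : Fact p.Prime]

theorem card_irr {V : Subgroup G} (hq : q.Prime) (hpq : q ≠ p) (hV : IsElementaryAbelian q V) {x : G} (h1 : x ∈ Nm(V))
    (h2 : x ^ p ∈ Ct(V)) (h3 : x ∉ Ct(V)) (h4 : ∀ U, U ≤ V → x ∈ Nm(U) → U = ⊥ ∨ U = V) :
    Nat.card V = q ^ orderOf (q : ZMod p) := by
  have := Fact.mk hq
  have := Solv.EMod.nontrivial (h := hV) (by rintro rfl; exact h3 (le_Ct_comm.1 bot_le (mem_top x)))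
  have hi : ∀ W : Submodule (ZMod q) (Solv.EMod hV), (∀ v ∈ W, Solv.EMod.rep hV ⟨x, h1⟩ v ∈ W) → W = ⊥ ∨ W = ⊤ := fun W h =>
    (h4 _ (Solv.EMod.grp_le W) (Solv.EMod.mem_normalizer_grp h1 h)).imp Solv.EMod.grp_eq_bot.1 Solv.EMod.grp_eq_top.1
  obtain ⟨g, g1, g2, g3⟩ := exists_irred _ hi _ (X_pow_sub_C_ne_zero hp.out.pos 1) (by
    simp only [map_sub, map_pow, aeval_X, map_one, sub_eq_zero]
    rw [← map_pow]; exact Solv.EMod.rep_eq_one_iff.2 h2)
  rw [map_one, ← cyclotomic_prime_mul_X_sub_one] at g2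
  have hc := (Nat.coprime_primes hq hp.out).2 hpq
  rw [Solv.EMod.card_eq_pow_finrank (h := hV), finrank_eq _ hi g1 g3, natDegree_of_dvd_cyclotomic_of_irreducible (f := 1)
    (by rw [ZMod.card, pow_one]) hc ((g1.prime.dvd_or_dvd g2).resolve_right fun ⟨c, e⟩ => h3 (Solv.EMod.rep_eq_one_iff.1 (by
      simpa [g3, sub_eq_zero] using congrArg (aeval (Solv.EMod.rep hV ⟨x, h1⟩)) e))) g1, ← orderOf_units, ZMod.coe_unitOfCoprime,
    pow_one]

theorem core {N : Subgroup G} [N.Normal] (hc : (Nat.card N).Coprime p)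
    (hm : ∀ B : Subgroup G, B.Normal → B ≤ N → B = ⊥ ∨ B = N) {x : G} (h1 : x ^ p = 1) (h2 : x ∉ Ct(N))
    (h : ∀ H : Subgroup G, H ≠ ⊤ → x ∈ H → x ∈ Ct((H ⊓ N : Subgroup G))) :
    ∃ q : ℕ, q.Prime ∧ q ≠ p ∧ Nat.card G = p * q ^ orderOf (q : ZMod p) ∧
      ∃ A : Subgroup G, A.Normal ∧ Nat.card ↥A = q ^ orderOf (q : ZMod p) ∧ Cfsg.IsElementaryAbelian q A ∧
        ∀ B : Subgroup G, B.Normal → B ≤ A → B = ⊥ ∨ B = A := by
  have x1 : Nat.card (zpowers x) = p := by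
    rw [Nat.card_zpowers]; exact orderOf_eq_prime h1 (by rintro rfl; exact h2 (one_mem _))
  have x2 : (Nat.card (zpowers x)).Coprime (Nat.card N) := x1 ▸ hc.symm
  have x3 : zpowers x ⊓ N = ⊥ := eq_bot_of_coprime x2
  obtain ⟨q, hq, Q, q1, q2, q3⟩ : ∃ q : ℕ, q.Prime ∧ ∃ Q, SylIn q Q N ∧ zpowers x ≤ Nm(Q) ∧ x ∉ Ct(Q) := by
    by_contra e
    push Not at e
    refine h2 (zpowers_le.1 (le_Ct_comm.1 (le_of_forall_sylIn fun q hq _ => ?_)))
    have := Fact.mk hq
    obtain ⟨Q, q1, q2⟩ := exists_invariant_sylIn q le_normalizer_of_normal x2 (.inl (Solv.isSolvable_zpowers x))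
    exact ⟨Q, q1, le_Ct_comm.1 (zpowers_le.2 (e q hq Q q1 q2))⟩
  have := Fact.mk hq
  have e1 : Q ⊔ zpowers x = ⊤ := by_contra fun e =>
    q3 (centralizer_mono (le_inf le_sup_left q1.le) (h _ e (mem_sup_right (mem_zpowers x))))
  have e2 : N = Q := by rw [← top_inf_eq N, ← e1, sup_inf_of_le_normalizer' q2 q1.le, x3, sup_bot_eq]
  subst e2
  have h0 : N ≠ ⊥ := by rintro rfl; exact h2 (le_Ct_comm.1 bot_le (mem_top x))
  obtain ⟨a, r, hr, b⟩ := Solv.minimal_normal_elementary N (by have := q1.isP.isNilpotent; infer_instance) h0 hm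
  have := Fact.mk hr
  have r1 : r ≠ p := by
    rintro rfl
    exact coprime_iff_not_dvd.1 hc (dvd_card_of_isPGroup (Solv.isPGroup_of_pow_eq_one b) h0)
  have e3 := card_irr hr r1 ⟨a, b⟩ (q2 (mem_zpowers x)) (h1 ▸ one_mem _) h2 fun U u1 u2 => hm U (normal_iff_top_le_normalizer.2
    (e1.ge.trans (sup_le (le_normalizer_of_le_centralizer ((comm_iff_le.1 a).trans (centralizer_mono u1))) (zpowers_le.2 u2)))) u1
  refine ⟨r, hr, r1, ?_, N, inferInstance, e3, ⟨a, b⟩, hm⟩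
  rw [← card_top, ← e1, sup_comm, Solv.card_sup_of_disjoint q2 x3, x1, e3]

end Cfsg.Agent.Irr
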