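/-
Extremely primitive permutation groups.
-/
import Cfsg.Agent.Lib.BG.GL2
import Cfsg.Agent.Lib.BG.Irr
import Cfsg.Agent.Lib.Solv.Prim
import Cfsg.Agent.Lib.Comp.CharL
import Cfsg.Agent.Lib.Char.IrrField
import Mathlib.FieldTheory.Finite.Extension

set_option autoImplicit false
set_option linter.unusedSectionVars false

namespace Cfsg.Agent.EP

open Subgroup Comp BG MulAction
open scoped commutatorElement Pointwise

universe u

section
variable {H : Type u} [Group H] [Finite H] {U : Subgroup H}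

theorem normal_of {K : Subgroup H} (h : ⊤ ≤ Nm(K)) : K.Normal := normalizer_eq_top_iff.1 (top_le_iff.1 h)

theorem prime_of_center (hU : IsCoatom U) (hc : U.normalCore = ⊥) (h : center H ≠ ⊥) : (Nat.card H).Prime := by
  have h1 := Solv.centralizer_inf_eq_bot_of_core hU hc h
  rw [centralizer_eq_top_iff_subset.2 subset_rfl, top_inf_eq] at h1
  subst h1
  obtain ⟨x, -, hx⟩ := exists_prime_order_mem hU.1.symm
  have := hU.2 (zpowers x) (bot_lt_iff_ne_bot.2 fun e => by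
    rw [zpowers_eq_bot.1 e, orderOf_one] at hx; exact Nat.not_prime_one hx)
  rwa [← Nat.card_zpowers, this, card_top] at hx

theorem fit (hU : IsCoatom U) (hc : U.normalCore = ⊥) (h : fittingSubgroup H ≠ ⊥) : ∃ p e : ℕ, p.Prime ∧
    El p e (fittingSubgroup H) ∧ Ct(fittingSubgroup H) = fittingSubgroup H ∧ fittingSubgroup H ⊔ U = ⊤ ∧
    fittingSubgroup H ⊓ U = ⊥ := by
  obtain ⟨F, hF⟩ : ∃ F, F = fittingSubgroup H := ⟨_, rfl⟩
  have h1 : Group.IsNilpotent F := hF ▸ isNilpotent_fitting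
  haveI : F.Normal := hF ▸ inferInstance
  rw [← hF] at h ⊢
  have h2 := inf_centralizer_ne_bot_of_isNilpotent h1 le_rfl le_normalizer h
  have h3 := Solv.eq_centralizer_of_core hU hc h2 h2 (inf_le_right.trans (centralizer_le inf_le_left))
  have h4 : F ≤ Ct(F) := ((le_Ct_comm.1 inf_le_right).trans h3.ge).trans inf_le_right
  have h5 := Solv.eq_centralizer_of_core hU hc h h h4
  obtain ⟨p, hp, h6⟩ := Nat.exists_prime_and_dvd (mt card_eq_one.1 h)
  haveI := Fact.mk hp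
  haveI : (OmZ p (Op p F)).Normal := normal_of (le_normalizer_OmZ (le_normalizer_Op le_normalizer_of_normal))
  have h7 := Solv.eq_centralizer_of_core hU hc h (OmZ_ne_bot (isPGroup_Op p F)
    (mt (sylIn_Op_of_isNilpotent h1).eq_bot_iff.1 (not_not.2 h6))) (((OmZ_le _ _).trans (Op_le _ _)).trans h4)
  have h8 : IsElementaryAbelian p F := by rw [h5, ← h7]; exact isElementaryAbelian_OmZ _ _
  obtain ⟨e, he⟩ := (IsElementaryAbelian.isPGroup h8).exists_card_eq
  exact ⟨p, e, hp, ⟨h8, he⟩, h5.symm, Solv.sup_eq_top_of_core hU hc h,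
    by rw [h5]; exact Solv.centralizer_inf_eq_bot_of_core hU hc h⟩

theorem index_eq {F : Subgroup H} [F.Normal] (h1 : F ⊔ U = ⊤) (h2 : F ⊓ U = ⊥) : U.index = Nat.card F := by
  have := Solv.card_sup_of_disjoint (H := U) (N := F) le_normalizer_of_normal (by rwa [inf_comm])
  rw [sup_comm, h1, card_top, ← card_mul_index U] at this
  exact Nat.eq_of_mul_eq_mul_left Nat.card_pos this

/-- an element normalizing an irreducible abelian group and fixing a vector acts as a field automorphism -/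
theorem pow_mem_Ct {V T : Subgroup H} {p d : ℕ} [hp : Fact p.Prime] (hV : El p d V) (hT : T ≤ Ct(T)) (hn : T ≤ Nm(V))
    (hirr : ∀ U ≤ V, (∀ t ∈ T, ∀ x ∈ U, t * x * t⁻¹ ∈ U) → U = ⊥ ∨ U = V) {v h : H} (hv : v ∈ V) (hv1 : v ≠ 1)
    (h1 : h ∈ Nm(V)) (h2 : h ∈ Nm(T)) (h3 : h * v * h⁻¹ = v) : h ^ d ∈ Ct(V) := by
  obtain ⟨F, _, _, φ, δ, f1, f2, f3, f4, f5, f6⟩ := Char.exists_field_of_irr_conj
    (fun x hx y hy => mem_Ct.1 (hV.le_Ct hy) x hx) (fun x hx y hy => mem_Ct.1 (hT hy) x hx) hn hirr hv hv1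
  have f7 : ∀ t ∈ T, ∀ b, t * φ b * t⁻¹ = φ (δ t * b) := fun t ht => f5 t (hn ht) fun y hy => (mem_Ct.1 (hT ht) y hy).symm
  choose s hs using fun a => (f2 _).1 ((mem_normalizer_iff.1 h1 _).1 ((f2 _).2 ⟨a, rfl⟩))
  have s1 : s 1 = 1 := f1 (by rw [hs, f4, h3])
  let σ : F →+ F := AddMonoidHom.mk' s fun a b => f1 (by rw [f3, hs, hs, hs, f3, conj_mul])
  have s2 : ∀ t ∈ T, ∀ b, s (δ t * b) = δ (h * t * h⁻¹) * s b := fun t ht b => f1 (by
    rw [hs, ← f7 t ht, ← f7 _ ((mem_normalizer_iff.1 h2 _).1 ht), hs]; group)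
  have s3 : ∀ a b, σ (a * b) = σ a * σ b := fun a => by
    have ha : a ∈ Subring.closure (δ '' T) := f6.ge (Subring.mem_top a)
    induction ha using Subring.closure_induction with
    | mem x hx =>
      obtain ⟨t, ht, rfl⟩ := hx
      intro b
      have := s2 t ht 1
      rw [mul_one, s1, mul_one] at this
      exact (s2 t ht b).trans (congrArg (· * s b) this.symm)
    | zero => simp
    | one => intro b; rw [one_mul, show σ 1 = 1 from s1, one_mul]
    | add x y _ _ hx hy => intro b; rw [add_mul, map_add, map_add, hx, hy, add_mul]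
    | neg x _ hx => intro b; rw [neg_mul, map_neg, map_neg, hx, neg_mul]
    | mul x y _ _ hx hy => intro b; rw [mul_assoc, hx, hy, hx, mul_assoc]
  have hc : Nat.card F = p ^ d := by
    rw [← hV.card]
    exact Nat.card_congr (Equiv.ofBijective (fun a => ⟨φ a, (f2 _).2 ⟨a, rfl⟩⟩)
      ⟨fun a b e => f1 (congrArg Subtype.val e), fun x => ((f2 _).1 x.2).imp fun a e => Subtype.ext e⟩)
  haveI : CharP F p := charP_of_card_eq_prime_pow (by rw [← Nat.card_eq_fintype_card, hc])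
  letI := ZMod.algebra F p
  let τ : F →+* F := RingHom.mk' ⟨⟨s, s1⟩, s3⟩ σ.map_add
  let g : F ≃ₐ[ZMod p] F := AlgEquiv.ofBijective ⟨τ, fun r => RingHom.congr_fun
    (Subsingleton.elim (τ.comp (algebraMap (ZMod p) F)) (algebraMap (ZMod p) F)) r⟩
    (Finite.injective_iff_bijective.1 τ.injective)
  obtain ⟨i, hi⟩ := FiniteField.exists_forall_apply_eq_pow (ZMod p) p F g
  rw [Nat.card_zmod] at hi
  have s4 : ∀ n a, h ^ n * φ a * (h ^ n)⁻¹ = φ (a ^ (p ^ i) ^ n) := fun n a => by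
    induction n with
    | zero => simp
    | succ n ih => rw [pow_succ (p ^ i), pow_mul, ← hi, show g _ = s _ from rfl, hs, ← ih, pow_succ']; group
  refine mem_Ct.2 fun x hx => ?_
  obtain ⟨a, rfl⟩ := (f2 x).1 hx
  have := s4 d a
  rw [← pow_mul, mul_comm i, pow_mul, ← hc, Nat.card_eq_fintype_card, FiniteField.pow_card_pow, mul_inv_eq_iff_eq_mul] at this
  exact this.symm
end

variable {G : Type u} [Group G] [Finite G] {Ω : Type*} [Finite Ω] [MulAction G Ω] [FaithfulSMul G Ω]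
  [hprim : IsPreprimitive G Ω]

theorem normal_eq_bot {N : Subgroup G} [N.Normal] {α : Ω} (h : N ≤ stabilizer G α) : N = ⊥ :=
  (eq_bot_iff_forall _).2 fun x hx => eq_of_smul_eq_smul (α := Ω) fun ω => by
    obtain ⟨g, rfl⟩ := exists_smul_eq G α ω
    rw [one_smul, ← inv_smul_eq_iff, smul_smul, smul_smul]
    exact h (Normal.conj_mem' ‹_› x hx g)

theorem not_le {α ω : Ω} (hne : ω ≠ α) (h1 : stabilizer G α ≠ ⊥) : ¬ stabilizer G α ≤ stabilizer G ω := fun h => by
  haveI : Nontrivial Ω := ⟨⟨_, _, hne⟩⟩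
  have h2 := IsPreprimitive.isCoatom_stabilizer_of_isPreprimitive G α
  have h3 := (h2.le_iff_eq (IsPreprimitive.isCoatom_stabilizer_of_isPreprimitive G ω).1).1 h
  obtain ⟨g, rfl⟩ := exists_smul_eq G α ω
  have h4 : g ∈ Nm(stabilizer G α) := by
    rw [stabilizer_smul_eq_stabilizer_map_conj] at h3
    exact Solv.conj_smul_eq_self_iff.1 h3
  haveI := normalizer_eq_top_iff.1 (h2.2 _ (le_normalizer.lt_of_ne fun e => hne (e.ge h4)))
  exact h1 (normal_eq_bot le_rfl)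

variable (G) in
def K (α ω : Ω) : Subgroup G := stabilizer G α ⊓ ⨅ a : stabilizer G α, stabilizer G ((a : G) • ω)

theorem mem_K {α ω : Ω} {x : G} : x ∈ K G α ω ↔ x • α = α ∧ ∀ a : G, a • α = α → x • a • ω = a • ω := by
  simp [K, mem_iInf]

theorem le_Nm_K (α ω : Ω) : stabilizer G α ≤ Nm(K G α ω) := fun a ha => mem_normalizer_fintype fun x hx => by
  obtain ⟨h1, h2⟩ := mem_K.1 hx
  refine mem_K.2 ⟨mul_mem (mul_mem ha h1) (inv_mem ha), fun b hb => ?_⟩
  rw [mul_smul, mul_smul, smul_smul a⁻¹, h2 _ (mul_mem (inv_mem ha) hb), smul_smul, mul_inv_cancel_left]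

variable (hep : ∀ α ω : Ω, IsPreprimitive (stabilizer G α) (orbit (stabilizer G α) ω))
include hep

theorem stab_eq (α ω : Ω) : stabilizer (stabilizer G α) (⟨ω, mem_orbit_self ω⟩ : orbit (stabilizer G α) ω) =
    (stabilizer G ω).subgroupOf (stabilizer G α) := Subgroup.ext fun _ => Subtype.ext_iff

theorem coatom {α ω : Ω} (h : ¬ stabilizer G α ≤ stabilizer G ω) :
    IsCoatom ((stabilizer G ω).subgroupOf (stabilizer G α)) := by
  haveI := hep α ω
  obtain ⟨g, h1, h2⟩ := SetLike.not_le_iff_exists.1 h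
  haveI : Nontrivial (orbit (stabilizer G α) ω) :=
    ⟨⟨⟨_, mem_orbit ω (⟨g, h1⟩ : stabilizer G α)⟩, ⟨ω, mem_orbit_self ω⟩, fun e => h2 (congrArg Subtype.val e)⟩⟩
  rw [← stab_eq hep]
  exact IsPreprimitive.isCoatom_stabilizer_of_isPreprimitive _ _

theorem trans {α ω : Ω} {N : Subgroup G} (h1 : N ≤ stabilizer G α) (h2 : stabilizer G α ≤ Nm(N))
    (h : ¬ N ≤ stabilizer G ω) (a : G) (ha : a • α = α) : ∃ n ∈ N, n • ω = a • ω := by
  haveI := normal_subgroupOf_of_le_normalizer h2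
  obtain ⟨n, hn, b, hb, e⟩ := mem_sup_of_normal_left.1 (((coatom hep (mt h1.trans h)).2
    (N.subgroupOf _ ⊔ _) (right_lt_sup.2 fun e => h fun x hx => e (x := ⟨x, h1 hx⟩) hx)).ge (mem_top ⟨a, ha⟩))
  refine ⟨n, hn, ?_⟩
  rw [show a = n * b from (congrArg Subtype.val e).symm, mul_smul, show (b : G) • ω = ω from hb]

theorem K_le {α ω : Ω} (hne : ω ≠ α) : K G α ω ≤ K G ω α := fun x hx => by
  have k1 : K G α ω ≤ stabilizer G ω := fun y hy => by simpa using (mem_K.1 hy).2 1 (one_smul _ _)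
  refine mem_K.2 ⟨k1 hx, fun b hb => ?_⟩
  by_contra h
  haveI : Nontrivial Ω := ⟨⟨_, _, hne⟩⟩
  have h1 : orbit (stabilizer G α) ω ⊆ b • orbit (stabilizer G α) ω := by
    rintro _ ⟨⟨a, ha⟩, rfl⟩
    obtain ⟨n, hn, e⟩ := trans hep inf_le_left (le_Nm_K α ω) (fun e => h (e hx)) a⁻¹ (inv_mem ha)
    refine ⟨_, ⟨⟨b⁻¹ * a * (n * b), ?_⟩, rfl⟩, ?_⟩
    · rw [mem_stabilizer_iff, mul_smul, mul_smul, mul_smul, e, smul_inv_smul, inv_smul_smul]
    · show b • (b⁻¹ * a * (n * b)) • ω = a • ω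
      rw [mul_smul, mul_smul, mul_smul, smul_inv_smul, hb, show n • ω = ω from k1 hn]
  have h2 := Set.eq_of_subset_of_ncard_le h1 (Set.ncard_smul_set _ _).le
  have h3 := (IsPreprimitive.isCoatom_stabilizer_of_isPreprimitive G α).2 (stabilizer G (orbit (stabilizer G α) ω))
    (lt_of_le_of_ne (fun a ha => smul_orbit (⟨a, ha⟩ : stabilizer G α) ω) fun e => h (by
      rw [show b • α = α from e.ge h2.symm, (mem_K.1 hx).1]))
  obtain ⟨g, hg⟩ := exists_smul_eq G ω α
  obtain ⟨a, ha⟩ : α ∈ orbit (stabilizer G α) ω := (h3.ge (mem_top g)).le ⟨ω, mem_orbit_self ω, hg⟩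
  exact hne ((smul_left_cancel_iff (a : G)).1 (ha.trans a.2.symm))

theorem core {α ω : Ω} (hne : ω ≠ α) (h1 : stabilizer G α ≠ ⊥) :
    ((stabilizer G ω).subgroupOf (stabilizer G α)).normalCore = ⊥ := by
  haveI : Nontrivial Ω := ⟨⟨_, _, hne⟩⟩
  have e := le_antisymm (K_le hep hne) (K_le hep hne.symm)
  have h2 := IsPreprimitive.isCoatom_stabilizer_of_isPreprimitive G α
  haveI := normalizer_eq_top_iff.1 (h2.2 _ ((le_Nm_K α ω).lt_of_ne fun f => not_le hne h1
    ((h2.le_iff_eq (IsPreprimitive.isCoatom_stabilizer_of_isPreprimitive G ω).1).1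
      (((IsPreprimitive.isCoatom_stabilizer_of_isPreprimitive G ω).le_iff_eq h2.1).1
        ((le_Nm_K ω α).trans (by rw [← e, ← f]))).le).ge))
  refine (eq_bot_iff_forall _).2 fun x hx => Subtype.ext ((eq_bot_iff_forall _).1
    (normal_eq_bot (N := K G α ω) inf_le_left) _ (mem_K.2 ⟨x.2, fun a ha => ?_⟩))
  have : (a⁻¹ * x * a⁻¹⁻¹) • ω = ω := hx ⟨a, ha⟩⁻¹
  rwa [inv_inv, mul_smul, mul_smul, inv_smul_eq_iff] at this

omit hep in
theorem exists_ne {α : Ω} (h1 : stabilizer G α ≠ ⊥) : ∃ ω, ω ≠ α := by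
  by_contra h
  push Not at h
  exact h1 ((eq_bot_iff_forall _).2 fun x _ => eq_of_smul_eq_smul (α := Ω) fun ω => (h _).trans (h _).symm)

theorem fit' {α ω : Ω} (hne : ω ≠ α) (h1 : stabilizer G α ≠ ⊥) (h : fittingSubgroup (stabilizer G α) ≠ ⊥) :
    fittingSubgroup (stabilizer G α) ⊔ (stabilizer G ω).subgroupOf (stabilizer G α) = ⊤ ∧
    fittingSubgroup (stabilizer G α) ⊓ (stabilizer G ω).subgroupOf (stabilizer G α) = ⊥ :=
  let ⟨_, _, _, _, _, h⟩ := fit (coatom hep (not_le hne h1)) (core hep hne h1) h; h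

end Cfsg.Agent.EP
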