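/-
Extremely primitive permutation groups are affine or almost simple.
-/
import Cfsg.Agent.Lib.BG.ExtPrim
import Cfsg.Agent.Lib.BG.Cls
import Cfsg.Agent.Lib.FT.Final
import Cfsg.Agent.Lib.Solv.Schmidt

set_option autoImplicit false
set_option linter.unusedSectionVars false

namespace Cfsg.Agent.EP

open Subgroup Comp BG MulAction
open scoped commutatorElement Pointwise

universe u

variable {G : Type u} [Group G] [Finite G] {Ω : Type*} [Finite Ω] [MulAction G Ω] [FaithfulSMul G Ω]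
  [hprim : IsPreprimitive G Ω] {α : Ω} {L : Subgroup G}

theorem mem_stab {X : Set Ω} {h : G} (e : ∀ x ∈ X, h • x ∈ X) : h ∈ stabilizer G X :=
  Set.eq_of_subset_of_ncard_le (by rintro _ ⟨x, hx, rfl⟩; exact e x hx) (Set.ncard_smul_set _ _).ge

theorem gco (h1 : stabilizer G α ≠ ⊥) : IsCoatom (stabilizer G α) := by
  obtain ⟨ω, hω⟩ := exists_ne h1
  haveI : Nontrivial Ω := ⟨⟨_, _, hω⟩⟩
  exact IsPreprimitive.isCoatom_stabilizer_of_isPreprimitive G α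

theorem tr (h1 : stabilizer G α ≠ ⊥) {N : Subgroup G} [N.Normal] (hN : N ≠ ⊥) (g : G) :
    ∃ n ∈ N, ∃ h ∈ stabilizer G α, n * h = g :=
  mem_sup_of_normal_left.1 ((Solv.sup_eq_top_of_core (gco h1) (normal_eq_bot (normalCore_le _)) hN).ge (mem_top g))

theorem simp_L (hF : Fit (⊤ : Subgroup G) = ⊥) (hL : CompIn L ⊤) {N : Subgroup G} (h1 : N ≤ L) (h2 : L ≤ Nm(N)) :
    N = L ∨ N = ⊥ :=
  (hL.qs.normal N h1 h2).imp_right fun h => le_bot_iff.1
    ((((le_inf h1 h).trans (center_le_Fit L)).trans hL.subn.Fit_le).trans hF.le)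

theorem L_not_le (h1 : stabilizer G α ≠ ⊥) (hL : CompIn L ⊤) : ¬ L ≤ stabilizer G α := fun h => by
  refine hL.qs.ne_bot ((eq_bot_iff_forall _).2 fun x hx => eq_of_smul_eq_smul (α := Ω) fun ω => ?_)
  obtain ⟨g, rfl⟩ := exists_smul_eq G α ω
  obtain ⟨n, hn, a, ha, rfl⟩ := tr h1 (N := Lay ⊤) (fun e => hL.qs.ne_bot (le_bot_iff.1 (hL.le_Lay.trans e.le))) g
  rw [one_smul, mul_smul, show a • α = α from ha, ← inv_smul_eq_iff, smul_smul, smul_smul]
  exact h ((mem_normalizer_iff''.1 (hL.Lay_le_normalizer hn) x).1 hx)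

theorem gen (hF : Fit (⊤ : Subgroup G) = ⊥) (hL : CompIn L ⊤) {p : ℕ} (hp : p.Prime) (h : p ∣ Nat.card L) :
    closure {s | s ∈ L ∧ s ^ p = 1} = L := by
  haveI := Fact.mk hp
  obtain ⟨x, h1, h2⟩ := exists_mem_orderOf_eq h
  refine (simp_L hF hL ((closure_le _).2 fun s hs => hs.1) fun g hg => mem_normalizer_fintype fun n hn => ?_).resolve_right
    fun e => hp.ne_one ?_
  · induction hn using closure_induction with
    | mem x hx => exact subset_closure ⟨mul_mem (mul_mem hg hx.1) (inv_mem hg), by rw [conj_pow, hx.2, mul_one, mul_inv_cancel]⟩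
    | one => simp
    | mul x y _ _ hx hy => rw [← conj_mul]; exact mul_mem hx hy
    | inv x _ hx => rw [← conj_inv]; exact inv_mem hx
  · rw [← h2, (eq_bot_iff_forall _).1 e x (subset_closure ⟨h1, h2 ▸ pow_orderOf_eq_one x⟩), orderOf_one]

variable (hep : ∀ α ω : Ω, IsPreprimitive (stabilizer G α) (orbit (stabilizer G α) ω)) (h1 : stabilizer G α ≠ ⊥)
include hep h1

theorem max {ω : Ω} (hω : ω ≠ α) {S : Subgroup G} (h2 : stabilizer G α ⊓ stabilizer G ω ≤ S) (h3 : S ≤ stabilizer G α) :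
    S ≤ stabilizer G ω ∨ S = stabilizer G α := by
  have : (stabilizer G ω).subgroupOf (stabilizer G α) ≤ S.subgroupOf (stabilizer G α) :=
    fun x hx => h2 (mem_inf.2 ⟨x.2, hx⟩)
  obtain e | e := (coatom hep (not_le hω h1)).le_iff.1 this
  · exact Or.inr (le_antisymm h3 (subgroupOf_eq_top.1 e))
  · exact Or.inl fun x hx => e.le (x := ⟨x, h3 hx⟩) hx

theorem cf {ω : Ω} (hω : ω ≠ α) {N : Subgroup G} (h2 : N ≤ stabilizer G α) (h3 : N ≤ stabilizer G ω)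
    (h4 : stabilizer G α ≤ Nm(N)) : N = ⊥ := by
  haveI := normal_subgroupOf_of_le_normalizer h4
  have := Solv.eq_bot_of_normal_le_of_core (core hep hω h1) (N := N.subgroupOf _) (comap_mono h3)
  rwa [subgroupOf_eq_bot, disjoint_iff, inf_eq_left.2 h2] at this

theorem fin (hF : Fit (⊤ : Subgroup G) = ⊥) (hL : CompIn L ⊤) (hR : ∀ l ∈ L, ∃ c ∈ Ct(L), l * c ∈ stabilizer G α) :
    False := by
  have sr : L ⊓ stabilizer G α = ⊥ := (simp_L hF hL inf_le_left fun l hl => mem_normalizer_fintype fun x hx => by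
    obtain ⟨c, hc, e⟩ := hR l hl
    refine mem_inf.2 ⟨mul_mem (mul_mem hl (mem_inf.1 hx).1) (inv_mem hl), ?_⟩
    have := mul_mem (mul_mem e (mem_inf.1 hx).2) (inv_mem e)
    rwa [mul_assoc l, ← mem_Ct.1 hc x (mem_inf.1 hx).1, mul_inv_rev, ← mul_assoc, ← mul_assoc, mul_inv_cancel_right] at this
    ).resolve_left fun e => L_not_le h1 hL (e.ge.trans inf_le_right)
  have reg : ∀ v ∈ L, ∀ w ∈ L, v • α = w • α → v = w := fun v hv w hw e => (inv_mul_eq_one.1 ((eq_bot_iff_forall _).1 sr _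
    (mem_inf.2 ⟨mul_mem (inv_mem hw) hv, by rw [mem_stabilizer_iff, mul_smul, e, inv_smul_smul]⟩))).symm
  have c : ∀ s ∈ {s | s ∈ L ∧ s ^ 2 = 1}, ∀ t ∈ {s | s ∈ L ∧ s ^ 2 = 1}, s * t = t * s := fun s hs t ht => by
    have s1 : s⁻¹ = s := inv_eq_of_mul_eq_one_right (sq s ▸ hs.2)
    have t1 : t⁻¹ = t := inv_eq_of_mul_eq_one_right (sq t ▸ ht.2)
    suffices (s * t)⁻¹ = s * t by rw [← this, mul_inv_rev, s1, t1]
    obtain ⟨w, hw⟩ : ∃ w, w = s * t := ⟨_, rfl⟩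
    have w1 : w ∈ L := hw ▸ mul_mem hs.1 ht.1
    have w2 : s * w * s⁻¹ = w⁻¹ := by rw [hw, mul_inv_rev, t1, ← mul_assoc, ← sq, hs.2, one_mul]
    rw [← hw]
    by_cases w3 : w = 1
    · rw [w3, inv_one]
    have hω : w • α ≠ α := fun e => w3 (reg w w1 1 (one_mem _) (e.trans (one_smul _ _).symm))
    obtain ⟨c, hc, e⟩ := hR s hs.1
    have w4 : s * c * w * (s * c)⁻¹ = w⁻¹ := by
      rw [mul_assoc s, ← mem_Ct.1 hc w w1, mul_inv_rev, ← mul_assoc, ← mul_assoc, mul_inv_cancel_right, w2]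
    have k : ∀ h ∈ stabilizer G α, ∀ x : G, h • x • α = (h * x * h⁻¹) • α := fun h hh x => by
      rw [mul_smul, mul_smul, show h⁻¹ • α = α from inv_mem hh]
    obtain f | f := max hep h1 hω (S := stabilizer G (orbit (zpowers w) α) ⊓ stabilizer G α)
      (fun u hu => mem_inf.2 ⟨mem_stab (by
        rintro _ ⟨⟨_, i, rfl⟩, rfl⟩
        refine ⟨⟨_, i, rfl⟩, ?_⟩
        show w ^ i • α = u • w ^ i • α
        have u1 : (u * w * u⁻¹) • α = w • α := (k u (mem_inf.1 hu).1 w).symm.trans (mem_inf.1 hu).2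
        rw [k u (mem_inf.1 hu).1, ← conj_zpow]
        by_cases g : u ∈ Nm(L)
        · rw [reg _ ((mem_normalizer_iff.1 g w).1 w1) w w1 u1]
        have u2 : Commute w⁻¹ (u * w * u⁻¹) := mem_Ct.1 ((hL.cj_of_mem (le_normalizer (mem_top u))).le_centralizer_of_ne hL
          (mt cj_eq_self_iff.1 g) (mem_map_of_mem _ w1)) _ (inv_mem w1)
        have u3 : w⁻¹ * (u * w * u⁻¹) ∈ stabilizer G α := by rw [mem_stabilizer_iff, mul_smul, u1, inv_smul_smul]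
        have u4 := zpow_mem u3 i
        rw [u2.mul_zpow, mem_stabilizer_iff, mul_smul, inv_zpow, inv_smul_eq_iff] at u4
        exact u4.symm), (mem_inf.1 hu).1⟩) inf_le_right
    · refine reg _ (inv_mem w1) _ w1 ?_
      rw [← w4, ← k _ e]
      refine f (mem_inf.2 ⟨mem_stab ?_, e⟩)
      rintro _ ⟨⟨_, i, rfl⟩, rfl⟩
      refine ⟨⟨_, -i, rfl⟩, ?_⟩
      show w ^ (-i) • α = (s * c) • w ^ i • α
      rw [k _ e, ← conj_zpow, w4, inv_zpow']
    · have g := (gco h1).2 (stabilizer G (orbit (zpowers w) α)) (lt_of_le_of_ne (f.ge.trans inf_le_left) fun g =>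
        hω (g.ge (smul_orbit (⟨w, mem_zpowers w⟩ : zpowers w) α)))
      have g2 : L ≤ zpowers w := fun l hl => by
        obtain ⟨⟨_, i, rfl⟩, hi⟩ : l • α ∈ orbit (zpowers w) α := (g.ge (mem_top l)).le ⟨α, mem_orbit_self α, rfl⟩
        exact ⟨i, reg _ (zpow_mem w1 i) l hl hi⟩
      exact (hL.qs.not_le_of_isSolvable (Solv.isSolvable_zpowers w) g2).elim
  have := gen hF hL Nat.prime_two (by_contra fun h => hL.qs.not_isSolvable
    (PF.odd_solvable (Nat.odd_iff.2 (Nat.two_dvd_ne_zero.1 h))))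
  exact hL.qs.not_le_centralizer (this ▸ comm_iff_le.1 (isMulCommutative_closure c))

theorem caseB (hL : CompIn L ⊤) {h : G} (h2 : h ∈ stabilizer G α) (h3 : h ∉ Nm(L)) (h4 : Lay ⊤ ⊓ stabilizer G α ≠ ⊥) :
    ∀ l ∈ L, ∃ c ∈ Ct(L), l * c ∈ stabilizer G α := by
  obtain ⟨W, hW⟩ : ∃ W, W = L ⊔ Ct(L) := ⟨_, rfl⟩
  obtain ⟨Y, hY⟩ : ∃ Y, Y = (stabilizer G α ⊓ W) ⊔ Ct(L) := ⟨_, rfl⟩
  have o : ∀ g ∉ Nm(L), ∀ x ∈ L, g * x * g⁻¹ ∈ Ct(L) := fun g hg x hx =>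
    (hL.cj_of_mem (le_normalizer (mem_top g))).le_centralizer_of_ne hL (mt cj_eq_self_iff.1 hg) (mem_map_of_mem _ hx)
  have y1 : Y ≤ W := hY ▸ sup_le inf_le_right (hW ▸ le_sup_right)
  have y2 : Ct(L) ≤ Y := hY ▸ le_sup_right
  have y3 : stabilizer G α ⊓ W ≤ Y := hY ▸ le_sup_left
  let M : Subgroup G := ⨅ a : stabilizer G α, Y.comap (MulAut.conj (a : G)).toMonoidHom
  have m : ∀ x, x ∈ M ↔ ∀ a ∈ stabilizer G α, a * x * a⁻¹ ∈ Y := fun x => by simp [M, mem_iInf]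
  have m1 : M ≤ Y := fun x hx => by simpa using (m x).1 hx 1 (one_mem _)
  have m2 : stabilizer G α ≤ Nm(M) := fun b hb => mem_normalizer_fintype fun x hx => (m _).2 fun a ha => by
    have := (m x).1 hx _ (mul_mem ha hb)
    rwa [mul_inv_rev, ← mul_assoc, mul_assoc a b x, mul_assoc a] at this
  have m3 : L ⊓ Y ≤ M := fun x hx => (m x).2 fun a ha => by
    by_cases e : a ∈ Nm(L)
    · have e1 : zpowers a ≤ Nm(L) := zpowers_le.2 e
      have e2 : zpowers a ≤ Nm(Ct(L)) := le_normalizer_centralizer e1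
      exact (mem_normalizer_iff.1 ((hY ▸ le_normalizer_sup (le_normalizer_inf ((zpowers_le.2 ha).trans le_normalizer)
        (hW ▸ le_normalizer_sup e1 e2)) e2 : zpowers a ≤ Nm(Y)) (mem_zpowers a)) x).1 (mem_inf.1 hx).2
    · exact y2 (o a e x (mem_inf.1 hx).1)
  obtain ⟨t, t1, t2⟩ := SetLike.not_le_iff_exists.1 (L_not_le h1 hL)
  obtain ⟨n, hn, e⟩ := trans hep (N := Lay ⊤ ⊓ stabilizer G α) inf_le_right
    (le_normalizer_inf le_normalizer_of_normal le_normalizer) (fun e => h4 (cf hep h1 t2 inf_le_right e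
      (le_normalizer_inf le_normalizer_of_normal le_normalizer))) h h2
  obtain ⟨n1, n2⟩ := mem_inf.1 hn
  have a1 : n * t * n⁻¹ ∈ L := (mem_normalizer_iff.1 (hL.Lay_le_normalizer n1) t).1 t1
  have a2 := o h h3 t t1
  have a3 : (h * t * h⁻¹)⁻¹ * (n * t * n⁻¹) ∈ stabilizer G α := by
    rw [mem_stabilizer_iff, mul_smul, inv_smul_eq_iff, mul_smul, mul_smul, mul_smul, mul_smul,
      show n⁻¹ • α = α from inv_mem n2, show h⁻¹ • α = α from inv_mem h2, e]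
  have a4 : n * t * n⁻¹ ∈ M := m3 (mem_inf.2 ⟨a1, (mul_mem_cancel_left (inv_mem (y2 a2))).1 (y3 (mem_inf.2 ⟨a3,
    hW ▸ mul_mem (mem_sup_right (inv_mem a2)) (mem_sup_left a1)⟩))⟩)
  have a5 := (gco h1).2 (M ⊔ stabilizer G α) (right_lt_sup.2 fun f => t2
    ((mul_mem_cancel_left n2).1 ((mul_mem_cancel_right (inv_mem n2)).1 (f a4))))
  intro l hl
  obtain ⟨x, hx, a, ha, rfl⟩ := (mem_sup_of_le_normalizer' m2).1 (a5.ge (mem_top l))
  have b1 : x * a ∈ Y := mul_mem (m1 hx) (y3 (mem_inf.2 ⟨ha, (mul_mem_cancel_left (y1 (m1 hx))).1 (hW ▸ mem_sup_left hl)⟩))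
  obtain ⟨d, hd, c, hc, f⟩ := (mem_sup_of_le_normalizer (le_normalizer_centralizer (inf_le_right.trans
    (hW ▸ sup_le le_normalizer (Ct_le_Nm L))))).1 (hY.le b1)
  exact ⟨c⁻¹, inv_mem hc, by rw [← f, mul_inv_cancel_right]; exact (mem_inf.1 hd).1⟩

theorem caseA (hF : Fit (⊤ : Subgroup G) = ⊥) (hL : CompIn L ⊤) {h : G} (h2 : h ∈ stabilizer G α) (h3 : h ∉ Nm(L))
    (h4 : Lay ⊤ ⊓ stabilizer G α = ⊥) : False := by
  obtain ⟨N, hN⟩ : ∃ N, N = Lay (⊤ : Subgroup G) := ⟨_, rfl⟩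
  haveI : N.Normal := hN ▸ inferInstance
  have l1 : L ≤ N := hN ▸ hL.le_Lay
  rw [← hN] at h4
  obtain ⟨H, hH⟩ : ∃ H, H = stabilizer G α := ⟨_, rfl⟩
  have ne : ∀ a ∈ N, a ≠ 1 → a • α ≠ α := fun a ha e f => e ((eq_bot_iff_forall _).1 h4 a (mem_inf.2 ⟨ha, f⟩))
  have st : ∀ a ∈ N, H ⊓ stabilizer G (a • α) = H ⊓ C1(a) := fun a ha => Subgroup.ext fun x => and_congr_right fun hx => by
    have x1 : x • α = α := hH.le hx
    refine ⟨fun e => mem_C1.2 ?_, fun e => ?_⟩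
    · have := (eq_bot_iff_forall _).1 h4 (a⁻¹ * (x * a * x⁻¹)) (mem_inf.2 ⟨mul_mem (inv_mem ha) (Normal.conj_mem ‹_› a ha x),
        by rw [mem_stabilizer_iff, mul_smul, mul_smul, mul_smul, show x⁻¹ • α = α from inv_mem (hH.le hx),
          show x • a • α = a • α from e, inv_smul_smul]⟩)
      rwa [inv_mul_eq_one, eq_mul_inv_iff_mul_eq] at this
    · show x • a • α = a • α
      rw [smul_smul, ← mem_C1.1 e, mul_smul, x1]
  have mx : ∀ a ∈ N, a ≠ 1 → ∀ S, H ⊓ C1(a) ≤ S → S ≤ H → S = H ⊓ C1(a) ∨ S = H := fun a ha e S s1 s2 => by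
    rw [← st a ha] at s1 ⊢
    subst hH
    exact (max hep h1 (ne a ha e) s1 s2).imp_left fun f => le_antisymm (le_inf s2 f) s1
  have pr : ∀ a ∈ N, a ≠ 1 → H ⊓ C1(a) ≠ H := fun a ha e f =>
    not_le (ne a ha e) h1 (hH.ge.trans ((f.symm.trans (st a ha).symm).le.trans inf_le_right))
  have eq : ∀ a ∈ N, a ≠ 1 → ∀ b ∈ N, b ≠ 1 → H ⊓ C1(a) ≤ C1(b) → H ⊓ C1(b) = H ⊓ C1(a) := fun a ha e b hb f g =>
    (mx a ha e _ (le_inf inf_le_left g) inf_le_left).resolve_right (pr b hb f)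
  obtain ⟨p, hp, p1⟩ := Nat.exists_prime_and_dvd (mt card_eq_one.1 hL.qs.ne_bot)
  haveI := Fact.mk hp
  obtain ⟨q, hq, q1, q2⟩ : ∃ q : ℕ, q.Prime ∧ q ∣ Nat.card L ∧ q ≠ p := by
    by_contra e
    push Not at e
    haveI := (IsPGroup.of_card (Nat.eq_prime_pow_of_unique_prime_dvd Nat.card_pos.ne' fun a b => e _ a b)).isNilpotent
    exact hL.qs.not_isSolvable inferInstance
  haveI := Fact.mk hq
  obtain ⟨y, y1, y2⟩ := exists_mem_orderOf_eq q1
  have y3 : y ≠ 1 := fun e => hq.ne_one (by rw [← y2, e, orderOf_one])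
  obtain ⟨b, hb⟩ : ∃ b, b = h * y * h⁻¹ := ⟨_, rfl⟩
  have b1 : b ∈ N := hb ▸ Normal.conj_mem ‹_› y (l1 y1) h
  have b2 : b ∈ Ct(L) := hb ▸ (hL.cj_of_mem (le_normalizer (mem_top h))).le_centralizer_of_ne hL (mt cj_eq_self_iff.1 h3)
    (mem_map_of_mem _ y1)
  have b3 : orderOf b = q := by rw [hb, ← y2]; exact (MulAut.conj h).orderOf_eq y
  have b4 : b ≠ 1 := fun e => hq.ne_one (by rw [← b3, e, orderOf_one])
  have u1 : H ⊓ C1(b) ≤ Ct(L) := le_Ct_comm.1 ((gen hF hL hp p1).ge.trans ((closure_le _).2 fun a ha => by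
    by_cases e : a = 1
    · exact e ▸ one_mem _
    have c1 := C1_mul_of_coprime (mem_Ct.1 b2 a ha.1) (by
      rw [orderOf_eq_prime ha.2 e, b3]; exact (Nat.coprime_primes hp hq).2 q2.symm)
    have c2 : a * b ≠ 1 := fun f => pr b b1 b4 (inf_eq_left.2 (le_top.trans
      (((C1_eq_top_iff.2 (f ▸ one_mem _)).symm.trans c1).le.trans inf_le_right)))
    have c3 := eq _ (mul_mem (l1 ha.1) b1) c2 b b1 b4 (inf_le_right.trans (c1.le.trans inf_le_right))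
    exact mem_Ct.2 fun x hx => (mem_C1.1 ((c3.le.trans (inf_le_right.trans (c1.le.trans inf_le_left))) hx)).symm))
  have u2 := eq b b1 b4 y (l1 y1) y3 fun x hx => mem_C1.2 (mem_Ct.1 (u1 hx) y y1)
  have u3 : h ∈ Nm(H ⊓ C1(b)) := mem_normalizer_fintype fun x hx => mem_inf.2
    ⟨mul_mem (mul_mem (hH.ge h2) (mem_inf.1 hx).1) (inv_mem (hH.ge h2)), mem_C1.2 (by
      rw [hb, conj_mul, conj_mul, mem_C1.1 (mem_inf.1 (u2.ge hx)).2])⟩
  obtain f | f := mx b b1 b4 (H ⊓ Nm(H ⊓ C1(b))) (le_inf inf_le_left le_normalizer) inf_le_left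
  · exact h3 (Ct_le_Nm L (u1 (f.le (mem_inf.2 ⟨hH.ge h2, u3⟩))))
  have u4 : H ⊓ C1(b) = ⊥ := cf hep h1 (ne b b1 b4) (inf_le_left.trans hH.le) ((st b b1).ge.trans inf_le_right)
    (hH.ge.trans (f.ge.trans inf_le_right))
  have := Solv.thompson_fpf (K := N) (H := H) le_normalizer_of_normal (hH ▸ h1) fun x hx e => Solv.fpf_iff.2 fun k hk g => by
    by_contra k1
    obtain f | f := mx b b1 b4 (H ⊓ C1(k)) (u4.le.trans bot_le) inf_le_left
    · exact e ((eq_bot_iff_forall _).1 (f.trans u4) x (mem_inf.2 ⟨hx, mem_C1.2 g.symm⟩))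
    · exact pr k hk k1 f
  exact hL.qs.not_le_of_isSolvable inferInstance l1

theorem almost (hF : Fit (⊤ : Subgroup G) = ⊥) (hL : CompIn L ⊤) : L.Normal ∧ Ct(L) = ⊥ := by
  by_cases hn : L.Normal
  · refine ⟨hn, by_contra fun e => fin hep h1 hF hL fun l hl => ?_⟩
    obtain ⟨c, hc, a, ha, f⟩ := tr h1 e l
    refine ⟨c⁻¹, inv_mem hc, ?_⟩
    rwa [mem_Ct.1 (inv_mem hc) l hl, ← f, inv_mul_cancel_left]
  obtain ⟨h, h2, h3⟩ : ∃ h ∈ stabilizer G α, h ∉ Nm(L) := by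
    by_contra e
    push Not at e
    refine hn (normal_of fun g _ => ?_)
    obtain ⟨n, hn, a, ha, rfl⟩ := tr h1 (N := Lay ⊤) (fun e => hL.qs.ne_bot (le_bot_iff.1 (hL.le_Lay.trans e.le))) g
    exact mul_mem (hL.Lay_le_normalizer hn) (e a ha)
  by_cases h4 : Lay ⊤ ⊓ stabilizer G α = ⊥
  · exact (caseA hep h1 hF hL h2 h3 h4).elim
  · exact (fin hep h1 hF hL (caseB hep h1 hL h2 h3 h4)).elim

end Cfsg.Agent.EP
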