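/-
Pieces of the O'Nan–Scott theorem: components of primitive groups and derangements.
-/
import Cfsg.Agent.Lib.BG.ExtPrim2
import Cfsg.Agent.Lib.BG.Cls2
import Cfsg.Agent.Lib.Solv.Fact

set_option autoImplicit false
set_option linter.unusedSectionVars false

namespace Cfsg.Agent.EP

open Subgroup Comp BG MulAction
open scoped commutatorElement Pointwise

universe u

theorem jordan {K : Type u} [Group K] [Finite K] {C : Subgroup K} (h : ∀ x : K, ∃ g : K, g⁻¹ * x * g ∈ C) : C = ⊤ := by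
  have h1 := cnt_conj_le (le_normalizer (H := C))
  have h2 : Nat.card {x : K // x ≠ 1 ∧ ∃ g : K, x ∈ cj(g, C)} = Nat.card {x : K // x ≠ 1} :=
    Nat.card_congr (Equiv.subtypeEquivRight fun x => and_iff_left ((h x).imp fun g hg => ⟨_, hg, by simp [mul_assoc]⟩))
  classical
  rw [h2, index_mul_card, ← Nat.card_congr (Equiv.optionSubtypeNe (1 : K)), Finite.card_option] at h1
  exact index_eq_one.1 (le_antisymm (Nat.le_of_add_le_add_left h1) (Nat.pos_of_ne_zero index_ne_zero_of_finite))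

variable {G : Type u} [Group G] [Finite G] {Ω : Type*} [Finite Ω] [MulAction G Ω] [FaithfulSMul G Ω]
  [hprim : IsPreprimitive G Ω] {α : Ω} {L : Subgroup G}

theorem inf_Ct (hF : Fit (⊤ : Subgroup G) = ⊥) (hL : CompIn L ⊤) {x : G} (h1 : x ∈ L) (h2 : x ∈ Ct(L)) : x = 1 :=
  (eq_bot_iff_forall _).1 hF x (hL.subn.Fit_le (center_le_Fit L (mem_inf.2 ⟨h1, h2⟩)))

theorem Lay_le_sup (hL : CompIn L ⊤) : Lay ⊤ ≤ L ⊔ Ct(L) :=
  hL.sup_LayNot.ge.trans (sup_le_sup_left (LayNot_le_centralizer hL.subn) _)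

theorem trL (h1 : stabilizer G α ≠ ⊥) (hL : CompIn L ⊤) (ω : Ω) : ∃ l ∈ L, ∃ c ∈ Ct(L), (l * c) • α = ω := by
  obtain ⟨g, rfl⟩ := exists_smul_eq G α ω
  obtain ⟨n, hn, a, ha, rfl⟩ := tr h1 (N := Lay ⊤) (fun e => hL.qs.ne_bot (le_bot_iff.1 (hL.le_Lay.trans e.le))) g
  obtain ⟨l, hl, c, hc, rfl⟩ := (mem_sup_of_le_normalizer' (Ct_le_Nm L)).1 (Lay_le_sup hL hn)
  exact ⟨l, hl, c, hc, by rw [mul_smul _ a, show a • α = α from ha]⟩

theorem dich (h1 : stabilizer G α ≠ ⊥) (hL : CompIn L ⊤) : (∀ l ∈ L, ∃ c ∈ Ct(L), l * c ∈ stabilizer G α) ∨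
    ∀ l ∈ L, ∀ c ∈ Ct(L), l * c ∈ stabilizer G α → l ∈ stabilizer G α := by
  obtain ⟨W, hW⟩ : ∃ W, W = L ⊔ Ct(L) := ⟨_, rfl⟩
  obtain ⟨Y, hY⟩ : ∃ Y, Y = (stabilizer G α ⊓ W) ⊔ Ct(L) := ⟨_, rfl⟩
  have o : ∀ g ∉ Nm(L), ∀ x ∈ L, g * x * g⁻¹ ∈ Ct(L) := fun g hg x hx =>
    (hL.cj_of_mem (le_normalizer (mem_top g))).le_centralizer_of_ne hL (mt cj_eq_self_iff.1 hg) (mem_map_of_mem _ hx)
  have y1 : Y ≤ W := hY ▸ sup_le inf_le_right (hW ▸ le_sup_right)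
  have y2 : Ct(L) ≤ Y := hY ▸ le_sup_right
  have y3 : stabilizer G α ⊓ W ≤ Y := hY ▸ le_sup_left
  let M : Subgroup G := ⨅ a : stabilizer G α, Y.comap (MulAut.conj (a : G)).toMonoidHom
  have m : ∀ x, x ∈ M ↔ ∀ a ∈ stabilizer G α, a * x * a⁻¹ ∈ Y := fun x => by simp [M, mem_iInf]
  have m1 : M ≤ Y := fun x hx => by simpa using (m x).1 hx 1 (one_mem _)
  have m2 : stabilizer G α ≤ Nm(M) := fun b hb => mem_normalizer_fintype fun x hx => (m _).2 fun a ha => by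
    have := (m x).1 hx _ (mul_mem ha hb)
    rwa [mul_inv_rev, ← mul_assoc, mul_assoc a b x, mul_assoc a] at this
  have m3 : L ⊓ Y ≤ M := fun x hx => (m x).2 fun a ha => by
    by_cases e : a ∈ Nm(L)
    · have e1 : zpowers a ≤ Nm(L) := zpowers_le.2 e
      have e2 : zpowers a ≤ Nm(Ct(L)) := le_normalizer_centralizer e1
      exact (mem_normalizer_iff.1 ((hY ▸ le_normalizer_sup (le_normalizer_inf ((zpowers_le.2 ha).trans le_normalizer)
        (hW ▸ le_normalizer_sup e1 e2)) e2 : zpowers a ≤ Nm(Y)) (mem_zpowers a)) x).1 (mem_inf.1 hx).2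
    · exact y2 (o a e x (mem_inf.1 hx).1)
  by_cases f : M ≤ stabilizer G α
  · exact Or.inr fun l hl c hc e => f (m3 (mem_inf.2 ⟨hl, (mul_mem_cancel_right (y2 hc)).1 (y3 (mem_inf.2 ⟨e,
      hW ▸ mul_mem (mem_sup_left hl) (mem_sup_right hc)⟩))⟩))
  have a5 := (gco h1).2 (M ⊔ stabilizer G α) (right_lt_sup.2 f)
  refine Or.inl fun l hl => ?_
  obtain ⟨x, hx, a, ha, rfl⟩ := (mem_sup_of_le_normalizer' m2).1 (a5.ge (mem_top l))
  have b1 : x * a ∈ Y := mul_mem (m1 hx) (y3 (mem_inf.2 ⟨ha, (mul_mem_cancel_left (y1 (m1 hx))).1 (hW ▸ mem_sup_left hl)⟩))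
  obtain ⟨d, hd, c, hc, f⟩ := (mem_sup_of_le_normalizer (le_normalizer_centralizer (inf_le_right.trans
    (hW ▸ sup_le le_normalizer (Ct_le_Nm L))))).1 (hY.le b1)
  exact ⟨c⁻¹, inv_mem hc, by rw [← f, mul_inv_cancel_right]; exact (mem_inf.1 hd).1⟩

theorem semireg (h1 : stabilizer G α ≠ ⊥) (hF : Fit (⊤ : Subgroup G) = ⊥) (hL : CompIn L ⊤)
    (hR : ∀ l ∈ L, ∃ c ∈ Ct(L), l * c ∈ stabilizer G α) : L ⊓ stabilizer G α = ⊥ :=
  (simp_L hF hL inf_le_left fun l hl => mem_normalizer_fintype fun x hx => by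
    obtain ⟨c, hc, e⟩ := hR l hl
    refine mem_inf.2 ⟨mul_mem (mul_mem hl (mem_inf.1 hx).1) (inv_mem hl), ?_⟩
    have := mul_mem (mul_mem e (mem_inf.1 hx).2) (inv_mem e)
    rwa [mul_assoc l, ← mem_Ct.1 hc x (mem_inf.1 hx).1, mul_inv_rev, ← mul_assoc, ← mul_assoc, mul_inv_cancel_right] at this
    ).resolve_left fun e => L_not_le h1 hL (e.ge.trans inf_le_right)

theorem conj_fix {t c l d : G} (ht : t ∈ L) (hc : c ∈ Ct(L)) (hl : l ∈ L) (hd : d ∈ Ct(L))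
    (h : (t * c) • (l * d) • α = (l * d) • α) : l⁻¹ * t * l * (d⁻¹ * c * d) ∈ stabilizer G α := by
  rw [← inv_smul_eq_iff, smul_smul, smul_smul] at h
  have e1 := mem_Ct.1 (inv_mem hd) _ (mul_mem (mul_mem (inv_mem hl) ht) hl)
  have e2 := mem_Ct.1 hc l hl
  have : l⁻¹ * t * l * (d⁻¹ * c * d) = (l * d)⁻¹ * (t * c) * (l * d) :=
    calc _ = l⁻¹ * t * l * d⁻¹ * c * d := by group
      _ = d⁻¹ * (l⁻¹ * t * (l * c)) * d := by rw [e1]; group
      _ = _ := by rw [e2]; group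
  rw [this]; exact h

/-- either `L` is semiregular or there is a coset of `C(L)` consisting of derangements -/
theorem der (h1 : stabilizer G α ≠ ⊥) (hF : Fit (⊤ : Subgroup G) = ⊥) (hL : CompIn L ⊤) (h : ¬ (L.Normal ∧ Ct(L) = ⊥)) :
    (∀ l ∈ L, l ≠ 1 → ∀ ω : Ω, l • ω ≠ ω) ∨ ∃ t ∈ L, t ≠ 1 ∧ (∀ c ∈ Ct(L), ∀ ω : Ω, (t * c) • ω ≠ ω) ∧
      ∃ K, CompIn K ⊤ ∧ K ≠ L := by
  have A : (∀ l ∈ L, ∃ c ∈ Ct(L), l * c ∈ stabilizer G α) → ∀ l ∈ L, l ≠ 1 → ∀ ω : Ω, l • ω ≠ ω := fun hR t ht e ω f => by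
    obtain ⟨l, hl, d, hd, rfl⟩ := trL h1 hL ω
    have := conj_fix ht (one_mem _) hl hd (by rwa [mul_one])
    rw [mul_one, inv_mul_cancel, mul_one] at this
    have := (eq_bot_iff_forall _).1 (semireg h1 hF hL hR) _ (mem_inf.2 ⟨mul_mem (mul_mem (inv_mem hl) ht) hl, this⟩)
    exact e (by rwa [mul_assoc, inv_mul_eq_one, eq_comm, mul_eq_right] at this)
  by_cases hn : L.Normal
  · refine Or.inl (A fun l hl => ?_)
    obtain ⟨c, hc, a, ha, f⟩ := tr h1 (mt (And.intro hn) h) l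
    refine ⟨c⁻¹, inv_mem hc, ?_⟩
    rwa [mem_Ct.1 (inv_mem hc) l hl, ← f, inv_mul_cancel_left]
  refine (dich h1 hL).imp A fun hP => ?_
  obtain ⟨t, ht⟩ : ∃ t : L, ∀ g : L, g⁻¹ * t * g ∉ (stabilizer G α).subgroupOf L := by
    by_contra e
    push Not at e
    exact L_not_le h1 hL (subgroupOf_eq_top.1 (jordan e))
  refine ⟨t, t.2, fun e => ht 1 (by simp [show t = 1 from Subtype.ext e]), fun c hc ω f => ?_, ?_⟩
  · obtain ⟨l, hl, d, hd, rfl⟩ := trL h1 hL ω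
    exact ht ⟨l, hl⟩ (hP _ (mul_mem (mul_mem (inv_mem hl) t.2) hl) _ (mul_mem (mul_mem (inv_mem hd) hc) hd)
      (conj_fix t.2 hc hl hd f))
  · by_contra e
    push Not at e
    exact hn (normal_of fun g _ => cj_eq_self_iff.1 (e _ (hL.cj_of_mem (le_normalizer (mem_top g)))))

theorem three (hL : QS L) (p q : ℕ) (hp : p.Prime) (hq : q.Prime) : ∃ x ∈ L, (orderOf x).Prime ∧ orderOf x ≠ p ∧ orderOf x ≠ q := by
  by_contra e
  push Not at e
  refine hL.not_isSolvable (Solv.isSolvable_of_primes_subset hp hq fun r hr h => ?_)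
  haveI := Fact.mk hr
  obtain ⟨x, h1, rfl⟩ := exists_mem_orderOf_eq h
  exact or_iff_not_imp_left.2 (e x h1 hr)

/-- the basic alternative for a primitive group -/
theorem ons [Nontrivial Ω] (α : Ω) : (∃ (N : Subgroup G) (r e : ℕ), r.Prime ∧ N.Normal ∧ N ≠ ⊥ ∧ El r e N ∧
      N ⊔ stabilizer G α = ⊤ ∧ ∀ ω : Ω, N ⊓ stabilizer G ω = ⊥) ∨
    (stabilizer G α ≠ ⊥ ∧ Fit (⊤ : Subgroup G) = ⊥ ∧ ∃ L : Subgroup G, CompIn L ⊤) := by
  have co := fun β : Ω => IsPreprimitive.isCoatom_stabilizer_of_isPreprimitive G β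
  have hc : ∀ β : Ω, (stabilizer G β).normalCore = ⊥ := fun β => normal_eq_bot (normalCore_le _)
  by_cases hF : Fit (⊤ : Subgroup G) = ⊥
  swap
  · rw [Fit_top] at hF
    obtain ⟨p, n, hp, h1, -, h2, -⟩ := fit (co α) (hc α) hF
    exact Or.inl ⟨_, p, n, hp, inferInstance, hF, h1, h2, fun ω => let ⟨_, _, _, _, _, _, h⟩ := fit (co ω) (hc ω) hF; h⟩
  have h1 : stabilizer G α ≠ ⊥ := fun e => by
    have hT : (⊤ : Subgroup G) ≠ ⊥ := fun f => (co α).1 (e.trans f.symm)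
    obtain ⟨x, -, hx⟩ := exists_prime_order_mem hT
    have := (co α).2 (zpowers x) (e ▸ bot_lt_iff_ne_bot.2 fun e => by
      rw [zpowers_eq_bot.1 e, orderOf_one] at hx; exact Nat.not_prime_one hx)
    exact Fit_ne_bot_of_isSolvable (this ▸ Solv.isSolvable_zpowers x) hT (SubnIn.refl _) hF
  refine Or.inr ⟨h1, hF, by_contra fun e => ?_⟩
  push Not at e
  exact h1 (le_bot_iff.1 (le_top.trans (eq_bot_of_Fstar_eq_bot (by rw [Fstar, Lay_eq_bot_iff.2 e, hF, sup_idem])).le))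

theorem simple_L (hF : Fit (⊤ : Subgroup G) = ⊥) (hL : CompIn L ⊤) : IsSimpleGroup L ∧ ¬ IsMulCommutative L := by
  refine ⟨?_, fun e => hL.qs.not_le_centralizer (comm_iff_le.1 e)⟩
  haveI := (nontrivial_iff_ne_bot L).2 hL.qs.ne_bot
  refine ⟨fun N _ => (simp_L hF hL (map_subtype_le N) (fun g hg => mem_normalizer_fintype (by
    rintro _ ⟨x, hx, rfl⟩; exact ⟨_, Normal.conj_mem ‹_› x hx ⟨g, hg⟩, rfl⟩))).symm.imp (fun e => ?_) fun e => ?_⟩
  · exact (Subgroup.map_eq_bot_iff_of_injective _ L.subtype_injective).1 e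
  · exact map_subtype_inj.1 (by rw [e, ← MonoidHom.range_eq_map, range_subtype])

theorem pretrans {N : Subgroup G} [N.Normal] (h : N ⊔ stabilizer G α = ⊤) : IsPretransitive N Ω := by
  have : ∀ ω : Ω, ∃ n : N, n • α = ω := fun ω => by
    obtain ⟨g, rfl⟩ := exists_smul_eq G α ω
    obtain ⟨n, hn, a, ha, rfl⟩ := mem_sup_of_normal_left.1 (h.ge (mem_top g))
    exact ⟨⟨n, hn⟩, by rw [mul_smul, show a • α = α from ha]; rfl⟩
  exact ⟨fun x y => by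
    obtain ⟨a, rfl⟩ := this x
    obtain ⟨b, rfl⟩ := this y
    exact ⟨b * a⁻¹, by rw [mul_smul, inv_smul_smul]⟩⟩

theorem stab_bot {N : Subgroup G} {ω : Ω} (h : N ⊓ stabilizer G ω = ⊥) : stabilizer N ω = ⊥ :=
  (eq_bot_iff_forall _).2 fun x hx => Subtype.ext ((eq_bot_iff_forall _).1 h x (mem_inf.2 ⟨x.2, hx⟩))

/-- uniqueness of the decomposition along two components -/
theorem decomp (hF : Fit (⊤ : Subgroup G) = ⊥) {A B C D : Subgroup G} (hA : CompIn A ⊤) (hB : CompIn B ⊤) (hC : CompIn C ⊤)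
    (hD : CompIn D ⊤) (h1 : A ≠ B) (h2 : C ≠ D) {a b c d : G} (ha : a ∈ A) (hb : b ∈ B) (hc : c ∈ C) (hd : d ∈ D)
    (a1 : a ≠ 1) (e : a * b = c * d) : a = c ∨ a = d := by
  have k : ∀ {C D : Subgroup G} {c d : G}, CompIn D ⊤ → c ∈ C → d ∈ D → a * b = c * d → A = C → C ≠ D → a = c :=
    fun {C D c d} hD hc hd e f g => by
      subst f
      refine inv_mul_eq_one.1 (inf_Ct hF hA (mul_mem (inv_mem ha) hc) ?_)
      rw [show a⁻¹ * c = b * d⁻¹ by rw [inv_mul_eq_iff_eq_mul, ← mul_assoc, e, mul_inv_cancel_right]]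
      exact mul_mem (hB.le_centralizer_of_ne hA h1.symm hb) (inv_mem (hD.le_centralizer_of_ne hA g.symm hd))
  by_cases f : A = C
  · exact Or.inl (k hD hc hd e f h2)
  by_cases g : A = D
  · exact Or.inr (k hC hd hc (e.trans (mem_Ct.1 (hD.le_centralizer_of_ne hC h2.symm hd) c hc)) g h2.symm)
  refine (a1 (inf_Ct hF hA ha ?_)).elim
  rw [← mul_inv_cancel_right a b, e]
  exact mul_mem (mul_mem (hC.le_centralizer_of_ne hA (Ne.symm f) hc) (hD.le_centralizer_of_ne hA (Ne.symm g) hd))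
    (inv_mem (hB.le_centralizer_of_ne hA h1.symm hb))

/-- three pairwise non-conjugate derangements -/
theorem three_der (h1 : stabilizer G α ≠ ⊥) (hF : Fit (⊤ : Subgroup G) = ⊥) (hL : CompIn L ⊤)
    (h : ¬ (L.Normal ∧ Ct(L) = ⊥)) : ∃ x y z : G, (∀ ω : Ω, x • ω ≠ ω) ∧ (∀ ω : Ω, y • ω ≠ ω) ∧ (∀ ω : Ω, z • ω ≠ ω) ∧
      ¬ IsConj x y ∧ ¬ IsConj x z ∧ ¬ IsConj y z := by
  have n1 : ∀ x : G, (orderOf x).Prime → x ≠ 1 := fun x hx e => by rw [e, orderOf_one] at hx; exact Nat.not_prime_one hx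
  have oc : ∀ g x : G, orderOf (g * x * g⁻¹) = orderOf x := fun g x => (MulAut.conj g).orderOf_eq x
  have tri : ∀ K : Subgroup G, QS K → ∃ x ∈ K, ∃ y ∈ K, ∃ z ∈ K, (orderOf x).Prime ∧ (orderOf y).Prime ∧ (orderOf z).Prime ∧
      orderOf x ≠ orderOf y ∧ orderOf x ≠ orderOf z ∧ orderOf y ≠ orderOf z := fun K hK => by
    obtain ⟨x, x1, x2, -⟩ := three hK 2 2 Nat.prime_two Nat.prime_two
    obtain ⟨y, y1, y2, y3, -⟩ := three hK _ _ x2 x2
    obtain ⟨z, z1, z2, z3, z4⟩ := three hK _ _ x2 y2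
    exact ⟨x, x1, y, y1, z, z1, x2, y2, z2, y3.symm, z3.symm, z4.symm⟩
  obtain hS | ⟨t, t1, t2, t3, K, hK, k1⟩ := der h1 hF hL h
  · obtain ⟨x, x1, y, y1, z, z1, x2, y2, z2, a, b, c⟩ := tri L hL.qs
    have : ∀ x y : G, orderOf x ≠ orderOf y → ¬ IsConj x y := fun x y e f => by
      obtain ⟨g, rfl⟩ := isConj_iff.1 f
      exact e (oc g x).symm
    exact ⟨x, y, z, hS x x1 (n1 x x2), hS y y1 (n1 y y2), hS z z1 (n1 z z2), this _ _ a, this _ _ b, this _ _ c⟩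
  · obtain ⟨x, x1, y, y1, z, z1, x2, y2, z2, a, b, c⟩ := tri K hK.qs
    have k2 := hK.le_centralizer_of_ne hL k1
    have : ∀ x ∈ K, ∀ y ∈ K, (orderOf x).Prime → (orderOf y).Prime → orderOf x ≠ orderOf y → ¬ IsConj (t * x) (t * y) :=
      fun x hx y hy px py e f => by
      obtain ⟨g, hg⟩ := isConj_iff.1 f
      rw [← conj_mul] at hg
      have c1 := hL.cj_of_mem (le_normalizer (mem_top g))
      have c2 := hK.cj_of_mem (le_normalizer (mem_top g))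
      have c3 : cj(g, L) ≠ cj(g, K) := fun e => k1 (map_injective (MulAut.conj g).injective e).symm
      have m1 : g * t * g⁻¹ ∈ cj(g, L) := mem_map_of_mem _ t1
      have m2 : g * x * g⁻¹ ∈ cj(g, K) := mem_map_of_mem _ hx
      obtain e1 | e1 := decomp hF c1 c2 hL hK c3 k1.symm m1 m2 t1 hy (fun e => t2 (by simpa using e)) hg
      · rw [e1, mul_right_inj] at hg
        exact e (by rw [← hg, oc])
      · rw [e1, mem_Ct.1 (k2 hy) t t1, mul_right_inj] at hg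
        exact e (by rw [← oc g x, hg, ← e1, oc])
    exact ⟨_, _, _, t3 x (k2 x1), t3 y (k2 y1), t3 z (k2 z1), this x x1 y y1 x2 y2 a, this x x1 z z1 x2 z2 b,
      this y y1 z z1 y2 z2 c⟩

end Cfsg.Agent.EP
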