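/-
Insoluble extremely primitive affine groups: a group acting on an abelian group with all
stabilizers of non-trivial vectors maximal and core-free.
-/
import Cfsg.Agent.Lib.BG.ONS

set_option autoImplicit false
set_option linter.unusedSectionVars false

namespace Cfsg.Agent.EP

open Subgroup Comp BG MulAction
open scoped commutatorElement Pointwise

universe u

variable {H : Type u} [Group H] [Finite H]

theorem via {U : Subgroup H} (hU : IsCoatom U) (hc : U.normalCore = ⊥) : ∃ (Ω : Type u) (_ : Finite Ω)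
    (_ : MulAction H Ω) (_ : FaithfulSMul H Ω) (_ : IsPreprimitive H Ω) (α : Ω), stabilizer H α = U := by
  haveI : Nontrivial (H ⧸ U) := QuotientGroup.nontrivial_iff.2 hU.1
  refine ⟨H ⧸ U, inferInstance, inferInstance, ⟨fun {a b} e => ?_⟩,
    (isCoatom_stabilizer_iff_preprimitive H _).1 ((stabilizer_quotient U).symm ▸ hU), _, stabilizer_quotient U⟩
  rw [normalCore_eq_ker, MonoidHom.ker_eq_bot_iff] at hc
  exact hc (Equiv.ext e)

theorem inv_ex (hs : ¬ Group.IsSolvable H) : ∃ t : H, t ≠ 1 ∧ t * t = 1 := by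
  obtain ⟨t, ht⟩ := exists_prime_orderOf_dvd_card' (G := H) 2 (by_contra fun h =>
    hs (PF.odd_solvable (Nat.odd_iff.2 (Nat.two_dvd_ne_zero.1 h))))
  exact ⟨t, fun e => by simp [e] at ht, by rw [← sq, ← ht, pow_orderOf_eq_one]⟩

variable {V : Type*} [CommGroup V] [Finite V] [MulDistribMulAction H V] (hs : ¬ Group.IsSolvable H)
  (hv : ∀ v : V, v ≠ 1 → IsCoatom (stabilizer H v) ∧ (stabilizer H v).normalCore = ⊥)
include hs hv

theorem st_ne {v : V} (h : v ≠ 1) : stabilizer H v ≠ ⊥ := fun e => by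
  have co := (hv v h).1
  have hT : (⊤ : Subgroup H) ≠ ⊥ := fun f => co.1 (e.trans f.symm)
  obtain ⟨x, -, hx⟩ := exists_prime_order_mem hT
  have := co.2 (zpowers x) (e ▸ bot_lt_iff_ne_bot.2 fun e => by
    rw [zpowers_eq_bot.1 e, orderOf_one] at hx; exact Nat.not_prime_one hx)
  haveI : IsCyclic H := (isCyclic_iff_exists_zpowers_eq_top).2 ⟨x, this⟩
  exact hs (Group.isSolvable_of_comm fun a b => (IsCyclic.isMulCommutative (α := H)).is_comm.comm a b)

theorem sq_one (n : V) : n * n = 1 := by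
  have A : ∀ t : H, t * t = 1 → ∀ m : V, t • (m * m) = m * m := fun t ht m => by
    by_contra e
    obtain ⟨v, f⟩ : ∃ v, v = m⁻¹ * t • m := ⟨_, rfl⟩
    have a1 : t • v = v⁻¹ := by rw [f, smul_mul', smul_smul, ht, one_smul, smul_inv', mul_inv_rev, inv_inv]
    have a2 : v⁻¹ ≠ v := fun g => e (by
      have : v * v = 1 := by nth_rw 1 [← g]; exact inv_mul_cancel v
      rw [f, mul_mul_mul_comm, ← mul_inv, inv_mul_eq_one] at this
      rw [smul_mul', ← this])
    have a3 : v ≠ 1 := fun g => a2 (by rw [g, inv_one])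
    let S : Subgroup H :=
      { carrier := {h | h • v = v ∨ h • v = v⁻¹}
        one_mem' := Or.inl (one_smul _ _)
        mul_mem' := by
          rintro a b (ha | ha) (hb | hb) <;> simp [mul_smul, ha, hb]
        inv_mem' := by
          rintro a (ha | ha)
          · exact Or.inl (inv_smul_eq_iff.2 ha.symm)
          · exact Or.inr (inv_smul_eq_iff.2 (by rw [smul_inv', ha, inv_inv])) }
    have a4 : S = ⊤ := (hv v a3).1.2 S (lt_of_le_of_ne (fun h hh => Or.inl hh) fun g =>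
      a2 (a1.symm.trans (show t ∈ stabilizer H v from g ▸ Or.inr a1)))
    haveI : (stabilizer H v).Normal := ⟨fun x hx g => by
      have hx' : x • v = v := hx
      show (g * x * g⁻¹) • v = v
      rw [mul_smul, mul_smul, ← eq_inv_smul_iff]
      obtain k | k : g⁻¹ • v = v ∨ g⁻¹ • v = v⁻¹ := a4.ge (mem_top g⁻¹)
      · rw [k, hx']
      · rw [k, smul_inv', hx']⟩
    exact st_ne hs hv a3 (by rw [← (hv v a3).2, normalCore_eq_self])
  by_contra e
  obtain ⟨t, h1, h2⟩ := inv_ex hs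
  exact h1 ((eq_bot_iff_forall _).1 (hv _ e).2 t fun b => A _ (by rw [conj_mul, h2, mul_one, mul_inv_cancel]) n)

theorem fix_inv [Nontrivial V] {t : H} (ht : t * t = 1) : ∃ v : V, v ≠ 1 ∧ t • v = v := by
  obtain ⟨v, h⟩ := _root_.exists_ne (1 : V)
  by_cases e : t • v = v
  · exact ⟨v, h, e⟩
  refine ⟨v * t • v, fun f => e ?_, by rw [smul_mul', smul_smul, ht, one_smul, mul_comm]⟩
  exact mul_left_cancel (f.trans (sq_one hs hv v).symm)

theorem fit_bot [Nontrivial V] : Fit (⊤ : Subgroup H) = ⊥ := by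
  by_contra e
  rw [Fit_top] at e
  obtain ⟨v, h⟩ := _root_.exists_ne (1 : V)
  obtain ⟨r, n, hr, h1, h2, -, -⟩ := fit (hv v h).1 (hv v h).2 e
  haveI := Fact.mk hr
  have a1 : ∀ a ∈ fittingSubgroup H, a ≠ 1 → ∀ w : V, a • w = w → w = 1 := fun a ha a1 w hw => by_contra fun f => by
    obtain ⟨-, -, -, -, -, -, h3⟩ := fit (hv w f).1 (hv w f).2 e
    exact a1 ((eq_bot_iff_forall _).1 h3 a (mem_inf.2 ⟨ha, hw⟩))
  have a2 : r ≠ 2 := by
    rintro rfl
    obtain ⟨x, x1, x2⟩ := exists_mem_orderOf_eq_of_isPGroup h1.isP e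
    obtain ⟨w, w1, w2⟩ := fix_inv hs hv (t := x) (by rw [← sq, ← x2, pow_orderOf_eq_one])
    exact w1 (a1 x x1 (fun f => by simp [f] at x2) w w2)
  have a3 : IsCyclic (fittingSubgroup H) := by
    by_contra f
    have hV : IsPGroup 2 V := fun w => ⟨1, by rw [pow_one, sq, sq_one hs hv]⟩
    have := Solv.eq_top_of_not_isCyclic h1.comm f ((MulDistribMulAction.toMulAut H V).comp (fittingSubgroup H).subtype)
      (card_top (G := V) ▸ IsPGroup.coprime_card_of_ne r 2 a2 _ _ h1.isP (hV.to_subgroup ⊤)) (L := ⊥)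
      fun a ha w hw => a1 a a.2 (fun g => ha (Subtype.ext g)) w hw
    exact h ((eq_bot_iff_forall _).1 this.symm v (mem_top v))
  have a4 := Solv.commutator_le_centralizer_of_isCyclic a3 (L := ⊤) le_normalizer_of_normal
  refine hs (Solv.isSolvable_of_normal_of_quotient (fittingSubgroup H) (isSolvable_of_le_centralizer h1.le_Ct) ?_)
  exact Group.isSolvable_of_comm (Normal.quotient_commutative_iff_commutator_le.2 (a4.trans h2.le)).is_comm.comm

theorem almost' [Nontrivial V] {L : Subgroup H} (hL : CompIn L ⊤) : L.Normal ∧ Ct(L) = ⊥ := by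
  have hF := fit_bot hs hv
  have sq1 := sq_one hs hv
  have D : ∀ v : V, v ≠ 1 → ((∀ l ∈ L, ∃ c ∈ Ct(L), l * c ∈ stabilizer H v) ∧ L ⊓ stabilizer H v = ⊥) ∨
      ∀ l ∈ L, ∀ c ∈ Ct(L), l * c ∈ stabilizer H v → l ∈ stabilizer H v := fun v h => by
    obtain ⟨Ω, _, _, _, _, α, e⟩ := via (hv v h).1 (hv v h).2
    have h1 := st_ne hs hv h
    rw [← e] at h1 ⊢
    exact (dich h1 hL).imp_left fun f => ⟨f, semireg h1 hF hL f⟩
  have T : ∀ v : V, v ≠ 1 → ∀ N : Subgroup H, N.Normal → N ≠ ⊥ → ∀ g, ∃ n ∈ N, ∃ m ∈ stabilizer H v, n * m = g :=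
    fun v h N _ hN g => by
    obtain ⟨Ω, _, _, _, _, α, e⟩ := via (hv v h).1 (hv v h).2
    have h1 := st_ne hs hv h
    rw [← e] at h1 ⊢
    exact tr h1 hN g
  have I : ∀ v : V, v ≠ 1 → ∀ K : Subgroup H, CompIn K ⊤ → ∃ l ∈ K, l * l = 1 ∧ l ∉ stabilizer H v := fun v h K hK => by
    obtain ⟨Ω, _, _, _, _, α, e⟩ := via (hv v h).1 (hv v h).2
    have h1 := st_ne hs hv h
    rw [← e] at h1 ⊢
    by_contra f
    push Not at f
    exact L_not_le h1 hK ((gen hF hK Nat.prime_two (by_contra fun h => hK.qs.not_isSolvable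
      (PF.odd_solvable (Nat.odd_iff.2 (Nat.two_dvd_ne_zero.1 h))))).ge.trans ((closure_le _).2 fun s h => f s h.1 (sq s ▸ h.2)))
  obtain ⟨v0, h0⟩ := _root_.exists_ne (1 : V)
  have E : ∀ K : Subgroup H, CompIn K ⊤ → ∃ v : V, v ≠ 1 ∧ K ⊓ stabilizer H v ≠ ⊥ := fun K hK => by
    obtain ⟨l, l1, l2, l3⟩ := I v0 h0 K hK
    obtain ⟨v, v1, v2⟩ := fix_inv hs hv l2
    exact ⟨v, v1, fun e => l3 ((eq_bot_iff_forall _).1 e l (mem_inf.2 ⟨l1, v2⟩) ▸ one_mem _)⟩
  by_cases hn : L.Normal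
  · refine ⟨hn, by_contra fun e => ?_⟩
    obtain ⟨v, v1, v2⟩ := E L hL
    obtain ⟨l, l1, -, l3⟩ := I v v1 L hL
    obtain ⟨c, hc, a, ha, f⟩ := T v v1 Ct(L) inferInstance e l
    exact l3 (((D v v1).resolve_left fun e => v2 e.2) l l1 c⁻¹ (inv_mem hc) (by
      rwa [mem_Ct.1 (inv_mem hc) l l1, ← f, inv_mul_cancel_left]))
  exfalso
  obtain ⟨h, hh⟩ : ∃ h, h ∉ Nm(L) := by
    by_contra e
    push Not at e
    exact hn (normal_of fun g _ => e g)
  obtain ⟨K, eK⟩ : ∃ K, K = cj(h, L) := ⟨_, rfl⟩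
  have hK : CompIn K ⊤ := eK ▸ hL.cj_of_mem (le_normalizer (mem_top h))
  have KL : K ≤ Ct(L) := hK.le_centralizer_of_ne hL (eK ▸ mt cj_eq_self_iff.1 hh)
  have lay : Lay (⊤ : Subgroup H) ≠ ⊥ := fun e => hL.qs.ne_bot (le_bot_iff.1 (hL.le_Lay.trans e.le))
  have nl : (Lay (⊤ : Subgroup H)).Normal := normal_of (le_normalizer_Lay_self ⊤)
  have P : ∀ v : V, v ≠ 1 → K ⊓ stabilizer H v ≠ ⊥ → L ⊓ stabilizer H v ≠ ⊥ := fun v v1 v2 e => v2 (by
    obtain ⟨n, hn, m, hm, rfl⟩ := T v v1 _ nl lay h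
    have : K = cj(m, L) := by
      rw [← cj_eq_self_iff.2 (hK.Lay_le_normalizer (inv_mem hn)), eK, ← cj_mul, inv_mul_cancel_left]
    rw [this, ← cj_eq_self_of_mem hm, ← cj_inf, e, Subgroup.map_bot])
  have P' : ∀ v : V, v ≠ 1 → K ⊓ stabilizer H v ≠ ⊥ → ∀ l ∈ L, ∀ c ∈ Ct(L), l * c ∈ stabilizer H v →
      l ∈ stabilizer H v := fun v v1 v2 => (D v v1).resolve_left fun e => P v v1 v2 e.2
  obtain ⟨v, ⟨v1, v2⟩, v3⟩ := Set.exists_max_image {v : V | v ≠ 1 ∧ K ⊓ stabilizer H v ≠ ⊥}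
    (fun v => Nat.card (K ⊓ stabilizer H v : Subgroup H)) (Set.toFinite _) (E K hK)
  obtain ⟨l, l1, l2, l3⟩ := I v v1 L hL
  obtain ⟨k, k1, k2, k3⟩ := I v v1 K hK
  have cm : ∀ x ∈ L, ∀ y ∈ Ct(L), ∀ w : V, x • y • w = y • x • w := fun x hx y hy w => by
    rw [smul_smul, smul_smul, mem_Ct.1 hy x hx]
  have nz : ∀ (a : H) (w : V), a ∉ stabilizer H w → w * a • w ≠ 1 := fun a w ha f =>
    ha (mul_left_cancel (f.trans (sq1 w).symm))
  have fx : ∀ a ∈ L, ∀ w : V, stabilizer H w ⊓ K ≤ stabilizer H (a • w) := fun a ha w x hx => by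
    show x • a • w = a • w
    rw [← cm a ha x (KL (mem_inf.1 hx).2), show x • w = w from (mem_inf.1 hx).1]
  obtain ⟨w, ew⟩ : ∃ w, w = v * (l * k) • v := ⟨_, rfl⟩
  have w1 : w ≠ 1 := ew ▸ nz _ _ fun e => l3 (P' v v1 v2 l l1 k (KL k1) e)
  have w2 : l * k ∈ stabilizer H w := by
    show (l * k) • w = w
    rw [ew, smul_mul', smul_smul, mul_assoc, ← mul_assoc k, ← mem_Ct.1 (KL k1) l l1, mul_assoc, k2, mul_one, l2, one_smul,
      mul_comm]
  have w3 : l ∉ stabilizer H w := fun e => by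
    have u1 := nz l v l3
    have u2 : K ⊓ stabilizer H v ≤ K ⊓ stabilizer H (v * l • v) := fun x hx => mem_inf.2 ⟨(mem_inf.1 hx).1, by
      show x • (v * l • v) = _
      rw [smul_mul', show x • v = v from (mem_inf.1 hx).2,
        show x • l • v = l • v from fx l l1 v (mem_inf.2 ⟨(mem_inf.1 hx).2, (mem_inf.1 hx).1⟩)]⟩
    have u3 := eq_of_le_of_card_ge u2 (v3 _ ⟨u1, fun f => v2 (le_bot_iff.1 (u2.trans f.le))⟩)
    refine k3 (mem_inf.1 (u3.ge (mem_inf.2 ⟨k1, ?_⟩))).2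
    have e' : l • w = w := e
    rw [ew, smul_mul', smul_smul, ← mul_assoc, l2, one_mul, mul_smul, cm l l1 k (KL k1)] at e'
    show k • (v * l • v) = _
    rw [smul_mul']
    generalize k • l • v = d at e'
    calc _ = (v * v) * (k • v * d) := by rw [sq1, one_mul]
      _ = v * k • v * (v * d) := by ac_rfl
      _ = v * l • v * (k • v * k • v) := by rw [← e']; ac_rfl
      _ = _ := by rw [sq1, mul_one]
  obtain ⟨w4, w5⟩ := (D w w1).resolve_right fun e => w3 (e l l1 k (KL k1) w2)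
  have R2 : ∀ r ∈ L ⊓ stabilizer H v, r * r = 1 := fun r hr => by_contra fun e => by
    obtain ⟨r1, r2⟩ := mem_inf.1 hr
    have r3 : r ∉ stabilizer H w := fun f => e (by rw [(eq_bot_iff_forall _).1 w5 r (mem_inf.2 ⟨r1, f⟩), one_mul])
    obtain ⟨c, hc, f⟩ := w4 r r1
    have z1 := nz r w r3
    have z2 : r * c ∈ stabilizer H (w * r • w) := by
      show (r * c) • (w * r • w) = _
      rw [smul_mul', mul_smul r c (r • w), ← cm r r1 c hc, ← mul_smul r c, show (r * c) • w = w from f]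
    have z3 : w * r • w = l • k • v * (r * l) • k • v := by
      rw [ew, smul_mul', show r • v = v from r2, mul_mul_mul_comm, sq1, one_mul, mul_smul, mul_smul]
    have z4 : K ⊓ stabilizer H (w * r • w) ≠ ⊥ := fun g => v2 (by
      have : cj(k, K ⊓ stabilizer H v) ≤ K ⊓ stabilizer H (w * r • w) := fun x hx => by
        rw [mem_cj, mem_inf, mul_mem_cancel_right k1, mul_mem_cancel_left (inv_mem k1)] at hx
        have y : x ∈ stabilizer H (k • v) ⊓ K := mem_inf.2 ⟨by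
          have : (k⁻¹ * x * k) • v = v := hx.2
          rwa [mul_smul, mul_smul, inv_smul_eq_iff] at this, hx.1⟩
        refine mem_inf.2 ⟨hx.1, ?_⟩
        show x • _ = _
        rw [z3, smul_mul', show x • l • k • v = _ from fx l l1 _ y,
          show x • (r * l) • k • v = _ from fx _ (mul_mem r1 l1) _ y]
      exact (Subgroup.map_eq_bot_iff_of_injective _ (MulAut.conj k).injective).1 (le_bot_iff.1 (this.trans g.le)))
    have z5 : r • (w * r • w) = w * r • w := P' _ z1 z4 r r1 c hc z2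
    rw [smul_mul', mul_comm, mul_left_inj, smul_smul] at z5
    exact e ((eq_bot_iff_forall _).1 w5 _ (mem_inf.2 ⟨mul_mem r1 r1, z5⟩))
  obtain ⟨R, eR⟩ : ∃ R, R = L ⊓ stabilizer H v := ⟨_, rfl⟩
  have R0 : R ≠ ⊥ := eR ▸ P v v1 v2
  have RL : R ≤ L := eR ▸ inf_le_left
  rw [← eR] at R2
  have RN : L ⊓ Nm(R) ≤ R := fun n hn => by
    obtain ⟨n1, n2⟩ := mem_inf.1 hn
    have b1 : stabilizer H v ≤ Nm(Lay ⊤ ⊓ stabilizer H v) := Comp.le_normalizer_inf le_normalizer_of_normal le_normalizer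
    obtain e | e := (hv v v1).1.le_iff.1 b1
    · haveI := normal_of e.ge
      exact (R0 (le_bot_iff.1 (((le_inf (RL.trans hL.le_Lay) (eR ▸ inf_le_right)).trans
        (normal_le_normalCore.2 inf_le_right)).trans (hv v v1).2.le))).elim
    refine eR ▸ mem_inf.2 ⟨n1, e.le (mem_normalizer_fintype fun x hx => ?_)⟩
    obtain ⟨x1, x2⟩ := mem_inf.1 hx
    refine mem_inf.2 ⟨nl.conj_mem x x1 n, ?_⟩
    obtain ⟨a, ha, c, hc, rfl⟩ := (mem_sup_of_le_normalizer' (Ct_le_Nm L)).1 (Lay_le_sup hL x1)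
    have a1 := P' v v1 v2 a ha c hc x2
    have a2 : n * a * n⁻¹ ∈ R := (mem_normalizer_iff.1 n2 a).1 (eR ▸ mem_inf.2 ⟨ha, a1⟩)
    rw [← mul_assoc, mul_assoc _ c, ← mem_Ct.1 hc _ (inv_mem n1), ← mul_assoc]
    exact mul_mem (mem_inf.1 (eR ▸ a2)).2 ((mul_mem_cancel_left a1).1 x2)
  have RP : IsPGroup 2 R := fun x => ⟨1, Subtype.ext (by rw [pow_one, sq]; exact R2 x x.2)⟩
  have RC : R ≤ Ct(R) := fun x hx => mem_Ct.2 fun y hy => by
    have i : ∀ x ∈ R, x⁻¹ = x := fun x hx => inv_eq_of_mul_eq_one_right (R2 x hx)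
    rw [← i _ (mul_mem hy hx), mul_inv_rev, i x hx, i y hy]
  have RS : SylIn 2 R L := ⟨RL, RP, fun Q h1 h2 h3 => by_contra fun e =>
    (lt_inf_normalizer_of_isPGroup h1 (lt_of_le_of_ne h2 (Ne.symm e))).not_ge ((inf_le_inf_right _ h3).trans RN)⟩
  refine not_dvd_commutator_of_hasNPC (hasNPC_of_le_Ct RS (RN.trans RC)) RS (comm_iff_le.2 RC) ?_
  rw [hL.qs.perfect]
  exact by_contra fun h => hL.qs.not_isSolvable (PF.odd_solvable (Nat.odd_iff.2 (Nat.two_dvd_ne_zero.1 h)))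

end Cfsg.Agent.EP
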