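/-
Bender-Glauberman 4.9, 4.11, 4.12, 4.15, 4.16, 5.5(c).
-/
import Cfsg.Agent.Lib.BG.Sec5

set_option autoImplicit false
set_option linter.unusedSectionVars false

namespace Cfsg.Agent.BG

open Subgroup Comp
open scoped commutatorElement

universe u

variable {G : Type u} [Group G] [Finite G] {p : ℕ}

section
variable {K N R T Z S A C : Subgroup G}

theorem comm_of_gen2 {a b : G} (h : Z ⊔ zpowers a ⊔ zpowers b = R) (hZ : Z ≤ Ct(R))
    (hab : Commute a b) : R ≤ Ct(R) := by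
  have ha : a ∈ R := h ▸ mem_sup_left (mem_sup_right (mem_zpowers a))
  have hb : b ∈ R := h ▸ mem_sup_right (mem_zpowers b)
  have h1 : ∀ x ∈ R, Commute a x → Commute b x → zpowers x ≤ Ct(R) := fun x hx c d => by
    rw [← h, centralizer_sup, centralizer_sup, centralizer_zpowers, centralizer_zpowers]
    exact zpowers_le_of_mem ⟨⟨le_Ct_comm.1 hZ hx, mem_C1.2 c⟩, mem_C1.2 d⟩
  exact h.ge.trans (sup_le (sup_le hZ (h1 a ha (.refl a) hab.symm)) (h1 b hb hab (.refl b)))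

theorem der_le_of_gen2 {a b : G} (hn : R ≤ Nm(N)) (h : Z ⊔ zpowers a ⊔ zpowers b = R)
    (hZ : ⁅Z, R⁆ ≤ N) (hab : ⁅a, b⁆ ∈ N) : ⁅R, R⁆ ≤ N := by
  have hZR : Z ≤ R := h ▸ le_sup_left.trans le_sup_left
  have ha : a ∈ R := h ▸ mem_sup_left (mem_sup_right (mem_zpowers a))
  have hb : b ∈ R := h ▸ mem_sup_right (mem_zpowers b)
  refine (img_le_centralizer_iff (h := hn) le_rfl le_rfl).1 (comm_of_gen2 (Z := img hn Z)
    (a := qmap hn ⟨a, ha⟩) (b := qmap hn ⟨b, hb⟩) ?_ ((img_le_centralizer_iff hZR le_rfl).2 hZ) ?_)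
  · rw [← img_zpowers, ← img_zpowers, ← img_sup hZR (zpowers_le_of_mem ha),
      ← img_sup (sup_le hZR (zpowers_le_of_mem ha)) (zpowers_le_of_mem hb), h]
  · rw [← commutatorElement_eq_one_iff_commute, ← map_commutatorElement, qmap_eq_one]
    exact hab

theorem der_le_of_gen1 {a : G} (hn : R ≤ Nm(N)) (h : Z ⊔ zpowers a = R) (hZ : ⁅Z, R⁆ ≤ N) :
    ⁅R, R⁆ ≤ N :=
  der_le_of_gen2 (b := a) hn (by rw [sup_assoc, sup_idem, h]) hZ (by simp)

/-- the subgroup generated by the `n`-th powers -/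
def Mho (n : ℕ) (K : Subgroup G) : Subgroup G := closure {x | ∃ y ∈ K, y ^ n = x}

theorem pow_mem_Mho {n : ℕ} {x : G} (h : x ∈ K) : x ^ n ∈ Mho n K := subset_closure ⟨x, h, rfl⟩

theorem Mho_le_iff {n : ℕ} : Mho n K ≤ T ↔ ∀ x ∈ K, x ^ n ∈ T :=
  ⟨fun h _ hx => h (pow_mem_Mho hx), fun h => (closure_le _).2 fun _ ⟨y, a, b⟩ => b ▸ h y a⟩

theorem Mho_le (n : ℕ) (K : Subgroup G) : Mho n K ≤ K := Mho_le_iff.2 fun _ hx => pow_mem hx n

theorem le_normalizer_Mho {n : ℕ} (h : A ≤ Nm(K)) : A ≤ Nm(Mho n K) :=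
  le_normalizer_of_cj_le fun g hg => cj_le_iff.2 (Mho_le_iff.2 fun x hx => by
    rw [← inv_mul_cancel_left g (x ^ n), ← mul_inv_cancel_right (g * x ^ n) g⁻¹, ← mul_assoc,
      conj_mem_cj, ← conj_pow]
    exact pow_mem_Mho (conj_mem_of_mem_normalizer (h hg) hx))

theorem card_le_of_pow_hom {n : ℕ} (h : ∀ x ∈ K, ∀ y ∈ K, (x * y) ^ n = x ^ n * y ^ n) :
    Nat.card K ≤ Nat.card (omegaOne n K) * Nat.card (Mho n K) := by
  let f : K →* G := MonoidHom.mk' (fun x => (x : G) ^ n) fun x y => h x x.2 y y.2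
  rw [← f.ker.card_mul_index, index_ker, ← card_map_subtype]
  refine Nat.mul_le_mul (card_le_of_le ?_) (card_le_of_le ?_)
  · rintro _ ⟨x, hx, rfl⟩
    exact mem_omegaOne x.2 hx
  · rintro _ ⟨x, rfl⟩
    exact pow_mem_Mho x.2

theorem pow_mem_Ct_of_pow_hom {n : ℕ} (h : ∀ x ∈ K, ∀ y ∈ K, (x * y) ^ n = x ^ n * y ^ n)
    (he : ∀ w ∈ ⁅K, K⁆, w ^ n = 1) {x : G} (hx : x ∈ K) : x ^ n ∈ Ct(K) := mem_Ct.2 fun y hy => by
  have := h _ (der_le K (commutator_mem_commutator hy hx)) x hx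
  rw [he _ (commutator_mem_commutator hy hx), one_mul, commutatorElement_def, inv_mul_cancel_right,
    conj_pow] at this
  exact mul_inv_eq_iff_eq_mul.1 this

variable [hp : Fact p.Prime]

theorem exists_gen2 (hR : IsPGroup p R) (h1 : Z ≤ R) (h : Nat.card R ≤ p ^ 2 * Nat.card Z) :
    ∃ a b, Z ⊔ zpowers a ⊔ zpowers b = R := by
  have key : ∀ Y, Y ≤ R → ∃ a, Y ⊔ zpowers a ≤ R ∧
      (Y ⊔ zpowers a = R ∨ p * Nat.card Y ≤ Nat.card (Y ⊔ zpowers a : Subgroup G)) := fun Y hY => by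
    rcases hY.eq_or_lt with e | e
    · exact ⟨1, by simpa, Or.inl (by simpa)⟩
    obtain ⟨a, b, c⟩ := SetLike.exists_of_lt e
    have d := sup_le hY (zpowers_le_of_mem b)
    exact ⟨a, d, Or.inr (mul_card_le_of_lt (hR.to_le d) (left_lt_sup.2 fun f => c (f (mem_zpowers a))))⟩
  obtain ⟨a, h2, h3⟩ := key Z h1
  obtain ⟨b, h4, h5⟩ := key _ h2
  refine ⟨a, b, h5.elim id fun e => h3.elim (fun f => le_antisymm h4 (f.ge.trans le_sup_left))
    fun f => eq_of_le_of_card_ge h4 (h.trans (le_trans ?_ e))⟩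
  rw [sq, mul_assoc]
  exact Nat.mul_le_mul_left _ f

theorem der_le_of_relIndex_le (hR : IsPGroup p R) (hn : R ≤ Nm(N)) (h : N.relIndex R ≤ p ^ 2) :
    ⁅R, R⁆ ≤ N :=
  (comm_img_iff (h := hn) le_rfl).1 (comm_of_card_le (isPGroup_img hR) (by rwa [card_img le_rfl]))

theorem exists_exp_card_three (h3 : 3 < p) (hR : IsPGroup p R)
    (h : ¬ Nat.card (omegaOne p R) ≤ p ^ 2) : ∃ K, K ≤ R ∧ Nat.card K = p ^ 3 ∧ ∀ x ∈ K, x ^ p = 1 := by
  by_cases hr : prank p R ≤ 2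
  · exact ⟨_, omegaOne_le p R, card_eq_pow_of_le (hR.to_le (omegaOne_le p R))
      (card_omegaOne_le_of_prank_le_two h3 hR hr) h, pow_eq_one_of_prank_le_two h3 hR hr⟩
  · obtain ⟨K, a, b⟩ := exists_el_of_le_prank (not_le.1 hr)
    exact ⟨K, a, b.card, fun _ => b.pow⟩

theorem pow_three_le_card_omegaOne (h3 : 3 < p) (hK : IsPGroup p K) (h1 : T ≤ K) (hn : K ≤ Nm(T))
    (hT : Nat.card T = p) (hi : T.relIndex K = p ^ 3) (he : ∀ x ∈ K, x ^ p ∈ T) :
    p ^ 3 ≤ Nat.card (omegaOne p K) := by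
  have hc := Solv.card_mul_relIndex h1
  rw [hT, hi] at hc
  have hp1 := hp.out.one_lt
  obtain ⟨E, a, b, c⟩ := exists_normal_el_two (by omega) hK le_rfl le_normalizer fun h => by
    obtain ⟨x, hx, h4⟩ := Solv.isCyclic_iff_exists_le_zpowers.1 h
    have := card_le_of_le h4
    rw [Nat.card_zpowers, ← hc] at this
    have h5 : orderOf x ∣ p * p := orderOf_dvd_of_pow_eq_one (by
      rw [pow_mul, ← Solv.pow_card_eq_one_of_mem (he x hx), hT])
    have := this.trans (Nat.le_of_dvd (by positivity) h5)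
    have := Nat.pow_lt_pow_right hp1 (show 1 < 3 by omega)
    nlinarith
  have h4 : ⁅K, K⁆ ≤ E := der_le_of_relIndex_le hK c (by
    have := Solv.card_mul_relIndex a
    rw [b.card, ← hc, show p * p ^ 3 = p ^ 2 * p ^ 2 by ring] at this
    exact (Nat.eq_of_mul_eq_mul_left (by positivity) this).le)
  have h5 := card_le_of_pow_hom fun x hx y hy => mul_pow_of_der_class3 h3
    ((commutator_mono h4 le_rfl).trans (commutator_le_Ct_of_card_le hK b.isP c b.card.le))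
    (fun w hw => b.pow (h4 hw)) hx hy
  have h6 := card_le_of_le (Mho_le_iff.2 he)
  rw [hT] at h6
  rw [← hc, mul_comm] at h5
  exact Nat.le_of_mul_le_mul_right (h5.trans (Nat.mul_le_mul_left _ h6)) hp.out.pos

theorem card_omegaOne_aux (h3 : 3 < p) (n : ℕ) : ∀ {G : Type u} [Group G] [Finite G]
    {R N K : Subgroup G}, Nat.card N ≤ n → IsPGroup p R → Nat.card (omegaOne p R) ≤ p ^ 2 →
    N ≤ K → K ≤ R → R ≤ Nm(N) → N.relIndex K = p ^ 3 → ¬ ∀ x ∈ K, x ^ p ∈ N := by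
  have hl : ¬ p ^ 3 ≤ p ^ 2 := (Nat.pow_lt_pow_right hp.out.one_lt (by omega)).not_ge
  induction n with
  | zero => exact fun h => absurd h (Nat.card_pos).not_ge
  | succ n ih =>
  intro G _ _ R N K hn hR ho h1 h2 h4 hi he
  by_cases h0 : N = ⊥
  · rw [h0, relIndex_bot_left] at hi
    exact hl (hi ▸ (card_le_of_le (le_omegaOne h2 fun x hx => mem_bot.1 (h0 ▸ he x hx))).trans ho)
  have hN := hR.to_le (h1.trans h2)
  obtain ⟨Z, a, b, hq⟩ := Solv.exists_normal_card hR.isNilpotent hN (h1.trans h2) h4 1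
    (by rw [pow_one]; exact le_card_of_ne_bot hN h0)
  rw [pow_one] at b
  have hZR := a.trans (h1.trans h2)
  refine ih (R := img hq R) (N := img hq N) (K := img hq K) ?_ (isPGroup_img hR) (by_contra fun h => ?_)
    (img_mono h1) (img_mono h2) (img_le_normalizer h4) (by rwa [relIndex_img (h1.trans h2) h2 a]) ?_
  · have := card_img_mul (h := hq) (h1.trans h2)
    rw [inf_eq_right.2 a, b] at this
    nlinarith [Nat.card_pos (α := img hq N)]
  · obtain ⟨L, -, d, e⟩ := exists_exp_card_three h3 (isPGroup_img hR) h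
    refine hl ((pow_three_le_card_omegaOne h3 (hR.to_le (pre_le L)) (ker_le_pre hZR L)
      ((pre_le L).trans hq) b (by rw [relIndex_ker_pre, d]) fun x hx => ?_).trans
      ((card_le_of_le (omegaOne_mono (pre_le L))).trans ho))
    obtain ⟨f, g⟩ := mem_pre.1 hx
    have := e _ g
    rwa [← map_pow, qmap_eq_one] at this
  · intro x hx
    obtain ⟨y, f, rfl⟩ := mem_img.1 hx
    rw [← map_pow]
    exact qmap_mem_img (he y f)

/-- BG 4.9 -/
theorem card_omegaOne_map_le {G' : Type u} [Group G'] [Finite G'] (f : G →* G') (h3 : 3 < p)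
    (hR : IsPGroup p R) (ho : Nat.card (omegaOne p R) ≤ p ^ 2) :
    Nat.card (omegaOne p (R.map f)) ≤ p ^ 2 := by_contra fun h => by
  obtain ⟨K, a, b, c⟩ := exists_exp_card_three h3 (hR.map f) h
  refine card_omegaOne_aux h3 _ (N := R ⊓ f.ker) (K := R ⊓ K.comap f) le_rfl hR ho
    (inf_le_inf_left _ (ker_le_comap f K)) inf_le_left
    (le_normalizer_inf le_normalizer le_normalizer_of_normal) ?_ fun x hx =>
    ⟨pow_mem hx.1 p, (map_pow f x p).trans (c _ hx.2)⟩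
  rw [relIndex_congr_inf (B := f.ker) (by rw [inf_left_comm, ← inf_assoc, ← inf_assoc, inf_idem]),
    relIndex_ker, ← b]
  exact congrArg (fun X : Subgroup G' => Nat.card X) (le_antisymm (map_le_iff_le_comap.2 inf_le_right)
    fun y hy => let ⟨x, c, d⟩ := a hy; ⟨x, ⟨c, mem_comap.2 (d ▸ hy)⟩, d⟩)

theorem card_omegaOne_img_le {M : Subgroup G} {hq : M ≤ Nm(N)} (h3 : 3 < p) (hR : IsPGroup p R)
    (h1 : R ≤ M) (ho : Nat.card (omegaOne p R) ≤ p ^ 2) : Nat.card (omegaOne p (img hq R)) ≤ p ^ 2 :=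
  card_omegaOne_map_le _ h3 hR.comap_subtype (by
    rwa [← subgroupOf_omegaOne h1, card_subgroupOf ((omegaOne_le p R).trans h1)])

/-- metacyclic subgroups -/
def Meta (R : Subgroup G) : Prop := ∃ a b : G, b ∈ Nm(zpowers a) ∧ zpowers a ⊔ zpowers b = R

omit hp in
theorem meta_of_img (hq : R ≤ Nm(S)) (h1 : S ≤ R) (hS : IsCyclic S) (h : IsCyclic (img hq R)) :
    Meta R := by
  obtain ⟨a, b, c⟩ := Solv.isCyclic_iff_exists_le_zpowers.1 hS
  obtain rfl : S = zpowers a := le_antisymm c (zpowers_le_of_mem b)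
  obtain ⟨x, d, e⟩ := (isCyclic_img_iff le_rfl h1).1 h
  exact ⟨a, x, hq d, le_antisymm (sup_le h1 (zpowers_le_of_mem d)) (e.trans (sup_comm _ _).le)⟩

omit hp in
theorem der_le_zpowers {a b : G} (h : b ∈ Nm(zpowers a)) (h1 : zpowers a ⊔ zpowers b = R) :
    ⁅R, R⁆ ≤ zpowers a :=
  have hn : R ≤ Nm(zpowers a) := h1.ge.trans (sup_le le_normalizer (zpowers_le_of_mem h))
  der_le_of_gen1 hn h1 (commutator_le_left_of_le_normalizer hn)

omit hp in
theorem Meta.isCyclic_der (h : Meta R) : IsCyclic (⁅R, R⁆ : Subgroup G) :=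
  let ⟨_, _, c, d⟩ := h
  isCyclic_of_le (der_le_zpowers c d) inferInstance

omit hp in
theorem meta_iff : Meta R ↔ IsMetacyclic R := by
  refine ⟨fun ⟨a, b, c, d⟩ => ?_, fun ⟨N, hN, c, d⟩ => ?_⟩
  · have hn : R ≤ Nm(zpowers a) := d.ge.trans (sup_le le_normalizer (zpowers_le_of_mem c))
    refine ⟨(zpowers a).subgroupOf R, normal_subgroupOf_of_le_normalizer hn,
      isCyclic_subgroupOf inferInstance R, ?_⟩
    have := (isCyclic_img_iff (h := hn) le_rfl (d ▸ le_sup_left)).2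
      ⟨b, d ▸ mem_sup_right (mem_zpowers b), ((sup_comm _ _).trans d).ge⟩
    rw [img_top] at this
    exact (Solv.isCyclic_top_iff (G := Quo hn)).1 this
  · obtain ⟨N', h1, rfl⟩ : ∃ N' : Subgroup G, N' ≤ R ∧ N'.subgroupOf R = N :=
      ⟨N.map R.subtype, map_subtype_le _, subgroupOf_map_subtype_self N⟩
    have hn := (normal_subgroupOf_iff_le_normalizer h1).1 hN
    refine meta_of_img hn h1 ((isCyclic_subgroupOf_iff h1).1 c) ?_
    rw [img_top]
    exact Solv.isCyclic_top_iff.2 d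

theorem card_img_omegaOne_le {M : Subgroup G} (hq : M ≤ Nm(S)) (hR : IsPGroup p R) (h1 : S ≤ R)
    (h2 : R ≤ M) (h0 : S ≠ ⊥) (ho : Nat.card (omegaOne p R) ≤ p ^ 2) :
    Nat.card (img hq (omegaOne p R)) ≤ p := by
  have a := card_img_mul (h := hq) ((omegaOne_le p R).trans h2)
  have b := le_card_of_ne_bot (hR.to_le (inf_le_right.trans h1 : omegaOne p R ⊓ S ≤ R)) fun e =>
    omegaOne_ne_bot (dvd_card_of_isPGroup (hR.to_le h1) h0)
      (eq_bot_iff.2 (e ▸ le_inf (omegaOne_mono h1) (omegaOne_le p S)))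
  rw [← a, sq] at ho
  exact Nat.le_of_mul_le_mul_right ((Nat.mul_le_mul_left _ b).trans ho) hp.out.pos

theorem meta_of_pow_hom (h2 : p ≠ 2) (hR : IsPGroup p R) (ho : Nat.card (omegaOne p R) ≤ p ^ 2)
    (h : ∀ x ∈ R, ∀ y ∈ R, (x * y) ^ p = x ^ p * y ^ p) (hc : IsCyclic (⁅R, R⁆ : Subgroup G)) :
    Meta R := by
  obtain ⟨S, a, ⟨b, c⟩, d⟩ := exists_maximal_subgroup (P := fun S => S ≤ R ∧ IsCyclic S) ⟨der_le R, hc⟩
  have hq := le_Nm_of_der_le a b
  refine meta_of_img hq b c (isCyclic_of_prank h2 (isPGroup_img hR) (not_lt.1 fun e => ?_))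
  obtain ⟨E, -, f⟩ := exists_el_of_le_prank e
  obtain ⟨s, hs, g⟩ := Solv.isCyclic_iff_exists_le_zpowers.1 c
  obtain rfl : S = zpowers s := le_antisymm g (zpowers_le_of_mem hs)
  have h3 : ∀ x : R, s ∈ zpowers (x : G) → qmap hq x = 1 := fun x hx => (qmap_eq_one hq).2
    (d _ ⟨zpowers_le_of_mem x.2, inferInstance⟩ (zpowers_le_of_mem hx) ▸ mem_zpowers _)
  have h4 : E ≤ img hq (omegaOne p R) := fun e he => by
    obtain ⟨x, rfl⟩ := qmap_surjective hq e
    have h5 := f.pow he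
    rw [← map_pow, qmap_eq_one] at h5
    obtain ⟨m, hm⟩ := Solv.exists_orderOf_eq_pow hR (b hs)
    rcases Solv.exists_pow_eq_or_mem hp.out hm h5 with ⟨y, h6, h7⟩ | h6
    · refine mem_img.2 ⟨x * ⟨y, b h6⟩⁻¹, mem_omegaOne (Subtype.prop _) ?_, ?_⟩
      · exact (h x x.2 y⁻¹ (inv_mem (b h6))).trans (by rw [inv_pow, h7]; exact mul_inv_cancel _)
      · rw [map_mul, map_inv, (qmap_eq_one hq (x := ⟨y, b h6⟩)).2 h6, inv_one, mul_one]
    · rw [h3 x (zpowers_le_of_mem (pow_mem (mem_zpowers (x : G)) p) h6)]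
      exact one_mem _
  have h5 := (card_le_of_le h4).trans (card_img_omegaOne_le hq hR b le_rfl (fun e => f.ne_bot
    (eq_bot_iff.2 fun y _ => by
      obtain ⟨x, rfl⟩ := qmap_surjective hq y
      exact h3 x ((zpowers_eq_bot.1 e).symm ▸ one_mem _))) ho)
  rw [f.card] at h5
  nlinarith [hp.out.two_le]

theorem huppert_aux (h3 : 3 < p) (n : ℕ) : ∀ {G : Type u} [Group G] [Finite G] {R : Subgroup G},
    Nat.card R ≤ n → IsPGroup p R → Nat.card (omegaOne p R) ≤ p ^ 2 → Meta R := by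
  induction n with
  | zero => exact fun h => absurd h (Nat.card_pos).not_ge
  | succ n ih =>
  intro G _ _ R hn hR ho
  have hd := der_le R
  have hn' : R ≤ Nm(⁅R, R⁆) := le_Nm_of_der_le le_rfl hd
  by_cases he : ∀ w ∈ ⁅R, R⁆, w ^ p = 1
  · have h := fun x hx y hy => mul_pow_of_der_class3 h3 (commutator_le_Ct_of_card_le hR (hR.to_le hd) hn'
      ((card_le_of_le (le_omegaOne hd he)).trans ho)) he (x := x) (y := y) hx hy
    have h1 : Nat.card R ≤ p ^ 2 * Nat.card (R ⊓ Ct(R) : Subgroup G) := (card_le_of_pow_hom h).trans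
      (Nat.mul_le_mul ho (card_le_of_le (Mho_le_iff.2 fun x hx =>
        ⟨pow_mem hx p, pow_mem_Ct_of_pow_hom h he hx⟩)))
    obtain ⟨a, b, c⟩ := exists_gen2 hR inf_le_left h1
    have h4 := der_le_of_relIndex_le hR (le_normalizer_center le_normalizer) (by
      rw [← relIndex_mul_card (inf_le_left : R ⊓ Ct(R) ≤ R)] at h1
      exact Nat.le_of_mul_le_mul_right h1 Nat.card_pos)
    have h5 : ⁅a, b⁆ ∈ Ct(R) := (h4 (commutator_mem_commutator
      (c ▸ mem_sup_left (mem_sup_right (mem_zpowers a))) (c ▸ mem_sup_right (mem_zpowers b)))).2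
    exact meta_of_pow_hom (by omega) hR ho h (isCyclic_of_le (der_le_of_gen2
      (le_Nm_of_le_Ct' (zpowers_le_of_mem h5)) c
      ((commutator_eq_bot_iff_le.2 inf_le_right).le.trans bot_le) (mem_zpowers _)) inferInstance)
  have hW := (Mho_le p _).trans hd
  obtain ⟨T, a, b, hq⟩ := Solv.exists_normal_card hR.isNilpotent (hR.to_le hW) hW
    (le_normalizer_Mho hn') 1 (by
      rw [pow_one]
      exact le_card_of_ne_bot (hR.to_le hW) fun e => he fun w hw => mem_bot.1 (e ▸ pow_mem_Mho hw))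
  rw [pow_one] at b
  have hT := a.trans hW
  obtain ⟨x, y, c, d⟩ := ih (R := img hq R) (by
    have := card_img_mul (h := hq) le_rfl
    rw [inf_eq_right.2 hT, b] at this
    nlinarith [Nat.card_pos (α := img hq R)]) (isPGroup_img hR) (card_omegaOne_img_le h3 hR le_rfl ho)
  obtain ⟨x, rfl⟩ := qmap_surjective hq x
  obtain ⟨y, rfl⟩ := qmap_surjective hq y
  have h1 := der_le_zpowers c d
  rw [← img_commutator le_rfl le_rfl, img_le_iff hd, pre_zpowers hT] at h1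
  have h4 : T ≤ zpowers (x : G) := a.trans (Mho_le_iff.2 fun w hw => by
    obtain ⟨u, hu, t, ht, rfl⟩ := (mem_sup_of_le_normalizer ((zpowers_le_of_mem x.2).trans hq)).1 (h1 hw)
    rw [(commute_of_mem_Ct (le_Ct_of_card_le hR (hR.to_le hT) hq b.le ht)
      (zpowers_le_of_mem x.2 hu)).symm.mul_pow, ← b, Solv.pow_card_eq_one_of_mem ht, mul_one]
    exact pow_mem hu _)
  have h5 := pre_le_normalizer (zpowers_le_of_mem c)
  have h6 := congrArg (pre hq) d
  rw [pre_sup, pre_img_of_le le_rfl hT] at h6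
  rw [pre_zpowers hT, pre_zpowers hT, sup_eq_left.2 h4] at h5 h6
  exact ⟨x, y, h5 (mem_sup_left (mem_zpowers _)), by
    rwa [sup_comm (zpowers (y : G)), ← sup_assoc, sup_eq_left.2 h4] at h6⟩

/-- BG 4.11 -/
theorem huppert (h3 : 3 < p) (hR : IsPGroup p R) (ho : Nat.card (omegaOne p R) ≤ p ^ 2) : Meta R :=
  huppert_aux h3 _ le_rfl hR ho

omit hp in
theorem le_Ct_of_isCyclic (hC : IsCyclic C) (h1 : R ≤ Nm(C)) (h2 : A ≤ Nm(C)) : ⁅R, A⁆ ≤ Ct(C) :=
  (commutator_mono le_sup_left le_sup_right).trans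
    (Solv.commutator_le_centralizer_of_isCyclic hC (sup_le h1 h2))

theorem comm_of_isCyclic_der (h2 : p ≠ 2) (hR : IsPGroup p R) (ho : Nat.card (omegaOne p R) ≤ p ^ 2)
    (hc : IsCyclic (⁅R, R⁆ : Subgroup G)) (hA : A ≤ Nm(R)) (hp' : (Nat.card A).Coprime p)
    (h : ⁅R, A⁆ = R) : R ≤ Ct(R) := by
  obtain ⟨S, a, ⟨b, c, hS⟩, d⟩ := exists_maximal_subgroup (P := fun S => S ≤ R ∧ IsCyclic S ∧ A ≤ Nm(S))
    ⟨der_le R, hc, le_normalizer_commutator hA hA⟩
  have hn := le_Nm_of_der_le a b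
  have hq := sup_le hn hS
  by_contra h0
  have h1 : ¬ IsCyclic (img hq R) := fun e => by
    obtain ⟨x, f, g⟩ := (isCyclic_img_iff le_sup_left (b.trans le_sup_left)).1 e
    exact h0 (comm_of_gen2 (a := x) (b := x) (le_antisymm (sup_le (sup_le b (zpowers_le_of_mem f))
      (zpowers_le_of_mem f)) ((g.trans (sup_comm _ _).le).trans le_sup_left))
      (le_Ct_comm.1 (h ▸ le_Ct_of_isCyclic c hn hS)) (.refl x))
  have h3 := el_omegaOne_of_comm (p := p) (comm_iff_le.1 ((comm_img_iff (h := hq) le_sup_left).2 a))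
  have h4 : img hq (omegaOne p R) ≤ omegaOne p (img hq R) := by
    rw [img, subgroupOf_omegaOne le_sup_left]; exact map_omegaOne_le _ _
  obtain ⟨X, e, f, g⟩ := exists_invariant_compl_of_elem h3.elem
    (le_normalizer_omegaOne (img_le_normalizer hA)) (coprime_img_left hp') h4
    (img_le_normalizer (le_normalizer_omegaOne hA))
  have h5 : pre hq X ≤ R := (pre_mono ((g ▸ le_sup_right : X ≤ _).trans (omegaOne_le p _))).trans
    (pre_img_of_le le_sup_left b).le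
  have h6 := d (pre hq X) ⟨h5, isCyclic_of_prank h2 (hR.to_le h5) (by
    rw [← prank_omegaOne]
    refine (prank_mono ((img_eq_bot_iff (h := hq) ((omegaOne_le p _).trans (pre_le _))).1
      (eq_bot_iff.2 (f ▸ le_inf ((img_mono (omegaOne_le p _)).trans (img_pre X).le)
        (img_mono (omegaOne_mono h5)))))).trans (prank_le_one_of_isCyclic c)),
    le_normalizer_pre le_sup_right e⟩ (ker_le_pre (b.trans le_sup_left) X)
  rw [← img_pre X, h6, img_ker, sup_bot_eq] at g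
  have h7 := card_img_omegaOne_le hq hR b le_sup_left
    (fun e => h0 (commutator_eq_bot_iff_le.1 (eq_bot_iff.2 (e ▸ a)))) ho
  rw [g, h3.card] at h7
  have := Nat.pow_le_pow_right hp.out.pos (two_le_prank h2 (isPGroup_img hR) h1)
  nlinarith [hp.out.two_le]

/-- BG 4.12 -/
theorem coprime_metacyclic (h2 : p ≠ 2) (hR : IsPGroup p R) (ho : Nat.card (omegaOne p R) ≤ p ^ 2)
    (hc : IsCyclic (⁅R, R⁆ : Subgroup G)) (hA : A ≤ Nm(R)) (hp' : (Nat.card A).Coprime p) :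
    IsMulCommutative (⁅R, A⁆ : Subgroup G) ∧ ⁅R, A⁆ ⊔ R ⊓ Ct(A) = R ∧ ⁅R, A⁆ ⊓ (R ⊓ Ct(A)) = ⊥ ∧
      (¬ IsMulCommutative R → ¬ A ≤ Ct(R) → ⁅R, A⁆ ≠ ⊥ ∧ IsCyclic (⁅R, A⁆ : Subgroup G) ∧
        R ⊓ Ct(A) ≠ ⊥ ∧ IsCyclic (R ⊓ Ct(A) : Subgroup G) ∧ ⁅R, R⁆ ≤ ⁅R, A⁆) := by
  have hd := commutator_le_left_of_le_normalizer hA
  have hco := (coprime_of_isPGroup hR hp').symm
  have hs : Group.IsSolvable A ∨ Group.IsSolvable R := Or.inr (isSolvable_of_isPGroup hR)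
  have hn : A ≤ Nm(⁅R, A⁆) := le_normalizer_commutator hA le_normalizer
  have h1 := commutator_commutator_eq hA hco hs
  have h3 := comm_iff_le.2 (comm_of_isCyclic_der h2 (hR.to_le hd) ((card_le_of_le (omegaOne_mono hd)).trans ho)
    (isCyclic_of_le (commutator_mono hd hd) hc) hn hp' h1)
  have h4 := commutator_sup_Ct hA hco hs
  have h5 : ⁅R, A⁆ ⊓ (R ⊓ Ct(A)) = ⊥ := eq_bot_iff.2 (by
    rw [← commutator_inf_Ct_of_comm h3 hn (hco.of_dvd_right (card_dvd_of_le hd)), h1]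
    exact inf_le_inf_left _ inf_le_right)
  refine ⟨h3, h4, h5, fun a b => ?_⟩
  have h6 : ⁅R, A⁆ ≠ ⊥ := fun e => b (commutator_eq_bot_iff'.1 e)
  have h7 : R ⊓ Ct(A) ≠ ⊥ := fun e => a (by rwa [← h4, e, sup_bot_eq])
  have key : ∀ X Y, X ≤ R → Y ≤ R → X ⊓ Y = ⊥ → Y ≠ ⊥ → IsCyclic X := fun X Y c d e f =>
    isCyclic_of_prank h2 (hR.to_le c) (not_lt.1 fun g => by
      obtain ⟨E, i, j⟩ := exists_el_of_le_prank g
      refine omegaOne_ne_bot (dvd_card_of_isPGroup (hR.to_le d) f)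
        (eq_bot_iff.2 (e ▸ le_inf ((omegaOne_mono d).trans (le_trans ?_ i)) (omegaOne_le p Y)))
      exact (eq_of_le_of_card_ge (le_omegaOne (i.trans c) fun _ => j.pow) (j.card ▸ ho)).ge)
  have h8 := key _ _ inf_le_left hd ((inf_comm _ _).trans h5) h6
  refine ⟨h6, key _ _ hd inf_le_left h5 h7, h7, h8, ?_⟩
  obtain ⟨x, c, d⟩ := Solv.isCyclic_iff_exists_le_zpowers.1 h8
  have hn' : R ≤ Nm(⁅R, A⁆) := le_sup_left.trans (sup_le_normalizer_commutator R A)
  exact der_le_of_gen1 hn' (a := x) (by rw [← le_antisymm d (zpowers_le_of_mem c), h4])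
    (commutator_le_left_of_le_normalizer hn')

omit hp in
theorem commutator_mul_zpow {u y x : G} (h1 : Commute u x) (h2 : Commute ⁅y, x⁆ u)
    (h3 : Commute ⁅y, x⁆ y) (j : ℤ) : ⁅u * y ^ j, x⁆ = ⁅y, x⁆ ^ j := by
  have h4 : Commute y (x * y⁻¹ * x⁻¹) := by
    rw [show x * y⁻¹ * x⁻¹ = y⁻¹ * ⁅y, x⁆ by rw [commutatorElement_def]; group]
    exact (Commute.refl y).inv_right.mul_right h3.symm
  have h5 : ⁅y ^ j, x⁆ = ⁅y, x⁆ ^ j := by
    rw [show ⁅y, x⁆ = y * (x * y⁻¹ * x⁻¹) by rw [commutatorElement_def]; group, h4.mul_zpow, conj_zpow,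
      commutatorElement_def]
    group
  rw [show ⁅u * y ^ j, x⁆ = u * ⁅y ^ j, x⁆ * u⁻¹ * ⁅u, x⁆ by simp only [commutatorElement_def]; group,
    h1.commutator_eq, h5, ← (h2.zpow_left j).eq]
  group

omit hp in
theorem commutator_bilin {U V : Subgroup G} (h : ⁅U, V⁆ ≤ Ct(U) ⊓ Ct(V)) {y x u v : G} (hy : y ∈ U)
    (hx : x ∈ V) (hu : u ∈ U ⊓ Ct(V)) (hv : v ∈ V ⊓ Ct(U)) (i j : ℤ) :
    ⁅u * y ^ j, v * x ^ i⁆ = ⁅y, x⁆ ^ (i * j) := by
  have h1 : v * x ^ i ∈ V := V.mul_mem hv.1 (zpow_mem hx i)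
  have h2 := (h (commutator_mem_commutator hy h1)).1
  have h3 := Ct(V).inv_mem (h (commutator_mem_commutator hy hx)).2
  rw [commutatorElement_inv] at h3
  rw [commutator_mul_zpow (commute_of_mem_Ct hu.2 h1) (commute_of_mem_Ct h2 hu.1) (commute_of_mem_Ct h2 hy),
    ← commutatorElement_inv, commutator_mul_zpow (commute_of_mem_Ct hv.2 hy) (commute_of_mem_Ct h3 hv.1)
    (commute_of_mem_Ct h3 hx), ← inv_zpow, commutatorElement_inv, zpow_mul]

omit hp in
theorem relIndex_Ct_le_of_gen2 {U V : Subgroup G} {a b : G} (h : Z ⊔ zpowers a ⊔ zpowers b = S)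
    (hZ : Z ≤ Ct(R)) (ha : ∀ g ∈ R, ⁅g, a⁆ ∈ U) (hb : ∀ g ∈ R, ⁅g, b⁆ ∈ V) :
    Ct(S).relIndex R ≤ Nat.card U * Nat.card V := by
  rw [← h, centralizer_sup, centralizer_sup, centralizer_zpowers, centralizer_zpowers]
  refine relIndex_inf_le.trans (Nat.mul_le_mul (relIndex_inf_le.trans ?_) (relIndex_C1_le hb))
  rw [relIndex_eq_one.2 (le_Ct_comm.1 hZ), one_mul]
  exact relIndex_C1_le ha

theorem center_eq_der_of_card (hS : IsPGroup p S) (hc : Nat.card S = p ^ 3) (h : ¬ S ≤ Ct(S)) :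
    ⁅S, S⁆ = S ⊓ Ct(S) ∧ Nat.card (⁅S, S⁆ : Subgroup G) = p := by
  have h1 : Nat.card (S ⊓ Ct(S) : Subgroup G) ≤ p ^ 1 := by_contra fun e => by
    obtain ⟨a, b, c⟩ := SetLike.not_le_iff_exists.1 h
    have := sup_zpowers_eq_of_card_le hS hc.le inf_le_left (by
      obtain ⟨k, hk⟩ := (hS.to_le (inf_le_left : S ⊓ Ct(S) ≤ S)).exists_card_eq
      rw [hk] at e ⊢
      exact Nat.pow_le_pow_right hp.out.pos ((Nat.pow_lt_pow_iff_right hp.out.one_lt).1 (not_le.1 e)))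
      b fun e => c e.2
    exact h (comm_of_gen2 (a := a) (b := a) (by rw [sup_assoc, sup_idem, this]) inf_le_right (.refl a))
  rw [pow_one] at h1
  have h3 := card_eq_of_card_le (hS.to_le inf_le_left) (inf_centralizer_ne_bot hS hS le_normalizer
    fun e => h (e ▸ bot_le)) h1
  have h4 := der_le_of_relIndex_le hS (le_normalizer_center le_normalizer) (by
    have := Solv.card_mul_relIndex (inf_le_left : S ⊓ Ct(S) ≤ S)
    rw [h3, hc, pow_succ'] at this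
    exact (Nat.eq_of_mul_eq_mul_left hp.out.pos this).le)
  have h5 := (eq_bot_or_eq_of_card_prime (h3.symm ▸ hp.out) h4).resolve_left
    fun e => h (commutator_eq_bot_iff_le.1 e)
  exact ⟨h5, h5 ▸ h3⟩

theorem three_lt_of_narrow (h2 : p ≠ 2) (hR : IsPGroup p R) (hr : Narrow p R) (hA : A ≤ Nm(R))
    (hc : (Nat.card A).Coprime p) (ho : Odd (Nat.card A)) (h : ¬ A ≤ Ct(R)) : 3 < p := by
  obtain ⟨q, a, b⟩ := Nat.exists_prime_and_dvd fun e => h (relIndex_eq_one.1 e)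
  have c := b.trans (relIndex_dvd_card _ _)
  have := lt_of_dvd_sq_sub_one a h2 (hr.dvd_of_dvd_relIndex a h2 hR hA
    (fun e => coprime_iff_not_dvd.1 hc (e ▸ c)) b)
  have := ne_two_of_dvd ho c
  have := a.two_le
  omega

/-- BG 4.16 -/
theorem blackburn (h2 : p ≠ 2) (hR : IsPGroup p R) (h0 : R ≠ ⊥) (hr : prank p R ≤ 2) (hA : A ≤ Nm(R))
    (hc : (Nat.card A).Coprime p) (ho : Odd (Nat.card A)) (h : ⁅R, A⁆ = R) (hS : omegaOne p R = S)
    (hC : R ⊓ Ct(S) = C) : 3 < p ∧ (IsMulCommutative R ∨ ¬ IsMulCommutative S ∧ Nat.card S = p ^ 3 ∧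
      (∀ x ∈ S, x ^ p = 1) ∧ S ⊔ C = R ∧ IsCyclic C ∧ omegaOne p C = ⁅S, S⁆) := by
  have h3 := three_lt_of_narrow h2 hR (narrow_of_prank_le hr) hA hc ho
    fun e => h0 (h ▸ commutator_eq_bot_iff'.2 e)
  refine ⟨h3, ?_⟩
  by_cases h1 : Nat.card (omegaOne p R) ≤ p ^ 2
  · exact Or.inl (comm_iff_le.2 (comm_of_isCyclic_der h2 hR h1 (huppert h3 hR h1).isCyclic_der hA hc h))
  have hSR : S ≤ R := hS ▸ omegaOne_le p R
  have hSp := hR.to_le hSR
  have hSc : Nat.card S = p ^ 3 :=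
    hS ▸ card_eq_pow_of_le (hS ▸ hSp) (card_omegaOne_le_of_prank_le_two h3 hR hr) h1
  have he : ∀ x ∈ S, x ^ p = 1 := hS ▸ pow_eq_one_of_prank_le_two h3 hR hr
  have hm : ∀ x ∈ R, x ^ p = 1 → x ∈ S := fun x a b => hS ▸ mem_omegaOne a b
  have hn : ¬ S ≤ Ct(S) := fun e => by
    have := (El.mk (elem_of_comm e he) hSc).le_prank hSR
    omega
  obtain ⟨hZ, hZc⟩ := center_eq_der_of_card hSp hSc hn
  have hRS : R ≤ Nm(S) := hS ▸ le_normalizer_omegaOne le_normalizer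
  have hAS : A ≤ Nm(S) := hS ▸ le_normalizer_omegaOne hA
  have hCR : C ≤ R := hC ▸ inf_le_left
  have hSC : S ⊓ C = ⁅S, S⁆ := by rw [← hC, ← inf_assoc, inf_eq_left.2 hSR, hZ]
  have hZS := der_le S
  have hC1 : omegaOne p C = ⁅S, S⁆ := le_antisymm (hSC ▸ le_inf (hS ▸ omegaOne_mono hCR) (omegaOne_le p C))
    (le_omegaOne (hSC ▸ inf_le_right) fun x hx => he x (hZS hx))
  have hCc : IsCyclic C := isCyclic_of_prank h2 (hR.to_le hCR) (by
    rw [← prank_omegaOne, hC1, (el_one_iff.2 hZc).prank_eq])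
  refine Or.inr ⟨fun e => hn (comm_iff_le.1 e), hSc, he, ?_, hCc, hC1⟩
  have hAC : A ≤ Nm(C) := hC ▸ le_normalizer_inf hA (le_normalizer_centralizer hAS)
  have hCZ : C ≤ Ct(R) := le_Ct_comm.1 (h ▸ le_Ct_of_isCyclic hCc
    (hC ▸ le_normalizer_inf le_normalizer (le_normalizer_centralizer hRS)) hAC)
  have hZZ : ⁅S, S⁆ ≤ Ct(R) := (hSC ▸ inf_le_right : _ ≤ C).trans hCZ
  have h4 : Nat.card (S ⊔ C : Subgroup G) = p ^ 2 * Nat.card C := by
    have := card_sup_mul_card_inf (le_Nm_of_le_Ct' (hCZ.trans (centralizer_mono hSR)))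
    rw [hSC, hZc, hSc, pow_succ, mul_right_comm] at this
    exact Nat.eq_of_mul_eq_mul_right hp.out.pos this
  have h5 : Ct(S).relIndex R * Nat.card C = Nat.card R := by rw [← hC, inf_comm, relIndex_mul_card_inf]
  have hD := sup_le hSR hCR
  have h6 : ∀ g ∈ R, ∀ a ∈ S, ⁅g, a⁆ ∈ ⁅S, R⁆ := fun g a b c =>
    commutator_comm R S ▸ commutator_mem_commutator a c
  by_cases h7 : ⁅S, R⁆ ≤ ⁅S, S⁆
  · obtain ⟨a, b, c⟩ := exists_gen2 hSp hZS (by rw [hSc, hZc, pow_succ])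
    have := relIndex_Ct_le_of_gen2 c hZZ
      (fun g hg => h7 (h6 g hg a (c ▸ mem_sup_left (mem_sup_right (mem_zpowers a)))))
      fun g hg => h7 (h6 g hg b (c ▸ mem_sup_right (mem_zpowers b)))
    refine eq_of_le_of_card_ge hD ?_
    rw [h4, ← h5, sq, ← hZc]
    exact Nat.mul_le_mul_right _ this
  exfalso
  obtain ⟨T, hT⟩ : ∃ T, ⁅S, R⁆ = T := ⟨_, rfl⟩
  have hTS : T ≤ S := hT ▸ commutator_le_left_of_le_normalizer hRS
  have hRT : R ≤ Nm(T) := hT ▸ le_normalizer_commutator hRS le_normalizer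
  have hAT : A ≤ Nm(T) := hT ▸ le_normalizer_commutator hAS hA
  have hZT : ⁅S, S⁆ ≤ T := hT ▸ commutator_mono le_rfl hSR
  have hTp := hSp.to_le hTS
  have hTc : Nat.card T ≤ p ^ 2 := hT ▸ card_commutator_le hR hSp hRS hSc.le
  have hTR : ⁅T, R⁆ ≤ ⁅S, S⁆ := hZ ▸ le_inf ((commutator_le_left_of_le_normalizer hRT).trans hTS)
    ((commutator_le_Ct_of_card_le hR hTp hRT hTc).trans (centralizer_mono hSR))
  have hTT := comm_iff_le.1 (comm_of_card_le hTp hTc)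
  obtain ⟨y, hy, x, hx, h8⟩ : ∃ y ∈ S, ∃ x ∈ R, ⁅y, x⁆ ∉ ⁅S, S⁆ := by
    by_contra! e
    exact h7 (commutator_le.2 e)
  have ht : ⁅y, x⁆ ∈ T := hT ▸ commutator_mem_commutator hy hx
  have h9 : ⁅S, S⁆ ⊔ zpowers ⁅y, x⁆ = T :=
    sup_zpowers_eq_of_card_le hTp hTc hZT (by rw [pow_one, hZc]) ht h8
  have hyT : y ∉ T := fun e => h8 (hTR (commutator_mem_commutator e hx))
  have h10 : T ⊔ zpowers y = S := sup_zpowers_eq_of_card_le hSp hSc.le hTS
    (pow_le_card_of_lt hTp (lt_of_le_of_ne hZT fun e => h8 (e ▸ ht)) (by rw [pow_one, hZc])) hy hyT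
  have hRZ : R ≤ Nm(⁅S, S⁆) := le_Nm_of_le_Ct' hZZ
  have h11 : ⁅S ⊔ C, R⁆ ≤ T := commutator_sup_left_le (hSR.trans hRT) (hCR.trans hRT) hT.le
    ((commutator_eq_bot_iff_le.2 hCZ).le.trans bot_le)
  have h12 : S ⊔ C ⊔ zpowers x = R := by
    have a := sup_le hD (zpowers_le_of_mem hx)
    refine eq_of_le_of_card_ge a (le_trans ?_ (mul_card_le_of_lt (hR.to_le a) (left_lt_sup.2 fun e =>
      h8 (commutator_sup_right_le (hSR.trans hRZ) (hCR.trans hRZ) le_rfl ((commutator_eq_bot_iff'.2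
        (hCZ.trans (centralizer_mono hSR))).le.trans bot_le)
        (commutator_mem_commutator hy (e (mem_zpowers x)))))))
    have := relIndex_Ct_le_of_gen2 (by rw [h9, h10]) hZZ
      (fun g hg => hTR (commutator_comm R T ▸ commutator_mem_commutator hg ht))
      fun g hg => hT ▸ h6 g hg y hy
    rw [h4, ← h5, ← mul_assoc, ← hZc]
    exact Nat.mul_le_mul_right _ (this.trans (Nat.mul_le_mul_left _ (hZc.symm ▸ hTc)))
  have h13 := der_le_of_gen1 hRT h12 h11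
  have h14 : ∀ w ∈ ⁅R, R⁆, w ^ p = 1 := fun w hw => he w (hTS (h13 hw))
  have hh := fun x hx y hy => mul_pow_of_der_class3 h3
    ((commutator_mono h13 le_rfl).trans (hTR.trans hZZ)) h14 (x := x) (y := y) hx hy
  have hz : y ∉ Ct(T) := fun e => hn (comm_of_gen2 (a := y) (b := y) (by rw [sup_assoc, sup_idem, h10])
    (h10 ▸ (centralizer_sup _ _).ge.trans' (le_inf hTT (le_Ct_comm.1 (zpowers_le_of_mem e)))) (.refl y))
  have hz1 : ⁅y, ⁅y, x⁆⁆ ≠ 1 := fun e => hz (by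
    rw [← h9, centralizer_sup, centralizer_zpowers]
    exact ⟨le_Ct_comm.1 hZZ (hSR hy), mem_C1.2 (commutatorElement_eq_one_iff_commute.1 e).symm⟩)
  have hzZ : ⁅y, ⁅y, x⁆⁆ ∈ ⁅S, S⁆ := commutator_mem_commutator hy (hTS ht)
  have hzo := orderOf_eq_prime (he _ (hZS hzZ)) hz1
  have key : ∀ a ∈ A, ⁅y, a⁆ ∈ T := fun a ha => by
    obtain ⟨k, hk⟩ := exists_zpow_conj hCc (hAC ha)
    have a1 : a * x * a⁻¹ ∈ R := conj_mem_of_mem_normalizer (hA ha) hx
    have a2 : a * x * a⁻¹ * (x ^ k)⁻¹ ∈ S := hm _ (mul_mem a1 (inv_mem (zpow_mem hx k))) (by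
      rw [hh _ a1 _ (inv_mem (zpow_mem hx k)), conj_pow, hk _ (hC ▸ ⟨pow_mem hx p, centralizer_mono hSR
        (pow_mem_Ct_of_pow_hom hh h14 hx)⟩), inv_pow, ← zpow_natCast, ← zpow_natCast, zpow_comm,
        mul_inv_cancel])
    obtain ⟨u, hu, _, ⟨j, rfl⟩, a3⟩ := (mem_sup_of_le_normalizer' ((zpowers_le_of_mem (hSR hy)).trans hRT)).1
      (h10.symm ▸ conj_mem_of_mem_normalizer (hAS ha) hy)
    simp only at a3
    have a4 : a * ⁅y, x⁆ * a⁻¹ * (⁅y, x⁆ ^ (k * j))⁻¹ ∈ ⁅S, S⁆ := by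
      have b1 : img hRZ T ≤ Ct(img hRZ R) := (img_le_centralizer_iff (hTS.trans hSR) le_rfl).2 hTR
      have := commutator_bilin (U := img hRZ S) (V := img hRZ R) (by
          rw [← img_commutator hSR le_rfl, hT]
          exact le_inf (b1.trans (centralizer_mono (img_mono hSR))) b1)
        (qmap_mem_img (x := ⟨y, hSR hy⟩) hy) (qmap_mem_img (x := ⟨x, hx⟩) hx)
        (u := qmap hRZ ⟨u, hSR (hTS hu)⟩) ⟨qmap_mem_img (hTS hu), b1 (qmap_mem_img hu)⟩
        (v := qmap hRZ ⟨_, hSR a2⟩) ⟨qmap_mem_img (hSR a2),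
          (img_le_centralizer_iff hSR hSR).2 le_rfl (qmap_mem_img a2)⟩ k j
      simp only [← map_zpow, ← map_mul, ← map_commutatorElement] at this
      rw [← mul_inv_eq_one, ← map_inv, ← map_mul, qmap_eq_one] at this
      rw [conjugate_commutatorElement, ← a3, ← inv_mul_cancel_right (a * x * a⁻¹) (x ^ k)]
      exact this
    have a5 := commutator_bilin (U := S) (V := T) ((commutator_mono le_rfl hTS).trans (le_inf
      (hZZ.trans (centralizer_mono hSR)) (hZZ.trans (centralizer_mono (hTS.trans hSR))))) hy ht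
      ⟨hTS hu, hTT hu⟩ ⟨hZT a4, centralizer_mono hSR (hZZ a4)⟩ (k * j) j
    rw [inv_mul_cancel_right, a3, ← conjugate_commutatorElement, hk _ ((hSC ▸ hzZ : _ ∈ S ⊓ C).2),
      zpow_eq_zpow_iff_cast hzo] at a5
    have a6 : (k : ZMod p) ≠ 0 := fun e => hz1 (by
      have := hk _ ((hSC ▸ hzZ : _ ∈ S ⊓ C).2)
      rwa [(zpow_eq_zpow_iff_cast hzo (j := 0)).2 (by simpa using e), zpow_zero, conj_eq_one_iff] at this)
    have a7 : y ^ (j * j) = y ^ (1 : ℤ) := (zpow_eq_zpow_iff_cast (orderOf_eq_prime (he y hy)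
      fun e => hyT (e ▸ one_mem _))).2 (by
        push_cast at a5 ⊢
        exact (mul_left_cancel₀ a6 (by rw [mul_one, ← mul_assoc]; exact a5)).symm)
    have hq := sup_le hRT hAT
    have a8 : qmap hq ⟨a, mem_sup_right ha⟩ * qmap hq ⟨y, mem_sup_left (hSR hy)⟩ *
        (qmap hq ⟨a, mem_sup_right ha⟩)⁻¹ = qmap hq ⟨y, mem_sup_left (hSR hy)⟩ ^ (j ^ 1) := by
      rw [pow_one, ← one_mul (_ ^ j), ← (qmap_eq_one hq (x := ⟨u, mem_sup_left (hSR (hTS hu))⟩)).2 hu,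
        ← map_zpow, ← map_inv, ← map_mul, ← map_mul, ← map_mul]
      exact congrArg _ (Subtype.ext a3.symm)
    have a9 := Solv.pow_conj_eq_zpow (pow_one j ▸ a8) 2
    rw [sq j, ← map_zpow, show (⟨y, mem_sup_left (hSR hy)⟩ : (R ⊔ A : Subgroup G)) ^ (j * j) =
      ⟨y, mem_sup_left (hSR hy)⟩ from Subtype.ext (a7.trans (zpow_one y)), mul_inv_eq_iff_eq_mul, sq] at a9
    have := (commute_of_commute_sq (odd_orderOf (odd_img (h := hq) ho) (qmap_mem_img ha)) a9).symm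
    rwa [← commutatorElement_eq_one_iff_commute, ← map_commutatorElement, qmap_eq_one] at this
  have hRB : R ≤ Nm(R ⊓ Ct(T)) := le_normalizer_inf le_normalizer (le_normalizer_centralizer hRT)
  have h15 := Solv.sup_zpowers_eq_of_relIndex_prime (inf_le_left : R ⊓ Ct(T) ≤ R) (by
    rw [inf_relIndex_left, relIndex_Ct_eq hR hTp hRT hTc fun e => hz (e (hSR hy))]
    exact hp.out) (hSR hy) fun e => hz e.2
  have h16 := commutator_sup_left_le le_normalizer ((zpowers_le_of_mem (hSR hy)).trans hRB)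
    (commutator_le_left_of_le_normalizer (le_normalizer_inf hA (le_normalizer_centralizer hAT)))
    (commutator_zpowers_left_le (hRB (hSR hy)) fun a ha => ⟨hSR (hTS (key a ha)), hTT (key a ha)⟩)
  rw [h15, h] at h16
  exact hz (h16 (hSR hy)).2

/-- BG 5.5(c) -/
theorem Narrow.prime_act (hn : Narrow p R) (h2 : p ≠ 2) (hR : IsPGroup p R) (hA : A ≤ Nm(R))
    (hq : (Nat.card A).Prime) (ho : Odd (Nat.card A)) (hf : ¬ A ≤ Ct(R))
    (hd : ¬ Nat.card A ∣ p * (p - 1)) :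
    2 * Nat.card A ∣ p + 1 ∧ (⁅R, A⁆ = R → ¬ IsMulCommutative R → Nat.card R = p ^ 3) := by
  haveI := Fact.mk hq
  have h1 : Nat.card A ≠ p := fun e => hd (e ▸ dvd_mul_right _ _)
  have h3 : ¬ Nat.card A ∣ p - 1 := fun e => hd (e.mul_left p)
  have hc := (Nat.coprime_primes hq hp.out).2 h1
  have hpo := hp.out.odd_of_ne_two h2
  refine ⟨?_, fun a b => ?_⟩
  · obtain ⟨k, hk⟩ := hpo
    rcases dvd_half_of_dvd_sq_sub_one hq (hp.out.odd_of_ne_two h2) (hn.dvd_of_not_le_Ct h2 hR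
      (IsPGroup.of_card (pow_one _).symm) hA h1 hf) with e | e
    · rw [show p + 1 = 2 * ((p + 1) / 2) by omega]
      exact Nat.mul_dvd_mul_left 2 e
    · exact absurd (show p - 1 = 2 * ((p - 1) / 2) by omega ▸ e.mul_left 2) h3
  have hr : prank p R ≤ 2 := not_lt.1 fun e => by
    obtain ⟨x, c, d⟩ := (el_one_iff.2 rfl : El _ 1 A).exists_zpowers
    have f := hn.pow_mem_Ct h2 hR e (hA (d ▸ mem_zpowers x)) (c ▸ hc)
    refine h3 (c ▸ orderOf_dvd_of_pow_eq_one (mem_bot.1 ?_))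
    rw [← (le_or_inf_eq_bot hq _).resolve_left hf]
    exact ⟨d ▸ pow_mem (mem_zpowers x) _, f⟩
  obtain ⟨c, d, -, e, f, g⟩ := (blackburn h2 hR (fun e => hf (le_Ct_comm.1 (e ▸ bot_le))) hr hA hc ho a
    rfl rfl).2.resolve_left b
  have hAS : A ≤ Nm(omegaOne p R) := le_normalizer_omegaOne hA
  have hAC := le_normalizer_inf hA (le_normalizer_centralizer hAS)
  have h4 := relIndex_Ct_dvd_of_el_one (el_one_iff.2 (g.symm ▸ (center_eq_der_of_card
    (hR.to_le (omegaOne_le p R)) d fun e => c (comm_iff_le.2 e)).2)) (le_normalizer_omegaOne hAC)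
  have h5 := le_Ct_of_le_Ct_omegaOne h2 (hR.to_le inf_le_left) hAC hc (relIndex_eq_one.1
    (((Nat.dvd_prime hq).1 (relIndex_dvd_card _ _)).resolve_right fun e => h3 (e ▸ h4)))
  have h6 := commutator_sup_left_le le_normalizer (inf_le_left.trans (le_normalizer_omegaOne le_normalizer))
    (commutator_le_left_of_le_normalizer hAS) ((commutator_eq_bot_iff'.2 h5).le.trans bot_le)
  rw [e, a] at h6
  rwa [← le_antisymm (omegaOne_le p R) h6]

end

end Cfsg.Agent.BG
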