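/-
Extraspecial groups in the vocabulary of this directory.
-/
import Cfsg.Agent.Lib.BG.Sec3
import Cfsg.Agent.Lib.BG.Meta

set_option autoImplicit false
set_option linter.unusedSectionVars false

namespace Cfsg.Agent.BG

open Subgroup Comp
open scoped commutatorElement

universe u

variable {G : Type u} [Group G] [Finite G] {p : ℕ} {Q N : Subgroup G}

theorem extraspecial_spec (h : IsExtraspecial p Q) :
    IsPGroup p Q ∧ ⁅Q, Q⁆ = Q ⊓ Ct(Q) ∧ Nat.card (Q ⊓ Ct(Q) : Subgroup G) = p :=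
  ⟨h.1.1, by rw [← map_subtype_commutator, h.1.2.2, map_center_subtype],
    by rw [← map_center_subtype, card_map_subtype, h.2]⟩

theorem extraspecial_nondeg (hp : p.Prime) (h : IsExtraspecial p Q) (h1 : ¬ ⁅Q, Q⁆ ≤ N) :
    ∀ g ∈ Q, g ∉ Q ⊓ Ct(Q) → ∃ h ∈ Q, ⁅h, g⁆ ∉ N := fun g a b => by
  obtain ⟨-, c, d⟩ := extraspecial_spec h
  have e := (le_or_inf_eq_bot (by rwa [c, d]) N).resolve_left h1
  by_contra! f
  exact b ⟨a, mem_Ct.2 fun y hy => commutatorElement_eq_one_iff_mul_comm.1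
    (mem_bot.1 (e ▸ ⟨commutator_mem_commutator hy a, f y hy⟩))⟩

theorem extraspecial_der_ne_bot (hp : p.Prime) (h : IsExtraspecial p Q) : ⁅Q, Q⁆ ≠ ⊥ := by
  obtain ⟨-, c, d⟩ := extraspecial_spec h
  exact ne_bot_of_prime (by rwa [c, d])

theorem eq_two_of_add_one {q r d k : ℕ} (hq : q.Prime) (hr : r.Prime) (h1 : d ≠ 1) (h2 : d + 1 = r)
    (h : d ∣ q ^ k) : q = 2 ∧ ∃ n, d = 2 ^ n := by
  obtain ⟨n, -, rfl⟩ := (Nat.dvd_prime_pow hq).1 h
  obtain rfl : q = 2 := by_contra fun e => h1 (by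
    have := hr.eq_two_or_odd'.resolve_right (h2 ▸ Nat.not_odd_iff_even.2 (hq.odd_of_ne_two e).pow.add_one)
    omega)
  exact ⟨rfl, n, rfl⟩

end Cfsg.Agent.BG
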