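import Cfsg.Agent.Lib.BG.Petr
import Cfsg.Agent.Lib.BG.Meta

set_option autoImplicit false
set_option linter.unusedSectionVars false
open Cfsg Subgroup commutatorElement

/-! Regular p-groups. -/

namespace Cfsg.Agent.Reg
open Cfsg.Agent.Comp Cfsg.Agent.BG

universe u
variable {G : Type u} [Group G] {p : ℕ}

/-- closure of a pair -/
abbrev cl2 (a b : G) : Subgroup G := Subgroup.closure {a, b}

theorem left_mem (a b : G) : a ∈ cl2 a b := subset_closure (Or.inl rfl)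
theorem right_mem (a b : G) : b ∈ cl2 a b := subset_closure (Or.inr rfl)
theorem cl2_le {a b : G} {K : Subgroup G} : cl2 a b ≤ K ↔ a ∈ K ∧ b ∈ K := by
  rw [closure_le, Set.insert_subset_iff, Set.singleton_subset_iff]; rfl

theorem pc_le {n : ℕ} {H K : Subgroup G} : powerClosure p n H ≤ K ↔ ∀ x ∈ H, x ^ p ^ n ∈ K := by
  rw [powerClosure, closure_le]
  exact ⟨fun h x hx => h ⟨x, hx, rfl⟩, fun h _ ⟨x, hx, e⟩ => e ▸ h x hx⟩

theorem pow_mem_pc {n : ℕ} {H : Subgroup G} {x : G} (h : x ∈ H) : x ^ p ^ n ∈ powerClosure p n H :=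
  subset_closure ⟨x, h, rfl⟩

theorem pc_le_self (n : ℕ) (H : Subgroup G) : powerClosure p n H ≤ H := pc_le.2 fun _ h => pow_mem h _

theorem pc_mono {n : ℕ} {H K : Subgroup G} (h : H ≤ K) : powerClosure p n H ≤ powerClosure p n K :=
  pc_le.2 fun _ hx => pow_mem_pc (h hx)

theorem map_pc {G' : Type*} [Group G'] (f : G →* G') (n : ℕ) (H : Subgroup G) :
    (powerClosure p n H).map f = powerClosure p n (H.map f) := by
  rw [powerClosure, MonoidHom.map_closure]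
  congr 1
  ext y
  constructor
  · rintro ⟨_, ⟨x, hx, rfl⟩, rfl⟩; exact ⟨f x, ⟨x, hx, rfl⟩, map_pow _ _ _⟩
  · rintro ⟨_, ⟨x, hx, rfl⟩, rfl⟩; exact ⟨_, ⟨x, hx, rfl⟩, map_pow _ _ _⟩

theorem le_Nm_pc {n : ℕ} {A H : Subgroup G} (h : A ≤ Nm(H)) : A ≤ Nm(powerClosure p n H) := by
  rw [powerClosure, le_normalizer_closure_iff]
  rintro a ha _ ⟨x, hx, rfl⟩
  rw [← conj_pow]
  exact pow_mem_pc ((mem_normalizer_iff.1 (h ha) x).1 hx)

instance normal_pc (n : ℕ) (H : Subgroup G) [H.Normal] : (powerClosure p n H).Normal :=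
  normalizer_eq_top_iff.1 (top_le_iff.1 (le_Nm_pc le_normalizer_of_normal))

theorem map_cl2 {G' : Type*} [Group G'] (f : G →* G') (a b : G) : (cl2 a b).map f = cl2 (f a) (f b) := by
  rw [MonoidHom.map_closure, Set.image_pair]

/-- weak regularity -/
def W (p : ℕ) (G : Type u) [Group G] : Prop := IsPGroup p G ∧ ∀ a b : G,
  ∃ c ∈ powerClosure p 1 ⁅cl2 a b, cl2 a b⁆, (a * b) ^ p = a ^ p * b ^ p * c

theorem W_of_reg (h : IsRegularPGroup p G) : W p G :=
  ⟨h.1, fun a b => by simpa using h.2 a b 1⟩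

theorem W.of_surj (h : W p G) {G' : Type*} [Group G'] {f : G →* G'} (hf : Function.Surjective f) :
    W p G' := by
  refine ⟨h.1.of_surjective f hf, fun a b => ?_⟩
  obtain ⟨a, rfl⟩ := hf a
  obtain ⟨b, rfl⟩ := hf b
  obtain ⟨c, hc, e⟩ := h.2 a b
  refine ⟨f c, ?_, by simpa using congrArg f e⟩
  rw [← map_cl2, ← Subgroup.map_commutator, ← map_pc]; exact ⟨c, hc, rfl⟩

theorem W.of_inj (h : W p G) {G' : Type*} [Group G'] {f : G' →* G} (hf : Function.Injective f) :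
    W p G' := by
  refine ⟨h.1.of_injective f hf, fun a b => ?_⟩
  obtain ⟨c, hc, e⟩ := h.2 (f a) (f b)
  rw [← map_cl2, ← Subgroup.map_commutator, ← map_pc] at hc
  obtain ⟨c, hc, rfl⟩ := hc
  exact ⟨c, hc, hf (by simpa using e)⟩

variable [Finite G] [hp : Fact p.Prime]

theorem der_cl2_le {a b : G} {N : Subgroup G} (hn : cl2 a b ≤ Nm(N)) (h : ⁅a, b⁆ ∈ N) :
    ⁅cl2 a b, cl2 a b⁆ ≤ N := by
  refine der_le_of_gen2 (Z := ⊥) hn ?_ (by simp) h
  rw [bot_sup_eq, zpowers_eq_closure, zpowers_eq_closure, ← Subgroup.closure_union]; rfl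

theorem der_exp {a b : G} {q : ℕ} (h1 : ∀ u ∈ ⁅cl2 a b, cl2 a b⁆, ∀ v ∈ ⁅cl2 a b, cl2 a b⁆,
    u ^ q = 1 → v ^ q = 1 → (u * v) ^ q = 1) (h : ⁅a, b⁆ ^ q = 1) :
    ∀ d ∈ ⁅cl2 a b, cl2 a b⁆, d ^ q = 1 := by
  let O : Subgroup G :=
    { carrier := {d | d ∈ ⁅cl2 a b, cl2 a b⁆ ∧ d ^ q = 1}
      mul_mem' := fun {u v} hu hv => ⟨mul_mem hu.1 hv.1, h1 u hu.1 v hv.1 hu.2 hv.2⟩
      one_mem' := ⟨one_mem _, one_pow _⟩
      inv_mem' := fun {u} hu => ⟨inv_mem hu.1, by rw [inv_pow, hu.2, inv_one]⟩ }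
  intro d hd
  refine (der_cl2_le (N := O) ?_ ⟨commutator_mem_commutator (left_mem _ _) (right_mem _ _), h⟩ hd).2
  rw [le_normalizer_iff]
  intro g hg u hu
  exact ⟨(mem_normalizer_iff.1 (Subgroup.normalizer_commutator_ge_left _ _ hg) u).1 hu.1, by
    rw [conj_pow, hu.2]; simp⟩

theorem lt_of_not_comm (hG : IsPGroup p G) {K L : Subgroup G} {x : G} (hx : x ∈ K)
    (hK : ¬ K ≤ Ct(K)) (h : L ≤ zpowers x ⊔ ⁅K, K⁆) : L < K := by
  have h1 : zpowers x ≤ K := zpowers_le.2 hx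
  refine (h.trans (sup_le h1 (commutator_le_self _))).lt_of_ne fun e => hK ?_
  have := Solv.eq_of_sup_map_frattini h1 (e.ge.trans (h.trans (sup_le_sup_left
    (Solv.commutator_le_map_frattini (hG.to_subgroup K).isNilpotent) _)))
  rw [← this]
  rintro _ ⟨i, rfl⟩ _ ⟨j, rfl⟩
  exact (zpow_mul_comm _ _ _)

theorem cl2_not_comm {a b : G} (h : ¬ Commute a b) : ¬ cl2 a b ≤ Ct(cl2 a b) :=
  fun h1 => h (h1 (right_mem a b) a (left_mem a b))

theorem W.mul_pow_of (h : W p G) {a b : G} (h1 : ∀ d ∈ ⁅cl2 a b, cl2 a b⁆, d ^ p = 1) :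
    (a * b) ^ p = a ^ p * b ^ p := by
  obtain ⟨c, hc, e⟩ := h.2 a b
  rw [e, mem_bot.1 (pc_le.2 (fun x hx => by rw [pow_one, h1 x hx]; exact one_mem ⊥) hc), mul_one]

theorem cl2_inv (a b : G) : cl2 a⁻¹ b = cl2 a b :=
  le_antisymm (cl2_le.2 ⟨inv_mem (left_mem _ _), right_mem _ _⟩)
    (cl2_le.2 ⟨by simpa using inv_mem (left_mem a⁻¹ b), right_mem _ _⟩)

theorem W.A1 (h : W p G) {x y : G} (e : x ^ p = y ^ p) : (x⁻¹ * y) ^ p = 1 := by
  have key : ∀ K : Subgroup G, ∀ x y, cl2 x y = K → x ^ p = y ^ p → (x⁻¹ * y) ^ p = 1 := by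
    refine subgroup_induction fun K ih x y hK e => ?_
    subst hK
    by_cases hc : Commute x y
    · rw [hc.inv_left.mul_pow, inv_pow, e, inv_mul_cancel]
    have hn := cl2_not_comm hc
    rw [h.mul_pow_of, inv_pow, e, inv_mul_cancel]
    refine der_exp (fun u hu v hv h1 h2 => ?_) ?_
    · rw [cl2_inv] at hu hv
      simpa using ih _ (lt_of_not_comm h.1 (left_mem _ _) hn (L := cl2 u⁻¹ v)
        ((cl2_le.2 ⟨inv_mem hu, hv⟩).trans le_sup_right)) u⁻¹ v rfl (by rw [inv_pow, h1, h2, inv_one])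
    · have := ih _ (lt_of_not_comm h.1 (left_mem _ _) hn (L := cl2 x (y * x * y⁻¹)) (cl2_le.2
        ⟨mem_sup_left (mem_zpowers x), ?_⟩)) x _ rfl (by rw [conj_pow, e]; group)
      · rw [commutatorElement_def, inv_inv]; simpa only [mul_assoc] using this
      · have : y * x * y⁻¹ = x * ⁅x⁻¹, y⁆ := by rw [commutatorElement_def]; group
        rw [this]
        exact mul_mem_sup (mem_zpowers x) (commutator_mem_commutator (inv_mem (left_mem _ _)) (right_mem _ _))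
  exact key _ x y rfl e

theorem W.mul_pow_of' (h : W p G) {a b : G} (h1 : ⁅a, b⁆ ^ p = 1) : (a * b) ^ p = a ^ p * b ^ p :=
  h.mul_pow_of (der_exp (fun u _ v _ h1 h2 => by
    simpa using h.A1 (x := u⁻¹) (y := v) (by rw [inv_pow, h1, h2, inv_one])) h1)

theorem W.A2 (h : W p G) (x y : G) : x ^ p = y ^ p ↔ (x⁻¹ * y) ^ p = 1 := by
  refine ⟨h.A1, fun e => ?_⟩
  obtain ⟨u, rfl⟩ : ∃ u, y = x * u := ⟨x⁻¹ * y, by group⟩
  rw [inv_mul_cancel_left] at e
  rw [h.mul_pow_of', e, mul_one]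
  have := h.A1 (x := x * u⁻¹ * x⁻¹) (y := u⁻¹) (by rw [conj_pow, inv_pow, e]; simp)
  rw [commutatorElement_def]; convert this using 2; group

/-- `Ω₁` -/
def W.om1 (h : W p G) : Subgroup G where
  carrier := {d | d ^ p = 1}
  mul_mem' := fun {u v} h1 h2 => by
    simpa using h.A1 (x := u⁻¹) (y := v) (by rw [inv_pow, h1, h2, inv_one])
  one_mem' := one_pow _
  inv_mem' := fun {u} hu => by
    show u⁻¹ ^ p = 1
    rw [inv_pow, hu, inv_one]

instance W.om1_normal (h : W p G) : h.om1.Normal := ⟨fun u hu g => by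
  show _ ^ p = 1
  rw [conj_pow, show u ^ p = 1 from hu]; simp⟩

theorem W.A (k : ℕ) : ∀ {G : Type u} [Group G] [Finite G], W p G → ∀ x y : G,
    x ^ p ^ k = y ^ p ^ k ↔ (x⁻¹ * y) ^ p ^ k = 1 := by
  induction k with
  | zero => intro G _ _ _ x y; simp [inv_mul_eq_one]
  | succ k ih =>
    intro G _ _ h x y
    have := ih (h.of_surj (QuotientGroup.mk'_surjective h.om1)) (QuotientGroup.mk' _ x) (QuotientGroup.mk' _ y)
    rw [← map_inv, ← map_mul, ← map_pow, ← map_pow, ← map_pow, QuotientGroup.mk'_apply,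
      QuotientGroup.mk'_apply, QuotientGroup.mk'_apply, QuotientGroup.eq, QuotientGroup.eq_one_iff] at this
    rw [pow_succ, pow_mul, pow_mul, pow_mul, h.A2]
    exact this

/-- `Ω_k` -/
def W.om (h : W p G) (k : ℕ) : Subgroup G where
  carrier := {d | d ^ p ^ k = 1}
  mul_mem' := fun {u v} h1 h2 => by
    simpa using (W.A k h u⁻¹ v).1 (by rw [inv_pow, h1, h2, inv_one])
  one_mem' := one_pow _
  inv_mem' := fun {u} hu => by
    show u⁻¹ ^ p ^ k = 1
    rw [inv_pow, hu, inv_one]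

theorem W.mem_om (h : W p G) {k : ℕ} {x : G} : x ∈ h.om k ↔ x ^ p ^ k = 1 := Iff.rfl

instance W.om_normal (h : W p G) (k : ℕ) : (h.om k).Normal := ⟨fun u hu g => by
  show _ ^ p ^ k = 1
  rw [conj_pow, show u ^ p ^ k = 1 from hu]; simp⟩

theorem W.pow_mul_of (h : W p G) {k : ℕ} (x : G) {u : G} (hu : u ^ p ^ k = 1) :
    (x * u) ^ p ^ k = x ^ p ^ k := ((W.A k h x (x * u)).2 (by simpa using hu)).symm

theorem W.comm_iff (h : W p G) (k : ℕ) (a b : G) : Commute (a ^ p ^ k) b ↔ ⁅a, b⁆ ^ p ^ k = 1 := by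
  have := W.A k h a⁻¹ (b * a⁻¹ * b⁻¹)
  rw [conj_pow, inv_inv, inv_pow, ← mul_assoc, ← mul_assoc, ← commutatorElement_def] at this
  rw [← this, eq_mul_inv_iff_mul_eq, ← Commute.inv_left_iff]
  rfl

theorem W.der_exp (h : W p G) {k : ℕ} {a b : G} (h1 : ⁅a, b⁆ ^ p ^ k = 1) :
    ∀ d ∈ ⁅cl2 a b, cl2 a b⁆, d ^ p ^ k = 1 :=
  fun _ hd => der_cl2_le (N := h.om k) le_normalizer_of_normal h1 hd

theorem exists_pow_of {K : Subgroup G} {k : ℕ}
    (h1 : ∀ x ∈ K, ∀ y ∈ K, ∃ z ∈ K, x ^ p ^ k * y ^ p ^ k = z ^ p ^ k) {c : G}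
    (hc : c ∈ powerClosure p k K) : ∃ z ∈ K, c = z ^ p ^ k := by
  let O : Subgroup G :=
    { carrier := {d | ∃ z ∈ K, d = z ^ p ^ k}
      mul_mem' := by rintro _ _ ⟨u, hu, rfl⟩ ⟨v, hv, rfl⟩; exact h1 u hu v hv
      one_mem' := ⟨1, one_mem _, (one_pow _).symm⟩
      inv_mem' := by rintro _ ⟨u, hu, rfl⟩; exact ⟨u⁻¹, inv_mem hu, (inv_pow _ _).symm⟩ }
  exact (pc_le (K := O)).2 (fun x hx => ⟨x, hx, rfl⟩) hc

theorem W.B1 (h : W p G) (x y : G) : ∃ z ∈ cl2 x y, x ^ p * y ^ p = z ^ p := by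
  have key : ∀ K : Subgroup G, ∀ x y, cl2 x y = K → ∃ z ∈ K, x ^ p * y ^ p = z ^ p := by
    refine subgroup_induction fun K ih x y hK => ?_
    subst hK
    have hxy := mul_mem (left_mem x y) (right_mem x y)
    by_cases hc : Commute x y
    · exact ⟨x * y, hxy, (hc.mul_pow _).symm⟩
    have hn := cl2_not_comm hc
    obtain ⟨c, hc, e⟩ := h.2 x y
    obtain ⟨d, hd, rfl⟩ := exists_pow_of (fun u hu v hv => by
      have h1 : cl2 u v ≤ ⁅cl2 x y, cl2 x y⁆ := cl2_le.2 ⟨hu, hv⟩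
      obtain ⟨z, hz, e⟩ := ih _ (lt_of_not_comm h.1 (left_mem _ _) hn (h1.trans le_sup_right)) u v rfl
      exact ⟨z, h1 hz, by simpa using e⟩) hc
    have h2 := lt_of_not_comm h.1 hxy hn (L := cl2 (x * y) d⁻¹)
      (cl2_le.2 ⟨mem_sup_left (mem_zpowers _), mem_sup_right (inv_mem hd)⟩)
    obtain ⟨z, hz, e2⟩ := ih _ h2 _ _ rfl
    exact ⟨z, h2.le hz, by rw [← e2, e, pow_one, inv_pow, mul_inv_cancel_right]⟩
  exact key _ x y rfl

theorem W.B (h : W p G) (k : ℕ) : ∀ {K : Subgroup G} {c : G}, c ∈ powerClosure p k K →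
    ∃ z ∈ K, c = z ^ p ^ k := by
  have h1 : ∀ {K : Subgroup G} {c : G}, c ∈ powerClosure p 1 K → ∃ z ∈ K, c = z ^ p ^ 1 :=
    fun {K c} => exists_pow_of fun x hx y hy => by
      obtain ⟨z, hz, e⟩ := h.B1 x y
      exact ⟨z, cl2_le.2 ⟨hx, hy⟩ hz, by simpa using e⟩
  induction k with
  | zero => intro K c hc; exact ⟨c, pc_le_self _ _ hc, by simp⟩
  | succ k ih =>
    intro K c
    refine exists_pow_of fun x hx y hy => ?_
    obtain ⟨z, hz, e⟩ := ih (mul_mem (pow_mem_pc (n := k) (pow_mem_pc (p := p) (n := 1) hx))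
      (pow_mem_pc (pow_mem_pc (n := 1) hy)))
    obtain ⟨w, hw, rfl⟩ := h1 hz
    exact ⟨w, hw, by simpa only [← pow_mul, pow_one, ← pow_succ'] using e⟩

theorem W.mul_pow (h : W p G) (k : ℕ) : ∀ {a b : G}, ⁅a, b⁆ ^ p ^ k = 1 →
    (a * b) ^ p ^ k = a ^ p ^ k * b ^ p ^ k := by
  induction k with
  | zero => intro a b _; simp
  | succ k ih =>
    intro a b h1
    obtain ⟨c, hc, e⟩ := h.2 a b
    obtain ⟨d, hd, rfl⟩ := h.B 1 hc
    have h2 := h.der_exp h1 d hd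
    rw [pow_succ', pow_mul, e, h.pow_mul_of _ (by rw [← pow_mul, pow_one, ← pow_succ']; exact h2), ih,
      ← pow_mul, ← pow_mul]
    rw [← h.comm_iff, ← pow_mul, ← pow_succ']
    exact ((h.comm_iff _ _ _).2 h1).pow_right _

theorem W.reg (h : W p G) : IsRegularPGroup p G := by
  refine ⟨h.1, fun a b n => ?_⟩
  let K := cl2 a b
  have hK : W p K := h.of_inj K.subtype_injective
  let N := powerClosure p n (_root_.commutator K)
  let a' : K := ⟨a, left_mem a b⟩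
  let b' : K := ⟨b, right_mem a b⟩
  have h1 := (hK.of_surj (QuotientGroup.mk'_surjective N)).mul_pow n (a := QuotientGroup.mk' N a')
    (b := QuotientGroup.mk' N b') (by
      rw [← map_commutatorElement, ← map_pow]
      exact (QuotientGroup.eq_one_iff _).2 (pow_mem_pc (commutator_mem_commutator (mem_top _) (mem_top _))))
  rw [← map_mul, ← map_pow, ← map_pow, ← map_pow, ← map_mul, eq_comm, QuotientGroup.mk'_apply,
    QuotientGroup.mk'_apply, QuotientGroup.eq] at h1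
  refine ⟨(a ^ p ^ n * b ^ p ^ n)⁻¹ * (a * b) ^ p ^ n, ?_, by group⟩
  rw [← map_subtype_commutator, ← map_pc]
  exact ⟨_, h1, rfl⟩

theorem W_of_lcs (hG : IsPGroup p G)
    (h : ∀ a b : G, (cl2 a b).lowerCentralSeries (p - 1) ≤ powerClosure p 1 ⁅cl2 a b, cl2 a b⁆) :
    W p G := by
  refine ⟨hG, fun a b => ⟨_, Petr.petrescu (left_mem a b) (right_mem a b) p fun k h1 h2 c hc => ?_,
    by group⟩⟩
  by_cases h3 : k + 1 = p
  · rw [h3, Nat.choose_self, pow_one]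
    exact h a b (by rwa [← h3, Nat.add_sub_cancel])
  · obtain ⟨j, hj⟩ := hp.out.dvd_choose_self (k := k + 1) (by omega) (by omega)
    rw [hj, pow_mul]
    have := pow_mem_pc (p := p) (n := 1) ((cl2 a b).lowerCentralSeries_antitone h1 hc)
    rw [pow_one] at this
    exact pow_mem this _

theorem W_of_cyclic (hG : IsPGroup p G) (h2 : p ≠ 2) (hc : IsCyclic (_root_.commutator G)) : W p G := by
  refine W_of_lcs hG fun a b => ?_
  set K := cl2 a b
  have h3 : 2 ≤ p - 1 := by have := hp.out.two_le; omega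
  refine (K.lowerCentralSeries_antitone h3).trans ?_
  change ⁅⁅K, K⁆, K⁆ ≤ _
  haveI : IsCyclic (⁅K, K⁆ : Subgroup G) := isCyclic_of_le (H' := _root_.commutator G) (commutator_mono le_top le_top)
  obtain ⟨c, hc, h4⟩ := Solv.isCyclic_iff_exists_le_zpowers.1 this
  have h5 : ⁅⁅K, K⁆, K⁆ ≤ ⁅K, K⁆ := commutator_mono (commutator_le_self _) le_rfl
  by_cases h6 : c ∈ ⁅⁅K, K⁆, K⁆
  · obtain ⟨n, hn⟩ := (K.isNilpotent_iff_lowerCentralSeries).1 (hG.to_subgroup K).isNilpotent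
    have : ∀ n, ⁅K, K⁆ ≤ K.lowerCentralSeries n := fun n => by
      induction n with
      | zero => exact commutator_le_self _
      | succ n ih =>
        rcases n with _ | n
        · exact le_rfl
        · exact h4.trans ((zpowers_le.2 h6).trans (commutator_mono ih le_rfl))
    exact h5.trans ((this n).trans (hn ▸ bot_le))
  · intro x hx
    obtain ⟨i, rfl⟩ := h4 (h5 hx)
    by_cases hi : (p : ℤ) ∣ i
    · obtain ⟨j, rfl⟩ := hi
      have := pow_mem_pc (p := p) (n := 1) hc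
      rw [pow_one] at this
      simpa [zpow_mul] using zpow_mem this j
    · exfalso
      obtain ⟨m, hm⟩ := hG c
      obtain ⟨u, v, huv⟩ := ((Int.prime_iff_natAbs_prime.2 (by simpa using hp.out)).coprime_iff_not_dvd.2
        hi).pow_left (m := m)
      apply h6
      have : c = (c ^ i) ^ v := by
        conv_lhs => rw [← zpow_one c, ← huv]
        rw [zpow_add, mul_comm u, zpow_mul, ← Nat.cast_pow, zpow_natCast, hm, one_zpow, one_mul, mul_comm, zpow_mul]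
      rw [this]; exact zpow_mem hx v

end Cfsg.Agent.Reg
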