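import Cfsg.Agent.Lib.BG.MinNA
import Cfsg.Agent.Lib.BG.Reg

set_option autoImplicit false
set_option linter.unusedSectionVars false
set_option linter.style.haveILetI false

/-! Indecomposable coprime action on an abelian `p`-group. -/

namespace Cfsg.Agent.Indec

open Cfsg.Agent.Comp Cfsg.Agent.BG Subgroup
open scoped commutatorElement

universe u
variable {G : Type u} [Group G] [Finite G] {p : ℕ} {V A B U : Subgroup G}

def pp (hV : IsMulCommutative V) (n : ℕ) (U : Subgroup G) : Subgroup G where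
  carrier := {a | a ∈ V ∧ a ^ n ∈ U}
  mul_mem' := fun {a b} ha hb => ⟨mul_mem ha.1 hb.1, by
    rw [Commute.mul_pow (Solv.isMulCommutative_iff.1 hV a ha.1 b hb.1)]; exact mul_mem ha.2 hb.2⟩
  one_mem' := ⟨one_mem _, by rw [one_pow]; exact one_mem _⟩
  inv_mem' := fun {a} ha => ⟨inv_mem ha.1, by rw [inv_pow]; exact inv_mem ha.2⟩

theorem le_Nm_pp (hV : IsMulCommutative V) (n : ℕ) (h1 : A ≤ Nm(V)) (h2 : A ≤ Nm(U)) : A ≤ Nm(pp hV n U) :=
  le_normalizer_of_cj_le fun g hg => cj_le_iff'.2 fun a ha => ⟨(mem_normalizer_iff.1 (h1 hg) a).1 ha.1, by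
    rw [conj_pow]; exact (mem_normalizer_iff.1 (h2 hg) _).1 ha.2⟩

theorem exists_pow [Fact p.Prime] (hB : IsMulCommutative B) {k : ℕ} {c : G} (h : c ∈ powerClosure p k B) : ∃ z ∈ B, c = z ^ p ^ k :=
  Reg.exists_pow_of (fun x hx y hy => ⟨x * y, mul_mem hx hy,
    (Commute.mul_pow (Solv.isMulCommutative_iff.1 hB x hx y hy) _).symm⟩) h

variable [hp : Fact p.Prime]

theorem exists_compl (hV : IsMulCommutative V) (hP : IsPGroup p V) {e : ℕ} (he : ∀ v ∈ V, v ^ p ^ (e + 1) = 1) (h1 : B ≤ V)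
    (h : ∀ b ∈ B, b ^ p ^ e = 1 → ∃ c ∈ B, b = c ^ p) : ∃ W, W ⊓ B = ⊥ ∧ B ⊔ W = V := by
  obtain ⟨W, -, ⟨w1, w2⟩, w3⟩ := Finite.exists_le_maximal (p := fun W => W ≤ V ∧ W ⊓ B = ⊥) ⟨bot_le, bot_inf_eq B⟩
  have cm := Solv.isMulCommutative_iff.1 hV
  have n : ∀ {X Y : Subgroup G}, X ≤ V → Y ≤ V → X ≤ Nm(Y) := fun a b =>
    ((a.trans (le_centralizer_iff_isMulCommutative.2 hV)).trans (centralizer_le b)).trans (centralizer_le_normalizer _)
  refine ⟨W, w2, le_antisymm (sup_le h1 w1) fun a ha => ?_⟩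
  obtain ⟨k, hk⟩ : ∃ k, a ^ p ^ k ∈ B ⊔ W := ⟨_, he a ha ▸ one_mem _⟩
  induction k generalizing a with
  | zero => simpa using hk
  | succ k ih =>
  replace hk := ih (a ^ p) (pow_mem ha p) (by rwa [← pow_mul, ← pow_succ'])
  by_contra e1
  obtain ⟨b, b1, w, b2, b3⟩ := (Comp.mem_sup_of_le_normalizer (n h1 w1)).1 hk
  obtain ⟨c, c1, rfl⟩ := h b b1 (by
    have t := he a ha
    rw [pow_succ', pow_mul, ← b3, Commute.mul_pow (cm _ (h1 b1) _ (w1 b2)), mul_eq_one_iff_eq_inv] at t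
    exact mem_bot.1 (w2 ▸ mem_inf.2 ⟨t ▸ inv_mem (pow_mem b2 _), pow_mem b1 _⟩))
  have a1 : c⁻¹ * a ∈ V := mul_mem (inv_mem (h1 c1)) ha
  have a2 : (c⁻¹ * a) ^ p ∈ W := by
    rwa [Commute.mul_pow (cm _ (inv_mem (h1 c1)) _ ha), ← b3, inv_pow, inv_mul_cancel_left]
  have a3 : c⁻¹ * a ∉ B ⊔ W := fun t => e1 ((mul_mem_cancel_left (inv_mem (mem_sup_left c1))).1 t)
  refine a3 (mem_sup_right (w3 (y := zpowers (c⁻¹ * a) ⊔ W) ⟨sup_le (zpowers_le.2 a1) w1, ?_⟩ le_sup_right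
    (mem_sup_left (mem_zpowers _))))
  rw [eq_bot_iff]
  rintro x ⟨x1, x2⟩
  obtain ⟨y, y1, w', y2, rfl⟩ := (Comp.mem_sup_of_le_normalizer (n (zpowers_le.2 a1) w1)).1 x1
  obtain ⟨j, rfl⟩ := Transfer.exists_pow_eq y1
  by_cases t : p ∣ j
  · obtain ⟨j, rfl⟩ := t
    exact w2.le ⟨mul_mem (by rw [pow_mul]; exact pow_mem a2 _) y2, x2⟩
  obtain ⟨m, hm⟩ := hP.exists_orderOf_eq_pow ⟨_, a1⟩
  refine absurd (Comp.mem_of_pow_mem_of_coprime (n := j) ?_ ((mul_mem_cancel_right (mem_sup_right y2)).1 (mem_sup_left x2))) a3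
  rw [← orderOf_coe] at hm
  rw [show orderOf (c⁻¹ * a) = p ^ m from hm]
  exact ((Nat.Prime.coprime_iff_not_dvd hp.out).2 t).pow_left m

theorem irr (hV : IsMulCommutative V) (hP : IsPGroup p V) (hA : A ≤ Nm(V)) (hc : (Nat.card A).Coprime p)
    (h : ∀ B C, A ≤ Nm(B) → A ≤ Nm(C) → B ⊓ C = ⊥ → B ⊔ C = V → B = ⊥ ∨ C = ⊥) (h1 : U ≤ V) (h2 : A ≤ Nm(U))
    (h3 : ∀ u ∈ U, u ^ p = 1) (h0 : U ≠ ⊥) : ∀ v ∈ V, v ^ p = 1 → v ∈ U := by
  classical
  obtain ⟨n, hn⟩ := IsPGroup.iff_card.1 hP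
  have ex : ∃ e, ∀ v ∈ V, v ^ p ^ e = 1 := ⟨n, fun v hv => hn ▸ congrArg Subtype.val (pow_card_eq_one' (x := (⟨v, hv⟩ : V)))⟩
  obtain ⟨e, he⟩ := Nat.exists_eq_succ_of_ne_zero (n := Nat.find ex) fun t => h0 (by
    have := Nat.find_spec ex
    rw [t] at this
    exact eq_bot_iff.2 fun u hu => by simpa using this u (h1 hu))
  have e1 : ∀ v ∈ V, v ^ p ^ (e + 1) = 1 := by have := Nat.find_spec ex; rwa [he] at this
  have e2 : ¬ ∀ v ∈ V, v ^ p ^ e = 1 := Nat.find_min ex (by omega)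
  obtain ⟨B, -, ⟨b1, b2, b3⟩, b4⟩ := Finite.exists_le_minimal
    (p := fun B => B ≤ V ∧ A ≤ Nm(B) ∧ ¬ ∀ v ∈ B, v ^ p ^ e = 1) ⟨le_rfl, hA, e2⟩
  have hB : IsMulCommutative B := Solv.isMulCommutative_iff.2 fun x hx y hy =>
    Solv.isMulCommutative_iff.1 hV x (b1 hx) y (b1 hy)
  have k : ∀ b ∈ B, b ^ p ^ e = 1 → ∃ c ∈ B, b = c ^ p := by
    have f1 := Reg.pc_le_self (p := p) 1 B
    have hq : A ⊔ B ≤ Nm(powerClosure p 1 B) := Reg.le_Nm_pc (sup_le b2 le_normalizer)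
    have o1 : pp hB (p ^ e) ⊥ ≤ B := fun x hx => hx.1
    have o2 : powerClosure p 1 B ≤ pp hB (p ^ e) ⊥ := Reg.pc_le.2 fun x hx => ⟨pow_mem hx _, by
      rw [← pow_mul, ← pow_add, add_comm, e1 x (b1 hx)]; exact one_mem _⟩
    obtain ⟨X, x1, x2, x3⟩ := exists_invariant_compl_of_elem (V := img hq B) (A := img hq A) (U := img hq (pp hB (p ^ e) ⊥))
      ((elem_img_iff le_sup_right).2 ⟨by rw [commutator_self_eq_bot_iff.2 hB]; exact bot_le,
        fun x hx => by simpa using Reg.pow_mem_pc (p := p) (n := 1) hx⟩) (img_le_normalizer b2) (coprime_img_left hc) (img_mono o1)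
      (img_le_normalizer (le_Nm_pp hB _ b2 le_normalizer_of_normal))
    have y1 : pp hB (p ^ e) ⊥ ⊔ pre hq X = B := by
      rw [← pre_img_of_le (h := hq) (o1.trans le_sup_right) o2, ← pre_sup, x3, pre_img_of_le le_sup_right f1]
    have y2 := b4 (y := pre hq X) ⟨(le_sup_right.trans y1.le).trans b1, le_normalizer_pre le_sup_left x1, fun t => b3 fun v hv =>
      (y1.ge.trans (sup_le le_rfl fun x hx => ⟨y1.le (mem_sup_right hx), t x hx⟩) hv).2⟩ (le_sup_right.trans y1.le)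
    have y3 := (img_eq_bot_iff (h := hq) (o1.trans le_sup_right)).1
      (le_bot_iff.1 (x2 ▸ le_inf ((img_mono o1).trans ((img_le_iff le_sup_right).2 y2)) le_rfl))
    intro b hb t
    simpa using exists_pow hB (y3 ⟨hb, t⟩)
  obtain ⟨W, w1, w2⟩ := exists_compl hV hP e1 b1 k
  obtain ⟨C, c1, c2, c3⟩ := exists_invariant_compl hV hA (hn ▸ hc.pow_right n) b2 w1 w2
  obtain rfl : B = V := by
    rcases h B C b2 c1 (inf_comm C B ▸ c2) c3 with t | t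
    · exact absurd (fun v hv => by rw [t, mem_bot] at hv; rw [hv, one_pow]) b3
    · rwa [t, sup_bot_eq] at c3
  have r : ∀ v ∈ B, v ^ p = 1 → ∀ j ≤ e, ∃ c ∈ B, v = c ^ p ^ j := fun v hv t j => by
    induction j with
    | zero => exact fun _ => ⟨v, hv, by simp⟩
    | succ j ih =>
      intro hj
      obtain ⟨c, c1, rfl⟩ := ih (by omega)
      obtain ⟨i, rfl⟩ := Nat.exists_eq_add_of_le hj
      obtain ⟨d, d1, rfl⟩ := k c c1 (by rw [pow_add, pow_succ, pow_mul, pow_mul, t, one_pow])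
      exact ⟨d, d1, by rw [← pow_mul, pow_succ']⟩
  have s := b4 (y := pp hV (p ^ e) U) ⟨fun x hx => hx.1, le_Nm_pp hV _ hA h2, fun t => h0 (eq_bot_iff.2 fun u hu => by
    obtain ⟨c, c1, rfl⟩ := r u (h1 hu) (h3 u hu) e le_rfl
    exact t c ⟨c1, hu⟩)⟩ fun x hx => hx.1
  intro v hv t
  obtain ⟨c, c1, rfl⟩ := r v hv t e le_rfl
  exact (s c1).2

end Cfsg.Agent.Indec
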