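import Cfsg.Agent.Lib.BG.MinNA
import Cfsg.Agent.Lib.Transfer.ZStar
import Cfsg.Agent.Lib.Comp.SPE

namespace Cfsg.Agent.Isol
open Cfsg.Agent.Comp Cfsg.Agent.BG Subgroup commutatorElement

universe u
variable {G : Type u} [Group G] [Finite G] {p : ℕ} [hp : Fact p.Prime] {x : G}

theorem eq_of_central_syl {P K : Subgroup G} (hP : SylIn p P K) (h : P ≤ Ct(K)) (h0 : Opp p K = ⊥) : P = K := by
  have h1 := hasNPC_of_le_Ct hP (inf_le_left.trans (le_centralizer_iff.1 h))
  rwa [hasNPC_iff_sup hP, h0, bot_sup_eq] at h1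

theorem Opp_bot {K : Subgroup G} (h : SubnIn K ⊤) (h0 : Opp p (⊤ : Subgroup G) = ⊥) : Opp p K = ⊥ :=
  le_bot_iff.1 (h0 ▸ h.Opp_le p)

theorem norm_comp (h0 : Opp p (⊤ : Subgroup G) = ⊥) (hx : IsPGroup p (zpowers x)) (hiso : IsIsolated x)
    {L : Subgroup G} (hL : CompIn L ⊤) : x ∈ Nm(L) := by
  by_contra hn
  obtain ⟨P, hxP, hP⟩ := exists_sylIn_ge hx (le_top : zpowers x ≤ ⊤)
  have hR := hP.inf_subnIn hL.subn
  have hc : cj(x, L) ≤ Ct(L) := by
    by_contra h
    exact hn (hL.mem_normalizer_of_not_le (le_normalizer (mem_top x)) h)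
  have h1 : P ⊓ L ≤ Ct(L) := by
    intro r hr
    apply hc
    have := mem_centralizer_singleton_iff.1 (Transfer.isol_le_Ce1 hiso hP.isP (hxP (mem_zpowers x)) hr.1)
    rw [mem_cj, mul_assoc, this, inv_mul_cancel_left]
    exact hr.2
  have h2 := eq_of_central_syl hR h1 (Opp_bot hL.subn h0)
  exact hL.qs.not_le_centralizer (h2.ge.trans h1)

omit [Finite G] in
theorem center_of_normal (hiso : IsIsolated x) {K : Subgroup G} [K.Normal] (hx : x ∈ K) (h : x ∈ Ct(K)) :
    x ∈ center G := by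
  rw [mem_center_iff]
  intro g
  have := hiso g (mem_centralizer_iff.1 h _ (Normal.conj_mem inferInstance x hx g)).symm
  rw [← mul_inv_eq_iff_eq_mul, this]

omit [Finite G] hp in
theorem zs_sub {H : Subgroup G} {hx : x ∈ H} (h : InZStar p (⟨x, hx⟩ : H)) {g : G} (hg : g ∈ H) :
    g * x * g⁻¹ * x⁻¹ ∈ Opp p H := by
  rw [← map_pPrimeCore]
  exact ⟨_, h ⟨g, hg⟩, rfl⟩

theorem core (hx : orderOf x = p) (hiso : IsIsolated x) (hnz : ¬ InZStar p x)
    (hmin : ∀ (H : Subgroup G) (hxH : x ∈ H), H ≠ ⊤ → InZStar p (⟨x, hxH⟩ : ↥H))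
    (hquot : ∀ (N : Subgroup G) [N.Normal], N ≠ ⊥ → InZStar p (QuotientGroup.mk x : G ⧸ N)) :
    Fit (⊤ : Subgroup G) = ⊥ ∧ IsSimpleGroup ↥(commutator G) ∧ ¬ IsMulCommutative ↥(commutator G) ∧
      commutator G ⊔ zpowers x = ⊤ := by
  have hxp := isPGroup_zpowers_of_orderOf_eq hx
  have hO : pPrimeCore p G = ⊥ := by
    by_contra h
    apply hnz
    intro g
    have := hquot _ h (g : G ⧸ pPrimeCore p G)
    rw [← Solv.comap_mk_pPrimeCore (N := pPrimeCore p G) (Solv.coprime_card_pPrimeCore p)]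
    exact this
  have h0 : Opp p (⊤ : Subgroup G) = ⊥ := by rwa [Opp_top]
  have hxc : x ∉ center G := by
    intro h
    apply hnz
    intro g
    rw [mem_center_iff.1 h g]
    simp
  have main : ∀ (N : Subgroup G) [N.Normal], N ≠ ⊥ → N ⊔ zpowers x = ⊤ := by
    intro N _ hN
    by_contra hH
    have hxH : x ∈ N ⊔ zpowers x := mem_sup_right (mem_zpowers x)
    have h1 : x ∈ Ct(N) := by
      rw [mem_centralizer_iff]
      intro n hn
      have h2 : n * x * n⁻¹ * x⁻¹ ∈ Opp p (N ⊔ zpowers x) ⊓ N := by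
        refine ⟨zs_sub (hmin _ hxH hH) (mem_sup_left hn), ?_⟩
        have : n * x * n⁻¹ * x⁻¹ = n * (x * n⁻¹ * x⁻¹) := by group
        rw [this]
        exact N.mul_mem hn (Normal.conj_mem inferInstance _ (N.inv_mem hn) x)
      rw [← ((SubnIn.of_normal N).of_le le_sup_left le_top).Opp_eq, Opp_bot (SubnIn.of_normal N) h0, mem_bot,
        mul_inv_eq_one, mul_inv_eq_iff_eq_mul] at h2
      exact h2
    by_cases hC : Ct(N) = ⊤
    · apply hxc
      let K := (pPrimeCore p (G ⧸ N)).comap (QuotientGroup.mk' N)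
      obtain ⟨Q, hQ⟩ := exists_sylIn p K
      have hQN : Q ≤ N := by
        rw [← QuotientGroup.ker_mk' N, ← Subgroup.map_eq_bot_iff]
        have h3 : IsPGroup p (Q.map (QuotientGroup.mk' N)) := hQ.isP.map _
        by_contra h4
        exact coprime_iff_not_dvd.1 (Solv.coprime_card_pPrimeCore (G := G ⧸ N) p)
          ((dvd_card_of_isPGroup h3 h4).trans (card_dvd_of_le (map_le_iff_le_comap.2 hQ.le)))
      have hNc : N ≤ center G := by
        intro n hn
        rw [mem_center_iff]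
        intro g
        exact (mem_centralizer_iff.1 (hC ▸ mem_top g : g ∈ Ct(N)) n hn).symm
      have h4 := eq_of_central_syl hQ (hQN.trans (hNc.trans (center_le_centralizer _)))
        (Opp_bot (SubnIn.of_normal K) h0)
      rw [mem_center_iff]
      intro g
      have h5 : g * x * g⁻¹ * x⁻¹ ∈ K := hquot N hN (g : G ⧸ N)
      have h6 := mem_center_iff.1 (hNc (hQN (h4 ▸ h5))) x
      have h7 : Commute x (g * x * g⁻¹) := by
        have : g * x * g⁻¹ = (g * x * g⁻¹ * x⁻¹) * x := by group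
        rw [this]
        exact Commute.mul_right h6 (Commute.refl x)
      rw [← mul_inv_eq_iff_eq_mul, hiso g h7]
    · refine hxc (center_of_normal hiso h1 ?_)
      rw [mem_centralizer_iff]
      intro c hc
      have h2 := zs_sub (hmin _ h1 hC) hc
      rw [Opp_bot (SubnIn.of_normal _) h0, mem_bot, mul_inv_eq_one, mul_inv_eq_iff_eq_mul] at h2
      exact h2
  have hder : ∀ (N : Subgroup G) [N.Normal], N ≠ ⊥ → commutator G ≤ N := by
    intro N _ hN
    rw [← QuotientGroup.ker_mk' N, ← Subgroup.map_eq_bot_iff, commutator_def, ← main N hN, Subgroup.map_commutator,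
      Subgroup.map_sup, (Subgroup.map_eq_bot_iff N).2 (by rw [QuotientGroup.ker_mk']), bot_sup_eq, MonoidHom.map_zpowers,
      Subgroup.commutator_self_eq_bot_iff]
    infer_instance
  have hF : Fit (⊤ : Subgroup G) = ⊥ := by
    rw [Fit_eq_Op h0, Op_top]
    by_contra h
    apply hxc
    have h1 : IsPGroup p (⊤ : Subgroup G) :=
      main _ h ▸ (Solv.isPGroup_pCore p G).to_sup_of_normal_left hxp
    rw [mem_center_iff]
    intro g
    exact mem_centralizer_singleton_iff.1 (Transfer.isol_le_Ce1 hiso h1 (mem_top x) (mem_top g))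
  have hE : Lay (⊤ : Subgroup G) ≠ ⊥ := by
    intro h
    have h1 : (⊤ : Subgroup G) = ⊥ := eq_bot_of_Fstar_eq_bot (by rw [Fstar, h, hF, bot_sup_eq])
    have h2 : x = 1 := mem_bot.1 (h1 ▸ mem_top x)
    exact hxc (h2 ▸ one_mem _)
  obtain ⟨L, hL⟩ : ∃ L : Subgroup G, CompIn L ⊤ := by
    by_contra h
    exact hE (Lay_eq_bot_iff.2 (not_exists.1 h))
  haveI : (Lay (⊤ : Subgroup G)).Normal := by rw [Lay_top]; infer_instance
  haveI : L.Normal := by
    rw [← normalizer_eq_top_iff, eq_top_iff, ← main _ hE]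
    exact sup_le hL.Lay_le_normalizer (zpowers_le.2 (norm_comp h0 hxp hiso hL))
  have hLG : commutator G = L :=
    le_antisymm (hder L hL.qs.ne_bot) (hL.qs.perfect ▸ commutator_mono le_top le_top)
  rw [hLG]
  refine ⟨hF, hL.qs.isSimpleGroup ?_, fun h => hL.qs.not_le_centralizer ?_, main L hL.qs.ne_bot⟩
  · rw [eq_bot_iff, ← hF]
    exact le_Fit le_top (by rw [normalizer_eq_top]) (isNilpotent_of_le_centralizer
      (inf_le_right.trans (centralizer_le (show _ ≤ L from inf_le_left))))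
  · exact le_centralizer_iff_isMulCommutative.2 h

end Cfsg.Agent.Isol
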