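/-
Groups with a nilpotent maximal invariant subgroup whose Sylow 2-subgroup has class at most 2.
-/
import Cfsg.Agent.Lib.BG.Sec1
import Cfsg.Agent.Lib.BG.Rank
import Cfsg.Agent.Lib.Transfer.NPC
import Cfsg.Agent.Lib.Comp.PRed
import Cfsg.Agent.Lib.Solv.Frob3
import Cfsg.Agent.Lib.FT.Cor

set_option autoImplicit false
set_option linter.unusedSectionVars false

namespace Cfsg.Agent.Janko

open Subgroup Comp BG
open scoped commutatorElement Pointwise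

universe u

variable {X : Type u} [Group X] [Finite X] {S H D E F : Subgroup X}

/-- index at most two -/
def I2 (A B : Subgroup X) : Prop := ∀ x ∈ B, ∀ y ∈ B, x ∉ A → y ∉ A → x * y ∈ A

structure Par (S D : Subgroup X) : Prop where
  le : D ≤ S
  zle : S ⊓ Ct(S) ≤ D
  ct : S ⊓ Ct(D ⊓ Ct(D)) ≤ D
  i2 : I2 D S
  ex : I2 (S ⊓ Ct(S)) (D ⊓ Ct(D)) → ¬ D ⊓ Ct(D) ≤ S ⊓ Ct(S) → ∃ v ∈ D ⊓ Ct(D), ∃ z ∈ S ⊓ Ct(S), v ∉ S ⊓ Ct(S) ∧ v * v = 1 ∧
    z * z = 1 ∧ z ∉ ⁅D, D⁆ ∧ (∀ c ∈ S ⊓ Ct(S), c * c ≠ z) ∧ ∀ s ∈ S, ∀ u ∈ D ⊓ Ct(D), ⁅s, u⁆ = 1 ∨ ⁅s, u⁆ = z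

theorem comm_sq {s v : X} (h : s * ⁅s, v⁆ = ⁅s, v⁆ * s) : ⁅s * s, v⁆ = ⁅s, v⁆ * ⁅s, v⁆ := by
  rw [show ⁅s * s, v⁆ = s * ⁅s, v⁆ * s⁻¹ * ⁅s, v⁆ by simp only [commutatorElement_def]; group, h, mul_inv_cancel_right]

theorem par (hS : SylIn 2 S H) (hc : S ⋖ H) (hZ : S ⊓ Ct(S) ≤ Op 2 H) (hcl : ⁅S, S⁆ ≤ Ct(S)) (hC : H ⊓ Ct(S ⊓ Ct(S)) ≤ S)
    (hN : H ⊓ Nm(S) ≤ S) : Par S (Op 2 H) ∧ ⁅Op 2 H, H⁆ ≤ Op 2 H ⊓ Ct(Op 2 H) := by
  obtain ⟨D, hD⟩ : ∃ D, D = Op 2 H := ⟨_, rfl⟩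
  have d0 : ∀ N, N ≤ S → H ≤ Nm(N) → N ≤ D := fun N a b => hD ▸ le_Op (a.trans hS.le) b (hS.isP.to_le a)
  have d1 : D ≤ S := hD ▸ hS.Op_le
  have d2 : H ≤ Nm(D) := hD ▸ le_normalizer_Op_of_le le_rfl
  rw [← hD] at hZ ⊢
  have d3 : ⁅S, S⁆ ≤ S ⊓ Ct(S) := le_inf (commutator_le_self S) hcl
  have d4 : S ⊓ Ct(S) ≤ D ⊓ Ct(D) := le_inf hZ (inf_le_right.trans (Comp.centralizer_mono d1))
  have d5 : H ≤ Nm(D ⊓ Ct(D)) := le_normalizer_center d2
  have d6 : H ⊓ Ct(D ⊓ Ct(D)) ≤ D := d0 _ ((inf_le_inf_left _ (Comp.centralizer_mono d4)).trans hC)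
    (Comp.le_normalizer_inf le_normalizer (Comp.le_normalizer_centralizer d5))
  have d7 : ∀ K, S ≤ K → K ≤ H → ¬ K ≤ S → K = H := fun K a b c => (hc.eq_or_eq a b).resolve_left fun e => c e.le
  have d8 : ¬ Res 2 H ≤ Ct(D ⊓ Ct(D)) := fun h =>
    hc.lt.not_ge (hS.Res_sup.ge.trans (sup_le (((le_inf (BG.Res_le 2 H) h).trans d6).trans d1) le_rfl))
  obtain ⟨h, hh, h0⟩ := SetLike.exists_of_lt hc.lt
  have t1 : S ⊔ cj(h, S) = H := d7 _ le_sup_left (sup_le hS.le (cj_le_of_mem hS.le (le_normalizer hh))) fun e =>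
    h0 (hN ⟨hh, cj_eq_self_iff.1 (eq_of_le_of_card_eq (le_sup_right.trans e) (card_cj _ _))⟩)
  have t2 : ∀ U N : Subgroup X, S ≤ Nm(N) → h ∈ Nm(N) → h ∈ Nm(U) → ⁅U, S⁆ ≤ N → ⁅U, H⁆ ≤ N := fun U N a b c e => by
    rw [← t1]
    refine commutator_sup_right_le a ?_ e ?_
    · rw [← cj_eq_self_iff.2 b, ← cj_normalizer]; exact cj_mono h a
    · rw [← cj_eq_self_iff.2 c, ← cj_commutator]; exact cj_le_of_mem e b
  have t3 := t2 D _ (hS.le.trans d5) (d5 hh) (d2 hh) (((commutator_mono d1 le_rfl).trans d3).trans d4)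
  have s1 : ∀ s ∈ S, s * s ∈ D := fun s hs => by
    have a1 : H ≤ Nm(H ⊓ Ct(OmZ 2 D)) :=
      Comp.le_normalizer_inf le_normalizer (Comp.le_normalizer_centralizer (le_normalizer_OmZ d2))
    refine d0 _ (by_contra fun e => d8 (Res_le_of_forall_coprime fun Q b1 b2 => ?_)) a1
      (mem_inf.2 ⟨hS.le (mul_mem hs hs), fun v hv => (commutatorElement_eq_one_iff_mul_comm.1 ?_).symm⟩)
    · have b3 : Q ≤ Ct(OmZ 2 D) := by
        have b3 := Res_sup_le' (hS.le.trans a1) hS.isP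
        rw [d7 _ le_sup_right (sup_le inf_le_left hS.le) fun h => e (le_sup_left.trans h)] at b3
        exact ((le_Res b1 b2).trans b3).trans inf_le_right
      have b4 : IsPGroup 2 (D ⊓ Ct(D) : Subgroup X) := hS.isP.to_le (inf_le_left.trans d1)
      obtain ⟨n, hn⟩ := b4.exists_card_eq
      have b5 := Solv.commutator_le_left_of_le_normalizer (b1.trans d5)
      refine le_Ct_comm.1 (commutator_eq_bot_iff_le.1 (by_contra fun e => ?_))
      obtain ⟨x, hx, b6⟩ := exists_mem_orderOf_eq_of_isPGroup (b4.to_le b5) e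
      exact ne_one_of_orderOf_eq b6 (mem_bot.1 ((commutator_inf_Ct_of_comm (comm_iff_le.2 (center_le_centralizer D)) (b1.trans d5)
        (hn ▸ b2.pow_right n)).le (mem_inf.2 ⟨hx, le_Ct_comm.1 b3 (mem_omegaOne (b5 hx) (b6 ▸ pow_orderOf_eq_one x))⟩)))
    have b1 := mem_OmZ.1 hv
    have b2 := hcl (commutator_mem_commutator hs (d1 b1.1))
    rw [comm_sq (b2 s hs)]
    have b3 := comm_sq (s := v) (v := s) (hcl (commutator_mem_commutator (d1 b1.1) hs) v (d1 b1.1))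
    rw [← sq v, b1.2.2, commutatorElement_one_left] at b3
    rw [← commutatorElement_inv s v, ← mul_inv_rev] at b3
    exact inv_eq_one.1 b3.symm
  have s2 : I2 D S := fun x hx y hy a1 a2 => by
    have b1 : ∀ x ∈ img d2 S, x ≠ 1 → C1(x) = img d2 S := fun x hx e => by
      have b2 : img d2 S ≤ C1(x) := le_centralizer_singleton_iff.2 (comm_iff_le.1 ((comm_img_iff hS.le).2 (d3.trans hZ)) hx)
      refine le_antisymm ?_ b2
      rw [← img_pre C1(x)]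
      refine img_mono (by_contra fun b3 => e ?_)
      have b4 := pre_eq_top_iff.1 (d7 _ ((img_le_iff hS.le).1 b2) (pre_le _) b3)
      have b5 : zpowers x ≤ Op 2 ⊤ := le_Op le_top (Comp.le_normalizer_of_le_centralizer (Comp.centralizer_zpowers x ▸ b4.ge))
        ((isPGroup_img hS.isP).to_le (zpowers_le.2 hx))
      rw [← img_top d2, ← img_Op le_rfl (hS.isP.to_le (inf_le_right.trans d1)), ← hD, img_ker] at b5
      exact mem_bot.1 (b5 (mem_zpowers x))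
    have b2 : ∀ x (hx : x ∈ S), x ∉ D → orderOf (qmap d2 ⟨x, hS.le hx⟩) = 2 := fun x hx e => orderOf_eq_prime
      (by rw [← map_pow, qmap_eq_one, sq]; exact s1 x hx) (mt (qmap_eq_one d2).1 e)
    obtain ⟨K, -, b3, -, b4, b5⟩ := Solv.exists_frobenius_kernel (H := img d2 S) ⟨fun e => a1 ((img_eq_bot_iff hS.le).1 e hx),
      fun e => hc.lt.ne ((sup_eq_left.2 d1).symm.trans ((img_eq_top_iff hS.le (d1.trans hS.le)).1 e)), fun g hg =>
        (eq_bot_iff_forall _).2 fun w hw => by_contra fun e => hg (by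
          obtain ⟨g, rfl⟩ := qmap_surjective d2 g
          have b3 : C1(w) = cj(qmap d2 g, img d2 S) := by
            rw [← b1 _ (mem_cj.1 hw.2) (fun h => e (by
              simpa [mul_assoc] using congrArg (fun t => qmap d2 g * t * (qmap d2 g)⁻¹) h)), cj_centralizer_singleton]; congr 2; group
          exact qmap_mem_img (hN ⟨g.2, zpowers_le.1 (le_normalizer_of_img (h := d2) (zpowers_le.2 g.2) hS.le d1 (by
            rw [img_zpowers, zpowers_le, ← cj_eq_self_iff, ← b3, b1 w hw.1 e]))⟩))⟩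
    have b6 := Solv.invol_unique_of_fpf le_normalizer_of_normal b5 b4 (qmap_mem_img (x := ⟨x⁻¹, _⟩) (inv_mem hx))
      (qmap_mem_img (x := ⟨y, _⟩) hy) (b2 _ (inv_mem hx) (mt inv_mem_iff.1 a1)) (b2 y hy a2)
    simpa using (qmap_eq_iff d2).1 b6.symm
  refine ⟨⟨d1, hZ, (inf_le_inf_right _ hS.le).trans d6, s2, fun i1 i2 => ?_⟩, t3⟩
  obtain ⟨v, hv, v1⟩ := SetLike.not_le_iff_exists.1 i2
  obtain ⟨s, hs, v2⟩ := SetLike.not_le_iff_exists.1 fun e : S ≤ D => hc.lt.not_ge ((le_inf le_rfl (le_antisymm d1 e ▸ d2)).trans hN)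
  have v3 : ⁅s, v⁆ ∈ S ⊓ Ct(S) := d3 (commutator_mem_commutator hs (d1 hv.1))
  have v4 : ∀ t ∈ S, ∀ u ∈ D ⊓ Ct(D), ⁅t, u⁆ = 1 ∨ ⁅t, u⁆ = ⁅s, v⁆ := fun t ht u hu => by
    by_cases a1 : t ∈ D
    · exact .inl (commutatorElement_eq_one_iff_mul_comm.2 (hu.2 t a1))
    by_cases a2 : u ∈ S ⊓ Ct(S)
    · exact .inl (commutatorElement_eq_one_iff_mul_comm.2 (a2.2 t ht))
    have a3 := (conj_mem_of_le_normalizer (hS.le.trans d5) hs hu).2 _ (s2 t ht _ (inv_mem hs) a1 (mt inv_mem_iff.1 v2))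
    have a4 := (i1 _ (inv_mem hv) u hu (mt inv_mem_iff.1 v1) a2).2 s hs
    have a5 := hu.2 _ (s2 t ht _ (inv_mem hs) a1 (mt inv_mem_iff.1 v2))
    refine .inr ?_
    calc ⁅t, u⁆ = t * s⁻¹ * (s * u * s⁻¹) * (t * s⁻¹)⁻¹ * u⁻¹ := by simp only [commutatorElement_def]; group
      _ = s * v * s⁻¹ * (s * (v⁻¹ * u)) * s⁻¹ * u⁻¹ := by rw [a3]; group
      _ = _ := by rw [a4]; simp only [commutatorElement_def]; group
  have v5 : S ⊓ Ct(S) ⊓ cj(h, S ⊓ Ct(S)) ≤ Ct(H) := by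
    rw [← t1, Comp.centralizer_sup, cj_center]; exact inf_le_inf inf_le_right inf_le_right
  have v6 : ⁅s, v⁆ ∉ cj(h, S ⊓ Ct(S)) := fun e => by
    have a1 : H ≤ Ct(zpowers ⁅s, v⁆) := le_Ct_comm.1 (zpowers_le.2 (v5 ⟨v3, e⟩))
    have a2 := a1.trans (centralizer_le_normalizer _)
    refine d8 (Res_le_centralizer_of_quad (hS.isP.to_le (inf_le_left.trans d1)) d5 (commutator_eq_bot_iff_le.2
      ((t2 _ _ (hS.le.trans a2) (a2 hh) (d5 hh) (Subgroup.commutator_comm S _ ▸ commutator_le.2 fun t ht u hu => ?_)).trans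
        (le_Ct_comm.1 a1))))
    rcases v4 t ht u hu with e | e <;> rw [e]
    exacts [one_mem _, mem_zpowers _]
  have v7 : ⁅s, v⁆ * ⁅s, v⁆ = 1 := by
    rw [← comm_sq (v3.2 s hs)]; exact commutatorElement_eq_one_iff_mul_comm.2 (hv.2 _ (s1 s hs))
  refine ⟨h * ⁅s, v⁆ * h⁻¹, conj_mem_of_le_normalizer d5 hh (d4 v3), _, v3, fun e => v6 ?_, ?_, v7, fun e => v6 ?_,
    fun c c1 e => v6 (e ▸ ?_), v4⟩
  · have := v5 ⟨e, conj_mem_cj.2 v3⟩ h⁻¹ (inv_mem hh)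
    rw [show ⁅s, v⁆ = h * ⁅s, v⁆ * h⁻¹ by rw [← mul_left_inj h⁻¹, ← this]; group]
    exact conj_mem_cj.2 v3
  · rw [show h * ⁅s, v⁆ * h⁻¹ * (h * ⁅s, v⁆ * h⁻¹) = h * (⁅s, v⁆ * ⁅s, v⁆) * h⁻¹ by group, v7]; group
  · rw [← cj_eq_self_iff.2 (d2 hh), ← cj_commutator] at e
    exact cj_mono h ((commutator_mono d1 d1).trans d3) e
  by_cases a : c ∈ cj(h, S ⊓ Ct(S))
  · exact mul_mem a a
  have := conj_mem_of_mem_normalizer' (d5 hh) (d4 c1)
  have := i1 _ this _ this (mt mem_cj.2 a) (mt mem_cj.2 a)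
  exact mem_cj.2 (by convert this using 1; group)

theorem Par.edge (h1 : Par S D) (h2 : Par S E) (h : ¬ D ⊓ Ct(D) ≤ Ct(E ⊓ Ct(E))) :
    (∀ u ∈ E ⊓ Ct(E), u ∈ D → u ∈ S ⊓ Ct(S)) ∧ I2 (S ⊓ Ct(S)) (E ⊓ Ct(E)) ∧ ¬ E ⊓ Ct(E) ≤ S ⊓ Ct(S) := by
  obtain ⟨y, y1, y2⟩ := SetLike.not_le_iff_exists.1 h
  have y3 : y ∉ E := fun e => y2 fun u hu => (hu.2 y e).symm
  have a : ∀ u ∈ E ⊓ Ct(E), u ∈ D → u ∈ S ⊓ Ct(S) := fun u hu e => ⟨h1.le e, fun s hs => by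
    by_cases b : s ∈ E
    · exact hu.2 s b
    have c := hu.2 _ (h2.i2 s hs y (h1.le y1.1) b y3)
    rw [mul_assoc, ← y1.2 u e, ← mul_assoc, ← mul_assoc] at c
    exact mul_right_cancel c⟩
  exact ⟨a, fun x hx z hz b c => a _ (mul_mem hx hz) (h1.i2 x (h2.le hx.1) z (h2.le hz.1) (mt (a x hx) b) (mt (a z hz) c)),
    fun e => y2 fun u hu => ((e hu).2 y (h1.le y1.1)).symm⟩

theorem Par.mem (h : Par S D) (i : I2 (S ⊓ Ct(S)) (D ⊓ Ct(D))) {v s : X} (v1 : v ∈ D ⊓ Ct(D)) (v2 : v ∉ S ⊓ Ct(S)) (hs : s ∈ S)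
    (e : s * v = v * s) : s ∈ D := h.ct ⟨hs, fun u hu => by
  by_cases b : u ∈ S ⊓ Ct(S)
  · exact (b.2 s hs).symm
  have c := (i u hu v v1 b v2).2 s hs
  rw [mul_assoc, ← e, ← mul_assoc, ← mul_assoc] at c
  exact (mul_right_cancel c).symm⟩

theorem Par.deg (hcl : ⁅S, S⁆ ≤ Ct(S)) (h0 : Par S D) (h1 : Par S E) (h2 : Par S F) (e1 : ¬ D ⊓ Ct(D) ≤ Ct(E ⊓ Ct(E)))
    (e2 : ¬ D ⊓ Ct(D) ≤ Ct(F ⊓ Ct(F))) : E ≤ F := by
  obtain ⟨-, a2, a3⟩ := h1.edge h0 (mt le_Ct_comm.1 e1)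
  obtain ⟨b1, b2, b3⟩ := h0.edge h1 e1
  obtain ⟨c1, c2, c3⟩ := h0.edge h2 e2
  obtain ⟨v, v1, z, z1, v2, v3, z2, z3, z4, z5⟩ := h0.ex a2 a3
  have k : ∀ {E}, Par S E → (∀ u ∈ E ⊓ Ct(E), u ∈ D → u ∈ S ⊓ Ct(S)) → I2 (S ⊓ Ct(S)) (E ⊓ Ct(E)) → ¬ E ⊓ Ct(E) ≤ S ⊓ Ct(S) →
      ∃ w ∈ E ⊓ Ct(E), w ∉ S ⊓ Ct(S) ∧ w ∉ D ∧ w * w = 1 ∧ ⁅w, v⁆ = z ∧ ∀ s ∈ S, ⁅s, w⁆ = 1 ∨ ⁅s, w⁆ = z := fun h1 b1 b2 b3 => by
    obtain ⟨w, w1, y, -, w2, w3, -, -, -, y5⟩ := h1.ex b2 b3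
    have d1 := mt (b1 w w1) w2
    have d2 : ⁅w, v⁆ ≠ 1 := fun e => d1 (h0.mem a2 v1 v2 (h1.le w1.1) (commutatorElement_eq_one_iff_mul_comm.1 e))
    have d3 := (z5 w (h1.le w1.1) v v1).resolve_left d2
    have d4 := (y5 v (h0.le v1.1) w w1).resolve_left fun e => d2 (by rw [← commutatorElement_inv, e, inv_one])
    rw [← commutatorElement_inv, d3, inv_eq_of_mul_eq_one_left z2] at d4
    exact ⟨w, w1, w2, d1, w3, d3, fun s hs => d4 ▸ y5 s hs w w1⟩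
  obtain ⟨w, w1, w2, w3, w4, w5, w6⟩ := k h1 b1 b2 b3
  obtain ⟨u, u1, u2, u3, u4, -, u6⟩ := k h2 c1 c2 c3
  have cm : ∀ a ∈ S, ∀ b ∈ S, ∀ c ∈ S, ⁅a, b * c⁆ = ⁅a, b⁆ * ⁅a, c⁆ := fun a ha b hb c hc => by
    rw [show ⁅a, b * c⁆ = ⁅a, b⁆ * (b * ⁅a, c⁆ * b⁻¹) by simp only [commutatorElement_def]; group,
      hcl (commutator_mem_commutator ha hc) b hb, mul_inv_cancel_right]
  have x1 := h0.i2 w (h1.le w1.1) u (h2.le u1.1) w3 u3
  have x2 : w * u ∈ D ⊓ Ct(D) := ⟨x1, fun d hd => commutatorElement_eq_one_iff_mul_comm.1 (by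
    have := mt (· ▸ commutator_mem_commutator hd x1 : ⁅d, w * u⁆ = z → z ∈ ⁅D, D⁆) z3
    rw [cm d (h0.le hd) w (h1.le w1.1) u (h2.le u1.1)] at this ⊢
    rcases w6 d (h0.le hd) with e | e <;> rcases u6 d (h0.le hd) with f | f <;> rw [e, f] at this ⊢ <;> simp_all)⟩
  by_cases x3 : w * u ∈ S ⊓ Ct(S)
  · refine fun s hs => h2.mem c2 u1 u2 (h1.le hs) ?_
    have := x3.2 s (h1.le hs)
    rw [← mul_assoc, w1.2 s hs, mul_assoc, mul_assoc] at this
    exact mul_left_cancel this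
  have x4 := a2 _ x2 v v1 x3 v2
  refine (z4 _ x4 ?_).elim
  have x5 := commutatorElement_eq_one_iff_mul_comm.2 (x4.2 w (h1.le w1.1))
  rw [cm w (h1.le w1.1) _ (h0.le x1) v (h0.le v1.1), cm w (h1.le w1.1) w (h1.le w1.1) u (h2.le u1.1), w5,
    commutatorElement_self, one_mul, mul_eq_one_iff_eq_inv, inv_eq_of_mul_eq_one_left z2] at x5
  rw [← x5, commutatorElement_def, inv_eq_of_mul_eq_one_left w4, inv_eq_of_mul_eq_one_left u4,
    show w * u * v * (w * u * v) = w * u * (v * (w * u)) * v by group, ← v1.2 _ x1,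
    show w * u * (w * u * v) * v = w * u * w * u * (v * v) by group, v3, mul_one]

theorem wc {A G : Subgroup X} (hS : SylIn 2 S G) (h0 : S ≠ ⊥) (hA : (Nat.card A).Coprime 2) (a1 : A ≤ Nm(G)) (a2 : A ≤ Nm(S))
    (hcl : ⁅S, S⁆ ≤ Ct(S)) (hN : ∀ W, W ≠ ⊥ → W ≤ S → A ≤ Nm(W) → S ≤ Nm(W) → G ⊓ Nm(W) ≤ S) {g : X} (hg : g ∈ G)
    (h : cj(g, S ⊓ Ct(S)) ≤ S) : g ∈ S := by
  have z0 : S ⊓ Ct(S) ≠ ⊥ := inf_centralizer_ne_bot_of_isNilpotent hS.isP.isNilpotent le_rfl le_normalizer h0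
  have z1 := hN _ z0 inf_le_left (le_normalizer_center a2) (le_normalizer_center le_normalizer)
  have z2 := hN _ h0 le_rfl a2 le_normalizer
  have z3 : ⁅S, S⁆ ≤ S ⊓ Ct(S) := le_inf (commutator_le_self S) hcl
  have z4 : ∀ W, S ⊓ Ct(S) ≤ W → W ≤ S → S ≤ Nm(W) := fun W b c =>
    le_normalizer_iff_commutator_le_left.2 (((commutator_mono c le_rfl).trans z3).trans b)
  by_contra g0
  obtain ⟨D, hD⟩ : ∃ D, D = S ⊓ Ct(S) ⊔ cj(g, S ⊓ Ct(S)) := ⟨_, rfl⟩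
  have d1 : D ≤ S := hD.le.trans (sup_le inf_le_left h)
  have d2 : cj(g, S) ≤ Nm(D) := by
    rw [← cj_cj_inv g D, ← cj_normalizer]
    refine cj_mono g (z4 _ (le_cj_iff.2 (by rw [inv_inv, hD]; exact le_sup_right)) (cj_le_iff.2 ?_))
    rw [inv_inv, hD]
    refine sup_le (le_cj_iff.2 (le_trans (le_inf (cj_le_of_mem (inf_le_left.trans hS.le) (le_normalizer (inv_mem hg))) ?_) z1))
      (cj_mono g inf_le_left)
    refine (le_cj_iff.1 ?_).trans (centralizer_le_normalizer _)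
    rw [cj_centralizer]; exact inf_le_right.trans (Comp.centralizer_mono h)
  obtain ⟨H, c1, c2⟩ := exists_covBy_le_of_lt (a := S) (b := G ⊓ Nm(D)) (lt_of_le_of_ne
    (le_inf hS.le (z4 _ (hD.ge.trans' le_sup_left) d1)) fun e => g0 (z2 ⟨hg, cj_eq_self_iff.1 (eq_of_le_of_card_eq
      ((le_inf (cj_le_of_mem hS.le (le_normalizer hg)) d2).trans e.ge) (card_cj _ _))⟩))
  have c3 : S ⊓ Ct(S) ≤ Op 2 H := (hD.ge.trans' le_sup_left).trans
    (le_Op (d1.trans c1.le) (c2.trans inf_le_right) (hS.isP.to_le d1))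
  have p : ∀ a ∈ A, Par S cj(a, Op 2 H) ∧ ⁅cj(a, Op 2 H), cj(a, H)⁆ ≤ cj(a, Op 2 H) ⊓ Ct(cj(a, Op 2 H)) := fun a ha => by
    have b1 : cj(a, H) ≤ G := cj_le_of_mem (c2.trans inf_le_left) (a1 ha)
    have b2 : cj(a, S) ⋖ cj(a, H) := (apply_covBy_apply_iff (MulAut.conj a).mapSubgroup).2 c1
    rw [cj_eq_self_iff.2 (a2 ha)] at b2
    rw [cj_Op]
    refine par (hS.of_le b2.le b1) b2 ?_ hcl ((inf_le_inf b1 (centralizer_le_normalizer _)).trans z1)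
      ((inf_le_inf_right _ b1).trans z2)
    rw [← cj_Op, ← cj_eq_self_iff.2 (le_normalizer_center a2 ha)]; exact cj_mono a c3
  generalize Op 2 H = E at p c3
  obtain ⟨p1, p2⟩ := p 1 (one_mem _)
  simp only [cj_one] at p1 p2
  have q : ∀ a ∈ A, cj(a, E ⊓ Ct(E)) ≤ E := fun a ha => by
    refine le_trans (le_inf (cj_le_of_mem (inf_le_left.trans p1.le) (a2 ha)) (le_Ct_comm.1 (by_contra fun e => e ?_))) p1.ct
    have b1 : cj(a, E) ≤ cj(a⁻¹, E) := p1.deg hcl (p a ha).1 (p _ (inv_mem ha)).1 (cj_center a E ▸ e) fun f => e (by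
      rw [← cj_center, ← cj_centralizer, le_cj_iff, inv_inv] at f; exact le_Ct_comm.1 f)
    rw [le_cj_iff, inv_inv, ← cj_mul, ← sq] at b1
    rw [cj_eq_self_iff.2 (le_normalizer_center le_rfl (Comp.mem_of_pow_mem_of_coprime
      (hA.coprime_dvd_left (Solv.orderOf_dvd_card_of_mem ha)) (cj_eq_self_iff.1 (eq_of_le_of_card_eq b1 (card_cj _ _)))))]
    exact center_le_centralizer E
  have w1 : E ⊓ Ct(E) ⊔ ⁅E ⊓ Ct(E), A⁆ ≤ E := by rw [sup_commutator_eq_iSup]; exact iSup_le fun a => q a a.2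
  have w2 : S ⊓ Ct(S) ≤ E ⊓ Ct(E) ⊔ ⁅E ⊓ Ct(E), A⁆ :=
    (le_inf c3 (inf_le_right.trans (Comp.centralizer_mono p1.le))).trans le_sup_left
  exact c1.lt.not_ge ((le_inf (c2.trans inf_le_left) (le_normalizer_iff_commutator_le_left.2
    (((commutator_mono w1 le_rfl).trans p2).trans le_sup_left))).trans (hN _ (fun e => z0 (le_bot_iff.1 (w2.trans e.le)))
      (w1.trans p1.le) (le_normalizer_sup_commutator _ _) (z4 _ w2 (w1.trans p1.le))))

theorem npc {G : Subgroup X} (hS : SylIn 2 S G) (h : ∀ g ∈ G, cj(g, S ⊓ Ct(S)) ≤ S → g ∈ S) : HasNormalPComplement 2 G := by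
  refine (⟨hS.le, hS.isP, hS.not_dvd_relIndex⟩ : Transfer.IsSyl 2 S G).hasNPC_of_controls le_rfl hS.le (fun x hx g hg e => ?_)
    (Transfer.hasNPC_of_isPGroup hS.isP)
  have a := hS.isP.to_le (inf_le_left : S ⊓ Ct(S) ≤ S)
  obtain ⟨T, t1, t2⟩ := exists_sylIn_ge (M := G ⊓ C1(g * x * g⁻¹)) a
    (le_inf (inf_le_left.trans hS.le) (inf_le_right.trans (centralizer_le (Set.singleton_subset_iff.2 e))))
  obtain ⟨c, c1, c2⟩ := t2.exists_cj_le (isPGroup_cj_iff (g := g).2 a) (le_inf (cj_le_of_mem (inf_le_left.trans hS.le)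
    (le_normalizer hg)) (by
      rw [← cj_centralizer_singleton]; exact cj_mono g (inf_le_right.trans (centralizer_le (Set.singleton_subset_iff.2 hx)))))
  obtain ⟨k, k1, k2⟩ := hS.exists_cj_le t2.isP (t2.le.trans inf_le_left)
  have b1 := h k k1 ((cj_mono k t1).trans k2)
  have b2 := h _ (mul_mem k1 (mul_mem c1.1 hg)) (by rw [cj_mul, cj_mul]; exact (cj_mono k c2).trans k2)
  refine ⟨c * g, (mul_mem_cancel_left b1).1 b2, ?_⟩
  rw [show c * g * x * (c * g)⁻¹ = c * (g * x * g⁻¹) * c⁻¹ by group, ← c1.2 _ rfl, mul_inv_cancel_right]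

theorem main (n : ℕ) : ∀ {X : Type u} [Group X] [Finite X] (A G M S : Subgroup X), Nat.card G = n → G.Normal → A ⊔ G = ⊤ →
    (Nat.card A).Coprime (Nat.card G) → M < G → A ≤ Nm(M) → (∀ H, M ≤ H → H ≤ G → A ≤ Nm(H) → H = M ∨ H = G) →
    Group.IsNilpotent M → SylIn 2 S M → ⁅S, S⁆ ≤ Ct(S) → Group.IsSolvable G := by
  induction n using Nat.strong_induction_on with | h n ih => ?_
  intro X _ _ A G M S hn hG hT hc hM hA hm hnil hS hcl
  subst hn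
  by_cases h : ∃ N : Subgroup X, N.Normal ∧ N ≠ ⊥ ∧ N ≤ M
  · obtain ⟨N, n1, n2, n3⟩ := h
    have f := QuotientGroup.mk'_surjective N
    have k : ∀ K, M ≤ K → (K.map (QuotientGroup.mk' N)).comap (QuotientGroup.mk' N) = K := fun K e => by
      rw [comap_map_eq, QuotientGroup.ker_mk', sup_eq_left.2 (n3.trans e)]
    have l : Nat.card (G.map (QuotientGroup.mk' N)) < Nat.card G := by
      rw [← Solv.card_map_mk N G, inf_eq_right.2 (n3.trans hM.le)]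
      exact lt_mul_of_one_lt_right Nat.card_pos (one_lt_card_iff_ne_bot _ |>.2 n2)
    have := ih _ l (A.map (QuotientGroup.mk' N)) (G.map (QuotientGroup.mk' N))
      (M.map (QuotientGroup.mk' N)) (S.map (QuotientGroup.mk' N)) rfl (hG.map _ f)
      (by rw [← Subgroup.map_sup, hT, map_top_of_surjective _ f])
      ((hc.coprime_dvd_left (card_map_dvd _ _)).coprime_dvd_right (card_map_dvd _ _))
      (by rw [← comap_lt_comap_of_surjective f, k M le_rfl, k G hM.le]; exact hM)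
      ((map_mono hA).trans (le_normalizer_map _)) (fun H a b c => ?_) (Solv.isNilpotent_map _ hnil) (hS.map _) ?_
    · exact Comp.isSolvable_of_map _ this (by
        rw [QuotientGroup.ker_mk']; exact Solv.isSolvable_of_le (inf_le_right.trans n3) inferInstance)
    · have a' := map_le_iff_le_comap.1 a
      rcases hm (H.comap (QuotientGroup.mk' N)) a' ((comap_mono b).trans (k G hM.le).le)
        ((map_le_iff_le_comap.1 c).trans (le_normalizer_comap _)) with e | e <;> rw [← e, map_comap_eq_self_of_surjective f]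
      exacts [.inl rfl, .inr rfl]
    · rw [← map_commutator]; exact (map_mono hcl).trans (map_centralizer_le_centralizer_image _ _)
  have hN : ∀ W, W ≠ ⊥ → W ≤ M → A ≤ Nm(W) → M ≤ Nm(W) → G ⊓ Nm(W) = M := fun W a b c d =>
    (hm _ (le_inf hM.le d) inf_le_left (Comp.le_normalizer_inf le_normalizer_of_normal (le_normalizer_normalizer c))).resolve_right
      fun e => h ⟨W, Comp.normal_iff_top_le_normalizer.2 (hT.ge.trans (sup_le c (inf_eq_left.1 e))), a, b⟩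
  by_cases m0 : M = ⊥
  · obtain ⟨q, hq, hd⟩ := Solv.exists_prime_dvd_card (m0 ▸ hM).ne'
    have := Fact.mk hq
    obtain ⟨Q, q1, q2⟩ := exists_invariant_sylIn q (le_normalizer_of_normal (K := A)) hc (FTC.solv_or hc)
    rw [← (hm Q (m0.le.trans bot_le) q1.le q2).resolve_left fun e => q1.eq_bot_iff.1 (e.trans m0) hd]
    have := q1.isP.isNilpotent; infer_instance
  have key : ∀ p : ℕ, [Fact p.Prime] → p ∣ Nat.card M → SylIn p (Op p M) G := fun p _ hd => by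
    have a := sylIn_Op_of_isNilpotent (p := p) hnil
    refine SylIn.of_normalizer (a.le.trans hM.le) ?_
    rwa [hN _ (fun e => a.eq_bot_iff.1 e hd) a.le (le_normalizer_Op hA) (le_normalizer_Op_of_le le_rfl)]
  obtain ⟨p, hp, hd, hp'⟩ : ∃ p : ℕ, ∃ _ : Fact p.Prime, p ∣ Nat.card M ∧ HasNormalPComplement p G := by
    by_cases h2 : IsPGroup 2 M
    · have e := hS.max M h2 hS.le le_rfl
      subst e
      have a := dvd_card_of_isPGroup h2 m0
      have b := key 2 a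
      rw [← (sylIn_self h2).eq_Op le_normalizer] at b
      exact ⟨2, inferInstance, a, npc b fun g => wc b m0 (hc.coprime_dvd_right (a.trans (card_dvd_of_le hM.le)))
        le_normalizer_of_normal hA hcl fun W a b c d => (hN W a b c d).le⟩
    obtain ⟨q, hq, h3, h4⟩ : ∃ q : ℕ, q.Prime ∧ q ∣ Nat.card M ∧ q ≠ 2 := by
      by_contra hc
      push Not at hc
      exact h2 (Solv.isPGroup_of_forall_prime_dvd hc)
    have := Fact.mk hq
    have a := key q h3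
    have b := Transfer.normalizer_le_normalizer_ZJ (n := q) (Op q M)
    refine ⟨q, this, h3, Transfer.glauberman_thompson h4 (Or.inl rfl) a.toSylow (Transfer.hasNPC_of_map_subtype_le (L := M) ?_
      Transfer.hasNPC_of_nilpotent)⟩
    rw [map_subtype_normalizer, Transfer.map_ZJ (by simp), a.map_toSylow]
    exact (hN _ (Transfer.ZJ_ne_bot (Or.inl rfl) a.isP fun e => (sylIn_Op_of_isNilpotent hnil).eq_bot_iff.1 e h3)
      ((Transfer.ZJ_le _).trans (Op_le _ _)) ((le_normalizer_Op hA).trans b) ((le_normalizer_Op_of_le le_rfl).trans b)).le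
  have a := key p hd
  have b := (hasNPC_iff_sup a).1 hp'
  have k1 : (Opp p G).Normal := Comp.normal_iff_top_le_normalizer.2 (le_normalizer_Opp le_normalizer_of_normal)
  have k2 := coprime_Opp p G
  have k3 := Opp_le p G
  have p1 := Op_le p M
  have p2 : A ≤ Nm(Op p M) := le_normalizer_Op hA
  generalize Opp p G = K at b k1 k2 k3
  generalize Op p M = P at a b p1 p2
  obtain ⟨m, p3⟩ := a.isP.exists_card_eq
  have p4 : (Nat.card P).Coprime (Nat.card K) := p3 ▸ k2.symm.pow_left m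
  have := a.isP.isNilpotent
  rw [← b, sup_comm]
  refine Comp.isSolvable_sup le_normalizer_of_normal inferInstance ?_
  by_cases k4 : K ≤ M
  · exact Solv.isSolvable_of_le k4 inferInstance
  refine ih _ (Comp.card_lt_of_lt (lt_of_le_of_ne k3 fun e => coprime_iff_not_dvd.1 k2 (e ▸ hd.trans (card_dvd_of_le hM.le))))
    (A ⊔ P) K (K ⊓ M) (S ⊓ (K ⊓ M)) rfl k1 (by rw [sup_assoc, sup_comm P, b, hT])
    (coprime_sup p2 (hc.coprime_dvd_right (card_dvd_of_le k3)) p4) (inf_lt_left.2 k4)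
    (Comp.le_normalizer_inf le_normalizer_of_normal (sup_le hA (p1.trans le_normalizer))) (fun H h1 h2 h3 => ?_)
    (Comp.isNilpotent_of_le inf_le_right hnil)
    (hS.inf_normal inf_le_right (Comp.le_normalizer_inf le_normalizer_of_normal (hS.le.trans le_normalizer)))
    (((commutator_mono inf_le_left inf_le_left).trans hcl).trans (Comp.centralizer_mono inf_le_left))
  have h4 : M ≤ H ⊔ P := by
    rw [← inf_eq_right.2 hM.le, ← b, sup_comm K, Solv.dedekind' p1 le_normalizer_of_normal, sup_comm H]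
    exact sup_le_sup_left h1 _
  refine (hm _ h4 (sup_le (h2.trans k3) a.le) (Comp.le_normalizer_sup (le_sup_left.trans h3) p2)).imp
    (fun e => le_antisymm (le_inf h2 (le_sup_left.trans e.le)) h1) fun e => ?_
  rw [← inf_eq_right.2 k3, ← e, Solv.dedekind h2 (le_sup_right.trans h3), inf_eq_bot_of_coprime p4, sup_bot_eq]

end Cfsg.Agent.Janko
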