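/-
The Kegel–Wielandt theorem: a product of two finite nilpotent groups is solvable.
-/
import Cfsg.Agent.Lib.BG.PLen
import Cfsg.Agent.Lib.FT.Final

set_option autoImplicit false
set_option linter.unusedSectionVars false

namespace Cfsg.Agent.KW

open Subgroup Cfsg.Agent.Comp Cfsg.Agent.BG
open Cfsg.Agent.Solv (IsProd)
open scoped commutatorElement Pointwise

universe u

variable {G : Type u} [Group G] [Finite G] {p : ℕ} {A B A₀ B₀ H : Subgroup G}

theorem norm_fact (h : IsProd ⊤ A B) (hA : A ≤ Nm(A₀)) (hB : B ≤ Nm(B₀)) :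
    IsProd Nm(A₀ ⊔ B₀) (A ⊓ Nm(A₀ ⊔ B₀)) (B ⊓ Nm(A₀ ⊔ B₀)) := fun g hg => by
  obtain ⟨a, a1, b, b1, rfl⟩ := h g (mem_top g)
  have h1 : cj(b, A₀ ⊔ B₀) = cj(a⁻¹, A₀ ⊔ B₀) := by
    conv_rhs => rw [← cj_eq_self_iff.2 hg, ← cj_mul, inv_mul_cancel_left]
  have h2 : b ∈ Nm(A₀ ⊔ B₀) := cj_eq_self_iff.1 (eq_of_le_of_card_ge (sup_le (by
    rw [h1, cj_sup, cj_eq_self_iff.2 (hA (inv_mem a1))]; exact le_sup_left) (by
    rw [cj_sup, cj_eq_self_iff.2 (hB b1)]; exact le_sup_right)) (card_cj _ _).le).symm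
  exact ⟨a, ⟨a1, (mul_mem_cancel_right h2).1 hg⟩, b, ⟨b1, h2⟩, rfl⟩

/-- all conjugates of `A` and `B` permute, with `p`-groups as products -/
def Perm (p : ℕ) (A B : Subgroup G) : Prop :=
  ∀ x y : G, ∃ S : Subgroup G, IsPGroup p S ∧ cj(x, A) ≤ S ∧ cj(y, B) ≤ S ∧ IsProd S cj(x, A) cj(y, B)

theorem Perm.symm (h : Perm p A B) : Perm p B A := fun x y => (h y x).imp fun _ h => ⟨h.1, h.2.2.1, h.2.1, h.2.2.2.symm⟩

theorem Perm.cj (h : Perm p A B) (x y : G) : Perm p cj(x, A) cj(y, B) := fun u v => by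
  simpa only [← cj_mul] using h (u * x) (v * y)

theorem perm_step [Fact p.Prime] (h : Perm p A B) (h0 : pCore p G = ⊥) {N : Subgroup G} [hN : N.Normal] (h1 : A ≤ N)
    (ih : ∀ A B : Subgroup N, Perm p A B → ⁅A, B⁆ ≤ pCore p N) : ⁅A, B⁆ = ⊥ := by
  have h2 : ∀ x, cj(x, A) ≤ N := fun x => cj_le_of_mem h1 (le_normalizer_of_normal (mem_top x))
  have h3 : ∀ x y, cj(x, A) ≤ Ct(cj(y, B) ⊓ N) := fun x y => by
    have := map_mono (f := N.subtype) (ih ((cj(x, A)).subgroupOf N) ((cj(y, B)).subgroupOf N) fun u v => by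
      obtain ⟨S, s1, s2, s3, s4⟩ := h (u * x) (v * y)
      rw [← subgroupOf_cj, ← subgroupOf_cj, ← cj_mul, ← cj_mul]
      refine ⟨S.subgroupOf N, Solv.isPGroup_subgroupOf s1 N, comap_mono s2, comap_mono s3, fun g hg => ?_⟩
      obtain ⟨a, a1, b, b1, e⟩ := s4 g hg
      exact ⟨⟨a, h2 _ a1⟩, a1, ⟨b, (mul_mem_cancel_left (h2 _ a1)).1 (e ▸ g.2)⟩, b1, Subtype.ext e⟩)
    rw [Subgroup.map_commutator, map_subgroupOf_eq_of_le (h2 x), subgroupOf_map_subtype] at this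
    exact commutator_eq_bot_iff_le.1 (le_bot_iff.1 (this.trans ((Solv.map_subtype_pCore_le N).trans h0.le)))
  have h4 : ∀ y, cj(y, B) ≤ Nm(A) := fun y b hb => mem_normalizer_of_conj_mem fun a ha => by
    obtain ⟨S, s1, s2, s3, s4⟩ := h 1 y
    rw [cj_one] at s2 s4
    obtain ⟨c, c1, d, d1, e⟩ := s4 _ (mul_mem (mul_mem (s3 hb) (s2 ha)) (inv_mem (s3 hb)))
    set M := normalClosure (A : Set G)
    have d2 : d ∈ M := (mul_mem_cancel_left (le_normalClosure c1)).1 (e ▸ Normal.conj_mem inferInstance _ (le_normalClosure ha) b)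
    have d3 : d ∈ Ct(M) := zpowers_le.1 (le_Ct_comm.1 (Solv.normalClosure_le_of_forall_conj fun g => (h3 g y).trans
      (centralizer_mono (zpowers_le.2 ⟨d1, normalClosure_le_normal h1 d2⟩))))
    have d4 := (le_Op_of_isNilpotent (isNilpotent_of_le_centralizer (A := M ⊓ Ct(M))
      (inf_le_right.trans (centralizer_mono inf_le_left))) (zpowers_le.2 ⟨d2, d3⟩) (s1.to_le (zpowers_le.2 (s3 d1)))).trans
      (Op_le_Op_of_normal le_top le_normalizer_of_normal)
    rw [Op_top, h0, zpowers_le, mem_bot] at d4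
    rw [e, d4, mul_one]; exact c1
  have h5 : normalClosure (B : Set G) ≤ Nm(A) := Solv.normalClosure_le_of_forall_conj h4
  obtain ⟨S, s1, s2, -⟩ := h 1 1
  rw [cj_one] at s2
  have h6 := (le_Op (N := A ⊓ normalClosure (B : Set G)) inf_le_right (le_normalizer_inf h5 le_normalizer)
    (s1.to_le (inf_le_left.trans s2))).trans (Op_le_Op_of_normal le_top le_normalizer_of_normal)
  rw [Op_top, h0] at h6
  exact le_bot_iff.1 ((le_inf (commutator_le_left_of_le_normalizer (le_normalClosure.trans h5))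
    ((commutator_mono le_rfl le_normalClosure).trans (commutator_le_right _ _))).trans h6)

theorem perm_le [Fact p.Prime] (G : Type u) [Group G] [Finite G] : ∀ A B : Subgroup G, Perm p A B → ⁅A, B⁆ ≤ pCore p G := by
  induction G, ‹Group G›, ‹Finite G› using Solv.card_induction' with | h G ih => ?_
  intro A B h
  by_cases h0 : pCore p G = ⊥
  · by_cases h1 : IsProd ⊤ A B
    · obtain ⟨S, s1, s2, s3, -⟩ := h 1 1
      rw [cj_one] at s2 s3
      exact le_top.trans (Solv.le_pCore (s1.to_le (h1.le_sup.trans (sup_le s2 s3))))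
    · obtain ⟨N, _, n1, n2⟩ := Solv.exists_normal_of_forall_isProd (fun x => by
        obtain ⟨S, -, s2, s3, s4⟩ := h 1 x
        rw [cj_one] at s2 s4
        exact s4.sup s2 s3) h1
      rcases n2 with n2 | n2
      · exact (perm_step h h0 n2 (ih N (Solv.card_lt_of_ne_top n1))).le.trans bot_le
      · rw [Subgroup.commutator_comm]
        exact (perm_step h.symm h0 n2 (ih N (Solv.card_lt_of_ne_top n1))).le.trans bot_le
  · have := ih _ (Solv.card_quotient_lt h0) (A.map (QuotientGroup.mk' _)) (B.map (QuotientGroup.mk' _)) fun x y => by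
      obtain ⟨x, rfl⟩ := QuotientGroup.mk'_surjective _ x
      obtain ⟨y, rfl⟩ := QuotientGroup.mk'_surjective _ y
      obtain ⟨S, s1, s2, s3, s4⟩ := h x y
      rw [← map_cj, ← map_cj]
      exact ⟨_, s1.map _, map_mono s2, map_mono s3, s4.map _⟩
    rwa [Solv.pCore_quotient_pCore, le_bot_iff, ← Subgroup.map_commutator, Solv.map_mk_eq_bot_iff] at this

theorem perm_Op [hp : Fact p.Prime] (h : IsProd ⊤ A B) (hA : Group.IsNilpotent A) (hB : Group.IsNilpotent B) :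
    Perm p (Op p A) (Op p B) := fun x y => by
  rw [cj_Op, cj_Op]
  replace h : IsProd ⊤ cj(x, A) cj(y, B) := h.conj_conj x y
  rw [← isNilpotent_cj (g := x)] at hA
  rw [← isNilpotent_cj (g := y)] at hB
  generalize cj(x, A) = A, cj(y, B) = B at *
  obtain ⟨P, hP⟩ := exists_sylIn p (⊤ : Subgroup G)
  obtain ⟨u, -, hu⟩ := hP.exists_cj_le (isPGroup_Op p A) le_top
  obtain ⟨v, -, hv⟩ := hP.exists_cj_le (isPGroup_Op p B) le_top
  obtain ⟨g, g1, g2⟩ := h.exists_conj u v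
  rw [smul_eq_cj, smul_eq_cj] at g1 g2
  rw [cj_Op, g1, ← cj_Op, cj_le_iff] at hu
  rw [cj_Op, g2, ← cj_Op, cj_le_iff] at hv
  refine ⟨_, isPGroup_cj_iff.2 hP.isP, hu, hv, Solv.isProd_of_card_le hu hv ?_⟩
  obtain ⟨T, hT⟩ := exists_sylIn p (A ⊓ B)
  refine (Nat.mul_le_mul_left _ (hT.card_le (isPGroup_Op p A).to_inf_left (inf_le_inf (Op_le _ _) (Op_le _ _)))).trans ?_
  rw [card_cj, hP.card_eq, hT.card_eq, (sylIn_Op_of_isNilpotent hA).card_eq, (sylIn_Op_of_isNilpotent hB).card_eq, ← pow_add,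
    ← pow_add, ← Finsupp.add_apply, ← Finsupp.add_apply, ← Nat.factorization_mul (card_ne_zero _) (card_ne_zero _),
    ← Nat.factorization_mul (card_ne_zero _) (card_ne_zero _), h.card_mul le_top le_top]

/-- a coprime factorization by nilpotent subgroups -/
structure Pair (A B : Subgroup G) : Prop where
  nA : Group.IsNilpotent A
  nB : Group.IsNilpotent B
  prod : IsProd ⊤ A B
  cop : (Nat.card A).Coprime (Nat.card B)

theorem Pair.symm (h : Pair A B) : Pair B A := ⟨h.nB, h.nA, h.prod.symm, h.cop.symm⟩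

theorem Pair.cj (h : Pair A B) (x y : G) : Pair cj(x, A) cj(y, B) :=
  ⟨isNilpotent_cj.2 h.nA, isNilpotent_cj.2 h.nB, h.prod.conj_conj x y, by rw [card_cj, card_cj]; exact h.cop⟩

theorem Pair.not_dvd (h : Pair A B) (hp : p.Prime) (h1 : p ∣ Nat.card A) : ¬ p ∣ Nat.card B := fun h2 =>
  hp.one_lt.ne' (Nat.eq_one_of_dvd_coprimes h.cop h1 h2)

theorem Pair.sylIn [hp : Fact p.Prime] (h : Pair A B) (h1 : p ∣ Nat.card A) : SylIn p (Op p A) ⊤ :=
  (sylIn_Op_of_isNilpotent h.nA).trans_of_not_dvd le_top fun e => h.not_dvd hp.out h1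
    (e.trans (by rw [relIndex_top_right]; exact h.prod.symm.index_dvd_card))

theorem Pair.dvd_or (h : Pair A B) (hp : p.Prime) (h1 : p ∣ Nat.card G) : p ∣ Nat.card A ∨ p ∣ Nat.card B :=
  hp.dvd_mul.1 ((card_top (G := G) ▸ h1).trans (h.prod.card_dvd le_top le_top))

variable [IsSimpleGroup G]

theorem eq_top_of_nm (h1 : H ≠ ⊥) (h : Nm(H) = ⊤) : H = ⊤ :=
  (normalizer_eq_top_iff.1 h).eq_bot_or_eq_top.resolve_left h1

theorem Pair.f1 (h : Pair A B) (h0 : B₀ ≠ ⊥) (h1 : B ≤ Nm(B₀)) (h2 : B₀ ≤ H) (h3 : A ≤ H) : H = ⊤ :=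
  top_le_iff.1 (((Normal.eq_bot_or_eq_top inferInstance).resolve_left (Solv.normalClosure_ne_bot h0)).ge.trans
    ((h.prod.symm.mono le_rfl le_rfl h3).normalClosure_le h1 h2))

theorem Pair.f2 [hp : Fact p.Prime] (hs : ¬ Group.IsSolvable G) (h : Pair A B) : Opp p A ≠ ⊥ := fun e => by
  have h1 := Op_sup_Opp_of_isNilpotent (p := p) h.nA
  rw [e, sup_bot_eq] at h1
  by_cases h2 : B = ⊥
  · have := h.prod.le_sup
    rw [h2, sup_bot_eq, top_le_iff] at this
    haveI := Solv.isNilpotent_top_iff.1 (this ▸ h.nA)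
    exact hs inferInstance
  obtain ⟨b, b1, b2⟩ := Solv.exists_ne_one_of_ne_bot (inf_centralizer_ne_bot_of_isNilpotent h.nB le_rfl le_normalizer h2)
  obtain ⟨k, hk⟩ := (h1 ▸ isPGroup_Op p A).exists_card_eq
  obtain ⟨j, -, hj⟩ := (Nat.dvd_prime_pow hp.out).1 (hk ▸ (h.prod.mono le_rfl le_rfl
    (le_centralizer_singleton_iff.2 b1.2)).index_dvd_card)
  haveI := Fact.mk (Char.prime_card_of_simple_of_class_prime_pow hp.out b2 hj)
  haveI := isCyclic_of_prime_card (α := G) rfl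
  exact hs (isSolvable_of_comm fun a b => mul_comm' a b)

theorem Pair.f5 (hs : ¬ Group.IsSolvable G) (ih : ∀ H A B : Subgroup G, H ≠ ⊤ → A ≤ H → B ≤ H → Group.IsNilpotent A →
    Group.IsNilpotent B → IsProd H A B → Group.IsSolvable H) (h : Pair A B) {A₁ B₁ : Subgroup G} (a4 : A₁ ≠ ⊥) (a5 : A₁ ≤ A)
    (a6 : A ≤ Nm(A₁)) (b4 : B₁ ≠ ⊥) (b5 : B₁ ≤ B) (b6 : B ≤ Nm(B₁)) : A₁ ⊔ B₁ = ⊤ := by
  by_contra h0
  obtain ⟨L, -, ⟨l0, A₀, B₀, ⟨a1, a2, a3⟩, ⟨b1, b2, b3⟩, l1⟩, l2⟩ := exists_maximal_subgroup (P := fun L => L ≠ ⊤ ∧ ∃ A₀ B₀,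
    (A₀ ≠ ⊥ ∧ A₀ ≤ A ∧ A ≤ Nm(A₀)) ∧ (B₀ ≠ ⊥ ∧ B₀ ≤ B ∧ B ≤ Nm(B₀)) ∧ A₀ ⊔ B₀ = L) ⟨h0, A₁, B₁, ⟨a4, a5, a6⟩, ⟨b4, b5, b6⟩, rfl⟩
  have n0 : ∀ R : Subgroup G, R ≠ ⊥ → R ≤ L → Nm(R) ≠ ⊤ := fun R r1 r2 e => l0 (top_le_iff.1 ((eq_top_of_nm r1 e).ge.trans r2))
  have l3 : L ≠ ⊥ := fun e => a1 (le_bot_iff.1 (e ▸ l1 ▸ le_sup_left))
  have l4 := norm_fact h.prod a3 b3
  rw [l1] at l4
  have hL : Group.IsSolvable L := Comp.isSolvable_of_le le_normalizer (ih _ _ _ (n0 L l3 le_rfl) inf_le_right inf_le_right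
    (Comp.isNilpotent_of_le inf_le_left h.nA) (Comp.isNilpotent_of_le inf_le_left h.nB) l4)
  have k0 : ∀ {A B : Subgroup G}, Pair A B → IsProd Nm(L) (A ⊓ Nm(L)) (B ⊓ Nm(L)) → ∀ (p : ℕ) [Fact p.Prime],
      p ∣ Nat.card A → Op p L ≤ A ∧ Opp p A ≤ Ct(Op p L) := fun {A B} h l4 p hp h1 => by
    have h2 : Op p L ≤ A := by
      obtain ⟨P, hP⟩ := exists_sylIn p (A ⊓ Nm(L))
      refine ((hP.trans_of_not_dvd inf_le_right fun e => h.not_dvd hp.out h1 (e.trans ?_)).le_of_normalizer' (isPGroup_Op p L)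
        ((Op_le _ _).trans le_normalizer) (hP.le.trans (le_normalizer_Op inf_le_right))).trans (hP.le.trans inf_le_left)
      rw [← (Solv.relIndex_eq_iff_isProd inf_le_right).2 l4.symm]
      exact (relIndex_dvd_card _ _).trans (card_dvd_of_le inf_le_left)
    exact ⟨h2, Solv.le_centralizer_of_nilpotent_of_coprime h.nA (Opp_le _ _) h2
      (coprime_card_of_isPGroup (isPGroup_Op p L) (coprime_Opp p A)).symm⟩
  have kA : ∀ (p : ℕ) [Fact p.Prime], p ∣ Nat.card A → Op p L ≠ ⊥ → Opp p A ≤ L := fun p _ h1 h2 => by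
    have h3 : Opp p A ⊔ L ≤ Nm(Op p L) := sup_le ((k0 h l4 p h1).2.trans (Ct_le_Nm _)) (le_normalizer_Op le_normalizer)
    rw [← l2 (Opp p A ⊔ L) ⟨fun e => n0 _ h2 (Op_le _ _) (top_le_iff.1 (e ▸ h3)), Opp p A ⊔ A₀, B₀, ⟨fun e => a1
      (le_bot_iff.1 (e ▸ le_sup_right)), sup_le (Opp_le _ _) a2, le_normalizer_sup (le_normalizer_Opp le_normalizer) a3⟩,
      ⟨b1, b2, b3⟩, by rw [sup_assoc, l1]⟩ le_sup_right]
    exact le_sup_left
  have kB : ∀ (p : ℕ) [Fact p.Prime], p ∣ Nat.card B → Op p L ≠ ⊥ → Opp p B ≤ L := fun p _ h1 h2 => by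
    have h3 : Opp p B ⊔ L ≤ Nm(Op p L) := sup_le ((k0 h.symm l4.symm p h1).2.trans (Ct_le_Nm _)) (le_normalizer_Op le_normalizer)
    rw [← l2 (Opp p B ⊔ L) ⟨fun e => n0 _ h2 (Op_le _ _) (top_le_iff.1 (e ▸ h3)), A₀, Opp p B ⊔ B₀, ⟨a1, a2, a3⟩, ⟨fun e => b1
      (le_bot_iff.1 (e ▸ le_sup_right)), sup_le (Opp_le _ _) b2, le_normalizer_sup (le_normalizer_Opp le_normalizer) b3⟩,
      by rw [sup_left_comm, l1]⟩ le_sup_right]
    exact le_sup_left
  have m1 : A₀ ≤ L := l1 ▸ le_sup_left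
  have m2 : B₀ ≤ L := l1 ▸ le_sup_right
  clear l1 l2 a2 b2 h0 a4 a5 a6 b4 b5 b6
  wlog e : ∃ p : ℕ, p.Prime ∧ p ∣ Nat.card A ∧ Op p L ≠ ⊥ generalizing A B A₀ B₀
  · refine this h.symm B₀ A₀ b1 b3 a1 a3 l4.symm kB kA m2 m1 (by_contra fun e' => Fit_ne_bot hL l3 (le_bot_iff.1
      (Fit_le_of_Op_le fun q hq => by_contra fun h1 => ?_)))
    haveI := Fact.mk hq
    rw [le_bot_iff] at h1
    rcases h.dvd_or hq ((dvd_card_of_isPGroup (isPGroup_Op q L) h1).trans (card_subgroup_dvd_card _)) with h2 | h2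
    exacts [e ⟨q, hq, h2, h1⟩, e' ⟨q, hq, h2, h1⟩]
  obtain ⟨p, hp, p1, p2⟩ := e
  haveI := Fact.mk hp
  have u : ∀ {A B B₀ : Subgroup G}, Pair A B → B₀ ≠ ⊥ → B ≤ Nm(B₀) → B₀ ≤ L → (∀ (p : ℕ) [Fact p.Prime], p ∣ Nat.card A →
      Op p L ≠ ⊥ → Opp p A ≤ L) → ∀ p r : ℕ, p.Prime → r.Prime → p ∣ Nat.card A → r ∣ Nat.card A → Op p L ≠ ⊥ → Op r L ≠ ⊥ →
      r = p := fun {A B B₀} h b1 b3 m2 kA p r hp hr p1 r1 p2 r2 => by
    haveI := Fact.mk hp
    haveI := Fact.mk hr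
    by_contra e
    exact l0 (h.f1 b1 b3 m2 ((Op_sup_Opp_of_isNilpotent (p := p) h.nA).ge.trans
      (sup_le ((Op_le_Opp (Ne.symm e) A).trans (kA r r1 r2)) (kA p p1 p2))))
  have c : ∀ r : ℕ, r.Prime → Op r L ≠ ⊥ → r = p ∨ r ∣ Nat.card B := fun r hr h1 =>
    haveI := Fact.mk hr
    (h.dvd_or hr ((dvd_card_of_isPGroup (isPGroup_Op r L) h1).trans (card_subgroup_dvd_card _))).imp_left
      fun h2 => u h b1 b3 m2 kA p r hp hr p1 h2 p2 h1
  obtain ⟨u1, u2⟩ := k0 h l4 p p1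
  have u3 := kA p p1 p2
  obtain ⟨q, hq, q1, q2⟩ : ∃ q : ℕ, q.Prime ∧ q ∣ Nat.card B ∧ Op q L ≠ ⊥ := by
    by_contra e
    have h1 : Fit L ≤ Op p L := Fit_le_of_Op_le fun r hr => by
      by_contra h2
      have h3 : Op r L ≠ ⊥ := fun e => h2 (e.le.trans bot_le)
      exact (c r hr h3).elim (fun e => h2 (by rw [e])) fun h4 => e ⟨r, hr, h4, h3⟩
    exact h.f2 hs (eq_bot_of_le_of_coprime (((le_inf u3 (u2.trans (centralizer_mono h1))).trans (inf_Ct_Fit_le hL)).trans h1)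
      le_rfl (coprime_card_of_isPGroup (isPGroup_Op p L) (coprime_Opp p A)))
  haveI := Fact.mk hq
  obtain ⟨v1, v2⟩ := k0 h.symm l4.symm q q1
  have v3 := kB q q1 q2
  have h1 : Fit L ≤ Op q L ⊔ Op p L := Fit_le_of_Op_le fun r hr => by
    by_contra h2
    have h3 : Op r L ≠ ⊥ := fun e => h2 (e.le.trans bot_le)
    exact (c r hr h3).elim (fun e => h2 (by rw [e]; exact le_sup_right)) fun h4 =>
      h2 (by rw [u h.symm a1 a3 m1 kB q r hq hr q1 h4 q2 h3]; exact le_sup_left)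
  have h2 : ⁅Opp p A, Opp q B⁆ ≤ Op q L ⊔ Op p L := by
    have n : ∀ r, L ≤ Nm(L ⊓ Ct(Op r L)) := fun r =>
      le_normalizer_inf le_normalizer (le_normalizer_centralizer (le_normalizer_Op le_normalizer))
    refine le_trans ?_ ((inf_Ct_Fit_le hL).trans h1)
    refine le_trans ?_ (inf_le_inf_left _ (centralizer_mono h1))
    rw [centralizer_sup, inf_inf_distrib_left]
    exact le_inf ((commutator_mono le_rfl (le_inf v3 v2)).trans (commutator_le_right_of_le_normalizer (u3.trans (n q))))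
      ((commutator_mono (le_inf u3 u2) le_rfl).trans (commutator_le_left_of_le_normalizer (v3.trans (n p))))
  set W := Opp q B ⊔ Op q L with hW
  have w1 : W ≤ B := sup_le (Opp_le _ _) v1
  have w2 : W ≤ L := sup_le v3 (Op_le _ _)
  have w3 : W ≤ Nm(Op p L) := w2.trans (le_normalizer_Op le_normalizer)
  have w4 : Opp p A ≤ Nm(W ⊔ Op p L) := by
    have n : L ≤ Nm(Op q L ⊔ Op p L) := le_normalizer_sup (le_normalizer_Op le_normalizer) (le_normalizer_Op le_normalizer)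
    rw [hW, sup_assoc]
    exact le_normalizer_of_commutator_le le_rfl (le_sup_of_le_right (commutator_sup_right_le (v3.trans n) le_normalizer h2
      (commutator_le_right_of_le_normalizer (u3.trans n))))
  obtain ⟨K, k1, k2⟩ := exists_invariant_hallIn w4 (Nat.Coprime.coprime_dvd_right (Comp.card_sup_dvd w3) (Nat.Coprime.mul_right
    ((h.cop.coprime_dvd_left (card_dvd_of_le (Opp_le _ _))).coprime_dvd_right (card_dvd_of_le w1))
    (coprime_card_of_isPGroup (isPGroup_Op p L) (coprime_Opp p A)).symm)) (Comp.isSolvable_of_le (sup_le w2 (Op_le _ _)) hL) {p}ᶜ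
  obtain ⟨t, t1, rfl⟩ := (hallIn_sup_left (isPi_compl_singleton.2 (coprime_iff_not_dvd.2 fun e => h.not_dvd hp p1
    (e.trans (card_dvd_of_le w1)))) (by rw [compl_compl]; exact isPi_singleton.2 (isPGroup_Op p L)) (.inl w3)).exists_cj_eq
    (Comp.isSolvable_of_le (sup_le w2 (Op_le _ _)) hL) k1
  rw [sup_comm] at t1
  obtain ⟨z, z1, w, w5, rfl⟩ := (Comp.mem_sup_of_le_normalizer' w3).1 t1
  rw [cj_mul, cj_eq_self_of_mem w5, ← cj_normalizer, le_cj_iff, cj_eq_self_iff.2 (Ct_le_Nm _ (le_Ct_comm.1 u2 (inv_mem z1)))] at k2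
  have h3 := hallIn_Opi_of_isNilpotent h.nB {q}ᶜ
  rw [Opi_compl_singleton] at h3
  have h4 := h.symm.f1 (h.f2 hs) (le_normalizer_Opp le_normalizer) (k2.trans ((h3.of_le le_sup_left w1).normalizer_le
    (w1.trans (le_normalizer_Opp le_normalizer)))) (le_normalizer_Opp le_normalizer)
  exact n0 _ (h.symm.f2 hs) v3 h4

theorem Pair.false (hs : ¬ Group.IsSolvable G) (ih : ∀ H A B : Subgroup G, H ≠ ⊤ → A ≤ H → B ≤ H → Group.IsNilpotent A →
    Group.IsNilpotent B → IsProd H A B → Group.IsSolvable H) (h : Pair A B) (h2 : 2 ∣ Nat.card A) : False := by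
  obtain ⟨t, t1, t2⟩ := exists_mem_orderOf_eq (dvd_card_of_isPGroup (isPGroup_Op 2 A).to_inf_left
    (inf_centralizer_ne_bot_of_isNilpotent h.nA (Op_le _ _) (le_normalizer_Op le_normalizer)
      ((sylIn_Op_of_isNilpotent h.nA).ne_bot h2)))
  have t3 : zpowers t ≠ ⊥ := fun e => by simp [zpowers_eq_bot.1 e] at t2
  obtain ⟨a, a1, a2, a3⟩ := Transfer.exists_inverts_odd_of_not_isPGroup (t := t) (by rw [← sq, ← t2, pow_orderOf_eq_one]) fun e => by
    rw [(Normal.eq_bot_or_eq_top (H := normalClosure {t}) inferInstance).resolve_left fun e' => t3 (le_bot_iff.1 (zpowers_le.2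
      (e' ▸ subset_normalClosure (Set.mem_singleton t))))] at e
    exact hs (Solv.isSolvable_top_iff.1 (isSolvable_of_isPGroup e))
  obtain ⟨x, x1, hr⟩ := exists_prime_order_mem (zpowers_ne_bot.2 a1)
  haveI := Fact.mk hr
  have x2 : t * x * t⁻¹ = x⁻¹ := by
    obtain ⟨k, rfl⟩ := x1
    simp only [← conj_zpow, a3, inv_zpow]
  have x3 := Transfer.odd_orderOf_of_mem_zpowers a2 x1
  have x4 : t ∈ Nm(zpowers x) := cj_eq_self_iff.1 (by rw [cj_zpowers, x2, zpowers_inv])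
  have x5 := isPGroup_zpowers_of_orderOf_eq (rfl : orderOf x = _)
  have x6 : zpowers x ≠ ⊥ := fun e => hr.one_lt.ne' (by rw [zpowers_eq_bot.1 e, orderOf_one])
  rcases h.dvd_or hr (orderOf_dvd_natCard x) with h3 | h3
  · obtain ⟨g, -, hg⟩ := (h.sylIn h3).exists_le_cj x5 le_top
    have h4 := (h.cj g 1).sylIn (p := 2) (by rwa [card_cj])
    have h5 : Op 2 cj(g, A) ≤ Ct(zpowers x) := Solv.le_centralizer_of_nilpotent_of_coprime (h.cj g 1).nA (Op_le _ _)
      (hg.trans (cj_mono _ (Op_le _ _))) (coprime_card_of_isPGroup h4.isP (by rw [Nat.card_zpowers]; exact x3.coprime_two_right))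
    obtain ⟨n, n1, n2⟩ := (h4.of_le (h5.trans (Ct_le_Nm _)) le_top).exists_le_cj (isPGroup_zpowers_of_orderOf_eq t2)
      (zpowers_le.2 x4)
    have h6 := (n2.trans (cj_le_of_mem h5 (normalizer_le_normalizer_centralizer _ n1))) (mem_zpowers t) x (mem_zpowers x)
    rw [← h6, mul_inv_cancel_right, eq_inv_iff_mul_eq_one] at x2
    exact x6 (zpowers_eq_bot.2 (Transfer.eq_one_of_odd_of_mul_self x3 x2))
  · obtain ⟨g, -, hg⟩ := (h.symm.sylIn h3).exists_le_cj x5 le_top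
    have h4 := h.cj 1 g
    rw [cj_one] at h4
    have h5 := h4.f5 hs ih t3 (zpowers_le.2 (Op_le _ _ t1.1)) (le_Nm_of_le_Ct' (zpowers_le.2 t1.2))
      (h4.symm.f2 (p := orderOf x) hs) (Opp_le _ _) (le_normalizer_Opp le_normalizer)
    have h6 := eq_top_of_nm x6 (top_le_iff.1 (h5.ge.trans (sup_le (zpowers_le.2 x4) (le_trans
      (Solv.le_centralizer_of_nilpotent_of_coprime h4.nB (Opp_le _ _) (hg.trans (cj_mono _ (Op_le _ _)))
        (coprime_card_of_isPGroup x5 (coprime_Opp _ _)).symm) (Ct_le_Nm _)))))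
    exact hs (Solv.isSolvable_top_iff.1 (isSolvable_of_isPGroup (h6 ▸ x5)))

omit [IsSimpleGroup G] in
theorem kw (G : Type u) [Group G] [Finite G] : ∀ A B : Subgroup G, Group.IsNilpotent A → Group.IsNilpotent B → IsProd ⊤ A B →
    Group.IsSolvable G := by
  induction G, ‹Group G›, ‹Finite G› using Solv.card_induction' with | h G ih => ?_
  intro A B hA hB h
  by_contra hs
  have h0 : ∀ N : Subgroup G, N.Normal → Group.IsSolvable N → N = ⊥ := fun N _ hN => by_contra fun e =>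
    hs (Solv.isSolvable_of_normal_of_quotient N hN (ih _ (Solv.card_quotient_lt e) _ _ (Comp.isNilpotent_map _ hA)
      (Comp.isNilpotent_map _ hB) (h.map_mk N)))
  have h1 : ∀ H A B : Subgroup G, H ≠ ⊤ → A ≤ H → B ≤ H → Group.IsNilpotent A → Group.IsNilpotent B → IsProd H A B →
      Group.IsSolvable H := fun H A B a b c d e f => ih H (Solv.card_lt_of_ne_top a) _ _ (Solv.isNilpotent_subgroupOf d H)
        (Solv.isNilpotent_subgroupOf e H) (f.subgroupOf b c)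
  have h2 : ∀ A B : Subgroup G, Group.IsNilpotent A → Group.IsNilpotent B → IsProd ⊤ A B → ∀ N : Subgroup G, N.Normal → N ≠ ⊥ →
      A ⊔ N = ⊤ := fun A B hA hB h N _ e => by_contra fun e' => e (h0 N ‹_› (Comp.isSolvable_of_le le_sup_right
        (h1 _ _ _ e' le_sup_left inf_le_right hA (Comp.isNilpotent_of_le inf_le_left hB) (h.inf_right le_top le_sup_left))))
  have h3 : (Nat.card A).Coprime (Nat.card B) := Nat.Coprime.symm (Nat.coprime_of_dvd' fun p hp b a => by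
    haveI := Fact.mk hp
    have c1 := Solv.normalClosure_ne_bot ((sylIn_Op_of_isNilpotent hA).ne_bot a)
    have c2 := Solv.normalClosure_ne_bot ((sylIn_Op_of_isNilpotent hB).ne_bot b)
    have c3 : normalClosure (Op p A : Set G) ≤ Ct(normalClosure (Op p B : Set G)) :=
      Solv.normalClosure_le_of_forall_conj fun x => le_Ct_comm.1 (Solv.normalClosure_le_of_forall_conj fun y => by
        have := perm_le G _ _ ((perm_Op (p := p) h hA hB).symm.cj y x)
        rw [h0 (pCore p G) inferInstance (isSolvable_of_isPGroup (Solv.isPGroup_pCore p G)), le_bot_iff] at this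
        exact commutator_eq_bot_iff_le.1 this)
    generalize hM : normalClosure (Op p A : Set G) = M at c1 c3
    generalize hN : normalClosure (Op p B : Set G) = N at c2 c3
    haveI : M.Normal := hM ▸ inferInstance
    haveI : N.Normal := hN ▸ inferInstance
    have c4 := h0 (N ⊓ M) inferInstance (Solv.isSolvable_of_isMulCommutative (comm_iff_le.2
      (inf_le_right.trans (c3.trans (centralizer_mono inf_le_left)))))
    refine absurd (h0 N ‹_› (Comp.isSolvable_of_map (QuotientGroup.mk' M) (Comp.isSolvable_of_le (K := A.map (QuotientGroup.mk' M)) ?_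
      (haveI := Comp.isNilpotent_map (QuotientGroup.mk' M) hA; inferInstance)) ?_)) c2
    · rw [Solv.map_mk_le_map_mk_iff, h2 A B hA hB h M ‹_› c1]; exact le_top
    · rw [QuotientGroup.ker_mk', c4]; infer_instance)
  haveI : Nontrivial G := not_subsingleton_iff_nontrivial.1 fun _ => hs inferInstance
  haveI : IsSimpleGroup G := ⟨fun N _ => or_iff_not_imp_left.2 fun e => index_eq_one.1 (Nat.eq_one_of_dvd_coprimes h3
    (Solv.IsProd.index_dvd_card (h2 A B hA hB h N ‹_› e ▸ Solv.isProd_sup_of_le_normalizer le_normalizer_of_normal))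
    (Solv.IsProd.index_dvd_card (h2 B A hB hA h.symm N ‹_› e ▸ Solv.isProd_sup_of_le_normalizer le_normalizer_of_normal)))⟩
  have h4 : Pair A B := ⟨hA, hB, h, h3⟩
  rcases h4.dvd_or Nat.prime_two (even_iff_two_dvd.1 (Nat.not_odd_iff_even.1 fun e => hs (PF.odd_solvable e))) with e | e
  exacts [h4.false hs h1 e, h4.symm.false hs h1 e]

end Cfsg.Agent.KW
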