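/-
Kazarin's theorem on conjugacy classes of prime-power size.
-/
import Cfsg.Agent.Lib.BG.Cls
import Cfsg.Agent.Lib.Comp.PMin
import Cfsg.Agent.Lib.Block.More
import Cfsg.Agent.Lib.Block.Contrib

set_option autoImplicit false
set_option linter.unusedSectionVars false

namespace Cfsg.Agent.BG

open Subgroup Comp
open scoped commutatorElement Pointwise ComplexConjugate

universe u

variable {G : Type u} [Group G] [Finite G]

open Blk Char in
theorem kaz_char {p q a : ℕ} (hp : p.Prime) [hq : Fact q.Prime] (h : p ≠ q) {x y : G} (hx : C1(x).index = p ^ a)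
    (h1 : orderOf x = q) (h2 : normalClosure {x} = ⊤) (h3 : x ∉ commutator G) (h4 : y ∈ commutator G) (h5 : orderOf y = q) : False := by
  classical
  obtain ⟨M, hM⟩ := exists_pmod q
  have a1 : ∀ i ∈ Finset.range q, q ∣ orderOf (y * x ^ i) := fun i hi => by
    rcases Nat.eq_zero_or_pos i with rfl | h0
    · simp [h5]
    refine by_contra fun e => h3 (Comp.mem_of_pow_mem_of_coprime (n := i * orderOf (y * x ^ i))
      (h1 ▸ Nat.Coprime.mul_right (Nat.coprime_of_lt_prime h0.ne' (Finset.mem_range.1 hi) hq.out)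
        (hq.out.coprime_iff_not_dvd.2 e)) ((QuotientGroup.eq_one_iff _).1 ?_))
    have := congrArg (QuotientGroup.mk' (commutator G)) (pow_orderOf_eq_one (y * x ^ i))
    rwa [map_pow, map_mul, show QuotientGroup.mk' _ y = 1 from (QuotientGroup.eq_one_iff y).2 h4, one_mul, ← map_pow, ← pow_mul] at this
  have a2 := Finset.sum_eq_zero fun i hi => (isPBlock_principal (M := M)).isUB.weak_orthogonality (x := 1)
    (by simpa using hq.out.one_lt.ne') (a1 i hi)
  rw [Finset.sum_comm, ← Finset.add_sum_erase _ _ (Finset.mem_univ (irrOne G))] at a2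
  simp only [if_pos (irrOne_mem_principal (M := M)), irrOne_apply, map_one, mul_one, Finset.sum_const, Finset.card_range,
    nsmul_eq_mul] at a2
  have p0 : (p : ℂ) ≠ 0 := by exact_mod_cast hp.ne_zero
  refine h ((Nat.prime_dvd_prime_iff_eq hp hq.out).1 (nat_dvd_of_isIntegral_div hp.ne_zero ?_))
  rw [eq_neg_of_add_eq_zero_left a2, neg_div, Finset.sum_div]
  refine (IsIntegral.sum _ fun χ hχ => ?_).neg
  by_cases b : χ ∈ principalBlock M G
  swap
  · simp [b, isIntegral_zero]
  simp only [if_pos b]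
  obtain ⟨d, -, hd⟩ := χ.2.exists_degree
  by_cases hpd : p ∣ d
  · obtain ⟨c, rfl⟩ := hpd
    rw [Finset.sum_div]
    refine IsIntegral.sum _ fun i _ => ?_
    rw [hd, show ((p * c : ℕ) : ℂ) * conj (χ.1 (y * x ^ i)) / p = c * conj (χ.1 (y * x ^ i)) by push_cast; field_simp,
      ← χ.2.isCharacter.apply_inv]
    exact (isIntegral_natCast c).mul (χ.2.isCharacter.isIntegral _)
  have b3 := (isPBlock_principal.sameBlock b (irrOne_mem_principal (M := M))) x
  have b4 : ¬ MemLocalIdeal M (centralChar (χ : G → ℂ) x) := fun e => by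
    have := LI_sub e b3
    rw [sub_sub_cancel, centralChar, hx] at this
    simp only [irrOne_apply, mul_one, div_one] at this
    exact h ((Nat.prime_dvd_prime_iff_eq hq.out hp).1 (hq.out.dvd_of_dvd_pow (LI_natCast_iff.1 this))).symm
  have b5 := χ.2.isCharacter.mem_charCenter.2 ((χ.2.eq_zero_or_norm_eq_of_coprime hd
    (hx ▸ (hp.coprime_iff_not_dvd.2 hpd).symm.pow_right a)).resolve_left (apply_ne_zero_of_centralChar b4))
  have := χ.2.isClassFunction.normal_charCenter
  have b6 : commutator G ≤ charKer χ.1 := commutator_le.2 fun g _ k _ => χ.2.isCharacter.commutator_mem_charKer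
    ((h2.ge.trans (normalClosure_le_normal (Set.singleton_subset_iff.2 b5))) (mem_top g)) k
  obtain ⟨ω, -, b7⟩ := mem_charCenter.1 b5
  have b8 : ∀ i : ℕ, χ.1 (x ^ i) = ω ^ i * χ.1 1 := fun i => by
    induction i with
    | zero => simp
    | succ i ih => rw [pow_succ', b7, ih]; ring
  have b9 : ω ^ q = 1 := by
    have := b8 q
    rw [← h1, pow_orderOf_eq_one, h1] at this
    exact (mul_eq_right₀ χ.2.apply_one_ne_zero).1 this.symm
  have b10 : ω ≠ 1 := fun e => by
    have := χ.2.isCharacter.normal_charKer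
    exact χ.2.charKer_ne_top (fun f => (Finset.mem_erase.1 hχ).1 (Subtype.ext f)) (top_le_iff.1 (h2.ge.trans
      (normalClosure_le_normal (Set.singleton_subset_iff.2 (mem_charKer.2 fun g => by rw [b7, e, one_mul])))))
  have b11 := geom_sum_eq b10 q
  rw [b9, sub_self, zero_div] at b11
  simp only [mem_charKer.1 (b6 h4), b8]
  rw [← Finset.mul_sum, ← map_sum, ← Finset.sum_mul, b11]
  simp [isIntegral_zero]

theorem normalClosure_le_sup {p a : ℕ} [Fact p.Prime] {x : G} (hx : C1(x).index = p ^ a) {P : Subgroup G} (hP : SylIn p P ⊤) :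
    normalClosure {x} ≤ P ⊔ zpowers x := by
  refine (closure_le _).2 fun z hz => ?_
  obtain ⟨z, rfl, hz'⟩ := Group.mem_conjugatesOfSet_iff.1 hz
  obtain ⟨g, rfl⟩ := isConj_iff.1 hz'
  obtain ⟨u, hu, c, hc, rfl⟩ := Solv.isProd_top_of_coprime (H := P) (K := C1(z))
    (hx ▸ (coprime_iff_not_dvd.2 (by simpa using hP.not_dvd_relIndex)).pow_right a) g (mem_top g)
  rw [show u * c * z * (u * c)⁻¹ = u * (c * z * c⁻¹) * u⁻¹ by group, mem_centralizer_singleton_iff.1 hc, mul_inv_cancel_right]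
  exact mul_mem (mul_mem (mem_sup_left hu) (mem_sup_right (mem_zpowers z))) (inv_mem (mem_sup_left hu))

theorem kazarin {p : ℕ} (hp : p.Prime) (G : Type u) [Group G] [Finite G] :
    ∀ (x : G) (a : ℕ), C1(x).index = p ^ a → x ∈ Sol (⊤ : Subgroup G) := by
  revert G; refine Solv.card_induction fun G _ _ ih x a hx => ?_
  have := Fact.mk hp
  have s : (Sol (⊤ : Subgroup G)).Normal := Comp.normal_iff_top_le_normalizer.2 (le_normalizer_Sol_of_le le_rfl)
  by_cases h0 : Sol (⊤ : Subgroup G) = ⊥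
  swap
  · have f := QuotientGroup.mk'_surjective (Sol (⊤ : Subgroup G))
    obtain ⟨b, -, hb⟩ := (Nat.dvd_prime_pow hp).1 (hx ▸ index_C1_map_dvd f x)
    have := ih _ (Solv.card_quotient_lt h0) _ b hb
    rw [← map_top_of_surjective _ f, ← map_Sol _ (by rw [QuotientGroup.ker_mk', top_inf_eq]; exact isSolvable_Sol _),
      (Subgroup.map_eq_bot_iff _).2 (QuotientGroup.ker_mk' _).ge] at this
    exact (QuotientGroup.eq_one_iff x).1 (mem_bot.1 this)
  refine by_contra fun e => ?_
  obtain ⟨z, z1, z2⟩ := exists_prime_order_mem (mt zpowers_eq_bot.1 fun f : x = 1 => e (f ▸ one_mem _))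
  obtain ⟨b, -, hz⟩ := (Nat.dvd_prime_pow hp).1 (hx ▸ index_C1_dvd_of_mem_zpowers z1)
  obtain ⟨q, hq⟩ : ∃ q, orderOf z = q := ⟨_, rfl⟩
  have := Fact.mk (hq ▸ z2)
  have z0 : z ∉ Sol (⊤ : Subgroup G) := fun f => ne_one_of_orderOf_eq hq (mem_bot.1 (h0 ▸ f))
  have z3 : z ∈ normalClosure {z} := subset_normalClosure rfl
  have h1 : normalClosure {z} = ⊤ := by_contra fun f => by
    obtain ⟨c, -, hc⟩ := (Nat.dvd_prime_pow hp).1 (hz ▸ index_C1_coe_dvd _ ⟨z, z3⟩)
    have := mem_map_of_mem (normalClosure {z}).subtype (ih _ (Solv.card_lt_of_ne_top f) _ c hc)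
    rw [map_Sol_of_injective _ (subtype_injective _), map_subtype_top] at this
    exact z0 (le_Sol le_top (le_normalizer_Sol le_normalizer_of_normal) (isSolvable_Sol _) this)
  have h2 : ∀ P, SylIn p P ⊤ → z ∉ Nm(P) := fun P hP f => by
    have := hP.isP.isNilpotent
    refine z0 (le_Sol le_top le_normalizer_of_normal (Solv.isSolvable_of_le (normalClosure_le_sup hz hP) ?_) z3)
    rw [sup_comm]; exact Comp.isSolvable_sup (zpowers_le.2 f) (Solv.isSolvable_zpowers z) inferInstance
  have h3 : p ≠ q := fun f => by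
    subst f
    obtain ⟨P, p1, p2⟩ := exists_sylIn_ge (isPGroup_zpowers_of_orderOf_eq hq) le_top
    exact h2 P p2 (le_normalizer (p1 (mem_zpowers z)))
  have h4 : commutator G ⊔ zpowers z = ⊤ := by
    have := Subgroup.Normal.of_commutator_le G (le_sup_left : commutator G ≤ commutator G ⊔ zpowers z)
    exact top_le_iff.1 (h1.ge.trans (normalClosure_le_normal (Set.singleton_subset_iff.2 (mem_sup_right (mem_zpowers z)))))
  have h5 : z ∉ commutator G := fun f => by
    obtain ⟨χ, c1, c2, c3⟩ := Char.exists_irr_mem_charCenter hp (ne_one_of_orderOf_eq hq) hz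
    have := c1.isClassFunction.normal_charCenter
    refine c1.charKer_ne_top c2 (top_le_iff.1 (h4.ge.trans ((sup_le le_rfl (zpowers_le.2 f)).trans (commutator_le.2 fun g _ k _ =>
      c1.isCharacter.commutator_mem_charKer ((h1.ge.trans (normalClosure_le_normal (Set.singleton_subset_iff.2 c3))) (mem_top g)) k))))
  by_cases h6 : q ∣ Nat.card (commutator G)
  · obtain ⟨y, y1, y2⟩ := exists_mem_orderOf_eq h6
    exact kaz_char hp h3 hz hq h1 h5 y1 y2
  obtain ⟨P, p1, p2⟩ := exists_invariant_sylIn p (le_normalizer_of_normal (K := zpowers z) (H := commutator G))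
    (by rw [Nat.card_zpowers, hq]; exact (coprime_iff_not_dvd.2 h6).symm) (.inl (Solv.isSolvable_zpowers z))
  refine h2 P (p1.trans_of_not_dvd le_top fun f => h3 ((Nat.prime_dvd_prime_iff_eq hp (hq ▸ z2)).1 (f.trans ?_))) (p2 (mem_zpowers z))
  rw [← h4, relIndex_sup_left, ← hq, ← Nat.card_zpowers]
  exact relIndex_dvd_card _ _

theorem mem_Ct_of_coprime_index {N : Subgroup G} [N.Normal] {x : G} (h : (Nat.card N).Coprime C1(x).index) : x ∈ Ct(N) :=
  le_centralizer_singleton_iff.1 (relIndex_eq_one.1 (Nat.eq_one_of_dvd_coprimes h (relIndex_dvd_card _ _)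
    (Solv.relIndex_dvd_index_of_normal' _ _)))

theorem kaz_center {p a : ℕ} [hp : Fact p.Prime] {x : G} (hx : C1(x).index = p ^ a) (h : Op p (⊤ : Subgroup G) = ⊥) :
    x ∈ Fit (⊤ : Subgroup G) ⊓ Ct(Fit (⊤ : Subgroup G)) := by
  have : (Fit (⊤ : Subgroup G)).Normal := Comp.normal_iff_top_le_normalizer.2 (le_normalizer_Fit_of_le le_rfl)
  have a1 := mem_Ct_of_coprime_index (hx ▸ (coprime_Fit h).pow_right a)
  have a2 : Fit (Sol (⊤ : Subgroup G)) = Fit ⊤ := by rw [(Sol_subnIn ⊤).Fit_eq, inf_eq_left.2 (Fit_le_Sol ⊤)]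
  exact ⟨a2 ▸ inf_Ct_Fit_le (isSolvable_Sol ⊤) ⟨kazarin hp.out G x a hx, a2 ▸ a1⟩, a1⟩

theorem kaz_comm {p a b : ℕ} [hp : Fact p.Prime] {x y : G} (hx : C1(x).index = p ^ a) (hy : C1(y).index = p ^ b) :
    ⁅x, y⁆ ∈ pCore p G := by
  have f := QuotientGroup.mk'_surjective (pCore p G)
  obtain ⟨c, -, hc⟩ := (Nat.dvd_prime_pow hp.out).1 (hx ▸ index_C1_map_dvd f x)
  obtain ⟨d, -, hd⟩ := (Nat.dvd_prime_pow hp.out).1 (hy ▸ index_C1_map_dvd f y)
  have e := (Op_top p).trans (Comp.pCore_quotient (p := p) (G := G))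
  rw [← QuotientGroup.eq_one_iff, ← QuotientGroup.mk'_apply, map_commutatorElement, commutatorElement_eq_one_iff_mul_comm]
  exact (kaz_center hd e).2 _ (kaz_center hc e).1

end Cfsg.Agent.BG
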