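/-
Normal subgroups whose non-central elements have maximal centralizers.
-/
import Cfsg.Agent.Lib.BG.Cls2
import Cfsg.Agent.Lib.FT.Final
import Cfsg.Agent.Lib.Comp.CharL
import Cfsg.Agent.Lib.Comp.PMin

set_option autoImplicit false
set_option linter.unusedSectionVars false

namespace Cfsg.Agent.MC

open Subgroup Comp BG
open scoped commutatorElement Pointwise

universe u

variable {G : Type u} [Group G] [Finite G] {N : Subgroup G} [hN : N.Normal]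

theorem le_of_pp {D X : Subgroup G} (h : ∀ q : ℕ, q.Prime → ∀ d ∈ D, ∀ k, d ^ q ^ k = 1 → d ∈ X) : D ≤ X :=
  inf_eq_left.1 (eq_of_forall_sylIn inf_le_left fun q hq _ => by
    obtain ⟨P, hP⟩ := exists_sylIn q D
    haveI := Fact.mk hq
    exact ⟨P, hP, le_inf hP.le fun d hd => by
      obtain ⟨k, hk⟩ := IsPGroup.exists_pow_eq_one hP.isP hd
      exact h q hq d (hP.le hd) k hk⟩)

theorem cop {p q : ℕ} (hp : p.Prime) (hq : q.Prime) (h : p ≠ q) {x y : G} {a b : ℕ} (hx : x ^ p ^ a = 1)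
    (hy : y ^ q ^ b = 1) : (orderOf x).Coprime (orderOf y) :=
  ((Nat.coprime_pow_primes a b hp hq h).coprime_dvd_left (orderOf_dvd_of_pow_eq_one hx)).coprime_dvd_right
    (orderOf_dvd_of_pow_eq_one hy)

theorem cauchy {Z K : Subgroup G} [Z.Normal] {r : ℕ} (hr : r.Prime) (h : r ∣ Nat.card (K.map (QuotientGroup.mk' Z))) :
    ∃ u ∈ K, u ∉ Z ∧ u ^ r ∈ Z := by
  haveI := Fact.mk hr
  obtain ⟨_, ⟨u, hu, rfl⟩, h1⟩ := exists_mem_orderOf_eq h
  refine ⟨u, hu, fun e => hr.ne_one ?_, (QuotientGroup.eq_one_iff _).1 ?_⟩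
  · rw [← h1, QuotientGroup.mk'_apply, (QuotientGroup.eq_one_iff _).2 e, orderOf_one]
  · rw [QuotientGroup.mk_pow, ← h1]; exact pow_orderOf_eq_one _

theorem Ct_of_le {x : G} (h : N ≤ C1(x)) : x ∈ Ct(N) := mem_Ct.2 fun _ hy => (mem_C1.1 (h hy)).symm

theorem le_C1 {x : G} (h : x ∈ Ct(N)) : N ≤ C1(x) := fun y hy => mem_C1.2 (mem_Ct.1 h y hy).symm

theorem normal_of {K : Subgroup G} (h : ⊤ ≤ Nm(K)) : K.Normal := normalizer_eq_top_iff.1 (top_le_iff.1 h)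

variable (H : ∀ x : G, x ∈ N → x ∉ Ct(N) → IsCoatom C1(x))
include H

theorem sup_top {x : G} (h1 : x ∈ N) (h2 : x ∉ Ct(N)) {K : Subgroup G} (h : ¬ K ≤ C1(x)) : K ⊔ C1(x) = ⊤ :=
  (H x h1 h2).2 _ (right_lt_sup.2 h)

theorem dec {x : G} (h1 : x ∈ N) (h2 : x ∉ Ct(N)) {K : Subgroup G} [K.Normal] (h : ¬ K ≤ C1(x)) (g : G) :
    ∃ k ∈ K, ∃ c ∈ C1(x), k * c = g := mem_sup_of_normal_left.1 ((sup_top H h1 h2 h).ge (mem_top g))

theorem C1_eq {x y : G} (h1 : x ∈ N) (h2 : x ∉ Ct(N)) (h3 : y ∈ N) (h4 : y ∉ Ct(N)) (hc : Commute x y)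
    (h : (orderOf x).Coprime (orderOf y)) : C1(x) = C1(y) := by
  have e := C1_mul_of_coprime hc h
  have h5 := H _ (mul_mem h1 h3) fun f => h2 (Ct_of_le ((le_C1 f).trans (e.le.trans inf_le_left)))
  rw [e] at h5
  exact ((h5.le_iff_eq (H x h1 h2).1).1 inf_le_left).trans ((h5.le_iff_eq (H y h3 h4).1).1 inf_le_right).symm

theorem exA (h : ¬ N ≤ Ct(N)) : ∃ A : Subgroup G, A.Normal ∧ A ≤ N ∧ A ≤ Ct(A) ∧ ¬ A ≤ Ct(N) := by
  by_contra h0
  push Not at h0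
  obtain ⟨Z, hZ⟩ : ∃ Z, Z = N ⊓ Ct(N) := ⟨_, rfl⟩
  haveI : Z.Normal := hZ ▸ inferInstance
  have z1 : Z ≤ N := hZ ▸ inf_le_left
  have z2 : Z ≤ Ct(N) := hZ ▸ inf_le_right
  have a : ∀ w ∈ N, w ∉ Ct(N) → ∀ t, t * w * t⁻¹ ∈ zpowers w ⊔ Z → t ∈ C1(w) := fun w hw h1 t ht => by
    have b1 : zpowers w ⊔ Z ≤ N := sup_le (zpowers_le.2 hw) z1
    have b2 : Nm(zpowers w ⊔ Z) ≠ ⊤ := fun e => h1 (h0 _ (normalizer_eq_top_iff.1 e) b1
      (sup_le (le_Ct_comm.1 (sup_le (comm_iff_le.1 inferInstance) (z2.trans (centralizer_le (zpowers_le.2 hw)))))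
        (z2.trans (centralizer_le b1))) (mem_sup_left (mem_zpowers w)))
    have b3 : ∀ t, t * w * t⁻¹ ∈ zpowers w ⊔ Z → t ∈ Nm(zpowers w ⊔ Z) := fun t ht =>
      mem_normalizer_fintype fun n hn => by
        obtain ⟨_, ⟨i, rfl⟩, z, hz, rfl⟩ := mem_sup_of_normal_right.1 hn
        have : t * (w ^ i * z) * t⁻¹ = (t * w * t⁻¹) ^ i * (t * z * t⁻¹) := by rw [conj_zpow]; group
        rw [this]
        exact mul_mem (zpow_mem ht i) (mem_sup_right (Normal.conj_mem ‹_› _ hz _))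
    rw [← ((H w hw h1).le_iff_eq b2).1 fun c hc => b3 c (by
      rw [← mem_C1.1 hc, mul_inv_cancel_right]; exact mem_sup_left (mem_zpowers w))]
    exact b3 t ht
  by_cases h2 : 2 ∣ Nat.card (N.map (QuotientGroup.mk' Z))
  · obtain ⟨u, u1, u2, u3⟩ := cauchy Nat.prime_two h2
    have c : ∀ s ∈ {t | t ∈ N ∧ t ^ 2 ∈ Z}, ∀ t ∈ {t | t ∈ N ∧ t ^ 2 ∈ Z}, s * t = t * s := fun s hs t ht => by
      have : t ∈ C1(t * s) := by
        by_cases e : t * s ∈ Ct(N)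
        · exact le_C1 e ht.1
        refine a _ (mul_mem ht.1 hs.1) e t ?_
        have : t * (t * s) * t⁻¹ = (t * s)⁻¹ * (t * s * t ^ 2 * (t * s)⁻¹ * (t * s ^ 2 * t⁻¹)) := by
          simp only [sq]; group
        rw [this]
        exact mul_mem (mem_sup_left (inv_mem (mem_zpowers _))) (mem_sup_right (mul_mem (Normal.conj_mem ‹_› _ ht.2 _)
          (Normal.conj_mem ‹_› _ hs.2 _)))
      have := mem_C1.1 this
      rwa [mul_assoc, mul_right_inj] at this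
    refine u2 (hZ ▸ mem_inf.2 ⟨u1, h0 (closure {t | t ∈ N ∧ t ^ 2 ∈ Z}) ⟨fun n hn g => ?_⟩
      ((closure_le _).2 fun t ht => ht.1) (comm_iff_le.1 (isMulCommutative_closure c)) (subset_closure ⟨u1, u3⟩)⟩)
    induction hn using closure_induction with
    | mem x hx => exact subset_closure ⟨hN.conj_mem _ hx.1 g, by rw [conj_pow]; exact Normal.conj_mem ‹_› _ hx.2 g⟩
    | one => simp
    | mul x y _ _ hx hy => rw [← conj_mul]; exact mul_mem hx hy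
    | inv x _ hx => rw [← conj_inv]; exact inv_mem hx
  have hs : Group.IsSolvable N := isSolvable_of_map (QuotientGroup.mk' Z)
    (PF.odd_solvable (Nat.odd_iff.2 (Nat.two_dvd_ne_zero.1 h2))) (isSolvable_of_le_centralizer (by
      rw [QuotientGroup.ker_mk', inf_eq_right.2 z1]; exact z2.trans (centralizer_le z1)))
  haveI : (Fit N).Normal := normal_of (le_normalizer_Fit le_normalizer_of_normal)
  have f1 : ¬ Fit N ≤ Z := fun e => h ((((le_inf le_rfl (le_Ct_comm.1 (e.trans z2))).trans (inf_Ct_Fit_le hs)).trans e).trans z2)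
  obtain ⟨x, x1, x2, x3⟩ := Solv.exists_central_mod (isNilpotent_Fit N) le_rfl le_normalizer f1
  have x4 : x ∉ Ct(N) := fun e => x2 (hZ ▸ mem_inf.2 ⟨Fit_le N x1, e⟩)
  have x5 : ¬ Fit N ≤ C1(x) := fun e => x4 (h0 (Fit N ⊓ Ct(Fit N)) inferInstance (inf_le_left.trans (Fit_le N))
    (inf_le_right.trans (centralizer_le inf_le_left)) (mem_inf.2 ⟨x1, mem_Ct.2 fun y hy => (mem_C1.1 (e hy)).symm⟩))
  refine x5 fun k hk => a x (Fit_le N x1) x4 k ?_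
  have : k * x * k⁻¹ = x * (x⁻¹ * ⁅x, k⁆⁻¹ * x⁻¹⁻¹) := by simp only [commutatorElement_def]; group
  rw [this]
  exact mul_mem (mem_sup_left (mem_zpowers x)) (mem_sup_right (Normal.conj_mem ‹_› _ (inv_mem (x3 k hk)) _))

theorem comm_le {A : Subgroup G} [hA : A.Normal] (h1 : A ≤ N) (h2 : ¬ A ≤ Ct(N)) : ⁅N, ⊤⁆ ≤ A := by
  have a : ∀ y ∈ N, y ∉ Ct(A) → (y : G ⧸ A) ∈ center (G ⧸ A) := fun y hy e => mem_center_iff.2 fun g => by
    obtain ⟨g, rfl⟩ := QuotientGroup.mk_surjective g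
    obtain ⟨k, hk, c, hc, rfl⟩ := dec H hy (fun f => e (centralizer_le h1 f))
      (K := A) (fun f => e (mem_Ct.2 fun a ha => (mem_C1.1 (f ha)).symm)) g
    rw [QuotientGroup.mk_mul, (QuotientGroup.eq_one_iff _).2 hk, one_mul, ← QuotientGroup.mk_mul, ← mem_C1.1 hc,
      QuotientGroup.mk_mul]
  obtain ⟨y, hy, e⟩ := SetLike.not_le_iff_exists.1 (mt le_Ct_comm.1 h2)
  refine commutator_le.2 fun x hx g _ => (QuotientGroup.eq_one_iff _).1 ?_
  have : (x : G ⧸ A) ∈ center (G ⧸ A) := by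
    by_cases f : x ∈ Ct(A)
    · have := mul_mem (a _ (mul_mem hx hy) fun f' => e ((mul_mem_cancel_left f).1 f')) (inv_mem (a y hy e))
      rwa [QuotientGroup.mk_mul, mul_inv_cancel_right] at this
    · exact a x hx f
  exact (map_commutatorElement (QuotientGroup.mk' A) x g).trans
    (commutatorElement_eq_one_iff_mul_comm.2 (mem_center_iff.1 this _).symm)

theorem nil (hn : Group.IsNilpotent N) : ∃ p : ℕ, p.Prime ∧ ⁅N, N⁆ ≤ Ct(N) ∧ ∀ x ∈ N, x ^ p ∈ Ct(N) := by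
  by_cases h : N ≤ Ct(N)
  · exact ⟨2, Nat.prime_two, (commutator_le_left N N).trans h, fun x hx => pow_mem (h hx) _⟩
  obtain ⟨p, hp, x, x1, k, x2, x3⟩ : ∃ q : ℕ, q.Prime ∧ ∃ d ∈ N, ∃ k, d ^ q ^ k = 1 ∧ d ∉ Ct(N) := by
    by_contra e
    push Not at e
    exact h (le_of_pp e)
  haveI := Fact.mk hp
  have x4 : x ∈ Op p N := le_Op_of_isNilpotent hn (zpowers_le.2 x1) (isPGroup_zpowers x2) (mem_zpowers x)
  have h1 : Opp p N ≤ Ct(N) := fun y hy => by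
    by_contra e
    have := C1_eq H x1 x3 (Opp_le _ _ hy) e (mem_Ct.1 (Op_le_centralizer_Opp p N x4) y hy).symm
      ((((coprime_Opp p N).coprime_dvd_left (orderOf_dvd_natCard _ hy)).pow_right k).symm.coprime_dvd_left
        (orderOf_dvd_of_pow_eq_one x2))
    refine x3 (Ct_of_le ((Op_sup_Opp_of_isNilpotent (p := p) hn).ge.trans (sup_le ?_ ?_)))
    · exact this ▸ fun z hz => mem_C1.2 (mem_Ct.1 (Op_le_centralizer_Opp p N hz) y hy)
    · exact fun z hz => mem_C1.2 (mem_Ct.1 (Op_le_centralizer_Opp p N x4) z hz).symm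
  haveI : (Phi (Op p N)).Normal := normal_of (le_normalizer_Phi (le_normalizer_Op le_normalizer_of_normal))
  have h2 : Phi (Op p N) ≤ Ct(N) := le_Ct_comm.1 fun y hy => by
    by_cases e : y ∈ Ct(N)
    · exact centralizer_le ((Phi_le _).trans (Op_le _ _)) e
    refine mem_Ct.2 fun z hz => (mem_C1.1 ((?_ : _ ≤ C1(y)) hz)).symm
    by_contra f
    have := Solv.eq_of_sup_map_frattini (L := C1(y) ⊓ Op p N) (H := Op p N) inf_le_right (by
      rw [sup_comm, ← Solv.dedekind (Phi_le _) le_normalizer_of_normal, sup_top H hy e f, top_inf_eq])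
    exact f ((Phi_le _).trans (this.ge.trans inf_le_left))
  have h3 : ∀ y ∈ N, ∃ a ∈ Op p N, ∃ b ∈ Ct(N), a * b = y := fun y hy => by
    obtain ⟨a, ha, b, hb, e⟩ := (mem_sup_of_le_normalizer ((Op_le p N).trans (le_normalizer_Opp le_normalizer))).1
      ((Op_sup_Opp_of_isNilpotent (p := p) hn).ge hy)
    exact ⟨a, ha, b, h1 hb, e⟩
  refine ⟨p, hp, commutator_le.2 fun a ha b hb => ?_, fun y hy => ?_⟩
  · obtain ⟨a1, a2, a3, a4, e1⟩ := h3 a ha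
    obtain ⟨b1, b2, b3, b4, e2⟩ := h3 b hb
    have f1 := mem_Ct.1 a4 b hb
    have f2 := mem_Ct.1 b4 a1 (Op_le _ _ a2)
    have : ⁅a, b⁆ = ⁅a1, b1⁆ := by
      calc ⁅a, b⁆ = a1 * (a3 * b) * a3⁻¹ * a1⁻¹ * b⁻¹ := by rw [← e1, commutatorElement_def]; group
        _ = a1 * b1 * (a1⁻¹ * (a1 * b3) * a1⁻¹) * b⁻¹ := by rw [← f1, ← e2]; group
        _ = _ := by rw [f2, ← e2, commutatorElement_def]; group
    exact this ▸ h2 (Solv.commutator_le_map_frattini (isPGroup_Op p N).isNilpotent (commutator_mem_commutator a2 b2))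
  · obtain ⟨a, ha, b, hb, rfl⟩ := h3 y hy
    rw [Commute.mul_pow (mem_Ct.1 hb a (Op_le _ _ ha))]
    exact mul_mem (h2 (Solv.pow_mem_map_frattini (isPGroup_Op p N) ha)) (pow_mem hb _)

theorem nonnil (hn : ¬ Group.IsNilpotent N) : ∃ (p r : ℕ) (V : Subgroup G) (u : G), p.Prime ∧ r.Prime ∧ V.Normal ∧ V ≤ N ∧
    V ≠ ⊥ ∧ IsElementaryAbelian p V ∧ u ∈ N ∧ u ∉ Ct(N) ∧ u ^ r ∈ Ct(N) ∧ V ⊔ (zpowers u ⊔ N ⊓ Ct(N)) = N ∧
    (∀ t ∈ zpowers u ⊔ N ⊓ Ct(N), ∀ v ∈ V, Commute t v → v = 1 ∨ t ∈ Ct(N)) ∧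
    ∀ W : Subgroup G, W.Normal → W ≤ V → W = ⊥ ∨ W = V := by
  obtain ⟨A, _, a1, a2, a3⟩ := exA H fun e => hn (isNilpotent_of_le_centralizer e)
  have a4 := comm_le H a1 a3
  have hA := isNilpotent_of_le_centralizer a2
  obtain ⟨q, hq, y, y1, k, y2, y3⟩ : ∃ q : ℕ, q.Prime ∧ ∃ y ∈ N, ∃ k, y ^ q ^ k = 1 ∧ y ∉ Ct(Opp q A) := by
    by_contra e
    push Not at e
    refine hn ((eq_of_forall_sylIn (Fit_le N) fun q hq _ => ?_) ▸ isNilpotent_Fit N)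
    haveI := Fact.mk hq
    obtain ⟨P, hP⟩ := exists_sylIn q N
    have b1 : A ≤ Nm(P) := (Op_sup_Opp_of_isNilpotent (p := q) hA).ge.trans (sup_le
      ((hP.le_of_normalizer' (isPGroup_Op q A) ((Op_le _ _).trans a1) (le_normalizer_Op le_normalizer_of_normal)).trans
        le_normalizer) (le_Nm_of_le_Ct' fun x hx => by
          obtain ⟨k, hk⟩ := IsPGroup.exists_pow_eq_one hP.isP hx
          exact e q hq x (hP.le hx) k hk))
    have b2 := (hP.of_le le_sup_left (sup_le hP.le a1)).eq_Op (sup_le le_normalizer b1)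
    have b3 : N ≤ Nm(P) := b2 ▸ le_normalizer_Op (le_normalizer_of_commutator_le (sup_le hP.le a1)
      ((commutator_mono le_rfl le_top).trans (a4.trans le_sup_right)))
    exact ⟨P, hP, (hP.eq_Op b3).le.trans (Op_le_Fit q N)⟩
  haveI := Fact.mk hq
  obtain ⟨p, hp, p1, p2⟩ : ∃ p : ℕ, p.Prime ∧ p ∣ Nat.card (Opp q A) ∧ ¬ Op p (Opp q A) ≤ C1(y) := by
    by_contra e
    push Not at e
    exact y3 (mem_Ct.2 fun a ha => (mem_C1.1 (le_of_isNilpotent_of_Op_le (isNilpotent_of_le (Opp_le q A) hA) e ha)).symm)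
  haveI := Fact.mk hp
  have hpq : p ≠ q := by
    rintro rfl
    exact coprime_iff_not_dvd.1 (coprime_Opp p A) p1
  obtain ⟨W, hW⟩ : ∃ W, W = Op p (Opp q A) := ⟨_, rfl⟩
  rw [← hW] at p2
  haveI : W.Normal := hW ▸ normal_of (le_normalizer_Op (le_normalizer_Opp le_normalizer_of_normal))
  have w1 : W ≤ A := hW ▸ (Op_le _ _).trans (Opp_le _ _)
  have w2 : IsPGroup p W := hW ▸ isPGroup_Op _ _
  have y4 : y ∉ Ct(N) := fun e => p2 ((w1.trans a1).trans (le_C1 e))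
  obtain ⟨V, hV⟩ : ∃ V, V = ⁅W, zpowers y⁆ := ⟨_, rfl⟩
  have v1 : V ≤ W := hV ▸ commutator_le_left _ _
  have hc : (Nat.card (zpowers y)).Coprime (Nat.card W) := by
    obtain ⟨j, hj⟩ := w2.exists_card_eq
    rw [hj]; exact (coprime_of_isPGroup_of_ne hpq.symm (isPGroup_zpowers y2)).pow_right j
  have v2 : V ⊓ C1(y) = ⊥ := by
    have := Solv.coprime_abelian_inf_eq_bot (comm_iff_le.2 (w1.trans (a2.trans (centralizer_le w1))))
      le_normalizer_of_normal hc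
    rw [centralizer_zpowers, ← hV] at this
    exact le_bot_iff.1 (le_trans (le_inf (inf_le_inf_right _ v1) inf_le_left) this.le)
  have v3 : V ≠ ⊥ := fun e => p2 (by rw [← centralizer_zpowers, ← commutator_eq_bot_iff_le, ← hV, e])
  haveI : V.Normal := normal_of ((sup_top H y1 y4 p2).ge.trans (hV ▸ sup_le
    (le_sup_left.trans (sup_le_normalizer_commutator _ _)) (le_normalizer_commutator le_normalizer_of_normal
      (by rw [← centralizer_zpowers]; exact Ct_le_Nm _))))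
  have v4 : ∀ U : Subgroup G, U.Normal → U ≤ V → U = ⊥ ∨ U = V := fun U _ hU => or_iff_not_imp_left.2 fun e => by
    have := Solv.dedekind (B := C1(y)) hU le_normalizer_of_normal
    rw [sup_top H y1 y4 fun f => e (le_bot_iff.1 ((le_inf hU f).trans v2.le)), top_inf_eq, inf_comm, v2, sup_bot_eq] at this
    exact this.symm
  have v5 : V ≤ N := v1.trans (w1.trans a1)
  have v6 : IsElementaryAbelian p V := by
    rw [← (v4 _ (normal_of (le_normalizer_OmZ le_normalizer_of_normal)) (OmZ_le p V)).resolve_left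
      (OmZ_ne_bot (w2.to_le v1) v3)]
    exact isElementaryAbelian_OmZ p V
  have v7 : ¬ V ≤ C1(y) := fun e => v3 (inf_eq_left.2 e ▸ v2)
  have d : ∀ v ∈ V, v ≠ 1 → N ⊓ C1(y) ⊓ C1(v) ≤ Ct(N) := fun v hv h1 => le_of_pp fun s hs d hd j hj => by
    have e1 : v ∉ C1(y) := fun e => h1 ((eq_bot_iff_forall _).1 v2 v (mem_inf.2 ⟨hv, e⟩))
    have e2 : v ∉ Ct(N) := fun e => e1 (mem_C1.2 (mem_Ct.1 e y y1))
    have e3 : v ^ p ^ 1 = 1 := by rw [pow_one]; exact v6.2 v hv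
    obtain ⟨⟨d1, d2⟩, d3⟩ := (mem_inf.1 hd).imp_left mem_inf.1
    by_contra e
    by_cases f : s = p
    · refine e1 (C1_eq H d1 e y1 y4 (mem_C1.1 d2).symm (cop hs hq (f ▸ hpq) hj y2) ▸ mem_C1.2 (mem_C1.1 d3).symm)
    · have := C1_eq H d1 e (v5 hv) e2 (mem_C1.1 d3).symm (cop hs hp f hj e3)
      exact e1 (mem_C1.2 (mem_C1.1 (this ▸ mem_C1.2 (mem_C1.1 d2).symm : y ∈ C1(v))).symm)
  obtain ⟨r, hr, r1⟩ := Nat.exists_prime_and_dvd (n := Nat.card ((N ⊓ C1(y)).map (QuotientGroup.mk' (N ⊓ Ct(N))))) fun e =>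
    y4 (mem_inf.1 ((QuotientGroup.ker_mk' _).le ((Subgroup.map_eq_bot_iff _).1 (card_eq_one.1 e)
      (mem_inf.2 ⟨y1, self_mem_C1 y⟩)))).2
  obtain ⟨u, u1, u2, u3⟩ := cauchy hr r1
  have u4 : u ∉ Ct(N) := fun e => u2 (mem_inf.2 ⟨(mem_inf.1 u1).1, e⟩)
  have q1 : zpowers u ⊔ N ⊓ Ct(N) = N ⊓ C1(y) := by
    refine le_antisymm (sup_le (zpowers_le.2 u1) (inf_le_inf_left _ fun z hz => mem_C1.2 (mem_Ct.1 hz y y1))) fun t ht => ?_
    obtain ⟨v, hv, h1⟩ := Solv.exists_ne_one_of_ne_bot v3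
    have e1 : v ∉ Ct(N) := fun e => h1 ((eq_bot_iff_forall _).1 v2 v (mem_inf.2 ⟨hv, mem_C1.2 (mem_Ct.1 e y y1)⟩))
    haveI : (zpowers u ⊔ A).Normal := normal_of (le_normalizer_of_commutator_le
      (sup_le (zpowers_le.2 (mem_inf.1 u1).1) a1) (by rw [Subgroup.commutator_comm]; exact a4.trans le_sup_right))
    obtain ⟨l, hl, c, hc, rfl⟩ := dec H (v5 hv) e1 (K := zpowers u ⊔ A)
      (fun e => u4 (d v hv h1 (mem_inf.2 ⟨u1, e (mem_sup_left (mem_zpowers u))⟩))) t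
    obtain ⟨b, hb, a, ha, rfl⟩ := mem_sup_of_normal_right.1 hl
    rw [mul_assoc] at ht ⊢
    have e2 := (mul_mem_cancel_left (zpowers_le.2 u1 hb)).1 ht
    exact mul_mem (mem_sup_left hb) (mem_sup_right (mem_inf.2 ⟨(mem_inf.1 e2).1, d v hv h1 (mem_inf.2 ⟨e2,
      mul_mem (mem_C1.2 (mem_Ct.1 (a2 ha) v (w1 (v1 hv)))) hc⟩)⟩))
  refine ⟨p, r, V, u, hp, hr, ‹_›, v5, v3, v6, (mem_inf.1 u1).1, u4, (mem_inf.1 u3).2, ?_, fun t ht v hv e => ?_, v4⟩
  · rw [q1, inf_comm, ← Solv.dedekind v5 le_normalizer_of_normal, sup_top H y1 y4 v7, top_inf_eq]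
  · exact or_iff_not_imp_left.2 fun h1 => d v hv h1 (mem_inf.2 ⟨q1 ▸ ht, mem_C1.2 e.symm⟩)

theorem quot {K : Type*} [Group K] [Finite K] (f : N →* K) (hf : Function.Surjective f)
    (hk : ∀ x : N, f x = 1 ↔ (x : G) ∈ Ct(N)) : (∃ p : ℕ, p.Prime ∧ IsElementaryAbelian p (⊤ : Subgroup K)) ∨
    ∃ (p : ℕ) (V : Subgroup G) (U : Subgroup K) (h : K), p.Prime ∧ (orderOf h).Prime ∧ U = (V.subgroupOf N).map f ∧
      U.Normal ∧ U ≠ ⊥ ∧ IsElementaryAbelian p U ∧ U ⊔ zpowers h = ⊤ ∧ (∀ t ∈ zpowers h, t ≠ 1 → U ⊓ C1(t) = ⊥) ∧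
      V.Normal ∧ V ≤ N ∧ ∀ W : Subgroup G, W.Normal → W ≤ V → W = ⊥ ∨ W = V := by
  by_cases hn : Group.IsNilpotent N
  · obtain ⟨p, hp, h1, h2⟩ := nil H hn
    refine Or.inl ⟨p, hp, ⟨⟨fun a b => Subtype.ext ?_⟩⟩, fun a _ => ?_⟩
    · obtain ⟨x, hx⟩ := hf a
      obtain ⟨y, hy⟩ := hf b
      refine commutatorElement_eq_one_iff_mul_comm.1 ?_
      rw [← hx, ← hy, ← map_commutatorElement]
      exact (hk _).2 (h1 (commutator_mem_commutator x.2 y.2))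
    · obtain ⟨x, rfl⟩ := hf a
      rw [← map_pow]; exact (hk _).2 (h2 x x.2)
  obtain ⟨p, r, V, u, hp, hr, _, v1, v2, v3, u1, u2, u3, h1, h2, h3⟩ := nonnil H hn
  haveI := Fact.mk hr
  have z : ∀ v ∈ V, v ∈ Ct(N) → v = 1 := fun v hv e =>
    (h2 u (mem_sup_left (mem_zpowers u)) v hv (mem_Ct.1 e u u1)).resolve_right u2
  have o : orderOf (f ⟨u, u1⟩) = r := orderOf_eq_prime (by rw [← map_pow]; exact (hk _).2 u3) (mt (hk _).1 u2)
  refine Or.inr ⟨p, V, _, f ⟨u, u1⟩, hp, o ▸ hr, rfl, Solv.normal_map_of_surjective hf _, fun e => v2 ?_,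
    ⟨haveI := v3.1; inferInstance, ?_⟩, eq_top_iff.2 fun a _ => ?_, ?_, ‹_›, v1, h3⟩
  · exact (eq_bot_iff_forall _).2 fun v hv => z v hv ((hk ⟨v, v1 hv⟩).1
      ((eq_bot_iff_forall _).1 e _ (mem_map_of_mem f hv)))
  · rintro _ ⟨v, hv, rfl⟩
    rw [← map_pow, show v ^ p = 1 from Subtype.ext (v3.2 v hv), map_one]
  · obtain ⟨x, rfl⟩ := hf a
    obtain ⟨v, hv, t, ht, e⟩ := mem_sup_of_normal_left.1 (h1.ge x.2)
    obtain ⟨_, ⟨i, rfl⟩, c, hc, rfl⟩ := mem_sup_of_normal_right.1 ht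
    have : x = ⟨v, v1 hv⟩ * (⟨u, u1⟩ ^ i * ⟨c, (mem_inf.1 hc).1⟩) := Subtype.ext e.symm
    rw [this, map_mul, map_mul, (hk ⟨c, _⟩).2 (mem_inf.1 hc).2, mul_one, map_zpow]
    exact mul_mem (mem_sup_left (mem_map_of_mem f hv)) (mem_sup_right (zpow_mem (mem_zpowers _) i))
  · rintro _ ⟨i, rfl⟩ e
    refine Solv.fpf_iff.2 ?_
    rintro _ ⟨v, hv, rfl⟩ e1
    simp only [← map_zpow] at e e1
    have e2 := (hk ⁅(⟨u, u1⟩ : N) ^ i, v⁆).1 (by rw [map_commutatorElement, commutatorElement_eq_one_iff_mul_comm, e1])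
    have e3 := z _ (commutator_le_right ⊤ V (commutator_mem_commutator (mem_top (u ^ i)) hv)) e2
    obtain e4 | e4 := h2 _ (mem_sup_left (zpow_mem (mem_zpowers u) i)) v hv (commutatorElement_eq_one_iff_commute.1 e3)
    · rw [show v = 1 from Subtype.ext e4, map_one]
    · exact (e ((hk _).2 e4)).elim

end Cfsg.Agent.MC
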