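import Cfsg.Agent.Lib.BG.Reg

set_option autoImplicit false
set_option linter.unusedSectionVars false
open Cfsg Subgroup commutatorElement

/-! Metacyclic p-groups, p odd. -/

namespace Cfsg.Agent.Reg
open Cfsg.Agent.Comp Cfsg.Agent.BG

universe u
variable {G : Type u} [Group G] [Finite G] {p : ℕ} [hp : Fact p.Prime]

theorem mem_of_zpow_mem (hG : IsPGroup p G) {K : Subgroup G} {c : G} {i : ℤ} (hi : ¬ (p : ℤ) ∣ i)
    (h : c ^ i ∈ K) : c ∈ K := by
  obtain ⟨m, hm⟩ := hG c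
  obtain ⟨u, v, huv⟩ := ((Int.prime_iff_natAbs_prime.2 (by simpa using hp.out)).coprime_iff_not_dvd.2
    hi).pow_left (m := m)
  have : c = (c ^ i) ^ v := by
    conv_lhs => rw [← zpow_one c, ← huv]
    rw [zpow_add, mul_comm u, zpow_mul, ← Nat.cast_pow, zpow_natCast, hm, one_zpow, one_mul, mul_comm, zpow_mul]
  rw [this]; exact zpow_mem h v

theorem W.comm_zpow (h : W p G) (y x : G) (j : ℤ) : Commute (y ^ j) x ↔ (orderOf ⁅y, x⁆ : ℤ) ∣ j := by
  obtain ⟨m, hm⟩ := (IsPGroup.iff_orderOf.1 h.1) ⁅y, x⁆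
  have h1 : Commute (y ^ p ^ m) x := (h.comm_iff _ _ _).2 (hm ▸ pow_orderOf_eq_one _)
  rw [hm]
  constructor
  · intro h2
    have h3 := Int.gcd_eq_gcd_ab j (p ^ m : ℕ)
    obtain ⟨k, -, hk⟩ := (Nat.dvd_prime_pow hp.out).1
      (Int.natCast_dvd_natCast.1 (Int.gcd_dvd_right (a := j) (b := (p ^ m : ℕ))))
    have h4 : Commute (y ^ p ^ k) x := by
      rw [← hk, ← zpow_natCast, h3, zpow_add, zpow_mul, zpow_mul, zpow_natCast]
      exact (h2.zpow_left _).mul_left (h1.zpow_left _)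
    have h5 := orderOf_dvd_of_pow_eq_one ((h.comm_iff _ _ _).1 h4)
    rw [hm, ← hk] at h5
    exact (Int.natCast_dvd_natCast.2 h5).trans (Int.gcd_dvd_left _ _)
  · rintro ⟨k, rfl⟩
    rw [zpow_mul, zpow_natCast]; exact h1.zpow_left _

/-- `℧_s` -/
abbrev mho (p s : ℕ) (G : Type u) [Group G] : Subgroup G := powerClosure p s ⊤

/-- two-generated regular powerful with cyclic derived group -/
structure MC (p : ℕ) (G : Type u) [Group G] : Prop where
  w : W p G
  cyc : IsCyclic (_root_.commutator G)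
  pw : _root_.commutator G ≤ mho p 1 G
  gen : ∃ a b : G, cl2 a b = ⊤

theorem meta_inj {H K : Type*} [Group H] [Group K] (f : H →* K) (hf : Function.Injective f)
    (h : IsMetacyclic K) : IsMetacyclic H := by
  obtain ⟨N, _, h1, h2⟩ := h
  refine ⟨N.comap f, inferInstance, isCyclic_of_injective (f.subgroupComap N) fun x y e =>
    Subtype.ext (hf (congrArg Subtype.val e)), isCyclic_of_injective
      (QuotientGroup.map _ N f le_rfl) ((injective_iff_map_eq_one _).2 fun x hx => ?_)⟩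
  induction x using QuotientGroup.induction_on with | H z => ?_
  exact (QuotientGroup.eq_one_iff _).2 ((QuotientGroup.eq_one_iff (f z)).1 hx)

theorem cl2_eq (a b : G) : cl2 a b = zpowers a ⊔ zpowers b := by
  rw [zpowers_eq_closure, zpowers_eq_closure, ← Subgroup.closure_union]; rfl

theorem zpow_mem_mho {s : ℕ} (a : G) {i : ℤ} (h : ((p ^ s : ℕ) : ℤ) ∣ i) : a ^ i ∈ mho p s G := by
  obtain ⟨j, rfl⟩ := h
  rw [zpow_mul, zpow_natCast]; exact zpow_mem (pow_mem_pc (mem_top a)) j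

theorem MC_of (h2 : p ≠ 2) (hG : IsPGroup p G) (h : IsMetacyclic G) : MC p G := by
  have hm : Meta (⊤ : Subgroup G) := meta_iff.2 (meta_inj _ (subtype_injective _) h)
  have hc : IsCyclic (_root_.commutator G) := hm.isCyclic_der
  obtain ⟨a, b, h3, h4⟩ := hm
  refine ⟨W_of_cyclic hG h2 hc, hc, ?_, a, b, (cl2_eq a b).trans h4⟩
  by_cases ha : a ∈ _root_.commutator G
  · have := Solv.eq_top_of_sup_le_frattini ((zpowers_le.2 ha).trans
      (Solv.commutator_le_frattini_of_isPGroup hG)) ((sup_comm _ _).trans h4)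
    rw [_root_.commutator_def, commutator_le]
    intro x _ y _
    obtain ⟨i, rfl⟩ := this.ge (mem_top x)
    obtain ⟨j, rfl⟩ := this.ge (mem_top y)
    rw [commutatorElement_eq_one_iff_mul_comm.2 (zpow_mul_comm _ _ _)]; exact one_mem _
  · intro x hx
    obtain ⟨i, rfl⟩ := der_le_zpowers h3 h4 hx
    exact zpow_mem_mho a (by rw [pow_one]; exact by_contra fun hi => ha (mem_of_zpow_mem hG hi hx))

theorem MC.of_surj (h : MC p G) {G' : Type u} [Group G'] {f : G →* G'} (hf : Function.Surjective f) :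
    MC p G' := by
  have h1 : (_root_.commutator G).map f = _root_.commutator G' := by
    rw [map_commutator_eq, MonoidHom.range_eq_top.2 hf]; rfl
  obtain ⟨a, b, h2⟩ := h.gen
  refine ⟨h.w.of_surj hf, ?_, ?_, f a, f b, by rw [← map_cl2, h2, map_top_of_surjective f hf]⟩
  · rw [← h1]; haveI := h.cyc
    exact isCyclic_of_surjective _ (f.subgroupMap_surjective _)
  · rw [← h1]; refine (map_mono h.pw).trans ?_
    rw [map_pc]; exact pc_mono le_top

theorem prod_of_comm {h y : G} (hc : Commute h y) {g : G} (hg : g ∈ cl2 h y) :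
    ∃ i j : ℤ, g = h ^ i * y ^ j := by
  rw [cl2_eq] at hg
  obtain ⟨_, ⟨i, rfl⟩, _, ⟨j, rfl⟩, rfl⟩ := (Comp.mem_sup_of_le_normalizer (zpowers_le.2
    (centralizer_le_normalizer _ (by rintro _ ⟨k, rfl⟩; exact (hc.zpow_right k).symm)))).1 hg
  exact ⟨i, j, rfl⟩

theorem MC.der_pow (h : MC p G) {s : ℕ} (he : ∀ g : G, g ^ p ^ (s + 1) = 1) (a b : G) :
    ⁅a, b⁆ ^ p ^ s = 1 := by
  obtain ⟨w, -, hw⟩ := h.w.B 1 (h.pw (commutator_mem_commutator (mem_top a) (mem_top b)))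
  rw [hw, ← pow_mul, ← pow_add, add_comm, he]

theorem MC.prod_aux (s : ℕ) : ∀ {G : Type u} [Group G] [Finite G], MC p G →
    (∀ g : G, g ^ p ^ (s + 1) = 1) → ∀ h y : G, cl2 h y = ⊤ → ∀ g, ∃ i j : ℤ, g = h ^ i * y ^ j := by
  induction s with
  | zero =>
    intro G _ _ hG he h y hc g
    exact prod_of_comm (commutatorElement_eq_one_iff_commute.1 (by simpa using hG.der_pow he h y))
      (hc.ge (mem_top g))
  | succ s ih =>
    intro G _ _ hG he h y hc
    let N := mho p (s + 1) G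
    have key : ∀ g : G, ∃ i j : ℤ, ∃ x : G, g = h ^ i * y ^ j * x ^ p ^ (s + 1) := fun g => by
      obtain ⟨i, j, e⟩ := ih (hG.of_surj (QuotientGroup.mk'_surjective N)) (fun g => by
        obtain ⟨g, rfl⟩ := QuotientGroup.mk'_surjective N g
        rw [← map_pow]; exact (QuotientGroup.eq_one_iff _).2 (pow_mem_pc (mem_top _)))
        (QuotientGroup.mk' N h) (QuotientGroup.mk' N y) (by
          rw [← map_cl2, hc, map_top_of_surjective _ (QuotientGroup.mk'_surjective N)]) (QuotientGroup.mk' N g)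
      rw [← map_zpow, ← map_zpow, ← map_mul, eq_comm, QuotientGroup.mk'_apply, QuotientGroup.mk'_apply,
        QuotientGroup.eq] at e
      obtain ⟨x, -, hx⟩ := hG.w.B _ e
      exact ⟨i, j, x, by rw [← hx]; group⟩
    intro g
    obtain ⟨i, j, x, rfl⟩ := key g
    obtain ⟨k, l, w, rfl⟩ := key x
    rw [hG.w.pow_mul_of _ (by
      rw [← pow_mul, ← pow_add, show s + 1 + (s + 1) = s + 1 + 1 + s by omega, pow_add, pow_mul, he, one_pow]),
      hG.w.mul_pow _ (hG.der_pow he _ _)]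
    refine ⟨i + k * (p ^ (s + 1) : ℕ), j + l * (p ^ (s + 1) : ℕ), ?_⟩
    rw [zpow_add, zpow_add, zpow_mul, zpow_mul, zpow_natCast, zpow_natCast, mul_assoc, mul_assoc,
      ← mul_assoc (y ^ j), ← ((hG.w.comm_iff _ _ _).2 (hG.der_pow he (h ^ k) (y ^ j))).eq, mul_assoc]

theorem MC.prod (hG : MC p G) {h y : G} (hc : cl2 h y = ⊤) (g : G) : ∃ i j : ℤ, g = h ^ i * y ^ j := by
  obtain ⟨s, hs⟩ := IsPGroup.iff_card.1 hG.w.1
  exact MC.prod_aux s hG (fun g => by rw [pow_succ, pow_mul, ← hs, pow_card_eq_one', one_pow]) h y hc g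

theorem MC.exists_gen (hG : MC p G) {h : G} (hh : h ∉ mho p 1 G) : ∃ y, cl2 h y = ⊤ := by
  obtain ⟨a, b, hc⟩ := hG.gen
  obtain ⟨i, j, rfl⟩ := hG.prod hc h
  by_cases hi : (p : ℤ) ∣ i
  · refine ⟨a, top_le_iff.1 (hc.ge.trans (cl2_le.2 ⟨right_mem _ _, ?_⟩))⟩
    refine mem_of_zpow_mem hG.w.1 (i := j) (fun hj => hh (mul_mem (zpow_mem_mho _ (by simpa using hi))
      (zpow_mem_mho _ (by simpa using hj)))) ?_
    simpa using mul_mem (inv_mem (zpow_mem (right_mem (a ^ i * b ^ j) a) i)) (left_mem _ _)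
  · refine ⟨b, top_le_iff.1 (hc.ge.trans (cl2_le.2 ⟨?_, right_mem _ _⟩))⟩
    refine mem_of_zpow_mem hG.w.1 hi ?_
    simpa using mul_mem (left_mem (a ^ i * b ^ j) b) (inv_mem (zpow_mem (right_mem _ _) j))

theorem MC.der_eq (hG : MC p G) (a b : G) : ⁅cl2 a b, cl2 a b⁆ = zpowers ⁅a, b⁆ := by
  have h1 : zpowers ⁅a, b⁆ ≤ _root_.commutator G :=
    zpowers_le.2 (commutator_mem_commutator (mem_top _) (mem_top _))
  haveI := Solv.normal_of_le_isCyclic hG.cyc h1
  exact le_antisymm (der_cl2_le le_normalizer_of_normal (mem_zpowers _))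
    (zpowers_le.2 (commutator_mem_commutator (left_mem _ _) (right_mem _ _)))

theorem cl2_comm (a b : G) : cl2 a b = cl2 b a := by rw [cl2, Set.pair_comm]

theorem mho_anti {s t : ℕ} (h : s ≤ t) : mho p t G ≤ mho p s G := pc_le.2 fun x _ => by
  obtain ⟨k, rfl⟩ := Nat.exists_eq_add_of_le h
  rw [pow_add, pow_mul]; exact pow_mem (pow_mem_pc (mem_top _)) _

theorem exists_pow_mem_iff (hG : IsPGroup p G) (R : Subgroup G) (y : G) :
    ∃ t : ℕ, ∀ j : ℤ, y ^ j ∈ R ↔ ((p ^ t : ℕ) : ℤ) ∣ j := by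
  obtain ⟨a, ha⟩ := Int.subgroup_cyclic (AddSubgroup.toSubgroup.symm (R.comap (zpowersHom G y)))
  have h1 : ∀ j : ℤ, y ^ j ∈ R ↔ a ∣ j := fun j => by
    have : j ∈ AddSubgroup.closure {a} ↔ a ∣ j := by
      rw [AddSubgroup.mem_closure_singleton]
      exact ⟨fun ⟨k, hk⟩ => ⟨k, by rw [← hk, smul_eq_mul, mul_comm]⟩, fun ⟨k, hk⟩ => ⟨k, by
        rw [hk, smul_eq_mul, mul_comm]⟩⟩
    rw [← this, ← ha]; rfl
  obtain ⟨m, hm⟩ := hG y
  have h2 := (h1 (p ^ m : ℕ)).1 (by rw [zpow_natCast, hm]; exact one_mem _)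
  obtain ⟨t, -, ht⟩ := (Nat.dvd_prime_pow hp.out).1 (Int.natAbs_dvd_natAbs.2 h2)
  exact ⟨t, fun j => by rw [h1, ← ht, Int.natAbs_dvd]⟩

theorem pp_dvd {n s : ℕ} (hs : s ≤ n) {i : ℤ} :
    ((p ^ n : ℕ) : ℤ) ∣ i * (p ^ (n - s) : ℕ) ↔ ((p ^ s : ℕ) : ℤ) ∣ i := by
  obtain ⟨k, rfl⟩ := Nat.exists_eq_add_of_le hs
  rw [Nat.add_sub_cancel_left, pow_add, Nat.cast_mul]
  exact mul_dvd_mul_iff_right (by exact_mod_cast pow_ne_zero _ hp.out.ne_zero)

theorem pp_dvd' {n s : ℕ} (hs : s ≤ n) {i : ℤ} :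
    ((p ^ n : ℕ) : ℤ) ∣ i * (p ^ s : ℕ) ↔ ((p ^ (n - s) : ℕ) : ℤ) ∣ i := by
  rw [← pp_dvd (Nat.sub_le n s), Nat.sub_sub_self hs]

namespace MC
variable (hG : MC p G) {n : ℕ} (hn : Nat.card (_root_.commutator G) = p ^ n)
include hG hn

theorem order_comm {h y : G} (hc : cl2 h y = ⊤) : orderOf ⁅h, y⁆ = p ^ n := by
  rw [← Nat.card_zpowers, ← hG.der_eq, hc, ← hn]; rfl

theorem comm_coord {h y : G} (hc : cl2 h y = ⊤) (i j : ℤ) :
    Commute (h ^ i) (y ^ j) ↔ ((p ^ n : ℕ) : ℤ) ∣ i * j := by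
  rw [Commute.symm_iff, hG.w.comm_zpow, ← orderOf_inv, commutatorElement_inv, ← hG.w.comm_zpow,
    ← zpow_mul, hG.w.comm_zpow, hG.order_comm hn hc]

theorem pow_le {s : ℕ} (hs : s ≤ n) {g : G} (hg : g ∈ mho p s G) (x : G) : ⁅g, x⁆ ^ p ^ (n - s) = 1 := by
  obtain ⟨w, -, rfl⟩ := hG.w.B _ hg
  rw [← hG.w.comm_iff, ← pow_mul, ← pow_add, Nat.add_sub_cancel' hs, hG.w.comm_iff, ← hn]
  exact congrArg Subtype.val (pow_card_eq_one' (x := (⟨⁅w, x⁆,
    commutator_mem_commutator (mem_top _) (mem_top _)⟩ : _root_.commutator G)))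

theorem dvd_of_mem {h y : G} (hc : cl2 h y = ⊤) {s : ℕ} (hs : s ≤ n) {i j : ℤ}
    (hg : h ^ i * y ^ j ∈ mho p s G) : ((p ^ s : ℕ) : ℤ) ∣ i := by
  have h1 := hG.pow_le hn hs hg y
  have h2 : ⁅h ^ i * y ^ j, y⁆ = ⁅h ^ i, y⁆ := by simp only [commutatorElement_def]; group
  rw [h2, ← hG.w.comm_iff, ← zpow_natCast, ← zpow_mul, ← zpow_one y, hG.comm_coord hn hc, mul_one] at h1
  exact (pp_dvd hs).1 h1

theorem mem_mho {h y : G} (hc : cl2 h y = ⊤) {s : ℕ} (hs : s ≤ n) (i j : ℤ) :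
    h ^ i * y ^ j ∈ mho p s G ↔ ((p ^ s : ℕ) : ℤ) ∣ i ∧ ((p ^ s : ℕ) : ℤ) ∣ j := by
  refine ⟨fun hg => ?_, fun h => mul_mem (zpow_mem_mho _ h.1) (zpow_mem_mho _ h.2)⟩
  have h1 := hG.dvd_of_mem hn hc hs hg
  refine ⟨h1, hG.dvd_of_mem hn (j := 0) ((cl2_comm _ _).trans hc) hs ?_⟩
  simpa using mul_mem (inv_mem (zpow_mem_mho h h1)) hg

theorem mho_eq : mho p n G = center G := by
  have h1 : mho p n G ≤ center G := fun g hg => mem_center_iff.2 fun x => by
    have := hG.pow_le hn le_rfl hg x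
    rw [Nat.sub_self, pow_zero, pow_one] at this
    exact (commutatorElement_eq_one_iff_mul_comm.1 this).symm
  refine le_antisymm h1 fun g hg => ?_
  obtain ⟨h, y, hc⟩ := hG.gen
  obtain ⟨i, j, rfl⟩ := hG.prod hc g
  have h2 : Commute (h ^ i) (y ^ (1 : ℤ)) := by
    have : Commute (y ^ (1 : ℤ)) (h ^ i * y ^ j) := mem_center_iff.1 hg _
    simpa using (this.mul_right ((Commute.refl y).zpow_zpow 1 (-j))).symm
  have h3 : Commute (h ^ (1 : ℤ)) (y ^ j) := by
    have : Commute (h ^ (1 : ℤ)) (h ^ i * y ^ j) := mem_center_iff.1 hg _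
    simpa using ((Commute.refl h).zpow_zpow 1 (-i)).mul_right this
  rw [hG.comm_coord hn hc] at h2 h3
  exact (hG.mem_mho hn hc le_rfl _ _).2 ⟨by simpa using h2, by simpa using h3⟩

theorem card_coord {h y : G} (hc : cl2 h y = ⊤) {S : Subgroup G} (hZ : center G ≤ S) {α β : ℕ}
    (hα : α ≤ n) (hβ : β ≤ n)
    (hS : ∀ i j : ℤ, h ^ i * y ^ j ∈ S ↔ ((p ^ α : ℕ) : ℤ) ∣ i ∧ ((p ^ β : ℕ) : ℤ) ∣ j) :
    Nat.card S = Nat.card (center G) * p ^ (n - α + (n - β)) := by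
  let f : center G × Fin (p ^ (n - α)) × Fin (p ^ (n - β)) → S := fun x =>
    ⟨h ^ ((x.2.1 : ℕ) * (p ^ α : ℕ) : ℤ) * y ^ ((x.2.2 : ℕ) * (p ^ β : ℕ) : ℤ) * x.1,
      mul_mem ((hS _ _).2 ⟨dvd_mul_left _ _, dvd_mul_left _ _⟩) (hZ x.1.2)⟩
  have hf : Function.Bijective f := by
    constructor
    · rintro ⟨z, a, b⟩ ⟨z', a', b'⟩ e
      have e1 : h ^ ((a : ℕ) * (p ^ α : ℕ) : ℤ) * y ^ ((b : ℕ) * (p ^ β : ℕ) : ℤ) * z =
        h ^ ((a' : ℕ) * (p ^ α : ℕ) : ℤ) * y ^ ((b' : ℕ) * (p ^ β : ℕ) : ℤ) * z' := congrArg Subtype.val e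
      have e2 : h ^ (((a : ℕ) - (a' : ℕ)) * (p ^ α : ℕ) : ℤ) * y ^ (((b : ℕ) - (b' : ℕ)) * (p ^ β : ℕ) : ℤ) ∈
          mho p n G := by
        rw [hG.mho_eq hn]
        have h1 := mem_center_iff.1 (z' * z⁻¹).2 (y ^ ((b' : ℕ) * (p ^ β : ℕ) : ℤ))
        convert (z' * z⁻¹).2 using 1
        rw [sub_mul, sub_mul, sub_eq_neg_add, zpow_add, zpow_sub, zpow_neg, ← mul_assoc, mul_inv_eq_iff_eq_mul,
          ← h1, mul_assoc, inv_mul_eq_iff_eq_mul, coe_mul, coe_inv, ← mul_assoc, ← mul_assoc, ← e1]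
        group
      rw [hG.mem_mho hn hc le_rfl, pp_dvd' hα, pp_dvd' hβ] at e2
      have e3 : a = a' := Fin.ext (by
        have := Int.eq_zero_of_abs_lt_dvd e2.1 (by have := a.2; have := a'.2; rw [abs_lt]; omega)
        omega)
      have e4 : b = b' := Fin.ext (by
        have := Int.eq_zero_of_abs_lt_dvd e2.2 (by have := b.2; have := b'.2; rw [abs_lt]; omega)
        omega)
      subst e3 e4
      rw [Subtype.ext (mul_left_cancel e1)]
    · rintro ⟨g, hg⟩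
      obtain ⟨i, j, rfl⟩ := hG.prod hc g
      obtain ⟨⟨i, rfl⟩, ⟨j, rfl⟩⟩ := (hS _ _).1 hg
      have key : ∀ (γ : ℕ) (x : G) (i : ℤ), γ ≤ n → ∃ a : Fin (p ^ (n - γ)), ∃ z ∈ center G,
          x ^ ((p ^ γ : ℕ) * i) = x ^ ((a : ℕ) * (p ^ γ : ℕ) : ℤ) * z := by
        intro γ x i hγ
        have h0 : (0 : ℤ) < (p ^ (n - γ) : ℕ) := by exact_mod_cast pow_pos hp.out.pos _
        have h1 := Int.emod_nonneg i h0.ne'
        have h2 := Int.emod_lt_of_pos i h0
        refine ⟨⟨(i % (p ^ (n - γ) : ℕ)).toNat, by omega⟩,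
          x ^ ((i / (p ^ (n - γ) : ℕ) * (p ^ (n - γ) : ℕ)) * (p ^ γ : ℕ)), ?_, ?_⟩
        · rw [← hG.mho_eq hn]; exact zpow_mem_mho _ ((pp_dvd' hγ).2 (dvd_mul_left _ _))
        · rw [← zpow_add, ← add_mul, Int.toNat_of_nonneg h1, Int.emod_add_ediv_mul, mul_comm]
      obtain ⟨a, z, hz, e1⟩ := key α h i hα
      obtain ⟨b, w, hw, e2⟩ := key β y j hβ
      refine ⟨(⟨z * w, mul_mem hz hw⟩, a, b), Subtype.ext ?_⟩
      simp only [f]
      rw [e1, e2, ← mul_assoc, mul_assoc _ _ z, mem_center_iff.1 hz]; simp only [mul_assoc]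
  rw [← Nat.card_eq_of_bijective f hf]
  simp [pow_add]

theorem card_top' : Nat.card G = Nat.card (center G) * p ^ (n + n) := by
  obtain ⟨h, y, hc⟩ := hG.gen
  simpa using hG.card_coord hn hc (S := ⊤) le_top (Nat.zero_le _) (Nat.zero_le _) (by simp)

theorem card_mho {s : ℕ} (hs : s ≤ n) :
    Nat.card (mho p s G) = Nat.card (center G) * p ^ (n - s + (n - s)) := by
  obtain ⟨h, y, hc⟩ := hG.gen
  exact hG.card_coord hn hc (hG.mho_eq hn ▸ mho_anti hs) hs hs (hG.mem_mho hn hc hs)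

omit hn in
theorem exists_root {s : ℕ} {g : G} (h1 : g ∈ mho p s G) (h2 : g ∉ mho p (s + 1) G) :
    ∃ h y, cl2 h y = ⊤ ∧ g = h ^ p ^ s := by
  obtain ⟨h, -, rfl⟩ := hG.w.B _ h1
  obtain ⟨y, hy⟩ := hG.exists_gen (h := h) fun h3 => h2 (by
    obtain ⟨w, -, rfl⟩ := hG.w.B _ h3
    rw [← pow_mul, ← pow_add, add_comm]; exact pow_mem_pc (mem_top _))
  exact ⟨h, y, hy, rfl⟩

theorem index_C1 {s : ℕ} (hs : s ≤ n) {g : G} (h1 : g ∈ mho p s G) (h2 : g ∉ mho p (s + 1) G) :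
    (centralizer {g}).index = p ^ (n - s) := by
  obtain ⟨h, y, hc, rfl⟩ := hG.exists_root h1 h2
  have h3 := hG.card_coord hn hc (S := centralizer {h ^ p ^ s}) (center_le_centralizer _)
    (Nat.zero_le _) (Nat.sub_le n s) fun i j => by
      rw [mul_mem_cancel_left (mem_centralizer_singleton_iff.2 (((Commute.refl h).zpow_left i).pow_right _)),
        mem_centralizer_singleton_iff, ← commute_iff_eq, ← zpow_natCast,
        hG.comm_coord hn ((cl2_comm _ _).trans hc), pp_dvd' hs]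
      simp
  have h4 := (centralizer {h ^ p ^ s}).card_mul_index
  rw [h3, hG.card_top' hn, mul_assoc, show n + n = n - 0 + (n - (n - s)) + (n - s) by omega, pow_add p _ (n - s)] at h4
  exact mul_left_cancel₀ (pow_ne_zero _ hp.out.ne_zero) (mul_left_cancel₀ Nat.card_pos.ne' h4)

omit hG hn in
theorem exists_level (n : ℕ) (P : ℕ → Prop) (h0 : P 0) (h1 : ¬ P n) : ∃ s < n, P s ∧ ¬ P (s + 1) := by
  induction n with
  | zero => exact absurd h0 h1
  | succ n ih =>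
    by_cases h : P n
    · exact ⟨n, n.lt_succ_self, h, h1⟩
    · obtain ⟨s, h2, h3⟩ := ih h; exact ⟨s, by omega, h3⟩

omit hG hn in
theorem mho_zero : mho p 0 G = ⊤ := top_le_iff.1 fun x _ => by
  simpa using pow_mem_pc (p := p) (n := 0) (mem_top x)

theorem mem_iff_index {s : ℕ} (hs : s ≤ n) (g : G) :
    g ∈ mho p s G ↔ (centralizer {g}).index ≤ p ^ (n - s) := by
  by_cases h : g ∈ mho p n G
  · refine iff_of_true (mho_anti hs h) ?_
    rw [hG.mho_eq hn] at h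
    rw [centralizer_eq_top_iff_subset.2 (Set.singleton_subset_iff.2 h), index_top]
    exact Nat.one_le_pow _ _ hp.out.pos
  obtain ⟨t, ht, h1, h2⟩ := exists_level n (fun s => g ∈ mho p s G) (by simp [mho_zero]) h
  rw [hG.index_C1 hn ht.le h1 h2, Nat.pow_le_pow_iff_right hp.out.one_lt]
  exact ⟨fun h3 => by by_contra h4; exact h2 (mho_anti (by omega) h3), fun h3 => mho_anti (by omega) h1⟩

theorem card_mul_Ct {R : Subgroup G} (hZ : center G ≤ R) :
    Nat.card R * Nat.card (Ct(R)) = Nat.card G * Nat.card (center G) := by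
  by_cases h : R ≤ mho p n G
  · rw [hG.mho_eq hn] at h
    rw [centralizer_eq_top_iff_subset.2 h, le_antisymm h hZ, card_top, mul_comm]
  obtain ⟨s, hs, h1, h2⟩ := exists_level n (fun s => R ≤ mho p s G) (by simp [mho_zero]) h
  obtain ⟨g, hg, h3⟩ := SetLike.not_le_iff_exists.1 h2
  obtain ⟨h, y, hc, rfl⟩ := hG.exists_root (h1 hg) h3
  obtain ⟨t, ht⟩ := exists_pow_mem_iff hG.w.1 R y
  have htn : t ≤ n := (Nat.pow_dvd_pow_iff_le_right hp.out.one_lt).1 (Int.natCast_dvd_natCast.1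
    ((ht _).1 (hZ (hG.mho_eq hn ▸ zpow_mem_mho y dvd_rfl))))
  have h4 : ∀ i : ℤ, ((p ^ s : ℕ) : ℤ) ∣ i → h ^ i ∈ R := by
    rintro _ ⟨i, rfl⟩; rw [zpow_mul, zpow_natCast]; exact zpow_mem hg _
  have hR : ∀ i j : ℤ, h ^ i * y ^ j ∈ R ↔ ((p ^ s : ℕ) : ℤ) ∣ i ∧ ((p ^ t : ℕ) : ℤ) ∣ j := fun i j => by
    refine ⟨fun h5 => ?_, fun h5 => mul_mem (h4 _ h5.1) ((ht _).2 h5.2)⟩
    have h6 := hG.dvd_of_mem hn hc hs.le (h1 h5)
    exact ⟨h6, (ht _).1 ((mul_mem_cancel_left (h4 _ h6)).1 h5)⟩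
  rw [hG.card_coord hn hc hZ hs.le htn hR, hG.card_coord hn hc (center_le_centralizer _) (Nat.sub_le n t)
    (Nat.sub_le n s) fun i j => ?_, hG.card_top' hn]
  · rw [show n + n = n - s + (n - t) + (n - (n - t) + (n - (n - s))) by omega, pow_add p (n - s + (n - t))]
    ring
  rw [← pp_dvd' htn, ← pp_dvd' hs.le, ← hG.comm_coord hn hc, ← hG.comm_coord hn ((cl2_comm _ _).trans hc)]
  constructor
  · intro h5
    have h6 : Commute _ _ := h5 _ ((ht _).2 dvd_rfl)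
    have h7 : Commute _ _ := h5 _ (h4 _ dvd_rfl)
    exact ⟨by simpa using (h6.mul_right ((Commute.refl y).zpow_zpow _ (-j))).symm,
      by simpa using (((Commute.refl h).zpow_zpow _ (-i)).mul_right h7).symm⟩
  · rintro ⟨h5, h6⟩ r hr
    obtain ⟨k, l, rfl⟩ := hG.prod hc r
    obtain ⟨⟨k, rfl⟩, ⟨l, rfl⟩⟩ := (hR _ _).1 hr
    rw [zpow_mul, zpow_mul]
    exact (Commute.mul_left (Commute.mul_right (((Commute.refl h).zpow_zpow _ _).zpow_left _)
      (h6.symm.zpow_left _)) (Commute.mul_right (h5.symm.zpow_left _)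
        (((Commute.refl y).zpow_zpow _ _).zpow_left _))).eq

theorem card_der (h0 : n ≠ 0) {M : Subgroup G} (hM : M.index = p) :
    Nat.card (⁅M, M⁆ : Subgroup G) = p ^ (n - 1) := by
  haveI : M.Normal := Subgroup.normal_of_index_eq_minFac_card (by
    obtain ⟨k, hk⟩ := IsPGroup.iff_card.1 hG.w.1
    have : k ≠ 0 := by
      rintro rfl
      have := M.index_dvd_card
      rw [hM, hk, pow_zero, Nat.dvd_one] at this; exact hp.out.ne_one this
    rw [hM, hk, hp.out.pow_minFac this])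
  obtain ⟨h, hh, h1⟩ : ∃ h ∈ M, h ∉ mho p 1 G := by
    by_contra hcon
    push Not at hcon
    have h1 := card_le_of_le (show M ≤ _ from hcon)
    have h2 := M.card_mul_index
    rw [hG.card_mho hn (by omega)] at h1
    rw [hM, hG.card_top' hn, show n + n = n - 1 + (n - 1) + 1 + 1 by omega, pow_succ, pow_succ,
      ← mul_assoc, ← mul_assoc] at h2
    rw [mul_right_cancel₀ hp.out.ne_zero h2] at h1
    have := hp.out.one_lt
    have : 0 < Nat.card (center G) * p ^ (n - 1 + (n - 1)) := Nat.mul_pos Nat.card_pos (by positivity)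
    nlinarith
  obtain ⟨y, hc⟩ := hG.exists_gen h1
  have h2 : M = cl2 h (y ^ p) := by
    refine le_antisymm (fun g hg => ?_) (cl2_le.2 ⟨hh, hM ▸ pow_index_mem M y⟩)
    obtain ⟨i, j, rfl⟩ := hG.prod hc g
    refine mul_mem (zpow_mem (left_mem _ _) _) ?_
    obtain ⟨k, rfl⟩ : (p : ℤ) ∣ j := by_contra fun hj => by
      have := mem_of_zpow_mem hG.w.1 hj ((mul_mem_cancel_left (zpow_mem hh i)).1 hg)
      rw [top_le_iff.1 (hc.ge.trans (cl2_le.2 ⟨hh, this⟩)), index_top] at hM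
      exact hp.out.ne_one hM.symm
    rw [zpow_mul, zpow_natCast]; exact zpow_mem (right_mem _ _) _
  rw [h2, hG.der_eq, Nat.card_zpowers]
  have h3 : ∀ j : ℤ, (orderOf ⁅h, y ^ p⁆ : ℤ) ∣ j ↔ ((p ^ (n - 1) : ℕ) : ℤ) ∣ j := fun j => by
    rw [← hG.w.comm_zpow, ← pp_dvd' (by omega), ← hG.comm_coord hn hc, pow_one, zpow_natCast]
  exact Nat.dvd_antisymm (Int.natCast_dvd_natCast.1 ((h3 _).2 dvd_rfl)) (Int.natCast_dvd_natCast.1 ((h3 _).1 dvd_rfl))

end MC

theorem der_eq_bot_iff {L : Subgroup G} : Nat.card (⁅L, L⁆ : Subgroup G) = 1 ↔ IsMulCommutative L := by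
  rw [card_eq_one, commutator_eq_bot_iff_le_centralizer, le_centralizer_iff_isMulCommutative]

theorem card_sub (h2 : p ≠ 2) (hG : IsPGroup p G) (hm : IsMetacyclic G) (L : Subgroup G) :
    Nat.card L ≤ (_root_.commutator G).index * Nat.card (⁅L, L⁆ : Subgroup G) ∧
    ((¬ IsMulCommutative L ∨ Maximal (fun K : Subgroup G => IsMulCommutative K) L) →
      Nat.card L = (_root_.commutator G).index * Nat.card (⁅L, L⁆ : Subgroup G)) := by
  induction L using subgroup_induction_gt with | h L ih => ?_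
  by_cases hL : L = ⊤
  · subst hL
    have : Nat.card (⊤ : Subgroup G) = (_root_.commutator G).index * Nat.card (⁅(⊤ : Subgroup G), (⊤ : Subgroup G)⁆ : Subgroup G) := by
      rw [card_top, mul_comm]; exact (card_mul_index _).symm
    exact ⟨this.le, fun _ => this⟩
  haveI := hG.isNilpotent
  obtain ⟨K, h1, h3, h5, h4⟩ := Solv.exists_normal_relIndex_prime (p := p) (L := Nm(L)) (M := Nm(L)) (N := L)
    inferInstance (hG.to_subgroup _) le_rfl le_normalizer le_rfl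
    (Group.normalizerCondition_of_isNilpotent L (lt_top_iff_ne_top.2 hL))
  obtain ⟨i1, i2⟩ := ih K h1
  by_cases hK : IsMulCommutative K
  · have hL' : IsMulCommutative L := le_centralizer_iff_isMulCommutative.1
      (h1.le.trans ((le_centralizer_iff_isMulCommutative.2 hK).trans (centralizer_le h1.le)))
    rw [der_eq_bot_iff.2 hK] at i1
    rw [der_eq_bot_iff.2 hL']
    exact ⟨(card_le_of_le h1.le).trans i1, fun h => by
      rcases h with h | h
      exacts [absurd hL' h, absurd (h.2 hK h1.le) h1.not_ge]⟩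
  have hK' := MC_of h2 (hG.to_subgroup K) (meta_inj _ K.subtype_injective hm)
  obtain ⟨n, hn⟩ := IsPGroup.iff_card.1 (hK'.w.1.to_subgroup (_root_.commutator K))
  have e1 : Nat.card (⁅K, K⁆ : Subgroup G) = p ^ n := by rw [← map_subtype_commutator, card_map_of_injective K.subtype_injective, hn]
  have h0 : n ≠ 0 := by rintro rfl; exact hK (der_eq_bot_iff.1 e1)
  have e2 := hK'.card_der hn h0 (M := L.subgroupOf K) h5
  rw [← card_map_of_injective K.subtype_injective, Subgroup.map_commutator, map_subgroupOf_eq_of_le h1.le] at e2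
  have e3 := (L.subgroupOf K).card_mul_index
  rw [i2 (Or.inl hK), e1, show (L.subgroupOf K).index = p from h5, Nat.card_congr (subgroupOfEquivOfLe h1.le).toEquiv,
    show n = n - 1 + 1 by omega, pow_succ, ← mul_assoc, ← e2] at e3
  have := mul_right_cancel₀ hp.out.ne_zero e3
  exact ⟨this.le, fun _ => this⟩

theorem abel_iff (h2 : p ≠ 2) (hG : IsPGroup p G) (hm : IsMetacyclic G) (L : Subgroup G) :
    IsMulCommutative L ↔ Nat.card L ≤ (_root_.commutator G).index := by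
  obtain ⟨h1, h3⟩ := card_sub h2 hG hm L
  refine ⟨fun h => by rwa [der_eq_bot_iff.2 h, mul_one] at h1, fun h => by_contra fun h4 => h4 ?_⟩
  rw [h3 (Or.inl h4)] at h
  have h5 : 0 < (_root_.commutator G).index := Nat.pos_of_ne_zero FiniteIndex.index_ne_zero
  have h6 : 0 < Nat.card (⁅L, L⁆ : Subgroup G) := Nat.card_pos
  exact der_eq_bot_iff.1 (by nlinarith)

theorem maxabel_iff (h2 : p ≠ 2) (hG : IsPGroup p G) (hm : IsMetacyclic G) (L : Subgroup G) :
    Maximal (fun K : Subgroup G => IsMulCommutative K) L ↔ Nat.card L = (_root_.commutator G).index := by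
  refine ⟨fun h => by
    have := (card_sub h2 hG hm L).2 (Or.inr h)
    rwa [der_eq_bot_iff.2 h.1, mul_one] at this, fun h => ⟨(abel_iff h2 hG hm L).2 h.le, fun K hK h1 => ?_⟩⟩
  exact (eq_of_le_of_card_ge h1 (h ▸ (abel_iff h2 hG hm K).1 hK)).ge

theorem MC.index_center (hG : MC p G) : (center G).index = Nat.card (_root_.commutator G) ^ 2 := by
  obtain ⟨n, hn⟩ := IsPGroup.iff_card.1 (hG.w.1.to_subgroup (_root_.commutator G))
  have := (center G).card_mul_index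
  rw [hG.card_top' hn] at this
  rw [mul_left_cancel₀ Nat.card_pos.ne' this, hn, pow_add, pow_two]

end Cfsg.Agent.Reg
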