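import Cfsg.Agent.Lib.BG.PTerm
import Cfsg.Agent.Lib.Transfer.Quad
import Cfsg.Agent.Lib.Transfer.Thom
import Cfsg.Agent.Lib.Solv.Fact

set_option linter.unusedSectionVars false

namespace Cfsg.Agent.PGV

open Cfsg.Agent.Comp Subgroup
open scoped commutatorElement

universe u

variable {G : Type u} [Group G] [Finite G] {p : ℕ} [hp : Fact p.Prime]

theorem diag_cent {L : Subgroup G} (hL : ⁅L, L⁆ = L) {δ : L →* G} (h2 : ∀ l : L, (l : G)⁻¹ * δ l ∈ centralizer (L : Set G)) :
    centralizer (δ.range : Set G) ⊓ normalizer (L : Set G) ≤ centralizer (L : Set G) := by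
  rw [← commutator_eq_bot_iff_le_centralizer]
  refine commutator_eq_bot_of_perfect hL (commutator_eq_bot_iff_le_centralizer.2 ?_)
  rw [Subgroup.commutator_comm, commutator_le]
  intro l hl g hg
  have a := h2 ⟨l⁻¹, inv_mem hl⟩
  have b := conj_mem_of_mem_normalizer (normalizer_le_normalizer_centralizer L hg.2) a
  have c := mem_centralizer_iff.1 hg.1 _ (show δ ⟨l⁻¹, inv_mem hl⟩ ∈ δ.range from ⟨_, rfl⟩)
  have d := mul_mem a (inv_mem b)
  rw [show g * ((l⁻¹)⁻¹ * δ ⟨l⁻¹, inv_mem hl⟩) * g⁻¹ = g * l * g⁻¹ * (g * δ ⟨l⁻¹, inv_mem hl⟩) * g⁻¹ by group,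
    ← c] at d
  convert d using 1
  rw [commutatorElement_def]; group

theorem diag_ne {L : Subgroup G} (hL : QS L) {δ : L →* G} (h2 : ∀ l : L, (l : G)⁻¹ * δ l ∈ centralizer (L : Set G)) :
    ¬ δ.range ≤ centralizer (L : Set G) := fun h => hL.not_le_centralizer fun l hl => by
  have := mul_mem (h (show δ ⟨l, hl⟩ ∈ δ.range from ⟨_, rfl⟩)) (inv_mem (h2 ⟨l, hl⟩))
  simpa using this

theorem cent_of_cent {V M K : Subgroup G} (hMV : M ≤ normalizer (V : Set G)) (hK : CompIn K M)
    (hKV : ¬ K ≤ centralizer (V : Set G)) : M ⊓ centralizer (V : Set G) ≤ centralizer (K : Set G) :=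
  (hK.le_or_le_centralizer_of_normalizer inf_le_left (le_normalizer_inf (hK.le.trans le_normalizer)
    (le_normalizer_centralizer (hK.le.trans hMV)))).resolve_left fun h => hKV (h.trans inf_le_right)

theorem quad {V : Subgroup G} (hV : IsElementaryAbelian p V) {a : G} (ha : a ∈ normalizer (V : Set G)) (hap : a ^ p = 1)
    (h : Nat.card V ≤ p * Nat.card (V ⊓ centralizer ({a} : Set G) : Subgroup G)) :
    ⁅⁅V, zpowers a⁆, zpowers a⁆ = ⊥ := by
  rw [commutator_eq_bot_iff_le_centralizer, centralizer_zpowers]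
  have hP := PTerm.isPGroup_sup (zpowers_le.2 ha) (isPGroup_zpowers (n := 1) (by rwa [pow_one])) (IsElementaryAbelian.isPGroup hV)
  by_cases h1 : V ≤ centralizer ({a} : Set G)
  · exact (commutator_le_left_of_le_normalizer (zpowers_le.2 ha)).trans h1
  obtain ⟨t, h2, h3⟩ := SetLike.exists_of_lt (lt_inf_normalizer_of_isPGroup hP
    (H := (zpowers a ⊔ V) ⊓ centralizer ({a} : Set G))
    (lt_of_le_of_ne inf_le_left fun e => h1 (le_sup_right.trans (e.ge.trans inf_le_right))))
  obtain ⟨s, hs, v, hv, rfl⟩ := (mem_sup_of_le_normalizer (zpowers_le.2 ha)).1 h2.1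
  have hs' : s ∈ (zpowers a ⊔ V) ⊓ centralizer ({a} : Set G) := ⟨mem_sup_left hs, zpowers_le_centralizer_singleton a hs⟩
  have h4 := mul_mem (inv_mem (le_normalizer hs')) h2.2
  rw [inv_mul_cancel_left] at h4
  have h5 : (V ⊓ centralizer ({a} : Set G)) ⊔ zpowers v = V :=
    eq_of_le_of_card_ge (sup_le inf_le_left (zpowers_le.2 hv)) (h.trans (PTerm.mul_card_le
      ((IsElementaryAbelian.isPGroup hV).to_le (sup_le inf_le_left (zpowers_le.2 hv))) (lt_of_le_of_ne le_sup_left fun e =>
        h3 (mul_mem hs' (mem_inf.2 ⟨mem_sup_right hv, (e.ge (mem_sup_right (mem_zpowers v))).2⟩)))))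
  have h6 : V ≤ normalizer (((zpowers a ⊔ V) ⊓ centralizer ({a} : Set G) : Subgroup G) : Set G) := by
    conv_lhs => rw [← h5]
    exact sup_le ((inf_le_inf_right _ le_sup_right).trans le_normalizer) (zpowers_le.2 h4)
  exact (commutator_mono le_rfl (le_inf le_sup_left (zpowers_le_centralizer_singleton a))).trans
    ((commutator_le_right_of_le_normalizer h6).trans inf_le_right)

theorem cube {V : Subgroup G} (hV : IsElementaryAbelian 2 V) {y : G} (hy : y ∈ normalizer (V : Set G))
    (ho : (orderOf y).Coprime 2) (h : (centralizer ({y} : Set G)).relIndex V ≤ 4) : y ^ 3 ∈ centralizer (V : Set G) := by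
  have hc : (Nat.card (zpowers y)).Coprime (Nat.card V) :=
    (coprime_of_isPGroup (IsElementaryAbelian.isPGroup hV) (by rwa [Nat.card_zpowers])).symm
  have h1 := Solv.coprime_commutator_sup_centralizer (zpowers_le.2 hy) hc (Or.inl (Solv.isSolvable_zpowers y))
  have h2 := Solv.coprime_abelian_inf_eq_bot hV.1 (zpowers_le.2 hy) hc
  rw [centralizer_zpowers] at h1 h2
  have hF := commutator_le_left_of_le_normalizer (zpowers_le.2 hy)
  have h3 : Nat.card (⁅V, zpowers y⁆ : Subgroup G) ≤ 4 := by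
    have a := card_sup_mul_card_inf (H := ⁅V, zpowers y⁆) (N := V ⊓ centralizer ({y} : Set G))
      (le_normalizer_of_le_centralizer (hF.trans ((IsElementaryAbelian.le_centralizer hV).trans (centralizer_mono inf_le_left))))
    rw [h1, inf_comm, h2, card_bot, mul_one, ← relIndex_mul_card_inf (centralizer ({y} : Set G)) V, inf_comm] at a
    exact (Nat.eq_of_mul_eq_mul_right Nat.card_pos a).ge.trans h
  rw [← h1, centralizer_sup]
  refine ⟨mem_centralizer_iff.2 fun v hv => ?_, pow_mem (le_centralizer_singleton_iff.1 inf_le_right) 3⟩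
  by_cases h4 : v = 1
  · rw [h4, one_mul, mul_one]
  have hm : ∀ i : ℕ, y ^ i * v * (y ^ i)⁻¹ ∈ ⁅V, zpowers y⁆ := fun i => conj_mem_of_le_normalizer
    (normalizer_commutator_ge_right V (zpowers y)) (pow_mem (mem_zpowers y) i) hv
  let f : Option (Fin 4) → (⁅V, zpowers y⁆ : Subgroup G) := fun i => i.elim 1 fun i => ⟨_, hm i⟩
  obtain ⟨i, j, h5, h6⟩ := Function.not_injective_iff.1 fun hf : Function.Injective f => by
    have := (Nat.card_le_card_of_injective f hf).trans h3
    simp at this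
  have key : ∀ i j : ℕ, i < j → j < 4 → y ^ i * v * (y ^ i)⁻¹ = y ^ j * v * (y ^ j)⁻¹ → v * y ^ 3 = y ^ 3 * v := by
    intro i j a b e
    obtain ⟨k, rfl⟩ := Nat.exists_eq_add_of_lt a
    have c : y ^ (k + 1) ∈ centralizer ({v} : Set G) := mem_centralizer_singleton_iff.2 (by
      calc y ^ (k + 1) * v = (y ^ i)⁻¹ * (y ^ (i + k + 1) * v * (y ^ (i + k + 1))⁻¹) * y ^ (i + k + 1) := by group
        _ = _ := by rw [← e]; group)
    have d : (y ^ 3) ^ 2 ∈ centralizer ({v} : Set G) := by
      obtain ⟨m, hm⟩ : k + 1 ∣ 3 * 2 := by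
        have : k < 3 := by omega
        interval_cases k <;> norm_num
      rw [← pow_mul, hm, pow_mul]; exact pow_mem c m
    exact (mem_centralizer_singleton_iff.1 (mem_of_pow_mem_of_coprime
      (ho.coprime_dvd_left (orderOf_pow_dvd 3)) d)).symm
  have ne : ∀ i : ℕ, y ^ i * v * (y ^ i)⁻¹ ≠ 1 := fun i e => h4 (by simpa using e)
  rcases i with _ | i <;> rcases j with _ | j
  · exact (h6 rfl).elim
  · exact (ne j (congrArg Subtype.val h5).symm).elim
  · exact (ne i (congrArg Subtype.val h5)).elim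
  · rcases lt_or_gt_of_ne (fun e : (i : ℕ) = j => h6 (by rw [Fin.ext e])) with a | a
    · exact key i j a j.2 (congrArg Subtype.val h5)
    · exact key j i a i.2 (congrArg Subtype.val h5).symm

theorem transv {V M K : Subgroup G} (hV : IsElementaryAbelian p V) (hMV : M ≤ normalizer (V : Set G)) (hK : CompIn K M)
    {a : G} (ha : a ∈ M) (hap : a ^ p = 1) (hn : a ∉ normalizer (K : Set G))
    (h : Nat.card V ≤ p * Nat.card (V ⊓ centralizer ({a} : Set G) : Subgroup G)) : K ≤ centralizer (V : Set G) := by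
  by_contra hKV
  have hao : orderOf a = p := orderOf_eq_prime hap fun e => hn (e ▸ one_mem _)
  have hc : ∀ g ∈ zpowers a, CompIn cj(g, K) M := fun g hg => hK.cj_of_mem (le_normalizer (zpowers_le.2 ha hg))
  have h1 : cj(a, K) ≤ centralizer (K : Set G) :=
    (hc a (mem_zpowers a)).le_centralizer_of_ne hK fun e => hn (cj_eq_self_iff.1 e)
  have hconj : ∀ x ∈ K, Nat.card V ≤ p * Nat.card (V ⊓ centralizer ({x * a * x⁻¹} : Set G) : Subgroup G) := fun x hx => by
    rwa [← cj_centralizer_singleton, ← cj_eq_self_iff.2 (hMV (hK.le hx)), ← cj_inf, card_cj, card_cj]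
  have key : ∀ x ∈ K, ∀ k : ℕ, (a * (x * a * x⁻¹)⁻¹) ^ k ∈ centralizer (V : Set G) → x ^ k ∈ centralizer (K : Set G) := by
    intro x hx k e
    have b : a * x * a⁻¹ ∈ centralizer (K : Set G) := h1 (conj_mem_cj.2 hx)
    have c : Commute (a * x * a⁻¹) x⁻¹ := (mem_centralizer_iff.1 b _ (inv_mem hx)).symm
    have d := cent_of_cent hMV hK hKV ⟨pow_mem (mul_mem ha (inv_mem (mul_mem (mul_mem (hK.le hx) ha) (inv_mem (hK.le hx))))) k, e⟩
    rw [show a * (x * a * x⁻¹)⁻¹ = a * x * a⁻¹ * x⁻¹ by group, c.mul_pow, inv_pow] at d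
    have := mul_mem (inv_mem (pow_mem b k)) d
    rwa [inv_mul_cancel_left, inv_mem_iff] at this
  have hord : ∀ x ∈ K, (orderOf x).Coprime p → (orderOf (a * (x * a * x⁻¹)⁻¹)).Coprime p := fun x hx ho => by
    have c : Commute (a * x * a⁻¹) x⁻¹ := (mem_centralizer_iff.1 (h1 (conj_mem_cj.2 hx)) _ (inv_mem hx)).symm
    refine ho.coprime_dvd_left (orderOf_dvd_of_pow_eq_one ?_)
    rw [show a * (x * a * x⁻¹)⁻¹ = a * x * a⁻¹ * x⁻¹ by group, c.mul_pow, conj_pow, inv_pow, pow_orderOf_eq_one]; group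
  by_cases h2 : p = 2
  · subst h2
    refine hK.qs.not_isSolvable (Solv.isSolvable_of_primes_subset Nat.prime_two Nat.prime_three fun q hq hd => ?_)
    by_contra hne
    push Not at hne
    have : Fact q.Prime := ⟨hq⟩
    obtain ⟨P, hP⟩ := exists_sylIn q K
    refine (PTerm.syl_lt hK.qs hP hd).ne (inf_eq_left.2 fun x hx => ?_)
    obtain ⟨n, hn⟩ := IsPGroup.exists_pow_eq_one hP.isP hx
    have ho : ∀ r, r.Prime → q ≠ r → (orderOf x).Coprime r := fun r hr e =>
      (Nat.Coprime.pow_left n ((Nat.coprime_primes hq hr).2 e)).coprime_dvd_left (orderOf_dvd_of_pow_eq_one hn)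
    have hx' := hP.le hx
    refine mem_of_pow_mem_of_coprime (ho 3 Nat.prime_three hne.2) (key x hx' 3 (cube hV
      (hMV (mul_mem ha (inv_mem (mul_mem (mul_mem (hK.le hx') ha) (inv_mem (hK.le hx')))))) (hord x hx' (ho 2 Nat.prime_two hne.1)) ?_))
    have r : ∀ b : G, Nat.card V ≤ 2 * Nat.card (V ⊓ centralizer ({b} : Set G) : Subgroup G) →
        (centralizer ({b} : Set G)).relIndex V ≤ 2 := fun b hb => by
      rw [← relIndex_mul_card_inf (centralizer ({b} : Set G)) V, inf_comm] at hb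
      exact Nat.le_of_mul_le_mul_right hb Nat.card_pos
    refine (relIndex_le_of_le_left (H := centralizer ({a} : Set G) ⊓ centralizer ({x * a * x⁻¹} : Set G)) ?_
      (relIndex_ne_zero' _ _)).trans (relIndex_inf_le.trans (Nat.mul_le_mul (r _ h) (r _ (hconj x hx'))))
    exact le_centralizer_singleton_iff.2 (mul_mem (le_centralizer_singleton_iff.1 inf_le_left)
      (inv_mem (le_centralizer_singleton_iff.1 inf_le_right)))
  refine hK.qs.not_le_centralizer ((Res_eq_self_of_perfect (p := p) hK.qs.perfect).ge.trans ?_)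
  rw [Res_eq_closure, closure_le]
  rintro x ⟨hx, ho⟩
  have hb : x * a * x⁻¹ ∈ M := mul_mem (mul_mem (hK.le hx) ha) (inv_mem (hK.le hx))
  have hH : closure {a, x * a * x⁻¹} ≤ M := by
    rw [closure_le, Set.insert_subset_iff, Set.singleton_subset_iff]; exact ⟨ha, hb⟩
  obtain ⟨T⟩ : Nonempty (Sylow 2 (closure {a, x * a * x⁻¹})) := inferInstance
  have hX : Orb (zpowers a) (zpowers x) ≤ centralizer (Orb (zpowers a) (zpowers x) : Set G) := by
    refine Orb_le_iff.2 fun g hg => le_centralizer_iff.1 (Orb_le_iff.2 fun g' hg' => ?_)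
    by_cases e : cj(g', K) = cj(g, K)
    · have e1 : g⁻¹ * g' ∈ normalizer (K : Set G) := cj_eq_self_iff.1 (by rw [cj_mul, e, cj_inv_cj])
      have e2 : g⁻¹ * g' = 1 := by
        by_contra e3
        have := mul_mem (inv_mem hg) hg'
        refine hn (zpowers_le.2 e1 ((eq_of_le_of_card_ge (zpowers_le.2 this) ?_).ge (mem_zpowers a)))
        rw [Nat.card_zpowers, Nat.card_zpowers, hao, IsElementaryAbelian.orderOf_eq (isElementaryAbelian_zpowers hap) this e3]
      rw [inv_mul_eq_one.1 e2, cj_zpowers, centralizer_zpowers]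
      exact zpowers_le_centralizer_singleton _
    · exact (cj_mono g' (zpowers_le.2 hx)).trans (((hc g' hg').le_centralizer_of_ne (hc g hg) e).trans
        (centralizer_mono (cj_mono g (zpowers_le.2 hx))))
  have hT : (T : Subgroup (closure {a, x * a * x⁻¹})).map (Subgroup.subtype _) ≤ Orb (zpowers a) (zpowers x) := by
    have b : closure {a, x * a * x⁻¹} ≤ Orb (zpowers a) (zpowers x) ⊔ zpowers a := by
      rw [closure_le, Set.insert_subset_iff, Set.singleton_subset_iff]
      refine ⟨mem_sup_right (mem_zpowers a), ?_⟩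
      rw [show x * a * x⁻¹ = x * (a * x⁻¹ * a⁻¹) * a by group]
      exact mul_mem (mem_sup_left (mul_mem (le_Orb _ _ (mem_zpowers x)) (cj_le_Orb _ (mem_zpowers a)
        (conj_mem_cj.2 (inv_mem (mem_zpowers x)))))) (mem_sup_right (mem_zpowers a))
    refine le_of_coprime_relIndex le_sup_left ((map_subtype_le _).trans b) (((map_subtype_le _).trans b).trans
      (sup_le le_normalizer (le_normalizer_Orb _ _))) (Nat.Coprime.coprime_dvd_right
        (relIndex_sup_dvd_card' (le_normalizer_Orb _ _)) ?_)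
    rw [Nat.card_zpowers, hao]
    exact coprime_of_isPGroup_of_ne (Ne.symm h2) (T.2.map _)
  have := Transfer.res_le_centralizer_of_quadratic h2 (IsElementaryAbelian.isPGroup hV) (hH.trans hMV) rfl (quad hV (hMV ha) hap h)
    (quad hV (hMV hb) (by rw [conj_pow, hap]; group) (hconj x hx)) T
    ⟨⟨fun s t => Subtype.ext (Subtype.ext (mem_centralizer_iff.1 (hX (hT ⟨_, t.2, rfl⟩)) _ (hT ⟨_, s.2, rfl⟩)))⟩⟩
  rw [Transfer.res_def, map_pResidual] at this
  simpa using key x hx 1 (by
    rw [pow_one]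
    refine this (le_Res (zpowers_le.2 (mul_mem (subset_closure (by simp)) (inv_mem (subset_closure (by simp)))))
      (by rw [Nat.card_zpowers]; exact hord x hx ho) (mem_zpowers _)))

end Cfsg.Agent.PGV
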