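import Cfsg.Agent.Lib.BG.PGV

set_option linter.unusedSectionVars false

namespace Cfsg.Agent.PGV

open Cfsg.Agent.Comp Subgroup
open scoped commutatorElement

universe u

variable {G : Type u} [Group G] [Finite G] {p : ℕ} [hp : Fact p.Prime]

structure Dg (p : ℕ) (K : Subgroup G) (a : G) (δ : K →* G) : Prop where
  eq : ∀ l, δ l = dg a p l
  c : ∀ l : K, (l : G)⁻¹ * δ l ∈ centralizer (K : Set G)
  le : δ.range ≤ Orb (zpowers a) K ⊓ centralizer ({a} : Set G)
  ge : Orb (zpowers a) K ⊓ centralizer ({a} : Set G) ≤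
    δ.range ⊔ (Orb (zpowers a) K ⊓ centralizer (Orb (zpowers a) K : Set G))
  qs : QS δ.range

theorem exists_dg {M K : Subgroup G} (hK : CompIn K M) {a : G} (ha : a ∈ M) (hap : a ^ p = 1)
    (hn : a ∉ normalizer (K : Set G)) : ∃ δ, Dg p K a δ := by
  obtain ⟨δ, h1, h2, h3, h4, h5⟩ := hK.exists_diag (p := p) (le_normalizer ha) (by rw [hap]; exact one_mem _) hn
  exact ⟨δ, h1, h2, h3, h4, h5⟩

theorem Dg.comp {M K : Subgroup G} (hK : CompIn K M) {a : G} (ha : a ∈ M) {δ : K →* G} (h : Dg p K a δ) :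
    CompIn δ.range (M ⊓ centralizer ({a} : Set G)) := by
  have h1 : SubnIn (Orb (zpowers a) K) M := SubnIn.iSup fun g => (hK.cj_of_mem (le_normalizer (zpowers_le.2 ha g.2))).subn
  refine ⟨(SubnIn.of_normalizer h.le (h.ge.trans (sup_le le_normalizer ?_))).trans (h1.inf_right _), h.qs⟩
  exact le_normalizer_of_le_centralizer (inf_le_right.trans (centralizer_mono (h.le.trans inf_le_left)))

theorem Dg.c' {K : Subgroup G} {a g : G} {δ : K →* G} (h : Dg p K a δ) (hg : g ∈ zpowers a) (l : K) :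
    (g * l * g⁻¹)⁻¹ * δ l ∈ centralizer (cj(g, K) : Set G) := by
  rw [← cj_centralizer, mem_cj]
  have e : δ l * g = g * δ l := mem_centralizer_iff.1 (by
    rw [centralizer_zpowers]; exact (h.le ⟨l, rfl⟩).2 : δ l ∈ centralizer (zpowers a : Set G)) g hg |>.symm
  rw [show g⁻¹ * ((g * l * g⁻¹)⁻¹ * δ l) * g = (l : G)⁻¹ * g⁻¹ * (δ l * g) by group, e]
  simpa [mul_assoc] using h.c l

theorem Orb_mono {A B K : Subgroup G} (h : A ≤ B) : Orb A K ≤ Orb B K := Orb_le_iff.2 fun _ ha => cj_le_Orb K (h ha)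

theorem gen {M K A : Subgroup G} (hK : CompIn K M) (hA : A ≤ M) (hAe : IsElementaryAbelian p A) {a a' : G}
    (ha : a ∈ A) (ha' : a' ∈ A) (hn : a ∉ normalizer (K : Set G))
    (hne : a' ∉ (A ⊓ centralizer (K : Set G)) ⊔ zpowers a) {δ δ' : K →* G} (h : Dg p K a δ) (h' : Dg p K a' δ') :
    K ≤ δ.range ⊔ δ'.range := by
  set L := Orb A K with hL
  set S := δ.range ⊔ δ'.range with hS
  have hc : ∀ g ∈ A, CompIn cj(g, K) M := fun g hg => hK.cj_of_mem (le_normalizer (hA hg))
  have hLM : L ≤ Lay M := hK.Orb_le_Lay (hA.trans le_normalizer)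
  have hSL : S ≤ L := sup_le (h.le.trans (inf_le_left.trans (Orb_mono (zpowers_le.2 ha))))
    (h'.le.trans (inf_le_left.trans (Orb_mono (zpowers_le.2 ha'))))
  have hZ : ∀ K', CompIn K' M → L ≤ normalizer ((L ⊓ centralizer (K' : Set G) : Subgroup G) : Set G) := fun K' h1 =>
    le_normalizer_inf le_normalizer (le_normalizer_centralizer (hLM.trans h1.Lay_le_normalizer))
  have hKL : K ≤ L := le_Orb A K
  have proj : ∀ N, N ≤ S → S ≤ normalizer (N : Set G) → ¬ N ≤ centralizer (K : Set G) →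
      K ≤ N ⊔ (L ⊓ centralizer (K : Set G)) := fun N a1 a2 a3 => by
    refine (hK.le_or_le_centralizer_of_normalizer (sup_le (a1.trans (hSL.trans (hLM.trans (Lay_le M))))
      (inf_le_left.trans (hLM.trans (Lay_le M)))) fun k hk => ?_).resolve_right fun e => a3 (le_sup_left.trans e)
    rw [show k = δ ⟨k, hk⟩ * (k⁻¹ * δ ⟨k, hk⟩)⁻¹ by group]
    have d : δ ⟨k, hk⟩ ∈ S := mem_sup_left ⟨_, rfl⟩
    exact mul_mem (le_normalizer_sup a2 (hSL.trans (hZ K hK)) d) (inv_mem (le_normalizer (mem_sup_right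
      (mem_inf.2 ⟨mul_mem (inv_mem (hKL hk)) (hSL d), h.c ⟨k, hk⟩⟩))))
  have claim : ∀ c ∈ A, cj(c, K) ≠ K → ¬ S ⊓ centralizer (cj(c, K) : Set G) ≤ centralizer (K : Set G) := by
    intro c hc' e H
    have f : ∀ {b : G} {ε : K →* G}, b ∈ A → Dg p K b ε → ε.range ≤ S → ∃ g ∈ zpowers b, cj(g, K) = cj(c, K) := by
      intro b ε hb he hs
      by_contra hh
      push Not at hh
      refine diag_ne hK.qs he.c ((le_inf hs (he.le.trans (inf_le_left.trans (Orb_le_iff.2 fun g hg => ?_)))).trans H)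
      exact (hc g (zpowers_le.2 hb hg)).le_centralizer_of_ne (hc c hc') (hh g hg)
    obtain ⟨g, hg, e1⟩ := f ha h le_sup_left
    obtain ⟨g', hg', e2⟩ := f ha' h' le_sup_right
    have hgA := zpowers_le.2 ha hg
    have hgA' := zpowers_le.2 ha' hg'
    have n1 : g'⁻¹ * g ∈ normalizer (K : Set G) := cj_eq_self_iff.1 (by rw [cj_mul, e1, ← e2, cj_inv_cj])
    have n2 : g'⁻¹ * g ∈ centralizer (K : Set G) := by
      rw [← zpowers_le, ← commutator_eq_bot_iff_le_centralizer]
      refine commutator_eq_bot_of_perfect hK.qs.perfect (commutator_eq_bot_iff_le_centralizer.2 ?_)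
      refine commutator_zpowers_left_le (normalizer_le_normalizer_centralizer K n1) fun k hk => ?_
      have k2 := conj_mem_of_mem_normalizer n1 hk
      have b1 := h.c' hg ⟨k, hk⟩
      have b2 := h'.c' hg' ⟨_, k2⟩
      rw [e1] at b1
      rw [e2] at b2
      have m1 : δ ⟨k, hk⟩ ∈ S := mem_sup_left ⟨_, rfl⟩
      have m2 : δ' ⟨_, k2⟩ ∈ S := mem_sup_right ⟨_, rfl⟩
      have m3 := h.c ⟨k, hk⟩
      have m4 := h'.c ⟨_, k2⟩
      dsimp only at b1 b2 m3 m4
      generalize δ ⟨k, hk⟩ = u at b1 m1 m3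
      generalize δ' ⟨_, k2⟩ = u' at b2 m2 m4
      have b3 := H (mem_inf.2 ⟨mul_mem (inv_mem m1) m2, by
        convert mul_mem (inv_mem b1) b2 using 1
        group⟩)
      convert conj_mem_of_mem_normalizer (normalizer_le_normalizer_centralizer _ (le_normalizer hk))
        (mul_mem (mul_mem m3 b3) (inv_mem m4)) using 1
      rw [commutatorElement_def]; group
    refine hne (zpowers_le.2 (show g' ∈ (A ⊓ centralizer (K : Set G)) ⊔ zpowers a from ?_)
      ((eq_of_le_of_card_ge (zpowers_le.2 hg') ?_).ge (mem_zpowers a')))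
    · rw [show g' = g * (g'⁻¹ * g)⁻¹ by group]
      exact mul_mem (mem_sup_right hg) (inv_mem (mem_sup_left (mem_inf.2 ⟨mul_mem (inv_mem hgA') hgA, n2⟩)))
    · have g1 : g' ≠ 1 := fun e3 => e (by rw [← e2, e3, cj_one])
      rw [Nat.card_zpowers, Nat.card_zpowers, IsElementaryAbelian.orderOf_eq hAe hgA' g1]
      exact Nat.le_of_dvd hp.out.pos (orderOf_dvd_of_pow_eq_one (hAe.2 a' ha'))
  obtain ⟨R, -, ⟨r1, r2, r3⟩, r4⟩ := exists_minimal_subgroup (P := fun R : Subgroup G => R ≤ S ∧ S ≤ normalizer (R : Set G) ∧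
    ¬ R ≤ centralizer (K : Set G)) (A := S) ⟨le_rfl, le_normalizer, fun e => diag_ne hK.qs h.c (le_sup_left.trans e)⟩
  have r5 : ∀ c ∈ A, cj(c, K) ≠ K → R ≤ centralizer (cj(c, K) : Set G) := fun c hc' e => by
    have s1 : S ≤ normalizer ((S ⊓ centralizer (cj(c, K) : Set G) : Subgroup G) : Set G) := le_normalizer_inf le_normalizer
      (le_normalizer_centralizer (hSL.trans (hLM.trans (hc c hc').Lay_le_normalizer)))
    have s2 := commutator_le_left_of_le_normalizer ((inf_le_left : S ⊓ centralizer (cj(c, K) : Set G) ≤ S).trans r2)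
    rw [← r4 _ ⟨s2.trans r1, le_normalizer_commutator r2 s1, fun e' => hK.qs.not_le_centralizer ?_⟩ s2]
    · exact (commutator_le_right_of_le_normalizer (r1.trans s1)).trans inf_le_right
    have t1 := hZ K hK
    refine hK.qs.perfect.ge.trans ((commutator_mono (proj R r1 r2 r3) (proj _ inf_le_left s1 (claim c hc' e))).trans
      (le_trans ?_ (inf_le_right : L ⊓ centralizer (K : Set G) ≤ _)))
    refine commutator_sup_left_le (r1.trans (hSL.trans t1)) le_normalizer (commutator_sup_right_le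
      (inf_le_left.trans (hSL.trans t1)) le_normalizer (le_inf (s2.trans (r1.trans hSL)) e')
      (commutator_le_right_of_le_normalizer (r1.trans (hSL.trans t1)))) (commutator_le_left_of_le_normalizer
        ((sup_le (inf_le_left.trans hSL) inf_le_left).trans t1))
  have hao : orderOf a = p := IsElementaryAbelian.orderOf_eq hAe ha fun e => hn (e ▸ one_mem _)
  rw [← (hK.qs.commutator_eq_or (r1.trans (hSL.trans (hLM.trans hK.Lay_le_normalizer)))).resolve_right
    fun e => r3 (commutator_eq_bot_iff'.1 e), commutator_le]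
  intro k hk r hr
  obtain ⟨n, hn'⟩ : ∃ n, p = n + 1 := ⟨p - 1, (Nat.sub_add_cancel hp.out.pos).symm⟩
  have u1 : k⁻¹ * dg a (n + 1) k ∈ centralizer (R : Set G) := inv_mul_dg_mem hk fun i i1 i2 =>
    le_centralizer_iff.1 (r5 _ (pow_mem ha i) fun e => hn (mem_of_pow_mem_of_coprime (n := i) (by
      rw [hao]; exact (Nat.coprime_of_lt_prime i1.ne' (hn' ▸ i2) hp.out)) (cj_eq_self_iff.1 e)))
  rw [← hn', ← h.eq ⟨k, hk⟩] at u1
  have u2 := mem_centralizer_iff.1 u1 r hr
  have d : δ ⟨k, hk⟩ ∈ S := mem_sup_left ⟨_, rfl⟩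
  have u3 := mul_mem (mul_mem (mul_mem d (r1 hr)) (inv_mem d)) (inv_mem (r1 hr))
  convert u3 using 1
  rw [commutatorElement_def]
  calc k * r * k⁻¹ * r⁻¹ = k * (r * (k⁻¹ * δ ⟨k, hk⟩)) * (δ ⟨k, hk⟩)⁻¹ * r⁻¹ := by group
    _ = _ := by rw [u2]; group

theorem card_chars {W : Type*} [CommGroup W] [Finite W] (H : Subgroup W) :
    Nat.card {χ : W →* ℂˣ // ∀ w ∈ H, χ w = 1} = H.index := by
  have : NeZero (Monoid.exponent W : ℂ) := ⟨Nat.cast_ne_zero.2 Monoid.exponent_ne_zero_of_finite⟩
  rw [index_eq_card, ← CommGroup.card_domRestrictHom_ker ℂ H]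
  exact Nat.card_congr (Equiv.subtypeEquivRight fun χ => by
    rw [MonoidHom.mem_ker, MonoidHom.domRestrictHom_apply, MonoidHom.domRestrict_eq_one_iff])

theorem count {W : Type*} [CommGroup W] [Finite W] {ι : Type*} (s : Finset ι) (H : ι → Subgroup W) (H0 : Subgroup W)
    {m n : ℕ} (h0 : ∀ i ∈ s, H0 ≤ H i) (h1 : ∀ i ∈ s, m + 1 ≤ (H i).index)
    (h2 : ∀ i ∈ s, ∃ t : Finset ι, t.card ≤ n ∧ ∀ j ∈ s, j ∉ t → H i ⊔ H j = ⊤) :
    s.card * m + n ≤ H0.index * n := by
  classical
  have : NeZero (Monoid.exponent W : ℂ) := ⟨Nat.cast_ne_zero.2 Monoid.exponent_ne_zero_of_finite⟩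
  have : Finite (W →* ℂˣ) := Nat.finite_of_card_ne_zero (by
    rw [CommGroup.card_monoidHom_of_hasEnoughRootsOfUnity]; exact Nat.card_pos.ne')
  have := Fintype.ofFinite (W →* ℂˣ)
  have c : ∀ X : Subgroup W, ((Finset.univ.filter fun χ : W →* ℂˣ => ∀ w ∈ X, χ w = 1).erase 1).card + 1 = X.index :=
    fun X => by
      rw [Finset.card_erase_add_one (by simp), ← card_chars, Nat.card_eq_fintype_card, Fintype.card_subtype]
  rw [← c H0, add_mul, one_mul]
  refine Nat.add_le_add_right (Finset.card_mul_le_card_mul (fun i χ => ∀ w ∈ H i, χ w = 1) (fun i hi => ?_) fun χ hχ => ?_) _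
  · have := h1 i hi
    rw [← c (H i)] at this
    refine (Nat.le_of_add_le_add_right this).trans (Finset.card_le_card fun χ hχ => ?_)
    simp only [Finset.mem_erase, Finset.mem_filter, Finset.mem_univ, true_and, Finset.mem_bipartiteAbove] at hχ ⊢
    exact ⟨⟨hχ.1, fun w hw => hχ.2 w (h0 i hi hw)⟩, hχ.2⟩
  · rcases Finset.eq_empty_or_nonempty (s.bipartiteBelow (fun i (χ : W →* ℂˣ) => ∀ w ∈ H i, χ w = 1) χ) with e | ⟨i, hi⟩
    · rw [e]; simp
    rw [Finset.mem_bipartiteBelow] at hi
    obtain ⟨t, t1, t2⟩ := h2 i hi.1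
    refine le_trans (Finset.card_le_card fun j hj => ?_) t1
    rw [Finset.mem_bipartiteBelow] at hj
    by_contra hh
    refine (Finset.mem_erase.1 hχ).1 (MonoidHom.ext fun w => ?_)
    have : H i ⊔ H j ≤ χ.ker := sup_le hi.2 hj.2
    exact this ((t2 j hj.1 hh).ge (mem_top w))

open scoped IsMulCommutative in
theorem core {V M K A : Subgroup G} (hV : IsElementaryAbelian p V) (hMV : M ≤ normalizer (V : Set G)) (hK : CompIn K M)
    (hA : A ≤ M) (hAe : IsElementaryAbelian p A) (hKV : ¬ K ≤ centralizer (V : Set G))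
    (hC : A ⊓ centralizer (K : Set G) ≤ centralizer (V : Set G))
    (hoff : ∀ B ≤ A, Nat.card B * Nat.card (V ⊓ centralizer (B : Set G) : Subgroup G) ≤
      Nat.card A * Nat.card (V ⊓ centralizer (A : Set G) : Subgroup G)) : A ≤ normalizer (K : Set G) := by
  classical
  by_contra hn
  set C := A ⊓ centralizer (K : Set G) with hCd
  have hCV := cent_of_cent hMV hK hKV
  have hAc := IsElementaryAbelian.le_centralizer hAe
  have hAp := IsElementaryAbelian.isPGroup hAe
  have hCN : C ≤ normalizer (K : Set G) := le_normalizer_of_le_centralizer inf_le_right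
  have hcard : ∀ a ∈ A, Nat.card (C ⊔ zpowers a : Subgroup G) ≤ p * Nat.card C := fun a ha => by
    refine (Nat.le_of_dvd (Nat.mul_pos Nat.card_pos Nat.card_pos) (card_sup_dvd (le_normalizer_of_le_centralizer
      (inf_le_left.trans (hAc.trans (centralizer_mono (zpowers_le.2 ha))))))).trans ?_
    rw [mul_comm, Nat.card_zpowers]
    exact Nat.mul_le_mul_right _ (Nat.le_of_dvd hp.out.pos (orderOf_dvd_of_pow_eq_one (hAe.2 a ha)))
  obtain ⟨b1, b2⟩ := Transfer.timmesfeld hV (hA.trans hMV) ⟨hoff, by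
    rw [commutator_eq_bot_iff_le_centralizer.2 hAc]; exact bot_le, fun a ha => by rw [hAe.2 a ha]; exact one_mem _⟩ le_rfl
  have b3 := b2 fun e => hn ((le_inf hA (commutator_eq_bot_iff'.1 e)).trans (hCV.trans (centralizer_le_normalizer _)))
  have hCB : C ≤ A ⊓ centralizer ((⁅V, A⁆ : Subgroup G) : Set G) := le_inf inf_le_left (hC.trans (centralizer_mono
    (commutator_le_left_of_le_normalizer (hA.trans hMV))))
  have hBA : A ⊓ centralizer ((⁅V, A⁆ : Subgroup G) : Set G) ≤ A := inf_le_left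
  have hBc : A ⊓ centralizer ((⁅V, A⁆ : Subgroup G) : Set G) ≤ centralizer ((⁅V, A⁆ : Subgroup G) : Set G) := inf_le_right
  generalize A ⊓ centralizer ((⁅V, A⁆ : Subgroup G) : Set G) = B at b1 b3 hCB hBA hBc
  have hVC : V ⊓ centralizer (C : Set G) = V := inf_eq_left.2 (le_centralizer_iff.1 hC)
  have step : ∀ a ∈ A, a ∉ normalizer (K : Set G) → ∀ δ, Dg p K a δ → ⁅δ.range, V⁆ ≤ centralizer ({a} : Set G) := by
    intro a ha han δ h
    have hd := h.comp hK (hA ha)
    have hDV := hd.le.trans (inf_le_left.trans hMV)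
    have hDa : δ.range ≤ centralizer (zpowers a : Set G) := by
      rw [centralizer_zpowers]; exact hd.le.trans inf_le_right
    rcases hd.le_commutator_or (le_inf (hBA.trans hA) (hBA.trans
      (IsElementaryAbelian.le_centralizer_singleton hAe ha))) with e | e
    · have e1 : δ.range ≤ centralizer ((⁅V, zpowers a⁆ : Subgroup G) : Set G) := e.trans ((commutator_mono le_rfl
        (hBc.trans (centralizer_mono (commutator_mono le_rfl (zpowers_le.2 ha))))).trans
        (commutator_le_right_of_le_normalizer (le_normalizer_centralizer (le_normalizer_commutator hDV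
          (le_normalizer_of_le_centralizer hDa)))))
      rw [← centralizer_zpowers, ← commutator_eq_bot_iff_le_centralizer]
      refine commutator_commutator_eq_bot_of_rotate (commutator_eq_bot_iff'.2 e1) ?_
      rw [commutator_eq_bot_iff'.2 hDa, commutator_bot_left]
    exfalso
    have e1 := commutator_eq_bot_iff'.1 e
    obtain ⟨b, hb, hb'⟩ := SetLike.not_le_iff_exists.1 fun e2 => b3 (commutator_eq_bot_iff'.2 e2)
    have e2 : B ≤ C ⊔ zpowers a := fun g hg => by
      by_contra hh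
      have e3 : δ.range ≤ centralizer (cj(g⁻¹, K) : Set G) := h.le.trans (inf_le_left.trans (Orb_le_iff.2 fun s hs =>
        (hK.cj_of_mem (le_normalizer (zpowers_le.2 (hA ha) hs))).le_centralizer_of_ne
          (hK.cj_of_mem (le_normalizer (inv_mem (hA (hBA hg))))) fun e4 => hh (by
            have e5 : g * s ∈ normalizer (K : Set G) := cj_eq_self_iff.1 (by rw [cj_mul, e4, cj_cj_inv])
            have e6 := diag_cent hK.qs.perfect h.c ⟨mul_mem (e1 hg) (le_centralizer_iff.1 hDa hs), e5⟩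
            rw [show g = g * s * s⁻¹ by group]
            exact mul_mem (mem_sup_left (mem_inf.2 ⟨mul_mem (hBA hg) (zpowers_le.2 ha hs), e6⟩))
              (inv_mem (mem_sup_right hs)))))
      rw [← cj_centralizer, le_cj_iff, inv_inv, cj_eq_self_iff.2 (centralizer_le_normalizer _ (e1 hg))] at e3
      exact diag_ne hK.qs h.c e3
    refine hKV (transv hV hMV hK (hA (hBA hb)) (hAe.2 b (hBA hb)) (fun e3 => hb' (hC
      ⟨hBA hb, diag_cent hK.qs.perfect h.c ⟨e1 hb, e3⟩⟩)) (Nat.le_of_mul_le_mul_left ?_ (Nat.card_pos (α := C))))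
    have := b1.1 C hCB
    rw [hVC] at this
    refine this.trans ((Nat.mul_le_mul ((card_le_of_le e2).trans (hcard a ha)) (card_le_of_le (inf_le_inf_left V
      (show centralizer (B : Set G) ≤ centralizer ({b} : Set G) from centralizer_le (Set.singleton_subset_iff.2 hb))))).trans ?_)
    rw [mul_comm p, mul_assoc]
  set L := Orb A K with hL
  have hLM : L ≤ M := (hK.Orb_le_Lay (hA.trans le_normalizer)).trans (Lay_le M)
  have hAL : A ≤ normalizer (L : Set G) := le_normalizer_Orb A K
  set W := ⁅L, V⁆ with hW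
  have hWV : W ≤ V := commutator_le_right_of_le_normalizer (hLM.trans hMV)
  have hWe := IsElementaryAbelian.of_le hV hWV
  have hMW : L ⊔ A ≤ normalizer (W : Set G) := le_normalizer_commutator (sup_le le_normalizer hAL)
    ((sup_le hLM hA).trans hMV)
  have hKW : ¬ K ≤ centralizer (W : Set G) := fun e => hKV (commutator_eq_bot_iff'.1
    (commutator_eq_bot_of_perfect hK.qs.perfect (commutator_eq_bot_iff'.2 (e.trans (centralizer_mono (by
      rw [Subgroup.commutator_comm]; exact commutator_mono (le_Orb A K) le_rfl))))))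
  have hT : ∀ a ∈ A, a ∉ normalizer (K : Set G) → p ^ 2 ≤ (centralizer ({a} : Set G)).relIndex W := fun a ha han => by
    have e1 := relIndex_mul_card_inf (centralizer ({a} : Set G)) W
    obtain ⟨n, -, hn⟩ := (Nat.dvd_prime_pow hp.out).1 ((relIndex_dvd_card' (centralizer ({a} : Set G)) W).trans
      (IsPGroup.iff_card.1 (IsElementaryAbelian.isPGroup hWe)).choose_spec.dvd)
    rw [hn] at e1 ⊢
    refine Nat.pow_le_pow_right hp.out.pos (not_lt.1 fun e2 => hKW (transv hWe hMW (hK.of_le ((le_Orb A K).trans le_sup_left)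
      (sup_le hLM hA)) (mem_sup_right ha) (hAe.2 a ha) han ?_))
    rw [← e1, inf_comm]
    exact Nat.mul_le_mul_right _ ((Nat.pow_le_pow_right hp.out.pos (by omega)).trans (pow_one p).le)
  have hG : ∀ a ∈ A, a ∉ normalizer (K : Set G) → ∀ a' ∈ A, a' ∉ normalizer (K : Set G) → a' ∉ C ⊔ zpowers a →
      W ≤ (W ⊓ centralizer ({a} : Set G)) ⊔ (W ⊓ centralizer ({a'} : Set G)) := fun a ha han a' ha' han' hne => by
    obtain ⟨δ, h⟩ := exists_dg hK (hA ha) (hAe.2 a ha) han
    obtain ⟨δ', h'⟩ := exists_dg hK (hA ha') (hAe.2 a' ha') han'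
    have s0 : (W ⊓ centralizer ({a} : Set G)) ⊔ (W ⊓ centralizer ({a'} : Set G)) ≤ V :=
      (sup_le inf_le_left inf_le_left).trans hWV
    have s1 : ⁅δ.range, V⁆ ≤ (W ⊓ centralizer ({a} : Set G)) ⊔ (W ⊓ centralizer ({a'} : Set G)) :=
      (le_inf (commutator_mono (h.le.trans (inf_le_left.trans (Orb_mono (zpowers_le.2 ha)))) le_rfl)
        (step a ha han δ h)).trans le_sup_left
    have s2 : ⁅δ'.range, V⁆ ≤ (W ⊓ centralizer ({a} : Set G)) ⊔ (W ⊓ centralizer ({a'} : Set G)) :=
      (le_inf (commutator_mono (h'.le.trans (inf_le_left.trans (Orb_mono (zpowers_le.2 ha')))) le_rfl)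
        (step a' ha' han' δ' h')).trans le_sup_right
    have s3 := (commutator_mono (gen hK hA hAe ha ha' han hne h h') le_rfl).trans (commutator_sup_left_le
      (le_normalizer_of_commutator_le s0 s1) (le_normalizer_of_commutator_le s0 s2) s1 s2)
    have s4 : A ≤ normalizer (((W ⊓ centralizer ({a} : Set G)) ⊔ (W ⊓ centralizer ({a'} : Set G)) : Subgroup G) : Set G) :=
      le_normalizer_sup (le_normalizer_inf (le_sup_right.trans hMW)
        ((IsElementaryAbelian.le_centralizer_singleton hAe ha).trans le_normalizer)) (le_normalizer_inf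
          (le_sup_right.trans hMW) ((IsElementaryAbelian.le_centralizer_singleton hAe ha').trans le_normalizer))
    have s5 : ∀ c : A, ⁅cj((c : G), K), V⁆ ≤ (W ⊓ centralizer ({a} : Set G)) ⊔ (W ⊓ centralizer ({a'} : Set G)) := fun c => by
      have := cj_mono (c : G) s3
      rwa [cj_commutator, cj_eq_self_iff.2 (hMV (hA c.2)), cj_eq_self_iff.2 (s4 c.2)] at this
    exact commutator_iSup_left_le (fun c => le_normalizer_of_commutator_le s0 (s5 c)) s5
  have := hWe.1
  have := Fintype.ofFinite G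
  have cs : ∀ X Y : Subgroup G, Y ≤ X → (Finset.univ.filter fun g => g ∈ X ∧ g ∉ Y).card + Nat.card Y = Nat.card X :=
    fun X Y e => by
      rw [Nat.card_eq_fintype_card, Nat.card_eq_fintype_card, Fintype.card_subtype, Fintype.card_subtype,
        ← Finset.card_union_of_disjoint (Finset.disjoint_filter.2 fun g _ e1 e2 => e1.2 e2)]
      congr 1
      ext g
      simp only [Finset.mem_union, Finset.mem_filter, Finset.mem_univ, true_and]
      exact ⟨fun h => h.elim And.left fun h => e h, fun h => (em (g ∈ Y)).symm.imp_left fun h' => ⟨h, h'⟩⟩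
  obtain ⟨q, hq⟩ : ∃ q, p = q + 1 := ⟨p - 1, (Nat.sub_add_cancel hp.out.pos).symm⟩
  have hq1 : 1 ≤ q := by have := hp.out.one_lt; omega
  have fin := count (W := W) (Finset.univ.filter fun g => g ∈ A ∧ g ∉ A ⊓ normalizer (K : Set G))
    (fun a => (centralizer ({a} : Set G)).subgroupOf W) ((centralizer (A : Set G)).subgroupOf W)
    (m := q * (q + 2)) (n := q * Nat.card C)
    (fun a ha => subgroupOf_mono _ (centralizer_le (Set.singleton_subset_iff.2 (Finset.mem_filter.1 ha).2.1)))
    (fun a ha => by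
      obtain ⟨-, a1, a2⟩ := Finset.mem_filter.1 ha
      refine le_trans (le_of_eq ?_) (hT a a1 fun e => a2 ⟨a1, e⟩)
      rw [hq]; ring)
    (fun a ha => by
      obtain ⟨-, a1, a2⟩ := Finset.mem_filter.1 ha
      refine ⟨Finset.univ.filter fun g => g ∈ C ⊔ zpowers a ∧ g ∉ C, ?_, fun a' ha' e => ?_⟩
      · have e1 := (cs _ _ (le_sup_left : C ≤ C ⊔ zpowers a)).le.trans (hcard a a1)
        rw [hq, add_mul, one_mul] at e1
        exact Nat.le_of_add_le_add_right e1
      · obtain ⟨-, a3, a4⟩ := Finset.mem_filter.1 ha'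
        have e1 := hG a a1 (fun e => a2 ⟨a1, e⟩) a' a3 (fun e => a4 ⟨a3, e⟩) fun e2 =>
          e (Finset.mem_filter.2 ⟨Finset.mem_univ _, e2, fun e3 => a4 ⟨a3, hCN e3⟩⟩)
        apply map_injective W.subtype_injective
        rw [Subgroup.map_sup, subgroupOf_map_subtype, subgroupOf_map_subtype, map_subtype_top, inf_comm _ W, inf_comm _ W]
        exact le_antisymm (sup_le inf_le_left inf_le_left) e1)
  have f1 := cs A _ (inf_le_left : A ⊓ normalizer (K : Set G) ≤ A)
  have f2 := PTerm.mul_card_le hAp (lt_of_le_of_ne (inf_le_left : A ⊓ normalizer (K : Set G) ≤ A)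
    fun e => hn (e.ge.trans inf_le_right))
  have f3 : (centralizer (A : Set G)).relIndex W * Nat.card C ≤ Nat.card A := by
    have e1 := hoff C inf_le_left
    rw [hVC, ← relIndex_mul_card_inf (centralizer (A : Set G)) V, inf_comm, ← mul_assoc] at e1
    rw [mul_comm]
    exact (Nat.mul_le_mul_left _ (relIndex_le_of_le_right hWV (relIndex_ne_zero' _ _))).trans
      (Nat.le_of_mul_le_mul_right e1 Nat.card_pos)
  change _ ≤ (centralizer (A : Set G)).relIndex W * _ at fin
  have f4 := Nat.card_pos (α := C)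
  rw [hq] at f2
  generalize (Finset.univ.filter fun g => g ∈ A ∧ g ∉ A ⊓ normalizer (K : Set G)).card = s at fin f1
  generalize (centralizer (A : Set G)).relIndex W = r at fin f3
  generalize Nat.card (A ⊓ normalizer (K : Set G) : Subgroup G) = n at f1 f2
  have f5 : s * (q + 2) + Nat.card C ≤ r * Nat.card C := Nat.le_of_mul_le_mul_left (by nlinarith) hq1
  nlinarith

theorem pgv {V M K A : Subgroup G} (hV : IsElementaryAbelian p V) (hMV : M ≤ normalizer (V : Set G)) (hK : CompIn K M)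
    (hA : A ≤ M) (hAe : IsElementaryAbelian p A) (hKV : ¬ K ≤ centralizer (V : Set G))
    (hoff : ∀ B ≤ A, Nat.card B * Nat.card (V ⊓ centralizer (B : Set G) : Subgroup G) ≤
      Nat.card A * Nat.card (V ⊓ centralizer (A : Set G) : Subgroup G)) : A ≤ normalizer (K : Set G) := by
  set C := A ⊓ centralizer (K : Set G) with hC
  have hAc := IsElementaryAbelian.le_centralizer hAe
  have hLM : Orb A K ≤ M := (hK.Orb_le_Lay (hA.trans le_normalizer)).trans (Lay_le M)
  have h1 : Orb A K ⊔ A ≤ centralizer (C : Set G) := le_centralizer_iff.1 (le_centralizer_sup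
    ((inf_le_inf_right _ hAc).trans (inf_centralizer_le_centralizer_Orb A K)) (inf_le_left.trans hAc))
  refine core (V := V ⊓ centralizer (C : Set G)) (IsElementaryAbelian.of_le hV inf_le_left) (le_normalizer_inf
    ((sup_le hLM hA).trans hMV) (h1.trans le_normalizer)) (hK.of_le ((le_Orb A K).trans le_sup_left) (sup_le hLM hA))
    le_sup_right hAe (fun e => hKV ?_) (le_centralizer_iff.1 inf_le_right) fun B hB => ?_
  · rw [← Res_eq_self_of_perfect (p := p) hK.qs.perfect]
    exact Res_le_of_forall_coprime fun Q q1 q2 => Solv.thompson_pxq ((IsElementaryAbelian.isPGroup hAe).to_le inf_le_left)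
      q2 (IsElementaryAbelian.isPGroup hV) (inf_le_right.trans (centralizer_mono q1)) (inf_le_left.trans (hA.trans hMV))
      (q1.trans (hK.le.trans hMV)) (le_centralizer_iff.1 (q1.trans e))
  · rw [inf_assoc, inf_assoc, ← centralizer_sup, ← centralizer_sup, sup_eq_right.2 (inf_le_left : C ≤ A)]
    exact (Nat.mul_le_mul_right _ (card_le_of_le le_sup_right)).trans (hoff _ (sup_le inf_le_left hB))

end Cfsg.Agent.PGV
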