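/-
More on the `p`-length.
-/
import Cfsg.Agent.Lib.BG.PLen

set_option autoImplicit false
set_option linter.unusedSectionVars false

namespace Cfsg.Agent.PL

open Subgroup Cfsg.Agent.Solv
open scoped commutatorElement Pointwise

universe u

variable {G : Type*} [Group G] {H : Type*} [Group H] {p : ℕ}

theorem der_add_le {K : Subgroup G} {a : ℕ} (h : derivedSeries G a ≤ K) (b : ℕ) :
    derivedSeries G (a + b) ≤ (derivedSeries K b).map K.subtype := by
  induction b with
  | zero => rwa [derivedSeries_zero, ← MonoidHom.range_eq_map, range_subtype]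
  | succ b ih => rw [← add_assoc, derivedSeries_succ, derivedSeries_succ, map_commutator]; exact commutator_mono ih ih

theorem der_le_ker (f : G →* H) {a : ℕ} (h : derivedSeries H a = ⊥) : derivedSeries G a ≤ f.ker :=
  (Subgroup.map_eq_bot_iff _).1 (eq_bot_iff.2 ((map_derivedSeries_le_derivedSeries f a).trans h.le))

theorem der_of_inj {f : G →* H} (hf : Function.Injective f) {a : ℕ} (h : derivedSeries H a = ⊥) :
    derivedSeries G a = ⊥ := eq_bot_iff.2 ((der_le_ker f h).trans ((MonoidHom.ker_eq_bot_iff f).2 hf).le)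

theorem der_of_surj {f : G →* H} (hf : Function.Surjective f) {a : ℕ} (h : derivedSeries G a = ⊥) :
    derivedSeries H a = ⊥ := by rw [← map_derivedSeries_eq hf, h, Subgroup.map_bot]

variable [Finite G] [Finite H] [hp : Fact p.Prime]

theorem der_surj {f : G →* H} (hf : Function.Surjective f) {d : ℕ}
    (h : ∀ P : Subgroup G, IsPGroup p P → derivedSeries P d = ⊥) (P : Subgroup H) (hP : IsPGroup p P) :
    derivedSeries P d = ⊥ := by
  obtain ⟨Q, -, h1, rfl⟩ := Comp.exists_isPGroup_map_eq f (X := ⊤) (by rw [map_top_of_surjective f hf]; exact le_top) hP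
  exact der_of_surj (f.subgroupMap_surjective Q) (h Q h1)

theorem der_of_sylow {d : ℕ} (h : ∀ P : Sylow p G, derivedSeries P d = ⊥) (P : Subgroup G) (hP : IsPGroup p P) :
    derivedSeries P d = ⊥ := by
  obtain ⟨Q, hQ⟩ := hP.exists_le_sylow
  exact der_of_inj (inclusion_injective hQ) (h Q)

theorem four_of_max (G : Type u) [Group G] [Finite G] : Comp.PSol p (⊤ : Subgroup G) →
    (∀ M : Subgroup G, IsCoatom M → U p M 2 = ⊤ ∨ M.index.Prime) → U p G 4 = ⊤ := by
  induction G, ‹Group G›, ‹Finite G› using card_induction' with | h G ih => ?_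
  intro hs h
  have hq : ∀ N : Subgroup G, ∀ [N.Normal], N ≠ ⊥ → U p (G ⧸ N) 4 = ⊤ := fun N _ hN => by
    have hf := QuotientGroup.mk'_surjective N
    refine ih _ (card_quotient_lt hN) (Transfer.psol_surj hf hs) fun M hM => ?_
    refine (h _ (isCoatom_comap_of_surjective hf hM)).imp (top_of_surj
      (MonoidHom.subgroupComap_surjective_of_surjective _ _ hf)) fun e => ?_
    rwa [index_comap_of_surjective _ hf] at e
  by_cases h1 : pPrimeCore p G = ⊥
  swap
  · exact top_of_quot_pPrimeCore (hq _ h1)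
  rcases subsingleton_or_nontrivial G with h2 | h2
  · exact Subsingleton.elim _ _
  obtain ⟨N, a1, a2, a3, a4⟩ := exists_minimal_normal_le _ (Char.psol_pCore_ne_bot hs h1)
  have a5 := (isPGroup_pCore p G).to_le a1
  by_cases h3 : N ≤ frattini G
  · exact top_of_frattini (n := 2) a5 h3 (hq N a3)
  obtain ⟨M, hM, h4⟩ : ∃ M, IsCoatom M ∧ ¬ N ≤ M := by simpa [le_frattini_iff] using h3
  obtain ⟨b1, -⟩ := minimal_normal_elementary N (haveI := a5.isNilpotent; inferInstance) a3 a4
  have b2 := isComplement'_of_minimal_normal_of_coatom b1 a4 hM h4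
  by_cases h5 : M.normalCore = ⊥
  swap
  · exact top_of_inf (eq_bot_iff.2 ((inf_le_inf_left _ M.normalCore_le).trans b2.disjoint.le_bot)) (hq N a3) (hq _ h5)
  have b3 : (QuotientGroup.mk' N).ker ≤ U p G (2 * 1) := by
    rw [QuotientGroup.ker_mk', U_two, pPrimePCore_eq h1]; exact a1
  have e := b2.symm.QuotientMulEquiv
  obtain h6 | h6 := h M hM
  · exact top_of_even _ b3 (top_of_inj (f := e.toMonoidHom) e.injective h6)
  refine top_mono (by norm_num) (top_of_even _ b3 (pl_zero_iff.2 fun hd => ?_))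
  rw [b2.index_eq_card] at h6
  have b4 : Nat.card N = p := by
    obtain ⟨k, hk⟩ := a5.exists_card_eq
    exact ((Nat.prime_dvd_prime_iff_eq hp.out h6).1 (dvd_card_of_isPGroup a5 a3)).symm
  haveI := isCyclic_of_prime_card b4
  let φ : M →* MulAut N := (MulAut.conjNormal (H := N)).comp M.subtype
  have b5 : Function.Injective φ := (MonoidHom.ker_eq_bot_iff φ).1 (eq_bot_iff.2 fun x hx => by
    have c1 : (x : G) ∈ centralizer (N : Set G) := fun y hy =>
      (mul_inv_eq_iff_eq_mul.1 (congrArg Subtype.val (MulEquiv.congr_fun hx ⟨y, hy⟩))).symm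
    haveI : (M ⊓ centralizer (N : Set G)).Normal := normalizer_eq_top_iff.1 (eq_top_iff.2 (b2.sup_eq_top.ge.trans
      (sup_le ((le_centralizer_iff.1 inf_le_right).trans (centralizer_le_normalizer _))
        (le_normalizer_inf le_normalizer le_normalizer_of_normal))))
    exact Subtype.ext (h5.le (normal_le_normalCore.2 inf_le_left ⟨x.2, c1⟩)))
  have b6 := (hd.trans (Nat.card_congr e.toEquiv).dvd).trans (card_dvd_of_injective φ b5)
  rw [IsCyclic.card_mulAut, b4, Nat.totient_prime hp.out] at b6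
  have := Nat.le_of_dvd (Nat.sub_pos_of_lt hp.out.one_lt) b6
  have := hp.out.pos
  omega

theorem der_sum {r : ℕ} {q : Fin r → ℕ} (hq : ∀ i, (q i).Prime) (d : Fin r → ℕ) (G : Type u) [Group G] [Finite G] :
    ∀ l : Fin r → ℕ, Group.IsSolvable G → (∀ s : ℕ, s.Prime → s ∣ Nat.card G → ∃ i, q i = s) →
    (∀ i, ∀ P : Subgroup G, IsPGroup (q i) P → derivedSeries P (d i) = ⊥) → (∀ i, PLengthLE (q i) (l i) G) →
    derivedSeries G (∑ i, d i * l i) = ⊥ := by
  induction G, ‹Group G›, ‹Finite G› using card_induction' with | h G ih => ?_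
  intro l hs h1 h2 h3
  have hQ : ∀ (N : Subgroup G) [N.Normal] (l : Fin r → ℕ), N ≠ ⊥ → (∀ i, PLengthLE (q i) (l i) (G ⧸ N)) →
      derivedSeries G (∑ i, d i * l i) ≤ N := fun N _ l hN h => by
    have hf := QuotientGroup.mk'_surjective N
    refine (der_le_ker (QuotientGroup.mk' N) (ih _ (card_quotient_lt hN) l inferInstance
      (fun s a b => h1 s a (b.trans (card_quotient_dvd_card N))) (fun i => ?_) h)).trans (QuotientGroup.ker_mk' N).le
    haveI := Fact.mk (hq i)
    exact der_surj hf (h2 i)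
  have h4 : ∀ (N : Subgroup G) [N.Normal] i, PLengthLE (q i) (l i) (G ⧸ N) := fun N _ i =>
    haveI := Fact.mk (hq i); top_of_surj (QuotientGroup.mk'_surjective N) (h3 i)
  rcases subsingleton_or_nontrivial G with h | h
  · exact Subsingleton.elim _ _
  obtain ⟨N, -, a2, a3, a4⟩ := exists_minimal_normal_le (⊤ : Subgroup G) top_ne_bot
  obtain ⟨-, p, hp, a5⟩ := minimal_normal_elementary N inferInstance a3 a4
  haveI := Fact.mk hp
  have a6 : IsPGroup p N := fun x => ⟨1, Subtype.ext (by rw [pow_one]; exact a5 x x.2)⟩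
  have a7 : pCore p G ≠ ⊥ := fun e => a3 (eq_bot_iff.2 ((le_pCore a6).trans e.le))
  by_cases h5 : pPrimeCore p G = ⊥
  swap
  · exact eq_bot_iff.2 ((le_inf (hQ _ l a7 (h4 _)) (hQ _ l h5 (h4 _))).trans pCore_inf_pPrimeCore.le)
  have a8 := (dvd_card_of_isPGroup a6 a3).trans N.card_subgroup_dvd_card
  obtain ⟨i, rfl⟩ := h1 p hp a8
  obtain ⟨k, hk⟩ := Nat.exists_eq_succ_of_ne_zero (n := l i) fun e => pl_zero_iff.1 (e ▸ h3 i) a8
  have a9 := hQ _ (Function.update l i k) a7 fun j => by
    rcases eq_or_ne j i with rfl | e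
    · rw [Function.update_self]; exact pl_of_succ (pPrimePCore_eq h5).le (by have := h3 j; rwa [hk] at this)
    · rw [Function.update_of_ne e]; exact h4 _ j
  have b1 := der_add_le a9 (d i)
  rw [h2 i _ (isPGroup_pCore _ G), Subgroup.map_bot, le_bot_iff] at b1
  rw [← b1]; congr 1
  rw [← Finset.add_sum_erase _ _ (Finset.mem_univ i), ← Finset.add_sum_erase _ _ (Finset.mem_univ i),
    Function.update_self, hk, Finset.sum_congr rfl (g := fun j => d j * Function.update l i k j) fun j hj => by
      rw [Function.update_of_ne (Finset.ne_of_mem_erase hj)], Nat.mul_succ]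
  ring

theorem pl_prod (S : Finset ℕ) (l : ℕ → ℕ) (hS : ∀ q ∈ S, q.Prime ∧ q ≠ p) : ∀ {G : Type u} [Group G] [Finite G],
    (∀ s : ℕ, s.Prime → s ∣ Nat.card G → s ≠ p → s ∈ S) → (∀ q ∈ S, PLengthLE q (l q) G) →
    PLengthLE p (∏ q ∈ S, (1 + l q)) G := by
  induction S using Finset.induction_on with
  | empty =>
    intro G _ _ h _
    refine top_mono (a := 2) (by simp) (U_two_iff.2 ⟨⊥, inferInstance, by simpa using hp.out.ne_one, ?_⟩)
    exact ⟨_, index_bot.trans (Nat.eq_prime_pow_of_unique_prime_dvd Nat.card_pos.ne' fun a b =>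
      by_contra fun c => Finset.notMem_empty _ (h _ a b c))⟩
  | insert q S hq ih =>
    obtain ⟨q1, q2⟩ := hS q (Finset.mem_insert_self _ _)
    haveI := Fact.mk q1
    have hS' := fun s hs => hS s (Finset.mem_insert_of_mem hs)
    have ih' : ∀ {G : Type u} [Group G] [Finite G], ¬ q ∣ Nat.card G →
        (∀ s : ℕ, s.Prime → s ∣ Nat.card G → s ≠ p → s ∈ insert q S) → (∀ q ∈ S, PLengthLE q (l q) G) →
        PLengthLE p (∏ q ∈ S, (1 + l q)) G := fun h0 h1 h2 => ih hS'
      (fun s a b c => (Finset.mem_insert.1 (h1 s a b c)).resolve_left fun e => h0 (e ▸ b)) h2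
    suffices H : ∀ (k : ℕ) {G : Type u} [Group G] [Finite G],
        (∀ s : ℕ, s.Prime → s ∣ Nat.card G → s ≠ p → s ∈ insert q S) → (∀ q ∈ S, PLengthLE q (l q) G) →
        PLengthLE q k G → PLengthLE p ((1 + k) * ∏ q ∈ S, (1 + l q)) G by
      intro G _ _ h1 h2
      rw [Finset.prod_insert hq]
      exact H _ h1 (fun s hs => h2 s (Finset.mem_insert_of_mem hs)) (h2 q (Finset.mem_insert_self _ _))
    intro k
    induction k with
    | zero => intro G _ _ h1 h2 h3; rw [add_zero, one_mul]; exact ih' (pl_zero_iff.1 h3) h1 h2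
    | succ k ih2 =>
      intro G _ _ h1 h2 h3
      have a1 := ih' (G := pPrimeCore q G) not_dvd_card_pPrimeCore
        (fun s a b => h1 s a (b.trans (card_subgroup_dvd_card _))) fun s hs =>
          haveI := Fact.mk (hS' s hs).1; top_of_inj (subtype_injective _) (h2 s hs)
      have a2 := ih2 (G := G ⧸ pPrimePCore q G) (fun s a b => h1 s a (b.trans (card_quotient_dvd_card _)))
        (fun s hs => haveI := Fact.mk (hS' s hs).1; top_of_surj (QuotientGroup.mk'_surjective _) (h2 s hs))
        (pl_of_succ le_rfl h3)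
      have := top_of_odd (QuotientGroup.mk' _) (a := ∏ q ∈ S, (1 + l q)) (by
        rw [QuotientGroup.ker_mk', ← U_two]
        refine le_U_succ' fun x hx => ?_
        obtain ⟨m, b1, b2⟩ := U_step (n := 1) hx
        obtain ⟨j, rfl⟩ := (good_odd (by decide)).1 b1
        exact ⟨_, (good_even (by simp)).2 (((Nat.coprime_primes q1 hp.out).2 q2).pow_left j),
          le_U_of_top a1 (U_one (p := q) (G := G) ▸ b2)⟩) a2
      unfold PLengthLE
      rw [← this]; congr 2; ring

end Cfsg.Agent.PL
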