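import Cfsg.Agent.Lib.BG.MinNA

/-! Subgroups with a normal Sylow subgroup and cyclic quotient. -/

namespace Cfsg.Agent.Pbc

open Cfsg.Agent.Comp Cfsg.Agent.BG Subgroup commutatorElement

universe u

variable {G : Type u} [Group G] [Finite G] {p : ℕ}

omit [Finite G] in
theorem der_le {X : Subgroup G} {y : G} (h2 : y ∈ Nm(X)) : ⁅X ⊔ zpowers y, X ⊔ zpowers y⁆ ≤ X := by
  rw [Subgroup.commutator_le]
  intro a ha b hb
  rw [Comp.mem_sup_of_le_normalizer' (zpowers_le.2 h2)] at ha hb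
  obtain ⟨u, hu, _, ⟨i, rfl⟩, rfl⟩ := ha
  obtain ⟨v, hv, _, ⟨j, rfl⟩, rfl⟩ := hb
  have e1 : ⁅u * y ^ i, v * y ^ j⁆ = u * (y ^ i * v * (y ^ i)⁻¹) * (y ^ j * u⁻¹ * (y ^ j)⁻¹) * v⁻¹ := by
    rw [commutatorElement_def]; group
  show ⁅u * y ^ i, v * y ^ j⁆ ∈ X
  rw [e1]
  exact mul_mem (mul_mem (mul_mem hu (Comp.conj_mem_of_mem_normalizer (zpow_mem h2 _) hv))
    (Comp.conj_mem_of_mem_normalizer (zpow_mem h2 _) (inv_mem hu))) (inv_mem hv)

theorem pbc_of [Fact p.Prime] {T H : Subgroup G} {x : G} (hT : IsPGroup p T) (hx : x ∈ Nm(T))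
    (hH : T ⊔ zpowers x = H) : (∀ S : Sylow p ↥H, (S : Subgroup ↥H).Normal) ∧
      (∀ (S : Sylow p ↥H) [(S : Subgroup ↥H).Normal], IsCyclic (↥H ⧸ (S : Subgroup ↥H))) := by
  have hn : H ≤ Nm(T) := hH ▸ sup_le le_normalizer (zpowers_le.2 hx)
  have hTS : ∀ S : Sylow p H, T ≤ (S : Subgroup H).map H.subtype := fun S =>
    (sylIn_sylow S).le_of_normalizer' hT (hH ▸ le_sup_left) ((map_subtype_le _).trans hn)
  have mem : ∀ (S : Sylow p H) (y : H), (y : G) ∈ T → y ∈ (S : Subgroup H) := by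
    intro S y hy
    obtain ⟨z, hz, e⟩ := hTS S hy
    rwa [← show z = y from Subtype.ext e]
  constructor
  · intro S
    refine Subgroup.Normal.of_commutator_le H ?_
    rw [_root_.commutator_def, Subgroup.commutator_le]
    intro a _ b _
    exact mem S _ (der_le hx (commutator_mem_commutator (hH ▸ a.2) (hH ▸ b.2)))
  · intro S _
    have hxH : x ∈ H := hH ▸ mem_sup_right (mem_zpowers x)
    refine ⟨⟨QuotientGroup.mk ⟨x, hxH⟩, fun q => ?_⟩⟩
    obtain ⟨y, rfl⟩ := QuotientGroup.mk_surjective q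
    have hy : (y : G) ∈ zpowers x ⊔ T := by rw [sup_comm, hH]; exact y.2
    rw [Comp.mem_sup_of_le_normalizer (zpowers_le.2 hx)] at hy
    obtain ⟨_, ⟨k, rfl⟩, t, ht, e⟩ := hy
    refine ⟨k, ?_⟩
    show (QuotientGroup.mk ⟨x, hxH⟩ : H ⧸ (S : Subgroup H)) ^ k = _
    rw [← QuotientGroup.mk_zpow, QuotientGroup.eq]
    apply mem
    have : (((⟨x, hxH⟩ : H) ^ k)⁻¹ * y : H) = t := by
      simp [← e]
    rw [this]; exact ht

theorem of_pbc [Fact p.Prime] {H : Subgroup G} (h1 : ∀ S : Sylow p ↥H, (S : Subgroup ↥H).Normal)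
    (h2 : ∀ (S : Sylow p ↥H) [(S : Subgroup ↥H).Normal], IsCyclic (↥H ⧸ (S : Subgroup ↥H))) :
    ∃ (T : Subgroup G) (x : G), IsPGroup p T ∧ x ∈ Nm(T) ∧ (orderOf x).Coprime p ∧ T ⊔ zpowers x = H := by
  obtain ⟨S⟩ : Nonempty (Sylow p H) := inferInstance
  haveI := h1 S
  obtain ⟨q, hq⟩ := (h2 S).exists_generator
  obtain ⟨y, rfl⟩ := QuotientGroup.mk_surjective q
  obtain ⟨a, ha, b, hb, e, ⟨k, hk⟩, hc⟩ := Transfer.exists_pPart p y
  have hS := sylIn_sylow S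
  have hn : H ≤ Nm((S : Subgroup H).map H.subtype) := by
    have := map_le_normalizer_map H.subtype (A := ⊤) (B := S) le_normalizer_of_normal
    rwa [← MonoidHom.range_eq_map, range_subtype] at this
  have haS : (a : G) ∈ (S : Subgroup H).map H.subtype :=
    hS.le_of_normalizer (Comp.isPGroup_zpowers (x := (a : G)) (n := k) (congrArg Subtype.val hk)) (zpowers_le.2 a.2)
      ((zpowers_le.2 a.2).trans hn) (mem_zpowers _)
  refine ⟨_, b, hS.isP, hn b.2, by rwa [Subgroup.orderOf_coe], le_antisymm (sup_le hS.le (zpowers_le.2 b.2)) ?_⟩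
  intro h hh
  obtain ⟨j, hj⟩ := hq (QuotientGroup.mk ⟨h, hh⟩)
  have h3 : (y ^ j)⁻¹ * ⟨h, hh⟩ ∈ (S : Subgroup H) := QuotientGroup.eq.1 (by rw [QuotientGroup.mk_zpow]; exact hj)
  have h4 : (y : G) ∈ (S : Subgroup H).map H.subtype ⊔ zpowers (b : G) := by
    rw [e]; exact mul_mem (mem_sup_left haS) (mem_sup_right (mem_zpowers _))
  have := mul_mem (zpow_mem h4 j) (mem_sup_left (mem_map_of_mem H.subtype h3))
  simpa using this

theorem cyc_of_comm [Fact p.Prime] {T : Subgroup G} {x : G} (hT : IsPGroup p T) (hc : IsCyclic T)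
    (hx : x ∈ Ct(T)) (ho : (orderOf x).Coprime p) : IsCyclic (T ⊔ zpowers x : Subgroup G) := by
  obtain ⟨a, rfl⟩ := (Subgroup.isCyclic_iff_exists_zpowers_eq_top T).1 hc
  have cm : Commute a x := hx a (mem_zpowers a)
  have hcop : (orderOf a).Coprime (orderOf x) := by
    rw [← Nat.card_zpowers]; exact Comp.coprime_card_of_isPGroup hT ho
  have : zpowers a ⊔ zpowers x = zpowers (a * x) := by
    refine le_antisymm (sup_le (zpowers_le.2 ?_) (zpowers_le.2 ?_))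
      (zpowers_le.2 (mul_mem (mem_sup_left (mem_zpowers _)) (mem_sup_right (mem_zpowers _))))
    · have h1 : a ∈ zpowers (a ^ orderOf x) := mem_zpowers_pow_iff.2 hcop.symm
      refine zpowers_le.2 ?_ h1
      have : a ^ orderOf x = (a * x) ^ orderOf x := by rw [cm.mul_pow, pow_orderOf_eq_one, mul_one]
      rw [this]; exact pow_mem (mem_zpowers _) _
    · have h1 : x ∈ zpowers (x ^ orderOf a) := mem_zpowers_pow_iff.2 hcop
      refine zpowers_le.2 ?_ h1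
      have : x ^ orderOf a = (a * x) ^ orderOf a := by rw [cm.mul_pow, pow_orderOf_eq_one, one_mul]
      rw [this]; exact pow_mem (mem_zpowers _) _
  rw [this]; infer_instance

theorem dih {H : Subgroup G} {m : ℕ} [NeZero m] (e : H ≃* DihedralGroup m) : ∃ a, orderOf a = m ∧ a ∈ H ∧
    Nat.card H = 2 * m ∧ ∀ y ∈ H, y ∉ zpowers a → y ^ 2 = 1 ∧ ∀ c ∈ zpowers a, y * c * y⁻¹ = c⁻¹ := by
  obtain ⟨a, s, h1, h2, h3, h4, h5⟩ := Transfer.exists_gens_of_dihedral e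
  refine ⟨a, h1, h5 ▸ subset_closure (by simp), by rw [Nat.card_congr e.toEquiv, DihedralGroup.nat_card], ?_⟩
  intro y hy hn
  rw [h5, Transfer.mem_closure_pair_iff (Transfer.mem_normalizer_zpowers_of_inv h2) (h3 ▸ one_mem _)] at hy
  have inv : ∀ j : ℤ, s * a ^ j * s⁻¹ = (a ^ j)⁻¹ := by
    intro j
    rw [← conj_zpow, h2, inv_zpow]
  obtain ⟨i, rfl | rfl⟩ := hy
  · exact absurd (zpow_mem (mem_zpowers a) i) hn
  constructor
  · calc (a ^ i * s) ^ 2 = a ^ i * (s * a ^ i * s⁻¹) * s ^ 2 := by rw [sq, sq]; group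
      _ = 1 := by rw [inv, h3]; group
  · rintro _ ⟨j, rfl⟩
    calc a ^ i * s * a ^ j * (a ^ i * s)⁻¹ = a ^ i * (s * a ^ j * s⁻¹) * (a ^ i)⁻¹ := by group
      _ = _ := by rw [inv]; group

end Cfsg.Agent.Pbc
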