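import Cfsg.Agent.Lib.Comp.Basic

set_option autoImplicit false
open Cfsg Subgroup commutatorElement

/-! The Hall-Petrescu collection formula. -/

namespace Cfsg.Agent.Petr

variable {G : Type*} [Group G]

theorem lcs_le (K : Subgroup G) (n : ℕ) : K.lowerCentralSeries n ≤ K :=
  K.lowerCentralSeries_antitone (Nat.zero_le n)

theorem lcs_comm (K : Subgroup G) (j : ℕ) : ∀ i, ⁅K.lowerCentralSeries i, K.lowerCentralSeries j⁆ ≤
    K.lowerCentralSeries (i + j + 1) := by
  induction j with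
  | zero => intro i; exact le_rfl
  | succ j ih =>
    intro i
    have hn := K.self_le_normalizer_lowerCentralSeries (i + (j + 1) + 1)
    rw [Subgroup.commutator_comm]
    refine Comp.three_subgroups_le (A := K) (B := K.lowerCentralSeries i) (C := K.lowerCentralSeries j) hn
      ((lcs_le K _).trans hn) ((lcs_le K _).trans hn) ?_ ?_
    · rw [Subgroup.commutator_comm K]
      exact (ih (i + 1)).trans (le_of_eq (by congr 1; omega))
    · exact commutator_mono (ih i) le_rfl

/-- `γ_s`, indexed from one -/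
def gam (K : Subgroup G) (s : ℕ) : Subgroup G := K.lowerCentralSeries (s - 1)

theorem gam_anti (K : Subgroup G) {s t : ℕ} (h : s ≤ t) : gam K t ≤ gam K s :=
  K.lowerCentralSeries_antitone (by omega)

theorem gam_comm (K : Subgroup G) {s t : ℕ} (hs : 1 ≤ s) (ht : 1 ≤ t) :
    ⁅gam K s, gam K t⁆ ≤ gam K (s + t) :=
  (lcs_comm K _ _).trans (le_of_eq (by unfold gam; congr 1; omega))

variable {ι : Type*} [DecidableEq ι]

/-- face elements -/
def ee (S : Finset ι) : G →* (Finset ι → G) :=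
  MonoidHom.mk' (fun g T => if S ⊆ T then g else 1) (fun a b => by
    ext T; simp only [Pi.mul_apply]; split_ifs <;> simp)

theorem ee_apply (S T : Finset ι) (g : G) : ee S g T = if S ⊆ T then g else 1 := rfl

theorem ee_comm (S S' : Finset ι) (g h : G) : ⁅ee S g, ee S' h⁆ = ee (S ∪ S') ⁅g, h⁆ := by
  ext T
  simp only [commutatorElement_def, Pi.mul_apply, Pi.inv_apply, ee_apply, Finset.union_subset_iff]
  by_cases h1 : S ⊆ T <;> by_cases h2 : S' ⊆ T <;> simp [h1, h2]

/-- cube groups -/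
def HH (K : Subgroup G) (k : ℕ) (𝒮 : Finset (Finset ι)) : Subgroup (Finset ι → G) :=
  closure {x | ∃ S g, (k < S.card ∨ S ∈ 𝒮) ∧ g ∈ gam K S.card ∧ x = ee S g}

theorem HH_vanish {K : Subgroup G} {k : ℕ} {𝒮 : Finset (Finset ι)} (h𝒮 : ∀ S ∈ 𝒮, S.card = k)
    {T : Finset ι} (hT : T.card ≤ k) (hT' : T ∉ 𝒮) {φ : Finset ι → G} (h : φ ∈ HH K k 𝒮) : φ T = 1 := by
  have : HH K k 𝒮 ≤ (Pi.evalMonoidHom (fun _ => G) T).ker := by
    rw [HH, closure_le]
    rintro _ ⟨S, g, h1, -, rfl⟩
    show ee S g T = 1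
    rw [ee_apply, if_neg]
    intro h2
    have := Finset.card_le_card h2
    rcases h1 with h1 | h1
    · omega
    · exact hT' (Finset.eq_of_subset_of_card_le h2 (by rw [h𝒮 S h1]; exact hT) ▸ h1)
  exact this h

theorem HH_val {K : Subgroup G} {k : ℕ} (T : Finset ι) {φ : Finset ι → G} (h : φ ∈ HH K k ∅) :
    φ T ∈ gam K (k + 1) := by
  have : HH K k ∅ ≤ (gam K (k + 1)).comap (Pi.evalMonoidHom (fun _ => G) T) := by
    rw [HH, closure_le]
    rintro _ ⟨S, g, h1, h2, rfl⟩
    show ee S g T ∈ gam K (k + 1)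
    rw [ee_apply]
    split_ifs
    · exact gam_anti K (by simpa using h1) h2
    · exact one_mem _
  exact this h

theorem HH_step {K : Subgroup G} {k : ℕ} (hk : 1 ≤ k) (𝒮 : Finset (Finset ι)) :
    (∀ S ∈ 𝒮, S.card = k) → ∀ φ ∈ HH K k 𝒮, (∀ T ∈ 𝒮, φ T = 1) → φ ∈ HH K k ∅ := by
  induction 𝒮 using Finset.induction_on with
  | empty => intro _ φ h _; exact h
  | insert S 𝒮 hS ih =>
    intro h𝒮 φ hφ h1
    have hk' := h𝒮 S (Finset.mem_insert_self _ _)
    have h𝒮' : ∀ S ∈ 𝒮, S.card = k := fun T hT => h𝒮 T (Finset.mem_insert_of_mem hT)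
    have hn : (gam K k).map (ee S) ≤ normalizer (HH K k 𝒮 : Set (Finset ι → G)) := by
      rw [HH, le_normalizer_closure_iff]
      rintro _ ⟨a, ha, rfl⟩ _ ⟨T, g, h3, h4, rfl⟩
      have e : ee S a * ee T g * (ee S a)⁻¹ = ee (S ∪ T) ⁅a, g⁆ * ee T g := by
        rw [← ee_comm, commutatorElement_def]; group
      rw [e]
      refine mul_mem (subset_closure ⟨S ∪ T, _, Or.inl ?_, ?_, rfl⟩) (subset_closure ⟨T, g, h3, h4, rfl⟩)
      · rcases h3 with h3 | h3
        · exact h3.trans_le (Finset.card_le_card Finset.subset_union_right)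
        · rw [← h𝒮' T h3]
          refine Finset.card_lt_card ⟨Finset.subset_union_right, fun h5 => hS ?_⟩
          rwa [Finset.eq_of_subset_of_card_le (Finset.subset_union_left.trans h5) (by rw [hk', h𝒮' T h3])]
      · have h5 : 1 ≤ T.card := by
          rcases h3 with h3 | h3
          · omega
          · rw [h𝒮' T h3]; exact hk
        exact gam_anti K (hk' ▸ Finset.card_union_le S T) (gam_comm K hk h5 (commutator_mem_commutator ha h4))
    have h2 : HH K k (insert S 𝒮) ≤ HH K k 𝒮 ⊔ (gam K k).map (ee S) := by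
      conv_lhs => rw [HH]
      rw [closure_le]
      rintro _ ⟨T, g, h3, h4, rfl⟩
      by_cases h5 : T = S
      · subst h5; exact mem_sup_right ⟨g, hk' ▸ h4, rfl⟩
      · exact mem_sup_left (subset_closure ⟨T, g, by simpa [h5] using h3, h4, rfl⟩)
    obtain ⟨κ, hκ, _, ⟨g, -, rfl⟩, rfl⟩ := (Comp.mem_sup_of_le_normalizer' hn).1 (h2 hφ)
    have h3 := h1 S (Finset.mem_insert_self _ _)
    rw [Pi.mul_apply, HH_vanish h𝒮' hk'.le hS hκ, one_mul, ee_apply, if_pos subset_rfl] at h3
    subst h3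
    rw [map_one, mul_one] at h1 ⊢
    exact ih h𝒮' κ hκ fun T hT => h1 T (Finset.mem_insert_of_mem hT)

theorem pow_filter_mem {H : Subgroup (Finset ι → G)} (c : G) (𝒮 : Finset (Finset ι)) :
    (∀ S ∈ 𝒮, ee S c ∈ H) → (fun T => c ^ (𝒮.filter (· ⊆ T)).card) ∈ H := by
  induction 𝒮 using Finset.induction_on with
  | empty => intro _; simp only [Finset.filter_empty, Finset.card_empty, pow_zero]; exact one_mem H
  | insert S 𝒮 hS ih =>
    intro h
    have := mul_mem (h S (Finset.mem_insert_self _ _)) (ih fun T hT => h T (Finset.mem_insert_of_mem hT))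
    convert this using 1
    ext T
    rw [Pi.mul_apply, ee_apply, Finset.filter_insert]
    split_ifs
    · rw [Finset.card_insert_of_notMem (fun h => hS (Finset.mem_filter.1 h).1), pow_succ']
    · rw [one_mul]

variable [Fintype ι]

theorem HH_le {K : Subgroup G} {k : ℕ} :
    HH K k (∅ : Finset (Finset ι)) ≤ HH K (k + 1) (Finset.powersetCard (k + 1) Finset.univ) := by
  refine closure_mono ?_
  rintro _ ⟨S, g, h1, h2, rfl⟩
  refine ⟨S, g, ?_, h2, rfl⟩
  simp only [Finset.notMem_empty, or_false, Finset.mem_powersetCard, Finset.subset_univ, true_and] at h1 ⊢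
  omega

theorem choose_mem {K : Subgroup G} {k : ℕ} {c : G} (hc : c ∈ gam K (k + 1)) :
    (fun T : Finset ι => c ^ T.card.choose (k + 1)) ∈ HH K k ∅ := by
  have := pow_filter_mem (H := HH K k (∅ : Finset (Finset ι))) c (Finset.powersetCard (k + 1) Finset.univ)
    (fun S hS => by
      have h1 := (Finset.mem_powersetCard.1 hS).2
      exact subset_closure ⟨S, c, Or.inl (by omega), h1 ▸ hc, rfl⟩)
  convert this using 3 with T
  rw [← Finset.card_powersetCard]
  congr 1
  ext S
  simp [Finset.mem_powersetCard, and_comm]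

/-- Hall-Petrescu -/
theorem petrescu {K N : Subgroup G} {x y : G} (hx : x ∈ K) (hy : y ∈ K) (m : ℕ)
    (hN : ∀ k, 1 ≤ k → k < m → ∀ c ∈ K.lowerCentralSeries k, c ^ m.choose (k + 1) ∈ N) :
    (x ^ m * y ^ m)⁻¹ * (x * y) ^ m ∈ N := by
  have key : ∀ k, k + 1 ≤ m → ∃ f : ℕ → G, (fun T : Finset (Fin m) => f T.card) ∈ HH K (k + 1) ∅ ∧
      (f m ∈ N → (x ^ m * y ^ m)⁻¹ * (x * y) ^ m ∈ N) := by
    intro k
    induction k with
    | zero =>
      intro _
      refine ⟨fun n => (x ^ n * y ^ n)⁻¹ * (x * y) ^ n, ?_, id⟩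
      have h1 : ∀ z ∈ K, (fun T : Finset (Fin m) => z ^ T.card) ∈ HH K 0 ∅ := fun z hz => by
        simpa using choose_mem (ι := Fin m) (k := 0) (K := K) hz
      refine HH_step le_rfl _ (fun S hS => (Finset.mem_powersetCard.1 hS).2) _
        (HH_le (mul_mem (inv_mem (mul_mem (h1 x hx) (h1 y hy))) (h1 _ (mul_mem hx hy)))) fun T hT => ?_
      simp [(Finset.mem_powersetCard.1 hT).2]
    | succ k ih =>
      intro hk
      obtain ⟨f, h1, h2⟩ := ih (by omega)
      obtain ⟨T, -, hT⟩ := Finset.exists_subset_card_eq (s := (Finset.univ : Finset (Fin m))) (n := k + 2)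
        (by rw [Finset.card_univ, Fintype.card_fin]; exact hk)
      have hc : f (k + 2) ∈ gam K (k + 2) := hT ▸ HH_val T h1
      refine ⟨fun n => (f (k + 2) ^ n.choose (k + 2))⁻¹ * f n, ?_, fun h => h2 ?_⟩
      · refine HH_step (by omega) _ (fun S hS => (Finset.mem_powersetCard.1 hS).2) _
          (HH_le (mul_mem (inv_mem (choose_mem hc)) h1)) fun T hT => ?_
        simp [(Finset.mem_powersetCard.1 hT).2]
      · simpa using mul_mem (hN (k + 1) (by omega) (by omega) _ hc) h
  rcases m with _ | m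
  · simpa using one_mem N
  obtain ⟨f, h1, h2⟩ := key m le_rfl
  apply h2
  have := HH_vanish (by simp) (T := Finset.univ) (by simp) (by simp) h1
  simp only [Finset.card_univ, Fintype.card_fin] at this
  rw [this]; exact one_mem _

end Cfsg.Agent.Petr
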