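/-
Primitive modules for `2`-groups over prime fields have dimension at most two; automorphisms
of odd order preserving the orbits of a `2`-group.
-/
import Cfsg.Agent.Lib.BG.Pgp
import Cfsg.Agent.Lib.Solv.Mod

set_option autoImplicit false
set_option linter.unusedSectionVars false

namespace Cfsg.Agent.BG

open Subgroup Comp
open scoped commutatorElement Pointwise

universe u

section
variable {q : ℕ} [hq : Fact q.Prime] {V : Type*} [AddCommGroup V] [Module (ZMod q) V] [Nontrivial V]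

/-- no proper invariant submodule -/
def IrrSet (s : Set (Module.End (ZMod q) V)) : Prop :=
  ∀ W : Submodule (ZMod q) V, (∀ g ∈ s, ∀ w ∈ W, g w ∈ W) → W = ⊥ ∨ W = ⊤

variable {s : Set (Module.End (ZMod q) V)} {f c : Module.End (ZMod q) V}

theorem IrrSet.schur (h : IrrSet s) (hf : ∀ g ∈ s, Commute g f) {v : V} (hv : v ≠ 0) (e : f v = 0) : f = 0 :=
  LinearMap.ker_eq_top.1 ((h _ fun g hg w hw => by
    rw [LinearMap.mem_ker, ← Module.End.mul_apply, ← (hf g hg).eq, Module.End.mul_apply, LinearMap.mem_ker.1 hw, map_zero]).resolve_left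
    fun e' => hv ((Submodule.eq_bot_iff _).1 e' v e))

theorem IrrSet.scalar (h : IrrSet s) (hf : ∀ g ∈ s, Commute g f) (e : f ^ q = f) : ∃ a : ZMod q, f = a • 1 := by
  obtain ⟨a, v, hv, e⟩ := Solv.exists_eigenvector_of_pow_eq f e
  exact ⟨a, sub_eq_zero.1 (h.schur (fun g hg => (hf g hg).sub_right ((Commute.one_right g).smul_right a)) hv (by simp [e]))⟩

theorem IrrSet.trace (h : IrrSet {c}) (hf : Commute c f) (e : f ^ q ^ 2 = f) : ∃ a : ZMod q, f + f ^ q = a • 1 := by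
  have := charP_of_injective_algebraMap (algebraMap (ZMod q) (Module.End (ZMod q) V)).injective q
  refine h.scalar (fun g hg => hg ▸ hf.add_right (hf.pow_right q)) ?_
  rw [add_pow_char_of_commute _ ((Commute.refl f).pow_right q), ← pow_mul, ← sq, e, add_comm]

theorem IrrSet.card_le (h : IrrSet {c}) (e : c ^ q ^ 2 = c) : Nat.card V ≤ q ^ 2 := by
  obtain ⟨a, ha⟩ := h.trace (Commute.refl c) e
  obtain ⟨b, hb⟩ := h.scalar (f := c ^ (q + 1)) (fun g hg => hg ▸ (Commute.refl c).pow_right _)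
    (by rw [← pow_mul, add_mul, pow_add, ← sq, e, one_mul, pow_succ'])
  obtain ⟨v, hv⟩ := exists_ne (0 : V)
  have k : c (c v) = a • c v - b • v := by
    have : c * c = (c + c ^ q) * c - c ^ (q + 1) := by rw [add_mul, pow_succ, add_sub_cancel_right]
    rw [← Module.End.mul_apply, this, ha, hb]; simp
  have := (h (Submodule.span _ {v, c v}) fun g hg w hw => by
    obtain ⟨x, y, rfl⟩ := Submodule.mem_span_pair.1 hw
    rw [hg, map_add, map_smul, map_smul, k]
    exact Submodule.mem_span_pair.2 ⟨-(y * b), x + y * a, by module⟩).resolve_left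
    fun e => hv ((Submodule.eq_bot_iff _).1 e v (Submodule.subset_span (by simp)))
  refine (Nat.card_le_card_of_surjective (fun x : ZMod q × ZMod q => x.1 • v + x.2 • c v) fun w => ?_).trans_eq
    (by rw [Nat.card_prod, Nat.card_zmod, sq])
  obtain ⟨x, y, e⟩ := Submodule.mem_span_pair.1 (this ▸ Submodule.mem_top : w ∈ _)
  exact ⟨(x, y), e⟩

open Polynomial in
theorem IrrSet.frob (h : IrrSet {c}) (hf : Commute c f) (j : ℕ) (e : c ^ q ^ j = c) : f ^ q ^ j = f := by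
  obtain ⟨v, hv⟩ := exists_ne (0 : V)
  have := (h (LinearMap.range (LinearMap.applyₗ v ∘ₗ (aeval c).toLinearMap)) fun g hg w hw => by
    obtain ⟨x, rfl⟩ := hw
    exact ⟨X * x, by simp [show g = c from hg]⟩).resolve_left fun e => hv ((Submodule.eq_bot_iff _).1 e v ⟨1, by simp⟩)
  obtain ⟨x, hx⟩ := (this ▸ Submodule.mem_top : f v ∈ _)
  have k : f = aeval c x := sub_eq_zero.1 (h.schur (fun g hg => by
    have := (Commute.all X x).map (aeval c)
    rw [aeval_X] at this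
    rw [hg]; exact hf.sub_right this) hv (by rw [LinearMap.sub_apply, ← hx]; simp))
  have l : ∀ (j : ℕ) (d : Module.End (ZMod q) V), aeval d x ^ q ^ j = aeval (d ^ q ^ j) x := fun j => by
    induction j with
    | zero => simp
    | succ j ih => intro d; rw [pow_succ, pow_mul, pow_mul, ih, ← map_pow, ← ZMod.expand_card, expand_aeval]
  rw [k, l, e]

theorem prim_two (h2 : q ≠ 2) {P : Type*} [Group P] [Finite P] (hP : IsPGroup 2 P) (ρ : P →* Module.End (ZMod q) V)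
    (hρ : Function.Injective ρ) (irr : ∀ K : Subgroup P, K.index ∣ 2 → IrrSet (ρ '' K)) : Nat.card V ≤ q ^ 2 := by
  have i1 : ∀ a : P, (zpowers a).index ∣ 2 → IrrSet {ρ a} := fun a ha W hW => irr _ ha W (by
    rintro _ ⟨g, hg, rfl⟩
    obtain ⟨n, rfl⟩ := (mem_powers_iff_mem_zpowers.2 hg)
    intro w hw
    induction n with
    | zero => simpa using hw
    | succ n ih => simp only [pow_succ', map_mul]; exact hW _ rfl _ (ih (pow_mem (mem_zpowers a) n)))
  have od : ∀ (x : P) (n : ℕ), x ^ (2 * n + 1) = 1 → x = 1 := fun x n e => orderOf_eq_one_iff.1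
    ((hP.orderOf_coprime (by simp) x).eq_one_of_dvd (orderOf_dvd_of_pow_eq_one e))
  obtain ⟨m, hm⟩ := hq.out.odd_of_ne_two h2
  by_cases hc : IsCyclic P
  · obtain ⟨a, ha⟩ := isCyclic_iff_exists_zpowers_eq_top.1 hc
    have a1 := i1 a (by simp [ha])
    have a2 := i1 (a ^ 2) (by
      have := card_mul_index (zpowers (a ^ 2))
      rw [Nat.card_zpowers, orderOf_pow, ← card_top, ← ha, Nat.card_zpowers] at this
      rw [Nat.eq_of_mul_eq_mul_left (Nat.div_pos (Nat.gcd_le_left _ (orderOf_pos a)) (Nat.gcd_pos_of_pos_right _ two_pos))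
        (this.trans (Nat.div_mul_cancel (Nat.gcd_dvd_left _ 2)).symm)]
      exact Nat.gcd_dvd_right _ _)
    have k : ∀ i, ∃ r, q ^ (2 * 2 ^ i) = 2 ^ i * 4 * r + 1 := fun i => by
      induction i with
      | zero => exact ⟨m * m + m, by rw [hm]; ring⟩
      | succ i ih =>
        obtain ⟨r, hr⟩ := ih
        exact ⟨2 ^ i * 2 * r * r + r, by rw [pow_succ, ← mul_assoc, pow_mul _ _ 2, hr]; ring⟩
    have l : ∀ i, a ^ q ^ (2 * 2 ^ i) = a → a ^ q ^ 2 = a := fun i => by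
      induction i with
      | zero => simp
      | succ i ih =>
        intro e
        obtain ⟨r, hr⟩ := k i
        refine ih (hρ ?_)
        rw [map_pow]
        refine a2.frob (((Commute.refl a).pow_left 2).map ρ) _ ?_
        rw [pow_succ, ← mul_assoc, pow_mul _ _ 2, hr, show (2 ^ i * 4 * r + 1) ^ 2 = 2 * (2 ^ i * 4 * r) * (2 * (2 ^ i * r) + 1) + 1 by ring,
          pow_succ, mul_eq_right, pow_mul] at e
        rw [← map_pow, hr, pow_succ, ← pow_mul, od _ _ e, one_mul]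
    obtain ⟨n, hn⟩ := hP a
    obtain ⟨r, hr⟩ := k n
    exact a1.card_le (by rw [← map_pow, l n (by rw [hr, pow_succ, mul_assoc, pow_mul, hn, one_pow, one_mul])])
  obtain ⟨a, b, n, h1, h3, h4, h5, h6⟩ := Solv.two_group_normal_form (hP.to_subgroup ⊤) (fun A _ hA hA' => by
    by_contra e
    obtain ⟨E, -, e1, e2, e3, e4⟩ := Solv.exists_normal_elementary_sq_of_abelian (L := ⊤) (hP.to_subgroup ⊤).isNilpotent hA'
      (hP.to_subgroup A) le_top hA e
    have k := relIndex_Ct_le (hP.to_subgroup ⊤) (hP.to_subgroup E) e4 e1.le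
    rw [relIndex_top_right] at k
    have k' : Ct(E).index ∣ 2 := by have := index_ne_zero_of_finite (H := Ct(E)); interval_cases Ct(E).index <;> simp_all
    have l : ∀ x ∈ E, x ≠ 1 → ρ x = -1 := fun x hx h => by
      by_contra f
      obtain ⟨v, hv⟩ := DFunLike.ne_iff.1 (mt add_eq_zero_iff_eq_neg.1 f)
      refine h (hρ (by
        rw [map_one]
        refine sub_eq_zero.1 ((irr _ k').schur (by
          rintro _ ⟨g, hg, rfl⟩
          exact (Commute.map (show Commute g x from (hg x hx).symm) ρ).sub_right (Commute.one_right _)) hv ?_)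
        rw [← Module.End.mul_apply, (Commute.one_right _).mul_self_sub_mul_self_eq'.symm, ← map_mul, ← sq, e3 x hx]; simp))
    refine Solv.not_isCyclic_of_card_sq Nat.prime_two e1 e3 ?_
    by_cases h : E = ⊥
    · exact h ▸ Solv.isCyclic_bot'
    obtain ⟨x, hx, h⟩ := Solv.exists_ne_one_of_ne_bot h
    refine Subgroup.isCyclic_of_le (H' := zpowers x) fun y hy => ?_
    by_cases h' : y = 1
    · exact h' ▸ one_mem _
    · exact hρ ((l y hy h').trans (l x hx h).symm) ▸ mem_zpowers y) (mt Solv.isCyclic_top_iff.1 hc)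
  have a1 := i1 a (by
    have := card_mul_index (zpowers a)
    rw [Nat.card_zpowers, h1, ← card_top, h5, pow_succ 2 (n + 1)] at this
    rw [Nat.eq_of_mul_eq_mul_left (by positivity) this])
  have b1 : b * a ^ 2 * b⁻¹ = (a ^ 2)⁻¹ := by
    rw [← conj_pow]
    rcases h6 with h | h | h
    · rw [h.2.2, inv_pow]
    · rw [h.2.2, inv_pow]
    · rw [h.2.2, eq_inv_iff_mul_eq_one, ← ((Commute.refl a).pow_left _).mul_pow, ← pow_succ, Nat.sub_add_cancel Nat.one_le_two_pow, ← pow_mul, ← pow_succ, ← h1,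
        pow_orderOf_eq_one]
  have sc : ∀ {f : Module.End (ZMod q) V} {t : ZMod q}, f = t • 1 → ρ b * f * ρ b⁻¹ = f := fun e => by
    rw [e, mul_smul_comm, smul_mul_assoc, mul_one, ← map_mul, mul_inv_cancel, map_one]
  have k : ∀ i : ℕ, ((a ^ 2) ^ i) ^ (2 * (m * m + m) * 2) = 1 → ((a ^ 2) ^ i) ^ (2 * (m * m + m)) = 1 := fun i e => by
    have c1 : Commute (ρ a) (ρ ((a ^ 2) ^ i)) := (((Commute.refl a).pow_right 2).pow_right i).map ρ
    have c2 : b * (a ^ 2) ^ i * b⁻¹ = ((a ^ 2) ^ i)⁻¹ := by rw [← conj_pow, b1, inv_pow]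
    generalize (a ^ 2) ^ i = x at *
    obtain ⟨t, ht⟩ := a1.trace c1 (by rw [← map_pow, show q ^ 2 = 2 * (m * m + m) * 2 + 1 by rw [hm]; ring, pow_succ, e, one_mul])
    obtain ⟨r, hr⟩ : Even (m * m + m) := by rw [← mul_add_one]; exact Nat.even_mul_succ_self m
    by_cases h : t = 0
    · rw [h, zero_smul, add_eq_zero_iff_neg_eq] at ht
      obtain ⟨t, ht⟩ := a1.scalar (f := ρ x ^ 2) (fun g hg => hg ▸ c1.pow_right 2) (by rw [← pow_mul, mul_comm, pow_mul, ← ht, neg_sq])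
      have := sc ht
      rw [← map_pow, ← map_mul, ← map_mul, hρ.eq_iff, ← conj_pow, c2, inv_pow, inv_eq_iff_mul_eq_one, ← pow_add] at this
      rw [hr, show 2 * (r + r) = (2 + 2) * r by ring, pow_mul, this, one_pow]
    · have := congrArg (· * ρ (x ^ (q + 1))) (sc ht)
      simp only [mul_add, add_mul, ← map_pow, ← map_mul] at this
      rw [← conj_pow, c2, show x⁻¹ * x ^ (q + 1) = x ^ q by group, show x⁻¹ ^ q * x ^ (q + 1) = x by group, add_comm, map_mul, map_mul,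
        ← add_mul, map_pow, ht, smul_mul_assoc, one_mul, (smul_right_injective _ h).eq_iff, ← map_one ρ, hρ.eq_iff] at this
      rw [show 2 * (m * m + m) = (q + 1) * m by rw [hm]; ring, pow_mul, ← this, one_pow]
  have l : ∀ j : ℕ, (a ^ 2) ^ (2 * (m * m + m) * 2 ^ j) = 1 → (a ^ 2) ^ (2 * (m * m + m)) = 1 := fun j => by
    induction j with
    | zero => simp
    | succ j ih =>
      intro e
      refine ih ?_
      rw [mul_comm, pow_mul]
      exact k _ (by rw [← pow_mul, ← e]; congr 1; ring)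
  refine a1.card_le ?_
  rw [← map_pow, show q ^ 2 = 2 * (2 * (m * m + m)) + 1 by rw [hm]; ring, pow_succ, pow_mul, l (n + 1) ?_, one_mul]
  rw [← pow_mul, ← h1, pow_mul', pow_mul', pow_mul' , pow_orderOf_eq_one]; simp

theorem prim_two' (h2 : q ≠ 2) {P : Type*} [Group P] [Finite P] (hP : IsPGroup 2 P) (ρ : P →* Module.End (ZMod q) V)
    (irr : ∀ K : Subgroup P, K.index ∣ 2 → IrrSet (ρ '' K)) : Nat.card V ≤ q ^ 2 := by
  have f := ρ.toHomUnits.rangeRestrict_surjective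
  have := Finite.of_surjective _ f
  refine prim_two h2 (hP.of_surjective _ f) ((Units.coeHom _).comp (Subgroup.subtype _))
    (fun x y e => Subtype.ext (Units.ext e)) fun K hK W hW => irr (K.comap ρ.toHomUnits.rangeRestrict)
      (by rwa [index_comap_of_surjective _ f]) W ?_
  rintro _ ⟨g, hg, rfl⟩
  exact hW _ ⟨_, hg, rfl⟩

end

variable {G : Type u} [Group G] [Finite G]

theorem exists_fix_orbit {p r : ℕ} [Fact p.Prime] [hr : Fact r.Prime] (hne : r ≠ p) {P V : Subgroup G} (hP : IsPGroup p P) (hn : P ≤ Nm(V))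
    {h : G} (ho : h ^ r = 1) (H : ∀ v ∈ V, ∃ g ∈ P, h * v * h⁻¹ = g * v * g⁻¹) {v : G} (hv : v ∈ V) :
    ∃ g ∈ P, h * (g * v * g⁻¹) * h⁻¹ = g * v * g⁻¹ := by
  classical
  let O := MulAction.orbit (P.map (MulAut.conj (G := G))) v
  have hO : ∀ x, x ∈ O ↔ ∃ g ∈ P, g * v * g⁻¹ = x := fun x =>
    ⟨by rintro ⟨⟨_, g, hg, rfl⟩, rfl⟩; exact ⟨g, hg, rfl⟩, by rintro ⟨g, hg, rfl⟩; exact ⟨⟨_, g, hg, rfl⟩, rfl⟩⟩
  obtain ⟨n, e⟩ := (hP.map (MulAut.conj (G := G))).card_orbit v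
  have := Fintype.ofFinite O
  obtain ⟨⟨x, hx⟩, e'⟩ := Equiv.Perm.exists_fixed_point_of_prime (p := r) (n := 1) (α := O) (by
    rw [← Nat.card_eq_fintype_card, e]
    exact fun f => hne ((Nat.prime_dvd_prime_iff_eq hr.out Fact.out).1 (hr.out.dvd_of_dvd_pow f)))
    (σ := Equiv.Perm.subtypePermOfFintype (MulAut.conj h).toEquiv fun x hx => by
      obtain ⟨g, hg, rfl⟩ := (hO x).1 hx
      obtain ⟨a, ha, e⟩ := H _ (Comp.conj_mem_of_mem_normalizer (hn hg) hv)
      exact (hO _).2 ⟨a * g, mul_mem ha hg, by rw [MulEquiv.toEquiv_eq_coe, EquivLike.coe_coe, MulAut.conj_apply, e]; group⟩) (by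
      rw [pow_one, Equiv.Perm.subtypePerm_pow]
      ext x
      show ((MulAut.toPerm G (MulAut.conj h)) ^ r) x = x
      rw [← map_pow, ← map_pow, ho, map_one, map_one]; rfl)
  obtain ⟨g, hg, rfl⟩ := (hO x).1 hx
  exact ⟨g, hg, congrArg Subtype.val e'⟩

theorem two_fix {q r : ℕ} [hq : Fact q.Prime] [hr : Fact r.Prime] (h2 : q ≠ 2) (hr2 : r ≠ 2) (hrq : r ≠ q) {h : G} (ho : orderOf h = r)
    {V P : Subgroup G} (hV : IsElementaryAbelian q V) (hP : IsPGroup 2 P) (hn : P ≤ Nm(V))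
    (H : ∀ v ∈ V, ∃ g ∈ P, h * v * h⁻¹ = g * v * g⁻¹) : h ∈ Ct(V) := by
  induction hc : Nat.card V using Nat.strong_induction_on generalizing V P with | _ n ih => ?_
  subst hc
  have el : ∀ W ≤ V, IsElementaryAbelian q W := fun W a => ⟨Solv.isMulCommutative_iff.2 fun x c y d => Solv.isMulCommutative_iff.1 hV.1 x (a c) y (a d), fun x b => hV.2 x (a b)⟩
  have ih : ∀ W K : Subgroup G, W < V → K ≤ P → K ≤ Nm(W) → (∀ v ∈ W, ∃ g ∈ K, h * v * h⁻¹ = g * v * g⁻¹) → h ∈ Ct(W) :=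
    fun W K a b c d => ih _ (Comp.card_lt_of_lt a) (el W a.le) (hP.to_le b) c d rfl
  have sq : ∀ j, h ∈ zpowers (h ^ 2 ^ j) := fun j =>
    mem_zpowers_pow_iff.2 (ho ▸ Nat.Coprime.pow_left j ((Nat.coprime_primes Nat.prime_two hr.out).2 hr2.symm))
  have hh : h ∈ Nm(V) := Comp.mem_normalizer_of_conj_mem fun v hv => by
    obtain ⟨g, a, b⟩ := H v hv
    exact b ▸ Comp.conj_mem_of_mem_normalizer (hn a) hv
  have lt : ∀ {W X : Subgroup G}, X ⊓ W = ⊥ → W ⊔ X = V → W ≠ ⊥ → X < V := fun a b c =>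
    lt_of_le_of_ne (b ▸ le_sup_right) fun e => c (by rw [← a, e, inf_eq_right.2 (b ▸ le_sup_left)])
  by_cases irr : ∃ W ≤ V, P ≤ Nm(W) ∧ W ≠ ⊥ ∧ W ≠ V
  · obtain ⟨W, a, b, c, d⟩ := irr
    obtain ⟨X, e, f, k⟩ := exists_invariant_compl_of_elem hV hn (by
      obtain ⟨n, e⟩ := hP.exists_card_eq
      exact e ▸ Nat.Coprime.pow_left n ((Nat.coprime_primes Nat.prime_two hq.out).2 h2.symm)) a b
    rw [← k, Comp.centralizer_sup]
    exact ⟨ih W P (a.lt_of_ne d) le_rfl b fun v hv => H v (a hv), ih X P (lt f k c) le_rfl e fun v hv => H v ((lt f k c).le hv)⟩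
  push Not at irr
  by_cases h0 : V = ⊥
  · rw [h0]; exact fun x hx => by rw [mem_bot.1 hx, one_mul, mul_one]
  by_cases imp : ∃ K ≤ P, ∃ g ∈ P, g ∉ K ∧ (∀ a ∈ P, ∀ b ∈ P, a ∉ K → b ∉ K → a * b ∈ K) ∧ ∃ W ≤ V, K ≤ Nm(W) ∧ W ≠ ⊥ ∧ W ≠ V
  · obtain ⟨K, k1, g, g1, g2, k2, W, w1, w2, w3, w4⟩ := imp
    have main : ∀ W X : Subgroup G, X ⊓ W = ⊥ → W ⊔ X = V → W ≠ ⊥ → X ≠ ⊥ → K ≤ Nm(W) → K ≤ Nm(X) →
        (∀ a ∈ P, a ∉ K → cj(a, W) ≤ X) → (∀ a ∈ P, a ∉ K → cj(a, X) ≤ W) → h ∈ Ct(W) := fun W X a b c d e f k l => by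
      have s : ∀ W X : Subgroup G, W ≤ V → K ≤ Nm(W) → (∀ a ∈ P, a ∉ K → cj(a, W) ≤ X) → cj(h, W) ≤ W ∨ cj(h, W) ≤ X :=
        fun W X b e k => by
          have t : ∀ v ∈ W, h * v * h⁻¹ ∈ W ∨ h * v * h⁻¹ ∈ X := fun v hv => by
            obtain ⟨a, a1, a2⟩ := H v (b hv)
            rw [a2]
            exact (em (a ∈ K)).imp (fun z => Comp.conj_mem_of_mem_normalizer (e z) hv) fun z => cj_le_iff'.1 (k a a1 z) v hv
          by_contra z
          simp only [cj_le_iff', not_or, not_forall] at z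
          obtain ⟨⟨x, x1, x2⟩, y, y1, y2⟩ := z
          have := t _ (mul_mem x1 y1)
          rw [show h * (x * y) * h⁻¹ = h * x * h⁻¹ * (h * y * h⁻¹) by group] at this
          exact this.elim (fun z => x2 ((mul_mem_cancel_right ((t y y1).resolve_right y2)).1 z))
            fun z => y2 ((mul_mem_cancel_left ((t x x1).resolve_left x2)).1 z)
      have m : cj(h, W) ≤ W := by
        refine (s W X (b ▸ le_sup_left) e k).elim id fun z => (s X W (b ▸ le_sup_right) f l).elim (fun z' => ?_) fun z' => ?_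
        · exact absurd ((cj_eq_self_iff.2 hh).ge.trans (by rw [← b, cj_sup]; exact sup_le z z')) (lt a b c).not_ge
        · refine (cj_eq_self_iff.2 ((zpowers_le (H := Nm(W))).2 (Comp.mem_normalizer_of_conj_mem (cj_le_iff'.1 ?_)) (sq 1))).le
          rw [pow_one, pow_two, cj_mul]
          exact (cj_mono h z).trans z'
      refine ih W K (lt (inf_comm X W ▸ a) (sup_comm W X ▸ b) d) k1 e fun v hv => ?_
      obtain ⟨t, t1, t2⟩ := H v ((b ▸ le_sup_left : W ≤ V) hv)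
      by_cases z : t ∈ K
      · exact ⟨t, z, t2⟩
      have : h * v * h⁻¹ ∈ X ⊓ W := ⟨t2 ▸ cj_le_iff'.1 (k t t1 z) v hv, cj_le_iff'.1 m v hv⟩
      rw [a, mem_bot, conj_eq_one_iff] at this
      exact ⟨1, one_mem _, by simp [this]⟩
    have a1 : ∀ a ∈ P, a ∉ K → cj(a, W) ≤ cj(g, W) := fun a b c => by
      rw [le_cj_iff, ← cj_mul]
      exact (cj_eq_self_iff.2 (w2 (k2 _ (inv_mem g1) _ b (mt inv_mem_iff.1 g2) c))).le
    have a2 : ∀ a ∈ P, a ∉ K → cj(a, cj(g, W)) ≤ W := fun a b c => by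
      rw [← cj_mul]
      exact (cj_eq_self_iff.2 (w2 (k2 _ b _ g1 c g2))).le
    have a3 : K ≤ Nm(cj(g, W)) := le_normalizer_of_cj_le fun a b => by
      rw [← cj_mul]
      exact a1 _ (mul_mem (k1 b) g1) (mt (mul_mem_cancel_left b).1 g2)
    have a4 : cj(g, W) ≤ V := cj_le_of_mem w1 (hn g1)
    have a5 : cj(g, W) ⊓ W = ⊥ := by
      by_contra z
      refine w4 (w1.antisymm ((irr _ (inf_le_right.trans w1) (le_normalizer_of_cj_le fun a b => ?_) z).ge.trans inf_le_right))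
      by_cases c : a ∈ K
      · exact (cj_eq_self_iff.2 (Comp.le_normalizer_inf a3 w2 c)).le
      · rw [cj_inf]; exact le_inf (inf_le_right.trans (a1 a b c)) (inf_le_left.trans (a2 a b c))
    have a6 : W ⊔ cj(g, W) = V := irr _ (sup_le w1 a4) (le_normalizer_of_cj_le fun a b => by
      by_cases c : a ∈ K
      · exact (cj_eq_self_iff.2 (Comp.le_normalizer_sup w2 a3 c)).le
      · rw [cj_sup]; exact sup_le ((a1 a b c).trans le_sup_right) ((a2 a b c).trans le_sup_left))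
      fun z => w3 (le_bot_iff.1 (z ▸ le_sup_left))
    have a7 := mt (cj_eq_bot_iff (g := g)).1 w3
    rw [← a6, Comp.centralizer_sup]
    exact ⟨main _ _ a5 a6 w3 a7 w2 a3 a1 a2, main _ _ (inf_comm _ W ▸ a5) (sup_comm W _ ▸ a6) a7 w3 a3 w2 a2 a1⟩
  have := Solv.EMod.nontrivial (h := hV) h0
  have hc : Nat.card V ≤ q ^ (1 + 1) := prim_two' (V := Solv.EMod hV) h2 hP ((Solv.EMod.rep hV).comp (inclusion hn)) fun K hK W hW => by
    rw [← Solv.EMod.grp_eq_bot, ← Solv.EMod.grp_eq_top, or_iff_not_imp_left]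
    have a : K.map P.subtype ≤ Nm(Solv.EMod.grp W) := by
      rintro _ ⟨g, hg, rfl⟩
      exact Solv.EMod.mem_normalizer_grp (hn g.2) (hW _ ⟨g, hg, rfl⟩)
    intro b
    rcases (Nat.dvd_prime Nat.prime_two).1 hK with e | e
    · exact irr _ (Solv.EMod.grp_le W) (by rwa [index_eq_one.1 e, ← MonoidHom.range_eq_map, range_subtype] at a) b
    by_contra c
    obtain ⟨g, -, hg⟩ := SetLike.exists_of_lt (Ne.lt_top (fun f : K = ⊤ => by simp [f] at e))
    have m : ∀ {x : P}, (x : G) ∈ K.map P.subtype ↔ x ∈ K := mem_map_iff_mem P.subtype_injective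
    exact imp ⟨_, map_subtype_le K, g, g.2, mt m.1 hg, fun x x1 y y1 x2 y2 => (m (x := ⟨x, x1⟩ * ⟨y, y1⟩)).2
      ((mul_mem_iff_of_index_two e).2 (iff_of_false (mt m.2 x2) (mt m.2 y2))), _, Solv.EMod.grp_le W, a, b, c⟩
  have hq' : IsPGroup q V := fun x => ⟨1, Subtype.ext (by simpa using hV.2 x x.2)⟩
  obtain ⟨v, v1, v2⟩ := Solv.exists_ne_one_of_ne_bot h0
  obtain ⟨g, g1, g2⟩ := exists_fix_orbit hr2 hP hn (ho ▸ pow_orderOf_eq_one h) H v1
  have w1 := Comp.conj_mem_of_mem_normalizer (hn g1) v1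
  have w2 := mt (conj_eq_one_iff (a := g)).1 (show ¬ v = 1 from v2)
  generalize g * v * g⁻¹ = w at *
  have w3 : h ∈ Ct(zpowers w) := by rw [Comp.centralizer_zpowers, mem_centralizer_singleton_iff, ← mul_inv_eq_iff_eq_mul, g2]
  obtain ⟨X, e, f, k⟩ := exists_invariant_compl_of_elem hV (zpowers_le.2 hh) (by
    rw [Nat.card_zpowers, ho]; exact (Nat.coprime_primes hr.out hq.out).2 hrq) (zpowers_le.2 w1)
    (zpowers_le.2 (centralizer_le_normalizer _ w3))
  have l := lt f k (mt zpowers_eq_bot.1 w2)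
  rw [← k, Comp.centralizer_sup]
  refine ⟨w3, fun x hx => ?_⟩
  by_cases x1 : x = 1
  · simp [x1]
  have m : zpowers x = X := eq_of_le_of_card_ge (zpowers_le.2 hx) ((card_le_pow_of_lt hq' l hc).trans_eq (by
    rw [Nat.card_zpowers, orderOf_eq_prime (hV.2 x (l.le hx)) x1, pow_one]))
  obtain ⟨t, ht⟩ := mem_zpowers_iff.1 (m ▸ Comp.conj_mem_of_mem_normalizer (e (mem_zpowers h)) hx : h * x * h⁻¹ ∈ zpowers x)
  obtain ⟨a, a1, a2⟩ := H x (l.le hx)
  have z : ∀ j : ℕ, ∀ y : G, y * x * y⁻¹ = x ^ t → y ^ j * x * (y ^ j)⁻¹ = x ^ t ^ j := fun j y hy => by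
    induction j with
    | zero => simp
    | succ j ih => rw [pow_succ', pow_succ' t, zpow_mul, ← hy, conj_zpow, ← ih]; group
  obtain ⟨j, hj⟩ := hP ⟨a, a1⟩
  have := (z (2 ^ j) h ht.symm).trans (z (2 ^ j) a (a2 ▸ ht.symm)).symm
  rw [show a ^ 2 ^ j = 1 from congrArg Subtype.val hj, one_mul, inv_one, mul_one, mul_inv_eq_iff_eq_mul] at this
  exact (mem_centralizer_singleton_iff.1 ((zpowers_le (H := C1(x))).2 (mem_centralizer_singleton_iff.2 this) (sq j))).symm

end Cfsg.Agent.BG
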