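/-
Pronormal subgroups.
-/
import Cfsg.Agent.Lib.BG.PLen
import Cfsg.Prelude.Def_HallClasses

set_option autoImplicit false
set_option linter.unusedSectionVars false

namespace Cfsg.Agent.Pron

open Subgroup Cfsg.Agent.Comp Cfsg.Agent.BG
open scoped commutatorElement Pointwise

variable {G G' : Type*} [Group G] [Group G'] {A B H K M : Subgroup G} {p : ℕ}

/-- `H` and its conjugate by `g` are conjugate in their join -/
def Pr (H : Subgroup G) (g : G) : Prop := ∃ x ∈ H ⊔ cj(g, H), cj(g, H) = cj(x, H)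

theorem Pr.red {g x : G} (hx : x ∈ H ⊔ cj(g, H)) (h : Pr H (x * g)) : Pr H g := by
  obtain ⟨y, y1, y2⟩ := h
  rw [cj_mul] at y1
  exact ⟨x⁻¹ * y, mul_mem (inv_mem hx) (sup_le le_sup_left (cj_le_of_mem le_sup_right (le_normalizer hx)) y1),
    by rw [cj_mul, ← y2, ← cj_mul, inv_mul_cancel_left]⟩

theorem Pr.red' {g n : G} (hn : n ∈ Nm(H)) (h : Pr H g) : Pr H (g * n) := by
  rwa [Pr, cj_mul, cj_eq_self_iff.2 hn]

theorem Pr.map (f : G →* G') {g : G} (h : Pr H g) : Pr (H.map f) (f g) := by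
  obtain ⟨y, y1, y2⟩ := h
  exact ⟨f y, by rw [← map_cj, ← Subgroup.map_sup]; exact mem_map_of_mem f y1, by rw [← map_cj, ← map_cj, y2]⟩

theorem Pr.exists (f : G →* G') {g : G} (h : Pr (H.map f) (f g)) : ∃ x ∈ H ⊔ cj(g, H), f (x * g) ∈ Nm(H.map f) := by
  obtain ⟨y, y1, y2⟩ := h
  rw [← map_cj, ← Subgroup.map_sup] at y1
  obtain ⟨x, x1, rfl⟩ := y1
  exact ⟨x⁻¹, inv_mem x1, cj_eq_self_iff.1 (by rw [map_mul, map_inv, cj_mul, y2, cj_inv_cj])⟩

theorem Pr.of_mem {g : G} (h : g ∈ Nm(H)) : Pr H g := ⟨1, one_mem _, by rw [cj_one, cj_eq_self_iff.2 h]⟩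

theorem Pr.of_map (f : G →* G') (hk : f.ker ≤ H) {g : G} (h : Pr (H.map f) (f g)) : Pr H g := by
  obtain ⟨x, x1, x2⟩ := h.exists
  refine .red x1 (.of_mem (cj_eq_self_iff.1 ?_))
  haveI := f.normal_ker
  rw [← comap_map_eq_self ((cj_eq_self_of_normal f.ker (x * g)).ge.trans (cj_mono _ hk)), map_cj, cj_eq_self_iff.2 x2,
    comap_map_eq_self hk]

theorem Pr.cj {g : G} (h : Pr H g) (a : G) : Pr cj(a, H) (a * g * a⁻¹) := h.map (MulAut.conj a).toMonoidHom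

/-- all overgroups of Sylow subgroups of `M` are pronormal in `M` -/
def Y (p : ℕ) (M : Subgroup G) : Prop := ∀ H P, SylIn p P M → P ≤ H → H ≤ M → ∀ g ∈ M, Pr H g

theorem y_top : (∀ K : Subgroup G, (∃ P : Sylow p G, (P : Subgroup G) ≤ K) → IsPronormal K) ↔ Y p (⊤ : Subgroup G) :=
  ⟨fun h H _ a b _ g _ => h H ⟨a.toSylowTop, b⟩ g, fun h K ⟨P, hP⟩ g => h K P (sylIn_top P) hP le_top g (mem_top g)⟩

variable [Finite G] [Finite G'] [Fact p.Prime]

theorem Y.map (f : G →* G') (h : Y p M) : Y p (M.map f) := by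
  rintro H P a b c _ ⟨g, hg, rfl⟩
  obtain ⟨Q, hQ⟩ := exists_sylIn p M
  obtain ⟨_, ⟨x, hx, rfl⟩, e⟩ := (hQ.map f).exists_cj_eq a
  have := (h (M ⊓ H.comap f) _ (hQ.cj_of_mem (le_normalizer hx)) (le_inf (hQ.cj_of_mem (le_normalizer hx)).le
    (map_le_iff_le_comap.1 (by rwa [map_cj, e]))) inf_le_left g hg).map f
  rwa [le_antisymm (map_le_iff_le_comap.2 inf_le_right) fun y hy =>
    (c hy).imp fun z hz => ⟨mem_inf.2 ⟨hz.1, mem_comap.2 (hz.2 ▸ hy)⟩, hz.2⟩] at this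

theorem Y.of_map (f : G →* G') (hk : IsPGroup p f.ker) (hM : f.ker ≤ M) (h : Y p (M.map f)) : Y p M :=
  haveI := f.normal_ker
  fun _ _ a b c g hg => .of_map f ((a.le_of_normalizer' hk hM le_normalizer_of_normal).trans b)
    (h _ _ (a.map f) (map_mono b) (map_mono c) _ (mem_map_of_mem f hg))

theorem y_subtype : Y p (⊤ : Subgroup M) ↔ Y p M :=
  ⟨fun h => map_subtype_top M ▸ h.map M.subtype, fun h => .of_map M.subtype (by rw [ker_subtype]; exact .of_bot) le_top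
    ((map_subtype_top M).symm ▸ h)⟩

theorem y_quot (T : Subgroup G) [T.Normal] (hT : IsPGroup p T) : Y p (⊤ : Subgroup (G ⧸ T)) ↔ Y p (⊤ : Subgroup G) := by
  rw [← map_top_of_surjective _ (QuotientGroup.mk'_surjective T)]
  exact ⟨.of_map _ (by rwa [QuotientGroup.ker_mk']) le_top, .map _⟩

theorem main (A T : Subgroup G) [A.Normal] (hA : Y p A) (hQ : Y p (⊤ : Subgroup (G ⧸ A))) (hT : SylIn p T A) :
    Y p (⊤ : Subgroup G) ↔ Y p Nm(T) ∧ ∀ K : Subgroup G, (∃ P : Sylow p G, (P : Subgroup G) ≤ K) →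
      Nm(K).map (QuotientGroup.mk' A) = Nm(K.map (QuotientGroup.mk' A)) := by
  obtain ⟨S, s1, s2⟩ := exists_sylIn_ge hT.isP le_top
  have s3 : ∀ S, SylIn p S ⊤ → T ≤ S → S ≤ Nm(T) := fun S a b => by
    rw [hT.eq_of_le (a.inf_normal le_top le_normalizer_of_normal) (le_inf b hT.le)]
    exact Comp.le_normalizer_inf le_normalizer le_normalizer_of_normal
  refine ⟨fun h => ⟨fun H P a b _ g _ => h H P (a.trans_of_not_dvd le_top (s2.not_dvd_relIndex_of_le (s3 S s2 s1) le_top))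
    b le_top g (mem_top g), fun K ⟨P, hP⟩ => le_antisymm (le_normalizer_map _) fun g hg => ?_⟩, fun ⟨h1, h2⟩ => ?_⟩
  · obtain ⟨g, rfl⟩ := QuotientGroup.mk'_surjective A g
    obtain ⟨x, x1, x2⟩ := h K P (sylIn_top P) hP le_top g (mem_top g)
    have := mem_map_of_mem (QuotientGroup.mk' A) x1
    rw [Subgroup.map_sup, map_cj, cj_eq_self_iff.2 hg, sup_idem] at this
    obtain ⟨k, k1, k2⟩ := this
    exact ⟨k * (x⁻¹ * g), mul_mem (le_normalizer k1) (cj_eq_self_iff.1 (by rw [cj_mul, x2, cj_inv_cj])),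
      by rw [map_mul, k2, ← map_mul, mul_inv_cancel_left]⟩
  suffices h : ∀ H P, SylIn p P ⊤ → T ≤ P → P ≤ H → ∀ g, Pr H g by
    intro H P a b _ g _
    obtain ⟨x, -, hx⟩ := a.exists_le_cj hT.isP le_top
    simpa only [cj_inv_cj, mul_assoc, inv_inv, inv_mul_cancel_left, inv_mul_cancel, mul_one] using
      (h _ _ (a.cj_of_mem (le_normalizer (mem_top x))) hx (cj_mono x b) (x * g * x⁻¹)).cj x⁻¹
  intro H P a t b g
  obtain ⟨x, x1, x2⟩ := (hQ _ _ (map_top_of_surjective _ (QuotientGroup.mk'_surjective A) ▸ a.map (QuotientGroup.mk' A))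
    (map_mono b) le_top _ (mem_top (QuotientGroup.mk' A g))).exists
  refine .red x1 ?_
  obtain ⟨n, n1, n2⟩ := (h2 H ⟨a.toSylowTop, b⟩).ge x2
  rw [← inv_mul_cancel_right (x * g) n]
  refine .red' n1 ?_
  have u1 : x * g * n⁻¹ ∈ A := by rw [← QuotientGroup.ker_mk' A, MonoidHom.mem_ker, map_mul, map_inv, n2, mul_inv_cancel]
  generalize x * g * n⁻¹ = u at u1
  have t1 : T ≤ H ⊓ A := le_inf (t.trans b) hT.le
  obtain ⟨y, y1, y2⟩ := hA (H ⊓ A) T hT t1 inf_le_right u u1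
  refine .red (inv_mem (sup_le_sup inf_le_left (cj_mono u inf_le_left) y1)) ?_
  have v1 : y⁻¹ * u ∈ A ⊓ Nm((H ⊓ A : Subgroup G)) := mem_inf.2 ⟨mul_mem (inv_mem (sup_le inf_le_right
    (cj_le_of_mem inf_le_right (le_normalizer u1)) y1)) u1, cj_eq_self_iff.1 (by rw [cj_mul, y2, cj_inv_cj])⟩
  have t2 := hT.of_le t1 inf_le_right
  rw [← t2.frattini (le_inf inf_le_right le_normalizer) inf_le_right, sup_comm] at v1
  obtain ⟨m, m1, c, c1, e⟩ := (Comp.mem_sup_of_le_normalizer (inf_le_left.trans inf_le_right)).1 v1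
  rw [← e]
  refine .red' (le_normalizer c1.1) ?_
  have hn : H ≤ Nm((H ⊓ A : Subgroup G)) := Comp.le_normalizer_inf le_normalizer le_normalizer_of_normal
  obtain ⟨z, z1, z2⟩ := h1 (H ⊓ Nm(T)) P (a.of_le (s3 P a t) le_top) (le_inf b (s3 P a t)) inf_le_right m m1.2
  refine ⟨z, sup_le_sup inf_le_left (cj_mono m inf_le_left) z1, ?_⟩
  rw [← t2.frattini inf_le_left hn, cj_sup, cj_sup, z2, cj_eq_self_iff.2 m1.1.2, cj_eq_self_iff.2
    (sup_le (inf_le_left.trans hn) (cj_le_of_mem (inf_le_left.trans hn) (le_normalizer m1.1.2)) z1)]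

end Cfsg.Agent.Pron
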