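/-
The Puig subgroup (B & G Appendix B), for subgroups of an ambient group.
-/
import Cfsg.Agent.Lib.BG.Rank
import Cfsg.Agent.Lib.BG.Sec1

set_option autoImplicit false
set_option linter.unusedSectionVars false

namespace Cfsg.Agent.Puig

open Subgroup Comp BG
open scoped commutatorElement

universe u

variable {G : Type u} [Group G] {M H X Y A : Subgroup G}

def step (M X : Subgroup G) : Subgroup G := sSup {A | A ≤ M ∧ IsMulCommutative A ∧ X ≤ Nm(A)}

def seq (M : Subgroup G) : ℕ → Subgroup G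
  | 0 => ⊥
  | n + 1 => step M (seq M n)

def LL (M : Subgroup G) : Subgroup G := ⨅ n : ℕ, seq M (2 * n + 1)

def Ls (M : Subgroup G) : Subgroup G := ⨆ n : ℕ, seq M (2 * n)

theorem step_le_iff : step M X ≤ Y ↔ ∀ A, A ≤ M → IsMulCommutative A → X ≤ Nm(A) → A ≤ Y :=
  ⟨fun h _ h1 h2 h3 => (le_sSup (by exact ⟨h1, h2, h3⟩)).trans h, fun h => sSup_le fun A hA => h A hA.1 hA.2.1 hA.2.2⟩

theorem le_step (h1 : A ≤ M) (h2 : IsMulCommutative A) (h3 : X ≤ Nm(A)) : A ≤ step M X :=
  step_le_iff.1 le_rfl A h1 h2 h3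

theorem step_le (M X : Subgroup G) : step M X ≤ M := step_le_iff.2 fun _ h _ _ => h

theorem step_mono (h1 : M ≤ H) (h2 : Y ≤ X) : step M X ≤ step H Y :=
  step_le_iff.2 fun _ a b c => le_step (a.trans h1) b (h2.trans c)

theorem step_le_step (h1 : step M X ≤ H) (h2 : Y ≤ X) : step M X ≤ step H Y :=
  step_le_iff.2 fun _ a b c => le_step ((le_step a b c).trans h1) b (h2.trans c)

theorem step_top (X : Subgroup G) : step ⊤ X = puigStep X := by simp [step, puigStep]

theorem seq_top (n : ℕ) : seq (⊤ : Subgroup G) n = puigSeq G n := by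
  induction n with
  | zero => rfl
  | succ n ih => rw [seq, ih, step_top, puigSeq]

theorem LL_top : LL (⊤ : Subgroup G) = puigSubgroup G := by simp only [LL, seq_top, puigSubgroup]

theorem Ls_top : Ls (⊤ : Subgroup G) = puigLower G := by simp only [Ls, seq_top, puigLower]

theorem seq_le (M : Subgroup G) : ∀ n, seq M n ≤ M
  | 0 => bot_le
  | _ + 1 => step_le _ _

theorem seq_one (M : Subgroup G) : seq M 1 = M := le_antisymm (seq_le M 1) fun x hx =>
  le_step (zpowers_le.2 hx) inferInstance bot_le (mem_zpowers x)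

theorem seq_even (M : Subgroup G) (n : ℕ) : seq M (2 * n) ≤ seq M (2 * n + 2) := by
  induction n with
  | zero => exact bot_le
  | succ n ih => exact step_mono le_rfl (step_mono le_rfl ih)

theorem seq_odd (M : Subgroup G) (n : ℕ) : seq M (2 * n + 3) ≤ seq M (2 * n + 1) := step_mono le_rfl (seq_even M n)

theorem mono_even (M : Subgroup G) : Monotone fun n => seq M (2 * n) := monotone_nat_of_le_succ (seq_even M)

theorem anti_odd (M : Subgroup G) : Antitone fun n => seq M (2 * n + 1) := antitone_nat_of_succ_le (seq_odd M)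

theorem seq_even_odd (M : Subgroup G) (n m : ℕ) : seq M (2 * n) ≤ seq M (2 * m + 1) := by
  have : ∀ n, seq M (2 * n) ≤ seq M (2 * n + 1) := fun n => by
    induction n with
    | zero => exact bot_le
    | succ n ih => exact step_mono le_rfl (step_mono le_rfl ih)
  exact ((mono_even M (le_max_left n m)).trans (this _)).trans (anti_odd M (le_max_right n m))

theorem seq_le_Ls (M : Subgroup G) (n : ℕ) : seq M (2 * n) ≤ Ls M := le_iSup (fun n => seq M (2 * n)) n

theorem LL_le_seq (M : Subgroup G) (n : ℕ) : LL M ≤ seq M (2 * n + 1) := iInf_le (fun n => seq M (2 * n + 1)) n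

theorem Ls_le_LL (M : Subgroup G) : Ls M ≤ LL M := iSup_le fun n => le_iInf fun m => seq_even_odd M n m

theorem LL_le (M : Subgroup G) : LL M ≤ M := (LL_le_seq M 0).trans (seq_le M _)

theorem exists_stable [Finite G] (M : Subgroup G) : ∃ k, ∀ n, k ≤ n → seq M (2 * n) = Ls M ∧ seq M (2 * n + 1) = LL M := by
  obtain ⟨k, hk⟩ := WellFoundedGT.monotone_chain_condition (⟨_, mono_even M⟩ : ℕ →o Subgroup G)
  have h : ∀ n, k ≤ n → seq M (2 * n) = seq M (2 * k) := fun n hn => (hk n hn).symm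
  refine ⟨k, fun n hn => ⟨le_antisymm (seq_le_Ls M n) (iSup_le fun m => ?_), le_antisymm (le_iInf fun m => ?_) (LL_le_seq M n)⟩⟩
  · exact (mono_even M (le_max_left m n)).trans ((h _ (hn.trans (le_max_right m n))).trans (h n hn).symm).le
  · refine le_trans ?_ (anti_odd M (le_max_left m n))
    exact (congrArg (step M) ((h _ (hn.trans (le_max_right m n))).trans (h n hn).symm)).ge

theorem step_Ls [Finite G] (M : Subgroup G) : step M (Ls M) = LL M := by
  obtain ⟨k, hk⟩ := exists_stable M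
  rw [← (hk k le_rfl).1, ← (hk k le_rfl).2, seq]

theorem step_LL [Finite G] (M : Subgroup G) : step M (LL M) = Ls M := by
  obtain ⟨k, hk⟩ := exists_stable M
  rw [← (hk k le_rfl).2, ← (hk (k + 1) k.le_succ).1]; rfl

theorem le_seq (h1 : A ≤ M) (h2 : IsMulCommutative A) (h3 : M ≤ Nm(A)) (n : ℕ) : A ≤ seq M (n + 1) :=
  le_step h1 h2 ((seq_le M n).trans h3)

theorem le_Ls (h1 : A ≤ M) (h2 : IsMulCommutative A) (h3 : M ≤ Nm(A)) : A ≤ Ls M :=
  (le_seq h1 h2 h3 1).trans (seq_le_Ls M 1)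

theorem inf_Ct_le [Finite G] (hM : Group.IsNilpotent M)
    (h : ∀ A, A ≤ M → IsMulCommutative A → M ≤ Nm(A) → A ≤ X) : M ⊓ Ct(X) ≤ X := by
  obtain ⟨A, -, hA⟩ := exists_scn_ge hM bot_le inferInstance (le_Nm_bot M)
  have := h A hA.le hA.comm hA.norm
  exact ((inf_le_inf_left _ (Comp.centralizer_mono this)).trans hA.inf_eq.le).trans this

theorem LL_eq [Finite G] (h1 : LL M ≤ H) (h2 : H ≤ M) : LL H = LL M := by
  refine le_antisymm (le_iInf fun n => (LL_le_seq H n).trans (step_mono h2 ?_)) (le_iInf fun n => ?_)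
  · induction n with
    | zero => exact le_rfl
    | succ n ih => exact step_le_step ((seq_le_Ls M (n + 1)).trans ((Ls_le_LL M).trans h1)) (step_mono h2 ih)
  have : ∀ X, X ≤ Ls M → LL M ≤ step H X := fun X h => step_Ls M ▸ step_le_step ((step_Ls M).le.trans h1) h
  refine this _ ?_
  induction n with
  | zero => exact bot_le
  | succ n ih => exact (step_mono h2 (this _ ih)).trans (step_LL M).le

section
variable {G' : Type u} [Group G'] {f : G →* G'}

theorem map_step (hf : Function.Injective f) (M X : Subgroup G) : (step M X).map f = step (M.map f) (X.map f) := by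
  refine le_antisymm (map_le_iff_le_comap.2 (step_le_iff.2 fun A a b c => map_le_iff_le_comap.1
    (le_step (map_mono a) (comm_map f b) (map_le_normalizer f c)))) (step_le_iff.2 fun B a b c => ?_)
  rw [← map_comap_eq_self (a.trans (map_le_range f M))]
  exact map_mono (le_step ((comap_mono a).trans (comap_map_eq_self_of_injective hf M).le)
    (comap_injective_isMulCommutative B hf) (le_normalizer_comap_of_map f c))

theorem map_seq (hf : Function.Injective f) (M : Subgroup G) : ∀ n, (seq M n).map f = seq (M.map f) n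
  | 0 => Subgroup.map_bot f
  | n + 1 => by rw [seq, map_step hf, map_seq hf M n, seq]

theorem map_LL (hf : Function.Injective f) (M : Subgroup G) : (LL M).map f = LL (M.map f) := by
  simp only [LL, map_iInf f hf, map_seq hf]

theorem map_Ls (hf : Function.Injective f) (M : Subgroup G) : (Ls M).map f = Ls (M.map f) := by
  simp only [Ls, Subgroup.map_iSup, map_seq hf]

theorem map_ZL (hf : M ⊓ f.ker = ⊥) : (LL M ⊓ Ct(LL M)).map f = LL (M.map f) ⊓ Ct(LL (M.map f)) := by
  have h : Function.Injective (f.comp M.subtype) := (injective_iff_map_eq_one _).2 fun x hx =>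
    Subtype.ext (mem_bot.1 (hf.le (mem_inf.2 ⟨x.2, hx⟩)))
  conv_lhs => rw [← map_subtype_top M, ← map_LL M.subtype_injective, ← map_center_of_injective M.subtype_injective, map_map,
    map_center_of_injective h, map_LL h, ← map_map, map_subtype_top]
end

theorem map_puigSubgroup (M : Subgroup G) : (puigSubgroup M).map M.subtype = LL M := by
  rw [← LL_top, map_LL M.subtype_injective, map_subtype_top]

theorem map_puigLower (M : Subgroup G) : (puigLower M).map M.subtype = Ls M := by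
  rw [← Ls_top, map_Ls M.subtype_injective, map_subtype_top]

theorem Nm_le_seq (M : Subgroup G) (n : ℕ) : Nm(M) ≤ Nm(seq M n) := fun g hg => cj_eq_self_iff.1 (by
  rw [map_seq (MulAut.conj g).injective, cj_eq_self_iff.2 hg])

theorem Nm_le_LL (M : Subgroup G) : Nm(M) ≤ Nm(LL M) := fun g hg => cj_eq_self_iff.1 (by
  rw [map_LL (MulAut.conj g).injective, cj_eq_self_iff.2 hg])

section
variable [Finite G] {p : ℕ} [Fact p.Prime] {S : Subgroup G}

theorem isPGroup_Ct (hc : CharP p H) (h1 : X ≤ Op p H) (h2 : H ≤ Nm(X)) (h3 : Op p H ⊓ Ct(X) ≤ X) :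
    IsPGroup p (H ⊓ Ct(X) : Subgroup G) := by
  obtain ⟨n, hn⟩ := (isPGroup_Op p H).exists_card_eq
  refine Res_eq_bot_iff.1 (eq_bot_iff.2 (Res_le_of_forall_coprime fun Q a b => (hc.eq_bot (a.trans inf_le_left)
    (le_Ct_of_critical (le_normalizer_Op_of_le (a.trans inf_le_left)) (hn ▸ b.pow_right n) ((Op_le p H).trans h2) h3
      (a.trans inf_le_right)) b).le))

theorem seq_le_seq (h2 : p ≠ 2) (ho : Odd (Nat.card H)) (hc : CharP p H) (hS : SylIn p S H) (n : ℕ) :
    seq S (2 * n) ≤ seq (Op p H) (2 * n) := by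
  induction n with
  | zero => exact le_rfl
  | succ n ih =>
  refine step_le_iff.2 fun A a b c => ?_
  have d := (step_mono hS.Op_le ih).trans c
  have e : H ≤ Nm(seq (Op p H) (2 * n + 1)) := (le_normalizer_Op_of_le le_rfl).trans (Nm_le_seq _ _)
  exact le_step (le_Op_of_quadratic h2 ho ((isPGroup_Op p H).to_le (seq_le _ _)) e (a.trans hS.le) (quadratic_of_comm b d)
    (isPGroup_Ct hc (seq_le _ _) e (inf_Ct_le (isPGroup_Op p H).isNilpotent fun A a b c => le_seq a b c _))) b d

theorem Ls_le_Ls (h2 : p ≠ 2) (ho : Odd (Nat.card H)) (hc : CharP p H) (hS : SylIn p S H) : Ls S ≤ Ls (Op p H) :=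
  iSup_mono (seq_le_seq h2 ho hc hS)

theorem LL_le_LL (h2 : p ≠ 2) (ho : Odd (Nat.card H)) (hc : CharP p H) (hS : SylIn p S H) : LL (Op p H) ≤ LL S :=
  iInf_mono fun n => step_mono hS.Op_le (seq_le_seq h2 ho hc hS n)

/-- Puig's theorem -/
theorem le_Nm_ZL (h2 : p ≠ 2) (ho : Odd (Nat.card H)) (hc : CharP p H) (hS : SylIn p S H) :
    H ≤ Nm(LL S ⊓ Ct(LL S)) := by
  obtain ⟨Y, hY⟩ : ∃ Y, Y = LL (Op p H) ⊓ Ct(LL (Op p H)) := ⟨_, rfl⟩
  have a0 : H ≤ Nm(LL (Op p H)) := (le_normalizer_Op_of_le le_rfl).trans (Nm_le_LL _)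
  have a1 : H ≤ Nm(Y) := hY ▸ le_normalizer_center a0
  have a2 : Y ≤ Op p H := hY.le.trans (inf_le_left.trans (LL_le _))
  have a3 : Op p H ⊓ Ct(LL (Op p H)) ≤ LL (Op p H) :=
    inf_Ct_le (isPGroup_Op p H).isNilpotent fun A a b c => (le_Ls a b c).trans (Ls_le_LL _)
  have a4 : LL S ⊓ Ct(LL S) ≤ Ct(LL (Op p H)) := inf_le_right.trans (Comp.centralizer_mono (LL_le_LL h2 ho hc hS))
  have a5 : LL S ⊓ Ct(LL S) ≤ H := (inf_le_left.trans (LL_le S)).trans hS.le
  have a6 : LL S ⊓ Ct(LL S) ≤ Y := hY ▸ le_inf (le_trans (le_inf ((le_inf a5 a4).trans (le_Op inf_le_left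
    (Comp.le_normalizer_inf le_normalizer (Comp.le_normalizer_centralizer a0)) (isPGroup_Ct hc (LL_le _) a0 a3))) a4) a3) a4
  have hq := Comp.le_normalizer_centralizer a1
  obtain ⟨C, hC⟩ : ∃ C, C = pre hq (Op p ⊤) := ⟨_, rfl⟩
  have b1 : C ≤ H := hC ▸ pre_le _
  have b2 : H ≤ Nm(C) := hC ▸ le_normalizer_pre le_rfl (le_normalizer_Op_of_le le_top)
  have b3 : LL S ≤ C := by
    rw [← step_Ls, hC]
    refine step_le_iff.2 fun A a b c => le_pre (a.trans hS.le) (img_le_Op_of_quadratic h2 ho ((isPGroup_Op p H).to_le a2) a1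
      (a.trans hS.le) (quadratic_of_comm b ((le_Ls (a2.trans hS.Op_le) (comm_iff_le.2 ?_) (hS.le.trans a1)).trans c)) hq)
    rw [hY]; exact center_le_centralizer _
  have b4 := hS.inf_normal b1 (hS.le.trans b2)
  have b5 : Nm(S ⊓ C) ≤ Nm(LL S ⊓ Ct(LL S)) :=
    le_normalizer_center (LL_eq (le_inf (LL_le S) b3) inf_le_left ▸ Nm_le_LL (S ⊓ C))
  refine (b4.frattini b1 b2).ge.trans (sup_le ?_ (inf_le_right.trans b5))
  refine b4.Res_sup.ge.trans (sup_le (le_trans ?_ ((Comp.centralizer_mono a6).trans (centralizer_le_normalizer _)))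
    (le_normalizer.trans b5))
  rw [← img_eq_bot_iff (h := hq) ((BG.Res_le p C).trans b1), img_Res b1, hC, img_pre]
  exact Res_eq_bot_iff.2 (isPGroup_Op p ⊤)
end

end Cfsg.Agent.Puig
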