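/-
Bender-Glauberman 3.6.
-/
import Cfsg.Agent.Lib.BG.Sec3

set_option autoImplicit false
set_option linter.unusedSectionVars false

namespace Cfsg.Agent.BG

open Subgroup Comp
open scoped commutatorElement

universe u

variable {G : Type u} [Group G] [Finite G] {p q : ℕ}

section
variable {K L L' V D P R H Y T : Subgroup G}

/-- the number of conjugates of a subgroup -/
theorem ncard_cj (H L : Subgroup G) : {Y | ∃ g ∈ H, cj(g, L) = Y}.ncard = Nm(L).relIndex H := by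
  letI : MulAction H (Subgroup G) :=
    { smul := fun g Y => cj((g : G), Y)
      one_smul := cj_one
      mul_smul := fun a b => cj_mul (a : G) (b : G) }
  have h1 : MulAction.stabilizer H L = Nm(L).subgroupOf H := Subgroup.ext fun g => cj_eq_self_iff
  rw [relIndex, ← h1, MulAction.index_stabilizer]
  exact congrArg _ (Set.ext fun Y => ⟨fun ⟨g, a, b⟩ => ⟨⟨g, a⟩, b⟩, fun ⟨g, b⟩ => ⟨g, g.2, b⟩⟩)

theorem card_le_card_inf_C1 {x : G} (hV : IsMulCommutative V) (hx : x ∈ Nm(V)) (h1 : Y ≤ V)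
    (h3 : Y ⊓ T = ⊥) (h4 : ∀ j, 0 < j → j < orderOf x → cj(x ^ j, Y) ≤ T) :
    Nat.card Y ≤ Nat.card (V ⊓ C1(x) : Subgroup G) := by
  have key : ∀ v ∈ Y, ∀ n, n < orderOf x → ∃ w ∈ V ⊓ T, (v * x) ^ (n + 1) = v * w * x ^ (n + 1) := by
    intro v hv n
    induction n with
    | zero => exact fun _ => ⟨1, one_mem _, by simp⟩
    | succ n ih =>
      intro hn
      obtain ⟨w, a, b⟩ := ih (by omega)
      refine ⟨w * (x ^ (n + 1) * v * (x ^ (n + 1))⁻¹), mul_mem a
        ⟨conj_mem_of_mem_normalizer (pow_mem hx _) (h1 hv), h4 _ n.succ_pos hn (conj_mem_cj.2 hv)⟩, ?_⟩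
      rw [pow_succ, b]; group
  have hpos := orderOf_pos x
  choose! w hw hw' using fun v hv => key v hv (orderOf x - 1) (by omega)
  simp only [Nat.sub_add_cancel hpos, pow_orderOf_eq_one, mul_one] at hw'
  have hc : ∀ a ∈ V, ∀ b ∈ V, a * b = b * a := fun a ha b hb => (comm_iff_le.1 hV hb a ha)
  refine Nat.card_le_card_of_injective (fun v : Y => (⟨v * w v, mul_mem (h1 v.2) (hw v v.2).1, ?_⟩ :
    (V ⊓ C1(x) : Subgroup G))) fun a b e => ?_
  · have h5 : Commute (v * x) (v * w v) := hw' v v.2 ▸ (Commute.refl _).pow_right _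
    have h6 : Commute (v : G) (v * w v) := hc _ (h1 v.2) _ (mul_mem (h1 v.2) (hw v v.2).1)
    have := h6.inv_left.mul_left h5
    rw [inv_mul_cancel_left] at this
    exact mem_C1.2 this
  · have e' : (a : G) * w a = b * w b := congrArg Subtype.val e
    have h5 : (b : G)⁻¹ * a ∈ Y ⊓ T := ⟨Y.mul_mem (Y.inv_mem b.2) a.2, by
      rw [show (b : G)⁻¹ * a = w b * (w a)⁻¹ by rw [inv_mul_eq_iff_eq_mul, ← mul_assoc, ← e']; simp]
      exact T.mul_mem (hw b b.2).2 (T.inv_mem (hw a a.2).2)⟩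
    rw [h3, mem_bot, inv_mul_eq_one] at h5
    exact Subtype.ext h5.symm

variable [hq : Fact q.Prime]

theorem exists_hyperplane (hK : IsElementaryAbelian q K) (hn : K ≤ Nm(D))
    (hc : (Nat.card K).Coprime (Nat.card D)) (h0 : D ≠ ⊥) (h1 : D ⊓ Ct(K) = ⊥) :
    ∃ L, L ≤ K ∧ L.relIndex K = q ∧ D ⊓ Ct(L) ≠ ⊥ := by
  obtain ⟨L, ⟨a, b⟩, c⟩ := (wellFounded_gt (α := Subgroup G)).has_min
    {L | L ≤ K ∧ D ⊓ Ct(L) ≠ ⊥} ⟨⊥, bot_le, by rwa [inf_eq_left.2 (le_Ct_comm.1 bot_le)]⟩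
  have hKL : K ≤ Ct(L) := (elem_le_Ct hK).trans (centralizer_mono a)
  by_contra! h
  refine b (le_bot_iff.1 (Solv.le_of_centralizer_le hK.1 (le_Ct_comm.1 inf_le_right) (fun y d e => ?_)
    (le_normalizer_inf hn (le_normalizer_centralizer (hKL.trans (Ct_le_Nm L))))
    (hc.of_dvd_right (card_dvd_of_le inf_le_left)) fun y d e => le_bot_iff.2 (by_contra fun f =>
      c (L ⊔ zpowers y) ⟨sup_le a (zpowers_le_of_mem d), by
        rwa [centralizer_sup, centralizer_zpowers, ← inf_assoc]⟩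
        (left_lt_sup.2 fun g => e (g (mem_zpowers y))))))
  have h2 : L ⊔ zpowers y = K := le_antisymm (sup_le a (zpowers_le_of_mem d)) e
  refine b (h L a (h2 ▸ Solv.relIndex_sup_zpowers_of_prime hq.out (Ct_le_Nm L (hKL d)) (fun f => ?_)
    (by rw [hK.2 y d]; exact one_mem _)))
  rw [sup_eq_left.2 (zpowers_le_of_mem f)] at h2
  exact b (h2 ▸ h1)

theorem sup_eq_of_relIndex (hK : IsPGroup q K) (h1 : L ≤ K) (h2 : L.relIndex K = q) (h3 : L' ≤ K)
    (h4 : L'.relIndex K = q) (hne : L ≠ L') : L ⊔ L' = K := by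
  have a := Solv.card_mul_relIndex h1
  have b := Solv.card_mul_relIndex h3
  rw [h2] at a
  rw [h4, ← a] at b
  refine eq_of_le_of_card_ge (sup_le h1 h3) ?_
  rw [← a, mul_comm]
  exact mul_card_le_of_lt (hK.to_le (sup_le h1 h3)) (left_lt_sup.2 fun e =>
    hne (eq_of_le_of_card_eq e (Nat.eq_of_mul_eq_mul_right hq.out.pos b)).symm)

theorem inf_Ct_le_commutator_of_ne (hK : IsElementaryAbelian q K) (hn : K ≤ Nm(V))
    (hc : (Nat.card K).Coprime (Nat.card V)) (h0 : V ⊓ Ct(K) = ⊥) (h1 : L ≤ K) (h3 : L' ≤ K)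
    (h : L ⊔ L' = K) : V ⊓ Ct(L) ≤ ⁅V, L'⁆ :=
  (commutator_eq_of_inf_Ct_eq_bot (h3.trans (le_normalizer_inf hn (le_normalizer_centralizer
    ((elem_le_Ct hK).trans ((centralizer_mono h1).trans (Ct_le_Nm L))))))
    ((hc.of_dvd_left (card_dvd_of_le h3)).of_dvd_right (card_dvd_of_le inf_le_left))
    (Or.inl (isSolvable_of_isPGroup ((elem_isP hK).to_le h3)))
    (by rw [inf_assoc, ← centralizer_sup, h, h0])).ge.trans (commutator_mono inf_le_left le_rfl)

variable [hp : Fact p.Prime]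

theorem plength_endgame (hV : IsElementaryAbelian p V) (hK : IsElementaryAbelian q K)
    (hP : IsPGroup p P) (hr : (Nat.card R).Prime) (h2 : p ≠ 2) (hoR : Odd (Nat.card R))
    (hpq : q ≠ p) (hpr : (Nat.card R).Coprime p) (hqr : (Nat.card R).Coprime q) (hKV : K ≤ Nm(V))
    (hPV : P ≤ Nm(V)) (hRV : R ≤ Nm(V)) (hPK : P ≤ Nm(K)) (hRK : R ≤ Nm(K)) (hRP : R ≤ Nm(P))
    (hV0 : V ≠ ⊥) (h0 : V ⊓ Ct(K) = ⊥) (hC : Nat.card (V ⊓ Ct(R) : Subgroup G) ≤ p)
    (hKP : ⁅K, P⁆ = K) (hm : ∀ L, L < K → P ≤ Nm(L) → R ≤ Nm(L) → L = ⊥) (hA0 : ⁅K, R⁆ ≠ ⊥)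
    (hA : ⁅K, R⁆.relIndex K = q) : False := by
  have hc : (Nat.card K).Coprime (Nat.card V) :=
    (coprime_of_isPGroup (elem_isP hV) (coprime_of_isPGroup_of_ne hpq (elem_isP hK))).symm
  have hRKc : (Nat.card R).Coprime (Nat.card K) := (coprime_of_isPGroup (elem_isP hK) hqr).symm
  have hRVc : (Nat.card R).Coprime (Nat.card V) := (coprime_of_isPGroup (elem_isP hV) hpr).symm
  have hAK : ⁅K, R⁆ ≤ K := commutator_le_left_of_le_normalizer hRK
  have hKn : ∀ L, L ≤ K → K ≤ Nm(V ⊓ Ct(L)) := fun L h => le_normalizer_inf hKV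
    (le_normalizer_centralizer ((elem_le_Ct hK).trans ((centralizer_mono h).trans (Ct_le_Nm L))))
  have hind : ∀ L, L ≤ K → ⁅V, L⁆ ⊓ Ct(L) = ⊥ := fun L h =>
    commutator_inf_Ct_of_comm hV.1 (h.trans hKV) (hc.of_dvd_left (card_dvd_of_le h))
  let Hy : Subgroup G → Prop := fun L => L ≤ K ∧ L.relIndex K = q ∧ V ⊓ Ct(L) ≠ ⊥
  have hcj : ∀ g ∈ P ⊔ R, ∀ L, cj(g, V ⊓ Ct(L)) = V ⊓ Ct(cj(g, L)) := fun g hg L => by
    rw [cj_inf, cj_centralizer, cj_eq_self_iff.2 (sup_le hPV hRV hg)]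
  have hHy : ∀ g ∈ P ⊔ R, ∀ L, Hy L → Hy cj(g, L) := fun g hg L ⟨a, b, c⟩ =>
    ⟨cj_le_of_mem a (sup_le hPK hRK hg), by
      rw [← b, ← relIndex_cj g L K, cj_eq_self_iff.2 (sup_le hPK hRK hg)],
      by rwa [← hcj g hg, Ne, cj_eq_bot_iff]⟩
  have hle : ∀ L L', Hy L → L' ≤ K → L'.relIndex K = q → L ≠ L' → V ⊓ Ct(L) ≤ ⁅V, L'⁆ :=
    fun L L' a b c d => inf_Ct_le_commutator_of_ne hK hKV hc h0 a.1 b
      (sup_eq_of_relIndex (elem_isP hK) a.1 a.2.1 b c d)
  have claim : ∀ L, Hy L → ¬ P ≤ Nm(L) := by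
    intro L hL h1
    by_cases h3 : R ≤ Nm(L)
    · have h4 := hL.2.1
      rw [hm L (lt_of_le_of_ne hL.1 fun e => hL.2.2 (e ▸ h0)) h1 h3, relIndex_bot_left,
        ← Solv.card_mul_relIndex hAK, hA] at h4
      exact hA0 (card_eq_one.1 (Nat.eq_of_mul_eq_mul_right hq.out.pos (h4.trans (one_mul q).symm)))
    obtain ⟨x, hx, rfl⟩ := exists_eq_zpowers_of_prime hr
    have h4 := card_le_card_inf_C1 hV.1 (hRV (mem_zpowers x)) (inf_le_left : V ⊓ Ct(L) ≤ V)
      (T := ⁅V, L⁆) (eq_bot_iff.2 (hind L hL.1 ▸ le_inf inf_le_right (inf_le_left.trans inf_le_right)))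
      fun j a b => by
        have h5 : x ^ j ∈ zpowers x := pow_mem (mem_zpowers x) j
        rw [hcj _ (mem_sup_right h5)]
        refine hle _ _ (hHy _ (mem_sup_right h5) L hL) hL.1 hL.2.1 fun e => h3 ?_
        haveI := Fact.mk hr
        rw [(el_one_iff.2 rfl : El _ 1 (zpowers x)).eq_zpowers h5 (pow_ne_one_of_lt_orderOf a.ne' b)]
        exact zpowers_le_of_mem (cj_eq_self_iff.1 e)
    rw [← centralizer_zpowers] at h4
    have h5 := card_eq_of_card_le ((elem_isP hV).to_le inf_le_left) hL.2.2 (h4.trans hC)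
    have h6 := Solv.commutator_le_centralizer_of_isCyclic (el_one_iff.2 h5).isCyclic
      (sup_le (hKn L hL.1) (le_normalizer_inf hPV (le_normalizer_centralizer h1)))
    exact hL.2.2 (eq_bot_iff.2 (h0 ▸ le_inf inf_le_left (le_Ct_comm.1
      (hKP.ge.trans ((commutator_mono le_sup_left le_sup_right).trans h6)))))
  let U : Subgroup G → Subgroup G := fun L => sSup {Y | ∃ g ∈ R, V ⊓ Ct(cj(g, L)) = Y}
  have hUV : ∀ L, U L ≤ V := fun L => sSup_le fun Y ⟨g, _, b⟩ => b ▸ inf_le_left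
  have hUK : ∀ L, L ≤ K → K ≤ Nm(U L) := fun L h => le_normalizer_sSup fun k hk Y ⟨g, a, b⟩ =>
    ⟨g, a, by rw [← b, cj_eq_self_iff.2 (hKn _ (cj_le_of_mem h (hRK a)) hk)]⟩
  have hUC : ∀ L, Hy L → L ≠ ⁅K, R⁆ → V ⊓ Ct(R) ≤ U L := fun L hL hne => by
    have h1 : U L ⊓ Ct(R) ≠ ⊥ := fun e => by
      have h3 := Solv.frobenius_nilpotent_le_centralizer (K := ⁅K, R⁆)
        (le_normalizer_commutator hRK le_normalizer)
        (fpf_of_prime hr (commutator_inf_Ct_of_comm hK.1 hRK hRKc))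
        ((elem_isP hV).to_le (hUV L)).isNilpotent (hAK.trans (hUK L hL.1))
        (le_normalizer_sSup fun k hk Y ⟨g, a, b⟩ =>
          ⟨k * g, mul_mem hk a, by rw [← b, hcj k (mem_sup_right hk), cj_mul]⟩)
        ((hc.of_dvd_left (card_dvd_of_le hAK)).of_dvd_right (card_dvd_of_le (hUV L)))
        (hRVc.of_dvd_right (card_dvd_of_le (hUV L))) e
      have h4 : V ⊓ Ct(L) ≤ U L := le_sSup ⟨1, one_mem _, by rw [cj_one]⟩
      refine hL.2.2 (eq_bot_iff.2 ?_)
      rw [← h0, ← sup_eq_of_relIndex (elem_isP hK) hL.1 hL.2.1 hAK hA hne, centralizer_sup]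
      exact le_inf inf_le_left (le_inf inf_le_right (h4.trans h3))
    exact (eq_of_le_of_card_ge (inf_le_inf_right _ (hUV L)) (hC.trans (le_card_of_ne_bot
      ((elem_isP hV).to_le (inf_le_left.trans (hUV L))) h1))).ge.trans inf_le_left
  have hCR : V ⊓ Ct(R) ≠ ⊥ := fun e => hA0 (by
    have := Solv.frobenius_nilpotent_le_centralizer (K := ⁅K, R⁆)
      (le_normalizer_commutator hRK le_normalizer)
      (fpf_of_prime hr (commutator_inf_Ct_of_comm hK.1 hRK hRKc)) (elem_isP hV).isNilpotent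
      (hAK.trans hKV) hRV (hc.of_dvd_left (card_dvd_of_le hAK)) hRVc e
    refine absurd ?_ (claim ⁅K, R⁆ ⟨hAK, hA, by rwa [inf_eq_left.2 this]⟩)
    refine le_normalizer_of_cj_le fun g hg => by_contra fun f => hV0 (eq_bot_iff.2 ?_)
    have h3 := hHy g (mem_sup_left hg) ⁅K, R⁆ ⟨hAK, hA, by rwa [inf_eq_left.2 this]⟩
    rw [← h0, ← sup_eq_of_relIndex (elem_isP hK) h3.1 h3.2.1 hAK hA fun e => f e.le, centralizer_sup]
    refine le_inf le_rfl (le_inf ?_ this)
    rw [← cj_centralizer, ← cj_eq_self_iff.2 (hPV hg)]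
    exact cj_mono g this)
  have orb : ∀ L L', Hy L → Hy L' → L ≠ ⁅K, R⁆ → L' ≠ ⁅K, R⁆ → ∃ g ∈ R, cj(g, L) = L' := by
    intro L L' a b c d
    obtain ⟨Y, h1, h3, h4⟩ := exists_hyperplane hK (le_normalizer_inf (hUK L a.1) (hUK L' b.1))
      (hc.of_dvd_right (card_dvd_of_le (inf_le_left.trans (hUV L))))
      (fun e => hCR (eq_bot_iff.2 (e ▸ le_inf (hUC L a c) (hUC L' b d))))
      (eq_bot_iff.2 (h0 ▸ inf_le_inf_right _ (inf_le_left.trans (hUV L))))
    have h5 : ∀ L, Hy L → U L ⊓ Ct(Y) ≠ ⊥ → ∃ g ∈ R, cj(g, L) = Y := fun L a b => by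
      by_contra! e
      exact b (eq_bot_iff.2 (hind Y h1 ▸ inf_le_inf_right _ (sSup_le fun Z ⟨g, c, d⟩ =>
        d ▸ hle _ _ (hHy g (mem_sup_right c) L a) h1 h3 (e g c))))
    obtain ⟨g, e, f⟩ := h5 L a fun e => h4 (eq_bot_iff.2 (e ▸ inf_le_inf_right _ inf_le_left))
    obtain ⟨g', e', f'⟩ := h5 L' b fun e => h4 (eq_bot_iff.2 (e ▸ inf_le_inf_right _ inf_le_right))
    exact ⟨g'⁻¹ * g, mul_mem (inv_mem e') e, by rw [cj_mul, f, ← f', cj_inv_cj]⟩
  obtain ⟨L₀, hL₀⟩ : ∃ L, Hy L := exists_hyperplane hK hKV hc hV0 h0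
  have hPs : SylIn p P (P ⊔ R) := sylIn_sup_left hP hpr (Or.inr hRP)
  have h1 : p ∣ Nm(L₀).relIndex (P ⊔ R) := by_contra fun h => by
    obtain ⟨Q, hQ⟩ := exists_sylIn p ((P ⊔ R) ⊓ Nm(L₀))
    have h3 := hQ.trans_of_not_dvd inf_le_left (by rwa [inf_relIndex_left])
    refine claim L₀ hL₀ ?_
    rw [← h3.eq_of_le hPs (hPs.le_of_normalizer h3.isP h3.le (h3.le.trans (sup_le le_normalizer hRP)))]
    exact hQ.le.trans inf_le_right
  have h3 : Odd (Nm(L₀).relIndex (P ⊔ R)) :=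
    Odd.of_dvd_nat (odd_card_sup hRP (odd_of_isPGroup h2 hP) hoR) (relIndex_dvd_card _ _)
  have h4 := Nat.le_of_dvd h3.pos h1
  have h5 := hp.out.two_le
  rw [← ncard_cj] at h1 h3 h4
  by_cases h6 : ∃ g ∈ P ⊔ R, cj(g, L₀) ≠ ⁅K, R⁆
  swap
  · push Not at h6
    have : {Y | ∃ g ∈ P ⊔ R, cj(g, L₀) = Y} ⊆ {⁅K, R⁆} := fun Y ⟨g, a, b⟩ => b.symm.trans (h6 g a)
    have := Set.ncard_le_ncard this
    rw [Set.ncard_singleton] at this
    omega
  obtain ⟨g, h6, h7⟩ := h6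
  have h8 : {Y | ∃ k ∈ R, cj(k, cj(g, L₀)) = Y} ⊆ {Y | ∃ g ∈ P ⊔ R, cj(g, L₀) = Y} :=
    fun Y ⟨k, a, b⟩ => ⟨k * g, mul_mem (mem_sup_right a) h6, by rwa [cj_mul]⟩
  have h9 : {Y | ∃ g ∈ P ⊔ R, cj(g, L₀) = Y} ⊆ insert ⁅K, R⁆ {Y | ∃ k ∈ R, cj(k, cj(g, L₀)) = Y} :=
    fun Y ⟨k, a, b⟩ => or_iff_not_imp_left.2 fun c =>
      orb _ _ (hHy g h6 _ hL₀) (b ▸ hHy k a _ hL₀) h7 c
  have h10 := Set.ncard_le_ncard h8
  have h11 := (Set.ncard_le_ncard h9).trans (Set.ncard_insert_le _ _)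
  rw [ncard_cj R] at h10 h11
  rcases (Nat.dvd_prime hr).1 (relIndex_dvd_card Nm(cj(g, L₀)) R) with e | e
  · omega
  · rcases h10.lt_or_eq with f | f
    · rw [show {Y | ∃ g ∈ P ⊔ R, cj(g, L₀) = Y}.ncard = Nat.card R + 1 by omega] at h3
      exact Nat.not_even_iff_odd.2 h3 hoR.add_one
    · exact coprime_iff_not_dvd.1 hpr (by rwa [← f, e] at h1)

omit hq in
theorem plength_core (hV : IsElementaryAbelian p V) (hK : Group.IsNilpotent K) (hP : IsPGroup p P)
    (hr : (Nat.card R).Prime) (h2 : p ≠ 2) (hoR : Odd (Nat.card R)) (hoK : Odd (Nat.card K))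
    (hKp : (Nat.card K).Coprime p) (hpr : (Nat.card R).Coprime p)
    (hRKc : (Nat.card R).Coprime (Nat.card K)) (hKV : K ≤ Nm(V))
    (hPV : P ≤ Nm(V)) (hRV : R ≤ Nm(V)) (hPK : P ≤ Nm(K)) (hRK : R ≤ Nm(K)) (hRP : R ≤ Nm(P))
    (hV0 : V ≠ ⊥) (h0 : V ⊓ Ct(K) = ⊥) (h0' : K ⊓ Ct(V) = ⊥)
    (hC : Nat.card (V ⊓ Ct(R) : Subgroup G) ≤ p) (hPR : P ⊓ Ct(R) = ⊥)
    (hZ : IsZGroup (K ⊓ Ct(R) : Subgroup G)) (h : ¬ P ≤ Ct(K))
    (hm : ∀ Y, Y < K → P ⊔ R ≤ Nm(Y) → P ≤ Ct(Y)) : False := by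
  have hs : Group.IsSolvable K := inferInstance
  have hX : P ⊔ R ≤ Nm(K) := sup_le hPK hRK
  have hc := coprime_of_isPGroup hP hKp
  have hRPc := (coprime_of_isPGroup hP hpr).symm
  obtain ⟨hKP, h1, h3⟩ := min_not_le_Ct hs hX le_sup_left (sup_le le_normalizer hRP) hc h hm
  have hd : ⁅K, K⁆ ≤ K := der_le K
  have h4 : ⁅K, K⁆ ≤ Ct(K) := (le_inf hd h1).trans h3
  have h5 : K ⊓ Ct(P) ≤ ⁅K, K⁆ := inf_Ct_le_commutator hPK hc hKP
  have hK0 : K ≠ ⊥ := fun e => h (le_Ct_comm.1 (e ▸ bot_le))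
  have hPe : ⁅P, R⁆ = P :=
    commutator_eq_of_inf_Ct_eq_bot hRP hRPc (Or.inr (isSolvable_of_isPGroup hP)) hPR
  obtain ⟨q, hq, hd', hKq⟩ : ∃ q : ℕ, q.Prime ∧ q ∣ Nat.card K ∧ Op q K = K := by
    by_contra! e
    exact h (le_Ct_comm.1 (le_of_Op_le hK fun q a b => le_Ct_comm.1
      (hm _ (lt_of_le_of_ne (FClass.radOf_le _ _) (e q a b)) (FClass.le_normalizer_radOf _ hX))))
  haveI := Fact.mk hq
  have hKq' : IsPGroup q K := hKq ▸ isPGroup_Op q K
  have hq2 := ne_two_of_dvd hoK hd'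
  have hpq : q ≠ p := fun e => coprime_iff_not_dvd.1 hKp (e ▸ hd')
  have he : ∀ x ∈ K, x ^ q = 1 := by
    refine fun x hx => pow_eq_one_of_class2 hq2 h4 x (by_contra fun e => h ?_)
    exact le_Ct_of_le_Ct_omegaOne hq2 hKq' hPK (hc.of_dvd_right hd') (hm _
      (lt_of_le_of_ne (omegaOne_le q K) fun f => e (f.symm ▸ hx)) (le_normalizer_omegaOne hX))
  have hCc : IsCyclic (K ⊓ Ct(R) : Subgroup G) :=
    isCyclic_of_isZGroup hZ (hKq'.to_le inf_le_left) le_rfl
  have h6 : ¬ K ⊓ Ct(R) ≤ ⁅K, K⁆ := fun e => (commutator_lt_of_isSolvable hs hK0).not_ge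
    (Solv.frobenius_nilpotent_le hRP (fpf_of_prime hr hPR) hK hPK hRK hc hRKc h5 fun x hx => by
      rw [smul_eq_cj, ← cj_centralizer, ← cj_eq_self_iff.2 (hPK hx), ← cj_inf, ← cj_commutator]
      exact cj_mono x e)
  have hC1 : El q 1 (K ⊓ Ct(R) : Subgroup G) := by
    have := el_one_omegaOne hCc (dvd_card_of_isPGroup (hKq'.to_le inf_le_left)
      fun e => h6 (e ▸ bot_le))
    rwa [le_antisymm (omegaOne_le q _) (le_omegaOne le_rfl fun x hx => he x (mem_inf.1 hx).1)] at this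
  have h7 := (le_or_inf_eq_bot hC1.card_prime ⁅K, K⁆).resolve_left h6
  have hAK : ⁅K, R⁆ ≤ K := commutator_le_left_of_le_normalizer hRK
  have hRA : R ≤ Nm(⁅K, R⁆) := le_normalizer_commutator hRK le_normalizer
  have hKA : K ≤ Nm(⁅K, R⁆) := le_sup_left.trans (sup_le_normalizer_commutator K R)
  have hRAc := hRKc.of_dvd_right (card_dvd_of_le hAK)
  have h8 : ⁅K, R⁆ ⊓ Ct(R) = ⊥ := eq_bot_iff.2 (h7 ▸ le_inf (inf_le_inf_right _ hAK)
    ((inf_Ct_le_commutator hRA hRAc (commutator_commutator_eq hRK hRKc (Or.inr hs))).trans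
      (commutator_mono hAK hAK)))
  have h9 := commutator_sup_Ct hRK hRKc (Or.inr hs)
  have hA : ⁅K, R⁆.relIndex K = q := by
    have := Solv.relIndex_sup_of_le_normalizer (H := K ⊓ Ct(R)) (inf_le_left.trans hKA)
    rw [sup_comm, h9] at this
    rw [this, ← inf_relIndex_right, ← inf_assoc, inf_eq_left.2 hAK, h8, relIndex_bot_left, hC1.card_one]
  have hA0 : ⁅K, R⁆ ≠ ⊥ := fun e => h (hPe.ge.trans (commutator_le_right_of_le_normalizer
    (le_normalizer_centralizer hPK) |>.trans' (commutator_mono le_rfl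
      (le_Ct_comm.1 (commutator_eq_bot_iff_le.1 e)))))
  have hAc : ⁅K, R⁆ ≤ Ct(⁅K, R⁆) := commutator_eq_bot_iff_le.1 (eq_bot_iff.2 (h0' ▸ le_inf
    ((der_le _).trans hAK) (der_le_Ct_of_isCyclic (isSolvable_of_isPGroup (elem_isP hV)) hRA
      (hAK.trans hKV) hRV hr h8
      (coprime_of_isPGroup (elem_isP hV) (hKp.of_dvd_left (card_dvd_of_le hAK))).symm
      (coprime_of_isPGroup (elem_isP hV) hpr).symm (by
        by_cases e : V ⊓ Ct(R) = ⊥
        · exact e ▸ Solv.isCyclic_bot'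
        · exact (el_one_iff.2 (card_eq_of_card_le ((elem_isP hV).to_le inf_le_left) e hC)).isCyclic))))
  have hlt : ⁅K, R⁆ < K := lt_of_le_of_ne hAK fun e => hq.one_lt.ne (by rw [← hA, e, relIndex_self])
  have h10 : ¬ P ≤ Nm(⁅K, R⁆) := fun e => by
    have a : ⁅K, R⁆ ≤ ⁅K, K⁆ := (le_inf hAK (le_Ct_comm.1 (hm _ hlt (sup_le e hRA)))).trans h5
    have b := eq_of_le_sup_der hK (inf_le_left : K ⊓ Ct(R) ≤ K)
      (h9.ge.trans (sup_le (a.trans le_sup_right) le_sup_left))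
    exact hA0 (commutator_eq_bot_iff_le.2 (b.ge.trans inf_le_right))
  have hab : K ≤ Ct(K) := by
    obtain ⟨y, hy, h11⟩ : ∃ y ∈ P, cj(y, ⁅K, R⁆) ≠ ⁅K, R⁆ := by
      by_contra! e
      exact h10 fun y hy => cj_eq_self_iff.1 (e y hy)
    have a : cj(y, ⁅K, R⁆) ≤ K := cj_le_of_mem hAK (hPK hy)
    have b : (cj(y, ⁅K, R⁆)).relIndex K = q := by
      rw [← hA, ← relIndex_cj y ⁅K, R⁆ K, cj_eq_self_iff.2 (hPK hy)]
    have c : cj(y, ⁅K, R⁆) ⊓ ⁅K, R⁆ ≤ K ⊓ Ct(K) := le_inf (inf_le_left.trans a)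
      (((inf_le_inf (comm_iff_le.1 (comm_cj.2 (comm_iff_le.2 hAc))) hAc).trans
        (centralizer_sup _ _).ge).trans (centralizer_mono (sup_eq_of_relIndex hKq' a b hAK hA h11).ge))
    have hL : K ⊔ (P ⊔ R) ≤ Nm(K) := sup_le le_normalizer hX
    have hn := le_normalizer_center hL
    have d := commutator_le_Ct_of_card_le_sq (p := q) (V := img hn K) (L := img hn (P ⊔ R))
      ((elem_img_iff le_sup_left).2 ⟨le_inf hd h4, fun x hx => by rw [he x hx]; exact one_mem _⟩)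
      (by
        rw [card_img le_sup_left]
        refine (relIndex_le_of_le_left c index_ne_zero_of_finite).trans
          (relIndex_inf_le.trans ?_)
        rw [b, hA, sq])
      (img_le_normalizer hX) (odd_img (odd_card_sup hRP (odd_of_isPGroup h2 hP) hoR))
      fun e => coprime_iff_not_dvd.1 (coprime_img_left (coprime_card_sup hRP (hc.of_dvd_right hd')
        (hRKc.of_dvd_right hd'))) (e.trans (relIndex_dvd_card _ _))
    rw [← img_commutator le_sup_right le_sup_right] at d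
    have f := (img_le_centralizer_iff (le_sup_left.trans le_sup_right) le_sup_left).1
      ((img_mono (hPe.ge.trans (commutator_mono le_sup_left le_sup_right))).trans d)
    rw [commutator_comm, hKP] at f
    exact f.trans inf_le_right
  refine plength_endgame hV (elem_of_comm hab he) hP hr h2 hoR hpq hpr (hRKc.of_dvd_right hd') hKV
    hPV hRV hPK hRK hRP hV0 h0 hC hKP (fun L a b c => eq_bot_iff.2 ?_) hA0 hA
  rw [← commutator_eq_bot_iff_le.2 hab]
  exact (le_inf a.le (le_Ct_comm.1 (hm L a (sup_le b c)))).trans h5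

omit hq hp in
theorem isZGroup_img {M N : Subgroup G} {hq : M ≤ Nm(N)} (h : IsZGroup H) : IsZGroup (img hq H) :=
  haveI : IsZGroup (H.subgroupOf M) := IsZGroup.of_injective (G' := H) (f := M.subtype.subgroupComap H)
    fun _ _ e => Subtype.ext (Subtype.ext (congrArg (Subtype.val : H → G) e))
  IsZGroup.of_surjective ((qmap hq).subgroupMap_surjective _)

omit hq hp in
theorem isNilpotent_of_isZGroup (h : IsZGroup H) (hR : R ≤ Nm(H)) (h1 : ⁅H, R⁆ = H) :
    Group.IsNilpotent H :=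
  Solv.isNilpotent_of_commutator_le_centralizer (le_Ct_comm.1 (h1.ge.trans
    ((commutator_mono le_sup_left le_sup_right).trans (Solv.commutator_le_centralizer_of_isCyclic
      (isCyclic_commutator_of_isZGroup h) (le_normalizer_commutator (sup_le le_normalizer hR) (sup_le le_normalizer hR))))))

omit hq in
theorem PL1.of_img_of_Opp {M N : Subgroup G} {hq : M ≤ Nm(N)} (h1 : H ≤ M) (hN : N ≤ H)
    (hP : IsPGroup p N) (h : PL1 p (BG.img hq H)) (h2 : Opp p (BG.img hq H) = ⊥) : PL1 p H := by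
  have := (h.sylIn_Op h2).hallIn.pre (isPi_singleton.2 hP)
  rw [pre_img_of_le h1 hN] at this
  exact pl1_of_normal_sylIn (hallIn_singleton.1 this)
    (le_normalizer_pre h1 (FClass.le_normalizer_radOf_self _ _))

omit hq in
theorem pl1_commutator_aux (n : ℕ) : ∀ {G : Type u} [Group G] [Finite G] {H R X : Subgroup G},
    Nat.card H ≤ n → Group.IsSolvable H → Odd (Nat.card H) → Odd (Nat.card X) → R ≤ Nm(H) →
    (Nat.card R).Coprime (Nat.card H) → X ≤ R → (Nat.card X).Prime →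
    IsZGroup (H ⊓ Ct(X) : Subgroup G) → PL1 p ⁅H, R⁆ := by
  induction n with
  | zero => exact fun h => absurd h (Nat.card_pos).not_ge
  | succ n ih =>
  intro G _ _ H R X hn hs ho hoX hR hc hXR hX hZ
  have hd : ⁅H, R⁆ ≤ H := commutator_le_left_of_le_normalizer hR
  rcases hd.lt_or_eq with e | e
  · rw [← commutator_commutator_eq hR hc (Or.inr hs)]
    exact ih (Nat.le_of_lt_succ ((card_lt_of_lt e).trans_le hn)) (isSolvable_of_le hd hs)
      (odd_of_le hd ho) hoX (le_normalizer_commutator hR le_normalizer)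
      (hc.of_dvd_right (card_dvd_of_le hd)) hXR hX (isZGroup_of_le hZ (inf_le_inf_right _ hd))
  rw [e]
  by_contra hH
  have hpH : p ∣ Nat.card H := by_contra fun h => hH (pl1_of_coprime (coprime_iff_not_dvd.2 h))
  have hRp := hc.of_dvd_right hpH
  have hXp := hRp.of_dvd_left (card_dvd_of_le hXR)
  have hXc := hc.of_dvd_left (card_dvd_of_le hXR)
  have hM : H ⊔ R ≤ Nm(H) := sup_le le_normalizer hR
  have quo : ∀ N, N ≤ H → N ≠ ⊥ → ∀ hq : H ⊔ R ≤ Nm(N), PL1 p (img hq H) := fun N a b hq => by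
    rw [← (congrArg (img hq) e), img_commutator le_sup_left le_sup_right]
    have h1 := card_img_of_disjoint (h := hq) (hXR.trans le_sup_right)
      (eq_bot_of_coprime (hXc.of_dvd_right (card_dvd_of_le a)))
    refine ih ?_ (isSolvable_img hs) (odd_img ho) (odd_img hoX) (img_le_normalizer hR) (coprime_img hc)
      (img_mono hXR) (h1 ▸ hX) ?_
    · have := card_img_mul (h := hq) (le_sup_left : H ≤ _)
      rw [inf_eq_right.2 a] at this
      have := (one_lt_card_iff_ne_bot _).2 b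
      nlinarith [Nat.card_pos (α := img hq H)]
    · rw [← img_inf_centralizer le_sup_left (hXR.trans le_sup_right) (hXR.trans hR)
        (hXc.of_dvd_right (card_dvd_of_le inf_le_left)) (Or.inl (isSolvable_of_prime hX))]
      exact isZGroup_img hZ
  have hO : Opp p H = ⊥ := by_contra fun h => hH (PL1.of_img le_sup_left
    (quo _ (FClass.radOf_le _ _) h (FClass.le_normalizer_radOf _ hM)) (coprime_Opp p H))
  obtain ⟨V, hVe⟩ : ∃ V, V = Op p H := ⟨_, rfl⟩
  have hVH : V ≤ H := hVe ▸ FClass.radOf_le _ _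
  have hVp : IsPGroup p V := hVe ▸ isPGroup_Op p H
  have hV : H ⊔ R ≤ Nm(V) := hVe ▸ FClass.le_normalizer_radOf _ hM
  have hCV : H ⊓ Ct(V) ≤ V := hVe ▸ inf_Ct_Op_le hs hO
  have hb : ∀ A, A ≤ H → (Nat.card A).Coprime p → A ≤ Ct(V) → A = ⊥ := fun A a b c =>
    eq_bot_of_isPGroup_of_coprime (hVp.to_le ((le_inf a c).trans hCV)) b
  have hVe' : IsElementaryAbelian p V := by
    have hF : (frattini V).map V.subtype ≤ V := map_subtype_le _
    suffices h : (frattini V).map V.subtype = ⊥ from elem_of_comm (commutator_eq_bot_iff_le.1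
      (eq_bot_iff.2 (h ▸ Solv.commutator_le_map_frattini hVp.isNilpotent)))
      fun x hx => mem_bot.1 (h ▸ Solv.pow_mem_map_frattini hVp hx)
    by_contra h
    have hq := hV.trans (Solv.normalizer_le_normalizer_map_of_characteristic V (frattini V))
    refine hH ((quo _ (hF.trans hVH) h hq).of_img_of_Opp le_sup_left (hF.trans hVH) (hVp.to_le hF) ?_)
    have h1 : pre hq (Opp p (img hq H)) ≤ H :=
      (pre_mono (FClass.radOf_le _ _)).trans (pre_img_of_le le_sup_left (hF.trans hVH)).le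
    obtain ⟨A, hA⟩ := exists_hallIn (isSolvable_of_le h1 hs) {p}ᶜ
    have h3 := hA.img (h := hq) (pre_le _)
    have hAp := isPi_compl_singleton.1 hA.isPi
    rw [img_pre] at h3
    rw [← h3.eq_iff.2 (isPi_compl_singleton.2 (coprime_Opp p _)), hb A (hA.le.trans h1) hAp
      (Solv.coprime_frattini_le_centralizer ((coprime_of_isPGroup hVp hAp).symm.of_dvd_right
        (card_subgroup_dvd_card _)) ?_
      ((hA.le.trans h1).trans (le_sup_left.trans hV))), img_bot]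
    refine (img_le_centralizer_iff (h := hq) (hVH.trans le_sup_left) (hA.le.trans (pre_le _))).1 ?_
    refine (hVe ▸ img_radOf_le _ le_sup_left :  img hq V ≤ Op p (img hq H)).trans
      ((Op_le_centralizer_Opp p _).trans (centralizer_mono h3.le))
  have hiH : img hV (H ⊔ R) ≤ Nm(img hV H) := img_le_normalizer hM
  obtain ⟨U, hUe⟩ : ∃ U, U = pre hV (Fit (img hV H)) := ⟨_, rfl⟩
  have hUi : img hV U = Fit (img hV H) := hUe ▸ img_pre _
  have hVU : V ≤ U := hUe ▸ ker_le_pre (hVH.trans le_sup_left) _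
  have hUH : U ≤ H := hUe ▸ (pre_mono (FClass.radOf_le _ _)).trans (pre_img_of_le le_sup_left hVH).le
  have hU : H ⊔ R ≤ Nm(U) := hUe ▸ le_normalizer_pre le_rfl (FClass.le_normalizer_radOf _ hiH)
  have hVS : SylIn p V U := sylIn_of_not_dvd hVU hVp (by
    rw [← card_img (h := hV) (hUH.trans le_sup_left), hUi]
    refine (sylIn_Op_of_isNilpotent (isNilpotent_Fit _)).eq_bot_iff.1 ?_
    rw [Op_Fit, ← img_Op le_sup_left (hVp.to_le inf_le_right), ← hVe, img_ker])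
  obtain ⟨K, hK, hRK⟩ := exists_invariant_hallIn (le_sup_right.trans hU)
    (hc.of_dvd_right (card_dvd_of_le hUH)) (isSolvable_of_le hUH hs) {p}ᶜ
  have hKH := hK.le.trans hUH
  have hKp := isPi_compl_singleton.1 hK.isPi
  have hVK := inf_eq_bot_of_isPGroup hVp hKp
  have hKV : K ≤ Nm(V) := hKH.trans (le_sup_left.trans hV)
  have h1 : V ⊔ K = U := hVS.hallIn.sup_eq hK
  have hKi : img hV K = Fit (img hV H) := by
    rw [← hUi, ← h1, img_ker_sup (hKH.trans le_sup_left) (hVH.trans le_sup_left)]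
  have hKn : Group.IsNilpotent K := isNilpotent_of_img (h := hV) (hKH.trans le_sup_left)
    (inf_comm V K ▸ hVK) (hKi ▸ isNilpotent_Fit _)
  have h3 : V ⊔ H ⊓ Nm(K) = H := by
    have := hK.frattini (isSolvable_of_le hUH hs) hUH (le_sup_left.trans hU)
    rwa [← h1, sup_assoc, sup_eq_right.2 (le_inf hKH le_normalizer)] at this
  have hRN : R ≤ Nm(H ⊓ Nm(K)) := le_normalizer_inf hR (le_normalizer_normalizer hRK)
  obtain ⟨P, hP, hRP⟩ := exists_invariant_hallIn hRN (hc.of_dvd_right (card_dvd_of_le inf_le_left))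
    (isSolvable_of_le inf_le_left hs) {p}
  have hPp := isPi_singleton.1 hP.isPi
  have hPH := hP.le.trans inf_le_left
  have hPK := hP.le.trans inf_le_right
  have hPV := hPH.trans (le_sup_left.trans hV)
  have h4 : ¬ P ≤ U := fun h => hH (pl1_of_normal_sylIn (sylIn_of_not_dvd hVH hVp fun a =>
    (hallIn_singleton.1 hP).not_dvd_relIndex (by
      rw [← h3, sup_comm, Solv.relIndex_sup_of_le_normalizer
        (inf_le_left.trans (le_sup_left.trans hV))] at a
      exact a.trans (relIndex_dvd_of_le_left _ (hVS.le_of_normalizer hPp h hPV))))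
    (le_sup_left.trans hV))
  have hCK : H ⊓ Ct(K) ≤ U := hUe ▸ le_pre (inf_le_left.trans le_sup_left) ((le_inf
    (img_mono inf_le_left) (hKi ▸ img_le_centralizer inf_le_right)).trans
      (inf_Ct_Fit_le (isSolvable_img hs)))
  have h5 : ¬ P ≤ Ct(K) := fun h => h4 ((le_inf hPH h).trans hCK)
  have hKVc := (coprime_of_isPGroup hVp hKp).symm
  have h6 : V ⊓ Ct(K) = ⊥ := by_contra fun h => by
    have a : ∀ Y, Y ≤ V → H ⊓ Nm(K) ⊔ R ≤ Nm(Y) → H ⊔ R ≤ Nm(Y) := fun Y a b => by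
      rw [← h3, sup_assoc]
      exact sup_le ((elem_le_Ct hVe').trans ((centralizer_mono a).trans (Ct_le_Nm Y))) b
    have b : H ⊓ Nm(K) ⊔ R ≤ Nm(V) := (sup_le_sup_right inf_le_left _).trans hV
    have c : H ⊓ Nm(K) ⊔ R ≤ Nm(K) := sup_le inf_le_right hRK
    have d := commutator_le_left_of_le_normalizer hKV
    exact hH (PL1.of_img₂ le_sup_left
      (quo _ (d.trans hVH) (fun f => h5 (le_Ct_comm.1 (hb K hKH hKp (commutator_eq_bot_iff'.1 f) ▸ bot_le)))
        (a _ d (le_normalizer_commutator b c)))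
      (quo _ (inf_le_left.trans hVH) h (a _ inf_le_left
        (le_normalizer_inf b (le_normalizer_centralizer c))))
      (eq_bot_iff.2 (commutator_inf_Ct_of_comm hVe'.1 hKV hKVc ▸ inf_le_inf_left _ inf_le_right)))
  have h7 : V ⊓ Nm(K) = ⊥ := eq_bot_iff.2 (h6 ▸ le_inf inf_le_left (commutator_eq_bot_iff_le.1
    (eq_bot_iff.2 (hVK ▸ le_inf ((commutator_mono inf_le_left le_rfl).trans
      (commutator_le_left_of_le_normalizer hKV)) (commutator_le_right_of_le_normalizer inf_le_right)))))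
  have hXK := hXR.trans hRK
  have hXV := hXR.trans (le_sup_right.trans hV)
  have hXKc := hXc.of_dvd_right (card_dvd_of_le hKH)
  have h8 : ¬ X ≤ Ct(K) := fun h => by
    have a : ⁅H ⊓ Nm(K), X⁆ ≤ K := by
      refine (le_inf (le_inf ((commutator_mono inf_le_left hXR).trans hd)
        ((commutator_mono le_rfl h).trans (commutator_le_right_of_le_normalizer
          (le_normalizer_centralizer inf_le_right)))) ((commutator_le_left_of_le_normalizer
          (hXR.trans hRN)).trans inf_le_right)).trans ((inf_le_inf_right _ hCK).trans ?_)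
      rw [← h1, sup_comm, sup_inf_of_le_normalizer hKV le_normalizer, h7, sup_bot_eq]
    have b := isZGroup_img (hq := hV) (isZGroup_of_le hZ (le_inf (inf_le_left : H ⊓ Nm(K) ≤ H)
      (le_Ct_comm.1 (le_Ct_of_commutator_le hXKc a h))))
    rw [← img_ker_sup (inf_le_left.trans le_sup_left) (hVH.trans le_sup_left), h3] at b
    have c := isNilpotent_of_isZGroup b (img_le_normalizer hR)
      (by rw [← img_commutator le_sup_left le_sup_right, e])
    exact h4 (hUe ▸ le_pre (hPH.trans le_sup_left) ((img_mono hPH).trans (le_Fit le_rfl le_normalizer c)))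
  have h9 : V ⊓ Ct(X) ≠ ⊥ := fun h => h8 (commutator_eq_bot_iff'.1 (hb _
    ((commutator_le_left_of_le_normalizer hXK).trans hKH)
    (hKp.of_dvd_left (card_dvd_of_le (commutator_le_left_of_le_normalizer hXK)))
    (commutator_le_Ct_of_fpf inferInstance hXK hKV hXV hX hXKc hKVc (odd_of_le hKH ho) hoX h)))
  have hc' : IsCyclic ((V ⊔ P) ⊓ Ct(X) : Subgroup G) := isCyclic_of_isZGroup hZ
    ((isPGroup_sup' hPV hVp hPp).to_le inf_le_left) (inf_le_inf_right _ (sup_le hVH hPH))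
  have h10 : El p 1 (V ⊓ Ct(X) : Subgroup G) := by
    have := el_one_omegaOne (isCyclic_of_le (inf_le_inf_right _ le_sup_left) hc')
      (dvd_card_of_isPGroup (hVp.to_le inf_le_left) h9)
    rwa [omegaOne_eq_self (elem_mono hVe' inf_le_left)] at this
  have h11 : P ⊓ Ct(X) = ⊥ := by_contra fun h => by
    obtain ⟨Y, a, b⟩ := exists_el_one_of_isPGroup (hPp.to_le inf_le_left) h
    refine b.ne_bot (eq_bot_iff.2 (h7 ▸ le_inf ?_ (a.trans (inf_le_left.trans hPK))))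
    rw [Solv.eq_of_isCyclic_of_card_eq hc' (a.trans (inf_le_inf_right _ le_sup_right))
      (inf_le_inf_right _ le_sup_left) (b.card.trans h10.card.symm)]
    exact inf_le_left
  obtain ⟨L, a, b, c, d⟩ := exists_min_not_le_Ct (sup_le hPK hXK) h5
  have hLV := a.trans hKV
  have hLp := hKp.of_dvd_left (card_dvd_of_le a)
  have f := commutator_le_left_of_le_normalizer hLV
  have g : ∀ A, A ≤ L → A ≤ Ct(⁅V, L⁆) → A = ⊥ := fun A h h' => hb A (h.trans (a.trans hKH))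
    (hLp.of_dvd_left (card_dvd_of_le h)) (le_Ct_of_commutator_le (coprime_of_isPGroup (hVp.to_le f)
      (hLp.of_dvd_left (card_dvd_of_le h))).symm (commutator_mono le_rfl h) h')
  exact plength_core (elem_mono hVe' f) (isNilpotent_of_le a hKn) hPp hX (ne_two_of_dvd ho hpH) hoX
    (odd_of_le (a.trans hKH) ho) hLp hXp (hXKc.of_dvd_right (card_dvd_of_le a))
    (le_normalizer_commutator hLV le_normalizer) (le_normalizer_commutator hPV (le_sup_left.trans b))
    (le_normalizer_commutator hXV (le_sup_right.trans b)) (le_sup_left.trans b) (le_sup_right.trans b)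
    (hXR.trans hRP) (fun h => c (le_Ct_comm.1 (g L le_rfl (le_Ct_comm.1 (h ▸ bot_le)) ▸ bot_le)))
    (commutator_inf_Ct_of_comm hVe'.1 hLV (hKVc.of_dvd_left (card_dvd_of_le a)))
    (g _ inf_le_left inf_le_right) ((card_le_of_le (inf_le_inf_right _ f)).trans h10.card_one.le) h11
    (isZGroup_of_le hZ (inf_le_inf_right _ (a.trans hKH))) c d

omit hq in
/-- BG 3.6 -/
theorem pl1_commutator {X : Subgroup G} (hs : Group.IsSolvable H) (ho : Odd (Nat.card H))
    (hoX : Odd (Nat.card X)) (hR : R ≤ Nm(H)) (hc : (Nat.card R).Coprime (Nat.card H)) (hXR : X ≤ R)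
    (hX : (Nat.card X).Prime) (hZ : IsZGroup (H ⊓ Ct(X) : Subgroup G)) : PL1 p ⁅H, R⁆ :=
  pl1_commutator_aux _ le_rfl hs ho hoX hR hc hXR hX hZ

end

end Cfsg.Agent.BG
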