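/-
The Thompson–Bender lemma on signalizers of abelian subgroups.
-/
import Cfsg.Agent.Lib.BG.PLen2

set_option autoImplicit false
set_option linter.unusedSectionVars false

namespace Cfsg.Agent.BG

open Subgroup Cfsg.Agent.Comp
open scoped commutatorElement Pointwise

universe u

variable {G : Type u} [Group G] {p : ℕ}

theorem sym_prod_mem {D : Subgroup G} {l : List G} (h : ∀ x ∈ l, x ∈ D) : l.prod * l.reverse.prod ∈ D :=
  mul_mem (list_prod_mem h) (list_prod_mem fun x hx => h x (List.mem_reverse.1 hx))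

theorem sym_prod_perm {D : Subgroup G} (hD : ⁅D, D⁆ ≤ Ct(D)) {l l' : List G} (e : l.Perm l') (h : ∀ x ∈ l, x ∈ D) :
    l.prod * l.reverse.prod = l'.prod * l'.reverse.prod := by
  induction e with
  | nil => rfl
  | cons a _ ih =>
    simp only [List.prod_cons, List.reverse_cons, List.prod_append, List.prod_nil, mul_one] at *
    rw [mul_assoc, ← mul_assoc _ _ a, ih fun x hx => h x (List.mem_cons_of_mem _ hx)]; simp only [mul_assoc]
  | swap a b l =>
    have ha := h a (by simp)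
    have hb := h b (by simp)
    have h1 := hD (commutator_mem_commutator hb ha) _ (mul_mem (mul_mem ha hb)
      (sym_prod_mem (l := l) fun x hx => h x (by simp [hx])))
    simp only [List.prod_cons, List.reverse_cons, List.prod_append, List.prod_nil, mul_one] at *
    calc _ = ⁅b, a⁆ * (a * b * (l.prod * l.reverse.prod)) * (a * b) := by rw [commutatorElement_def]; group
      _ = _ := by rw [← h1, commutatorElement_def]; group
  | trans e _ ih1 ih2 => exact (ih1 h).trans (ih2 fun x hx => h x (e.mem_iff.2 hx))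

theorem prod_map_mul_central {ι : Type*} (l : List ι) (f : ι → G) {z : G} (h : ∀ i, Commute (f i) z) :
    (l.map fun i => f i * z).prod = (l.map f).prod * z ^ l.length := by
  induction l with
  | nil => simp
  | cons a l ih =>
    rw [List.map_cons, List.prod_cons, ih, List.map_cons, List.prod_cons, List.length_cons, pow_succ', mul_assoc,
      mul_assoc, ← mul_assoc z, ← (Commute.list_prod_left _ _ fun x hx => ?_).eq, mul_assoc]
    obtain ⟨i, -, rfl⟩ := List.mem_map.1 hx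
    exact h i

variable [Finite G] [hp : Fact p.Prime]

/-- Baer's trick: an equivariant norm map on a group of class two -/
theorem exists_norm {D Q : Subgroup G} (hD : ⁅D, D⁆ ≤ Ct(D)) (hQ : Q ≤ Nm(D)) :
    ∃ M : G → G, (∀ x ∈ D, M x ∈ D ⊓ Ct(Q)) ∧ (∀ n ∈ Nm(Q), ∀ x ∈ D, n * x * n⁻¹ ∈ D → M (n * x * n⁻¹) = n * M x * n⁻¹) ∧
      ∀ x ∈ D, ∀ z ∈ Ct(D) ⊓ Ct(Q), M (x * z) = M x * z ^ (2 * Nat.card Q) := by
  classical
  haveI := Fintype.ofFinite Q
  let L : G → List G := fun x => (Finset.univ : Finset Q).toList.map fun q : Q => (q : G) * x * (q : G)⁻¹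
  have hL : ∀ x ∈ D, ∀ y ∈ L x, y ∈ D := fun x hx y hy => by
    obtain ⟨q, -, rfl⟩ := List.mem_map.1 hy
    exact conj_mem_of_mem_normalizer (hQ q.2) hx
  have hp : ∀ (e : Q ≃ Q) (g : Q → G), ((Finset.univ : Finset Q).toList.map (g ∘ e)).Perm
      ((Finset.univ : Finset Q).toList.map g) := fun e g => by
    rw [← Multiset.coe_eq_coe, ← Multiset.map_coe, ← Multiset.map_coe, Finset.coe_toList, ← Multiset.map_map,
      Multiset.map_univ_val_equiv]
  have h2 : ∀ n ∈ Nm(Q), ∀ x ∈ D, n * x * n⁻¹ ∈ D → (L (n * x * n⁻¹)).prod * (L (n * x * n⁻¹)).reverse.prod =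
      n * ((L x).prod * (L x).reverse.prod) * n⁻¹ := fun n hn x hx h => by
    simp only [L]
    rw [← sym_prod_perm hD (hp (Q.normalizerMonoidHom ⟨n, hn⟩).toEquiv _) fun y hy => ?_]
    · rw [← MulAut.conj_apply n (_ * _), map_mul, map_list_prod, map_list_prod, List.map_reverse, List.map_map]
      have e : ((fun q : Q => (q : G) * (n * x * n⁻¹) * (q : G)⁻¹) ∘ (Q.normalizerMonoidHom ⟨n, hn⟩).toEquiv) =
          (MulAut.conj n ∘ fun q : Q => (q : G) * x * (q : G)⁻¹) := by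
        ext q; simp [normalizerMonoidHom_apply_apply_coe, mul_assoc]
      rw [e]
    · obtain ⟨q, -, rfl⟩ := List.mem_map.1 hy
      exact conj_mem_of_mem_normalizer (hQ (Subtype.prop _)) h
  refine ⟨fun x => (L x).prod * (L x).reverse.prod, fun x hx => ⟨sym_prod_mem (hL x hx), fun q hq => ?_⟩, h2,
    fun x hx z hz => ?_⟩
  · rw [← mul_inv_eq_iff_eq_mul, ← h2 q (le_normalizer hq) x hx (conj_mem_of_mem_normalizer (hQ hq) hx)]
    simp only [L]
    refine Eq.trans (sym_prod_perm hD (hp (Equiv.mulRight ⟨q, hq⟩) (fun r : Q => (r : G) * x * (r : G)⁻¹)) fun y hy => ?_).symm ?_ |>.symm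
    rotate_left
    · congr 4 <;> ext q <;> simp [mul_assoc]
    · obtain ⟨r, -, rfl⟩ := List.mem_map.1 hy
      exact conj_mem_of_mem_normalizer (hQ (Subtype.prop _)) hx
  · have h3 : L (x * z) = (Finset.univ : Finset Q).toList.map fun q : Q => (q : G) * x * (q : G)⁻¹ * z :=
      List.map_congr_left fun q _ => by rw [← mul_assoc, mul_assoc _ z, ← hz.2 _ (inv_mem q.2), mul_assoc, mul_assoc, mul_assoc]
    have h4 : ∀ q : Q, Commute (q * x * (q : G)⁻¹) z := fun q => hz.1 _ (conj_mem_of_mem_normalizer (hQ q.2) hx)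
    simp only [h3]
    simp only [L, ← List.map_reverse, prod_map_mul_central _ _ h4, List.length_reverse, Finset.length_toList,
      Finset.card_univ, Fintype.card_eq_nat_card]
    have h5 : Commute (List.map (fun q : Q => q * x * (q : G)⁻¹) (Finset.univ : Finset Q).toList.reverse).prod z :=
      hz.1 _ (list_prod_mem fun y hy => hL x hx y (by rwa [List.map_reverse, List.mem_reverse] at hy))
    rw [mul_assoc, ← mul_assoc (z ^ _), ← (h5.pow_right _).eq, mul_assoc, ← pow_add, two_mul, mul_assoc]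

theorem tb_core (h2 : p ≠ 2) {R A Q : Subgroup G} (hR : IsPGroup p R) (hA : IsPGroup p A) (hAR : A ≤ Nm(R))
    (hQR : Q ≤ Nm(R)) (hAQ : A ≤ Nm(Q)) (hQ : (Nat.card Q).Coprime p)
    (h : ∀ x ∈ R ⊓ Ct(A), x ^ p = 1 → x ∈ Ct(Q)) : Q ≤ Ct(R) := by
  obtain ⟨H, a1, a2, -, a4, -, a6⟩ := exists_critical_odd h2 hR
  refine a6 Q hQR hQ (by_contra fun a7 => ?_)
  obtain ⟨D, b1, b2, b3, b4⟩ := exists_min_not_le_Ct (X := Q ⊔ A) (sup_le (hQR.trans a2) (hAR.trans a2)) a7
  have hD := hR.to_le (b1.trans a1)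
  have hc : (Nat.card Q).Coprime (Nat.card D) := (coprime_card_of_isPGroup hD hQ).symm
  obtain ⟨c1, c2, c3⟩ := min_not_le_Ct (isSolvable_of_isPGroup hD) b2 le_sup_left (sup_le le_normalizer hAQ) hc b3 b4
  have c4 : ⁅D, D⁆ ≤ D ⊓ Ct(Q) := le_inf (commutator_le_self D) c2
  obtain ⟨M, m1, m2, m3⟩ := exists_norm (c4.trans c3) (le_sup_left.trans b2)
  have hAD : A ≤ Nm(D) := le_sup_right.trans b2
  have hZ : D ⊔ A ≤ Nm(D ⊓ Ct(Q)) := sup_le ((le_Ct_comm.1 c3).trans (centralizer_le_normalizer _))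
    (le_normalizer_inf hAD (le_normalizer_centralizer hAQ))
  obtain ⟨x, x1, x2, x3⟩ : ∃ x ∈ D, x ∉ D ⊓ Ct(Q) ∧ ∀ a ∈ A, ⁅a, x⁆ ∈ D ⊓ Ct(Q) := by
    obtain ⟨L, ⟨l1, l2, l3⟩, l4⟩ := exists_minimal_of_wellFoundedLT
      (fun L : Subgroup G => L ≤ D ∧ ¬ L ≤ D ⊓ Ct(Q) ∧ A ≤ Nm(L)) ⟨D, le_rfl, fun e => b3 (le_Ct_comm.1 (e.trans inf_le_right)), hAD⟩
    obtain ⟨x, x1, x2⟩ := SetLike.not_le_iff_exists.1 l2
    refine ⟨x, l1 x1, x2, fun a ha => (?_ : ⁅A, L⁆ ≤ _) (commutator_mem_commutator ha x1)⟩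
    by_contra e
    rw [commutator_comm] at e
    have e1 := Solv.commutator_le_left_of_le_normalizer l3
    have := l4 ⟨e1.trans l1, e, le_normalizer_commutator l3 le_normalizer⟩ e1
    exact l2 ((Solv.eq_bot_of_le_commutator_of_nilpotent (L := L ⊔ A)
      ((hD.to_le l1).to_sup_of_normal_left' hA l3).isNilpotent le_sup_left le_sup_right this).le.trans bot_le)
  have hm : (2 * Nat.card Q).Coprime p := Nat.Coprime.mul_left ((Nat.coprime_primes Nat.prime_two hp.out).2 h2.symm) hQ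
  have hm' : ∀ z ∈ D, (2 * Nat.card Q).Coprime (orderOf z) := fun z hz =>
    hm.of_dvd_right (orderOf_dvd_of_pow_eq_one (a4 z (b1 hz)))
  obtain ⟨j, hj⟩ := exists_pow_eq_self_of_coprime (hm' _ (m1 x x1).1)
  have z1 : (M x ^ j)⁻¹ ∈ D ⊓ Ct(Q) := inv_mem (pow_mem (m1 x x1) _)
  have z2 := mul_mem x1 z1.1
  have z3 : M (x * (M x ^ j)⁻¹) = 1 := by
    rw [m3 x x1 _ ⟨c3 z1, z1.2⟩, inv_pow, ← pow_mul, mul_comm j, pow_mul, hj, mul_inv_cancel]
  refine x2 ((mul_mem_cancel_right z1).1 ⟨z2, h _ ⟨a1 (b1 z2), fun a ha => ?_⟩ (a4 _ (b1 z2))⟩)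
  generalize (M x ^ j)⁻¹ = z at *
  have z4 : (x * z)⁻¹ * (a * (x * z) * a⁻¹) ∈ D ⊓ Ct(Q) := by
    convert mul_mem (mul_mem (inv_mem z1) (conj_mem_of_mem_normalizer' (hZ (mem_sup_left x1)) (x3 a ha)))
      (conj_mem_of_mem_normalizer (hZ (mem_sup_right ha)) z1) using 1
    rw [commutatorElement_def]; group
  have z5 := m3 _ z2 _ ⟨c3 z4, z4.2⟩
  rw [mul_inv_cancel_left, m2 a (hAQ ha) _ z2 (conj_mem_of_mem_normalizer (hAD ha) z2), z3, mul_one, mul_inv_cancel,
    one_mul] at z5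
  have z6 := orderOf_eq_one_iff.1 ((hm' _ z4.1).symm.eq_one_of_dvd (orderOf_dvd_of_pow_eq_one z5.symm))
  rwa [inv_mul_eq_one, eq_mul_inv_iff_mul_eq, eq_comm] at z6

/-- Thompson–Bender -/
theorem thompson_bender (h2 : p ≠ 2) (hG : PLay p (⊤ : Subgroup G) = ⊥) {A Q : Subgroup G} (hA : IsPGroup p A)
    (h : ∀ x ∈ Ct(A), orderOf x = p → x ∈ A) (hQ : (Nat.card Q).Coprime p) (hAQ : A ≤ Nm(Q)) : Q ≤ pPrimeCore p G := by
  let f := QuotientGroup.mk' (pPrimeCore p G)
  have hk : ⊤ ⊓ f.ker = Opp p (⊤ : Subgroup G) := by rw [top_inf_eq, QuotientGroup.ker_mk', Opp_top]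
  have h1 := charP_map_of_PLay_eq_bot _ hk hG
  rw [Solv.map_top_mk, charP_top_iff] at h1
  have h3 := map_inf_centralizer f (M := ⊤) (A := A) le_normalizer_of_normal
    (by rw [hk]; exact coprime_card_of_isPGroup hA (coprime_Opp p _)) (Or.inl (isSolvable_of_isPGroup hA))
  rw [top_inf_eq, Solv.map_top_mk, top_inf_eq] at h3
  have h4 : (Nat.card (Q.map f)).Coprime p := hQ.of_dvd_left (card_map_dvd _ _)
  have h5 := tb_core h2 (Solv.isPGroup_pCore p _) (hA.map f) le_normalizer_of_normal le_normalizer_of_normal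
    (map_le_normalizer_map f hAQ) h4 fun x hx hx1 => by
      obtain ⟨P, p1, p2, p3⟩ := exists_isPGroup_map_eq f (X := Ct(A)) (Q := zpowers x) (zpowers_le.2 (h3.ge hx.2))
        ((Solv.isPGroup_pCore p _).to_le (zpowers_le.2 hx.1))
      obtain ⟨y, hy, rfl⟩ := p3.ge (mem_zpowers x)
      have p4 : y ^ p = 1 := mem_bot.1 ((eq_bot_of_isPGroup_of_coprime (p2.to_inf_left (K := pPrimeCore p G))
        ((Solv.coprime_card_pPrimeCore p).of_dvd_left (card_dvd_of_le inf_le_right))).le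
        ⟨pow_mem hy p, (QuotientGroup.eq_one_iff _).1 hx1⟩)
      have p5 : y ∈ A := by
        rcases eq_or_ne y 1 with rfl | e
        · exact one_mem _
        · exact h y (p1 hy) (orderOf_eq_prime p4 e)
      refine fun q hq => commutatorElement_eq_one_iff_mul_comm.1 (mem_bot.1 ((eq_bot_of_isPGroup_of_coprime
        ((Solv.isPGroup_pCore p _).to_inf_left (K := Q.map f)) (h4.of_dvd_left (card_dvd_of_le inf_le_right))).le ⟨?_, ?_⟩))
      · exact commutator_le_right ⊤ _ (commutator_mem_commutator (mem_top _) hx.1)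
      · exact Solv.commutator_le_left_of_le_normalizer (map_le_normalizer_map f hAQ)
          (commutator_mem_commutator hq (mem_map_of_mem f p5))
  have h6 := eq_bot_of_isPGroup_of_coprime ((Solv.isPGroup_pCore p _).to_le (h5.trans h1)) h4
  rwa [Subgroup.map_eq_bot_iff, QuotientGroup.ker_mk'] at h6

end Cfsg.Agent.BG
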