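import Cfsg.Agent.Lib.BG.MinNA

set_option autoImplicit false
set_option linter.unusedSectionVars false
set_option linter.style.haveILetI false

/-! Iterated commutators of a `p`-group acting on a `p`-group. -/

namespace Cfsg.Agent.Unis

open Cfsg.Agent.Comp Cfsg.Agent.BG Subgroup
open scoped commutatorElement

universe u
variable {L : Type u} [Group L] {p : ℕ} {G N H : Subgroup L}

theorem shift (N G : Subgroup L) (k : ℕ) : iterCommutator N G (k + 1) = iterCommutator ⁅N, G⁆ G k := by
  induction k with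
  | zero => rfl
  | succ k ih => exact congrArg (⁅·, G⁆) ih

theorem iter_bot (G : Subgroup L) (k : ℕ) : iterCommutator ⊥ G k = ⊥ := by
  induction k with
  | zero => rfl
  | succ k ih => exact (congrArg (⁅·, G⁆) ih).trans (commutator_bot_left _)

theorem le_Nm (N G : Subgroup L) : G ≤ Nm((⁅N, G⁆ : Subgroup L)) := le_sup_right.trans (sup_le_normalizer_commutator N G)

variable [Finite L] [hp : Fact p.Prime]

theorem pow_le (hG : IsPGroup p G) (n : ℕ) :
    ∀ N : Subgroup L, IsPGroup p N → G ≤ Nm(N) → iterCommutator N G n ≠ ⊥ → p ^ (n + 1) ≤ Nat.card N := by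
  induction n with
  | zero => exact fun N hN _ h => (pow_one p).le.trans (le_card_of_ne_bot hN h)
  | succ n ih =>
    intro N hN h1 h
    have a := commutator_lt_of_isPGroup hG hN h1 (by rintro rfl; exact h (iter_bot _ _))
    exact pow_le_card_of_lt hN a (ih _ (hN.to_le a.le) (le_Nm _ _) (shift N G n ▸ h))

theorem sup_comm_lt (hG : IsPGroup p G) (hN : IsPGroup p N) (h1 : G ≤ Nm(N)) (h2 : H < N) (h3 : G ≤ Nm(H)) :
    H ⊔ ⁅N, G⁆ < N := by
  obtain ⟨K, k1, ⟨k2, k3⟩, k4⟩ := Finite.exists_le_maximal (p := fun K => K < N ∧ G ≤ Nm(K)) ⟨h2, h3⟩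
  refine lt_of_le_of_lt (sup_le_sup_right k1 _) ?_
  have a : N ≤ Nm(K) := by
    by_contra e
    have b : N ⊓ Nm(K) < N := inf_lt_left.2 e
    exact (lt_inf_normalizer_of_isPGroup hN k2).not_ge
      (k4 ⟨b, Solv.le_normalizer_inf h1 (k3.trans le_normalizer)⟩ (le_inf k2.le le_normalizer))
  have hq : G ⊔ N ≤ Nm(K) := sup_le k3 a
  have c := Solv.commutator_le_left_of_le_normalizer h1
  refine lt_of_le_of_ne (sup_le k2.le c) fun e => ?_
  have b := commutator_lt_of_isPGroup (isPGroup_img (h := hq) hG) (isPGroup_img hN) (img_le_normalizer h1)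
    fun t => k2.not_ge ((img_eq_bot_iff le_sup_right).1 t)
  rw [← img_commutator le_sup_right le_sup_left, ← img_ker_sup (c.trans le_sup_right) (k2.le.trans le_sup_right), e] at b
  exact b.false

theorem eq_iter (hG : IsPGroup p G) (h3 : G ≤ Nm(H)) (n : ℕ) : ∀ N : Subgroup L, G ≤ Nm(N) → Nat.card N = p ^ n →
    (iterCommutator N G (n - 1) ≠ ⊥ ∨ n = 0) → H ≤ N →
      ∃ i ≤ n, H = iterCommutator N G i ∧ Nat.card H = p ^ (n - i) ∧ (H ≠ ⊥ → (⁅H, G⁆).relIndex H = p) := by
  induction n with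
  | zero =>
    intro N _ h _ h2
    obtain rfl := card_eq_one.1 h
    obtain rfl := le_bot_iff.1 h2
    exact ⟨0, le_rfl, rfl, h, fun e => absurd rfl e⟩
  | succ n ih =>
    intro N h1 h e h2
    replace e : iterCommutator N G n ≠ ⊥ := e.resolve_right n.succ_ne_zero
    have hN := IsPGroup.of_card h
    have a := commutator_lt_of_isPGroup hG hN h1 (by rintro rfl; exact e (iter_bot _ _))
    have b : Nat.card (⁅N, G⁆ : Subgroup L) = p ^ n := by
      refine le_antisymm (card_le_pow_of_lt hN a h.le) ?_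
      rcases n with - | n
      · exact (pow_zero p).le.trans Nat.card_pos
      · exact pow_le hG n _ (hN.to_le a.le) (le_Nm _ _) (shift N G n ▸ e)
    rcases h2.eq_or_lt with rfl | h2
    · refine ⟨0, Nat.zero_le _, rfl, h, fun _ => Nat.eq_of_mul_eq_mul_left (pow_pos hp.out.pos n) ?_⟩
      rw [← b, Solv.card_mul_relIndex a.le, h, b, pow_succ]
    have c : H ≤ ⁅N, G⁆ := le_sup_left.trans (eq_of_le_of_card_ge le_sup_right
      ((card_le_pow_of_lt hN (sup_comm_lt hG hN h1 h2 h3) h.le).trans b.ge)).ge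
    obtain ⟨i, i1, i2, i3, i4⟩ := ih _ (le_Nm _ _) b (by
      rcases n with - | n
      · exact Or.inr rfl
      · exact Or.inl (shift N G n ▸ e)) c
    exact ⟨i + 1, by omega, by rw [shift, i2], by rw [i3]; congr 1; omega, i4⟩

end Cfsg.Agent.Unis
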