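/-
Refinements of Wielandt's zipper lemma.
-/
import Cfsg.Agent.Lib.BG.PLen
import Cfsg.Agent.Lib.Solv.Zip

set_option autoImplicit false
set_option linter.unusedSectionVars false

namespace Cfsg.Agent.Zip2

open Subgroup Cfsg.Agent.Comp Cfsg.Agent.BG
open scoped commutatorElement Pointwise

universe u

variable {G : Type u} [Group G] [Finite G] {A B H K M : Subgroup G}

theorem subnIn_of_zip (M : Subgroup G) : A ≤ M → (∀ M' K, M' ≤ M → A ≤ K → K < M' → (∀ V, A ≤ V → V < M' → V ≤ K) →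
    ¬ SubnIn A M' → (∀ x ∈ M', cj(x, A) ≤ K → x ∈ K) → False) → SubnIn A M := by
  induction M using subgroup_induction with | h M ih => ?_
  intro h1 h
  by_contra h2
  have h3 : ∀ V, A ≤ V → V < M → SubnIn A V := fun V a b => ih V b a fun M' K c => h M' K (c.trans b.le)
  obtain ⟨K, k1, k2, k3⟩ := Solv.zipper h1 h3 h2
  refine h M K le_rfl k1 k2 k3 h2 fun x hx h4 => ?_
  have h5 : x⁻¹ ∈ Nm(K) := cj_eq_self_iff.1 (eq_of_le_of_card_ge (k3 _ (cj_le_iff.1 h4) (by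
    rw [← cj_eq_self_of_mem (inv_mem hx)]
    exact lt_of_le_of_ne (cj_mono _ k2.le) fun e => k2.ne (cj_inj.1 e))) (card_cj _ _).ge)
  refine k3 (M ⊓ Nm(K)) (le_inf h1 (k1.trans le_normalizer)) (lt_of_le_of_ne inf_le_left fun e => h2 ?_) (mem_inf.2 ⟨hx, inv_mem_iff.1 h5⟩)
  exact (h3 K k1 k2).trans (.of_normalizer k2.le (inf_eq_left.1 e))

/-- `H` is generated by its conjugates of `A` -/
def Full (A H : Subgroup G) : Prop := A ⊔ ⁅A, H⁆ = H

theorem Full.le (h : Full A H) : A ≤ H := h ▸ le_sup_left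

theorem full_iff (h : A ≤ H) : Full A H ↔ H ≤ A ⊔ ⁅A, H⁆ :=
  ⟨fun e => e.ge, le_antisymm (sup_commutator_le h le_normalizer)⟩

theorem full_iff' (h : A ≤ H) : normalClosure ((A.subgroupOf H : Subgroup H) : Set H) = ⊤ ↔ Full A H := by
  have h1 : normalClosure ((A.subgroupOf H : Subgroup H) : Set H) = A.subgroupOf H ⊔ ⁅A.subgroupOf H, ⊤⁆ :=
    haveI := normal_iff_top_le_normalizer.2 (le_normalizer_sup_commutator (A.subgroupOf H) ⊤)
    le_antisymm (normalClosure_le_normal (le_sup_left : A.subgroupOf H ≤ _))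
      (sup_commutator_le le_normalClosure le_normalizer_of_normal)
  rw [h1, ← (map_injective H.subtype_injective).eq_iff, Subgroup.map_sup, Subgroup.map_commutator, map_subtype_top,
    map_subgroupOf_eq_of_le h, Full]

theorem Full.eq (h : Full A H) (h1 : SubnIn A H) : A = H := by_contra fun e => (h1.sup_commutator_lt e).ne h

theorem Full.trans (h : Full A B) (h1 : Full B H) : Full A H :=
  (full_iff (h.le.trans h1.le)).2 (h1.ge.trans (sup_commutator_le (h.ge.trans (sup_le_sup_left (commutator_mono le_rfl h1.le) _))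
    (le_normalizer_sup_commutator _ _)))

theorem Full.of_le (h : Full A H) (h1 : A ≤ B) (h2 : B ≤ H) : Full B H :=
  (full_iff h2).2 (h.ge.trans (sup_le_sup h1 (commutator_mono h1 le_rfl)))

theorem Full.cj (h : Full A H) (g : G) : Full cj(g, A) cj(g, H) := by rw [Full, ← cj_commutator, ← cj_sup, h]

theorem exists_full (h : A ≤ H) : ∃ B, SubnIn B H ∧ Full A B := by
  obtain ⟨B, -, ⟨b1, b2⟩, b3⟩ := exists_minimal_subgroup (P := fun B => A ≤ B ∧ SubnIn B H) ⟨h, .refl H⟩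
  have := sup_commutator_le b1 (le_normalizer (H := B))
  exact ⟨B, b2, b3 _ ⟨le_sup_left, (SubnIn.of_normalizer this (le_normalizer_sup_commutator _ _)).trans b2⟩ this⟩

theorem isCoatom_cj (h : IsCoatom M) (g : G) : IsCoatom cj(g, M) :=
  (OrderIso.isCoatom_iff (MulEquiv.mapSubgroup (MulAut.conj g)) M).2 h

theorem flavell_aux (n : ℕ) : ∀ A Z : Subgroup G, A.index = n → Full A ⊤ → A ≠ ⊤ → Z ≠ ⊤ → (∀ H, H ≠ ⊤ → Full A H → H ≤ Z) →
    ∃ M, IsCoatom M ∧ A ≤ M ∧ ∀ K, IsCoatom K → A ≤ K → K = M := by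
  induction n using Nat.strong_induction_on with | h n ih0 => ?_
  intro A Z hn hA hA0 hZ hY
  have ih : ∀ T Z : Subgroup G, Nat.card A < Nat.card T → Full T ⊤ → T ≠ ⊤ → Z ≠ ⊤ → (∀ H, H ≠ ⊤ → Full T H → H ≤ Z) →
      ∀ K L, IsCoatom K → IsCoatom L → T ≤ K → T ≤ L → K = L := fun T Z h a b c d K L k1 l1 k2 l2 => by
    obtain ⟨M, -, -, m⟩ := ih0 T.index (by
      rw [← hn]; refine lt_of_mul_lt_mul_left (a := Nat.card T) ?_ (Nat.zero_le _)
      rw [card_mul_index, ← card_mul_index A]; exact Nat.mul_lt_mul_of_pos_right h (Nat.pos_of_ne_zero index_ne_zero_of_finite))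
      T Z rfl a b c d
    rw [m K k1 k2, m L l1 l2]
  set Y := sSup {H | H ≠ ⊤ ∧ Full A H} with hYd
  have y0 : ∀ H, H ≠ ⊤ → Full A H → H ≤ Y := fun H a b => le_sSup ⟨a, b⟩
  have y1 : Y ≠ ⊤ := fun e => hZ (top_le_iff.1 (e ▸ sSup_le fun H h => hY H h.1 h.2))
  have y2 : A ≤ Y := y0 A hA0 ((full_iff le_rfl).2 le_sup_left)
  have y3 : Full A Y := (full_iff y2).2 (sSup_le fun H h => h.2.ge.trans
    (sup_le_sup_left (commutator_mono le_rfl (y0 H h.1 h.2)) _))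
  by_cases y4 : A = Y
  · obtain ⟨K, k1, k2, k3⟩ := Solv.zipper (M := ⊤) le_top (fun V a b => by
      obtain ⟨B, b1, b2⟩ := exists_full a
      rwa [le_antisymm b2.le ((y0 B (b1.le.trans_lt b).ne b2).trans y4.ge)]) fun h => hA0 (hA.eq h)
    obtain ⟨M, m1, m2⟩ := Solv.exists_coatom_ge k2.ne
    exact ⟨M, m1, k1.trans m2, fun L l1 l2 => (l1.le_iff.1 ((k3 L l2 l1.lt_top).trans m2)).resolve_left m1.1 |>.symm⟩
  obtain ⟨M, m1, m2⟩ := Solv.exists_coatom_ge y1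
  refine ⟨M, m1, y2.trans m2, fun K0 k1 k2 => by_contra fun k3 => ?_⟩
  have a0 : ∀ K, IsCoatom K → A ≤ K → K ≠ M → SubnIn A K := fun K k1 k2 k3 => by
    obtain ⟨B, b1, b2⟩ := exists_full k2
    have b3 := (b1.le.trans_lt k1.lt_top).ne
    by_contra e
    exact k3 (ih B Y (Comp.card_lt_of_lt (lt_of_le_of_ne b2.le fun e' => e (e' ▸ b1))) (hA.of_le b2.le le_top) b3 y1
      (fun H a b => y0 H a (b2.trans b)) K M k1 m1 b1.le ((y0 B b3 b2).trans m2))
  have nt : ∀ W : Subgroup G, A ≤ W → W ≠ ⊤ → Nm(W) ≠ ⊤ := fun W a b e =>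
    b (top_le_iff.1 (hA.ge.trans (sup_commutator_le a e.ge)))
  have b0 : Nm(A) ≤ M := by
    obtain ⟨L, l1, l2⟩ := Solv.exists_coatom_ge (nt Y y2 y1)
    rw [← ih Y Y (Comp.card_lt_of_lt (lt_of_le_of_ne y2 y4)) (hA.of_le y2 le_top) y1 y1
      (fun H a b => y0 H a (y3.trans b)) L M l1 m1 (le_normalizer.trans l2) m2]
    refine le_trans (le_normalizer_sSup fun g hg H h => And.intro (fun e => h.1 (by rw [← cj_inj (g := g), e, cj_top])) ?_) l2
    simpa only [cj_eq_self_iff.2 hg] using h.2.cj g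
  have b1 : ¬ M ≤ Nm(A) := fun e => y4 (y3.eq (.of_normalizer y2 (m2.trans e)))
  have am : ∀ g, cj(g, A) ≤ cj(g, M) := fun g => cj_mono g (y2.trans m2)
  have a1 : ∀ g K, IsCoatom K → cj(g, A) ≤ K → K ≠ cj(g, M) → SubnIn cj(g, A) K := fun g K k1 k2 k3 => by
    simpa only [cj_cj_inv] using (a0 _ (isCoatom_cj k1 g⁻¹) (cj_le_iff.1 k2) fun e => k3 (by rw [← e, cj_cj_inv])).map
      (MulAut.conj g).toMonoidHom
  have wd : ∀ g h, cj(g, A) = cj(h, A) → cj(g, M) = cj(h, M) := fun g h e => by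
    rw [← mul_inv_cancel_left h g, cj_mul, cj_eq_self_of_mem (b0 (cj_eq_self_iff.1 (by rw [cj_mul, e, cj_inv_cj])))]
  have c0 : ∀ g h K L, IsCoatom K → IsCoatom L → K ≠ L → cj(g, A) ≤ K ⊓ L → cj(h, A) ≤ K ⊓ L → cj(g, A) = cj(h, A) ∨
      (cj(g, M) ≠ cj(h, M) ∧ cj(g, A) ≤ cj(h, M) ∧ cj(h, A) ≤ cj(g, M)) := fun g h K L k1 l1 e g1 h1 => by
    by_contra h2
    rw [not_or] at h2
    have t1 := sup_le g1 h1
    have t2 := (t1.trans_lt (inf_le_left.trans_lt k1.lt_top)).ne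
    have t3 : ∀ H, H ≠ ⊤ → Full (cj(g, A) ⊔ cj(h, A)) H → H = cj(g, A) ⊔ cj(h, A) ∨ H ≤ cj(g, M) ∨ H ≤ cj(h, M) := fun H a b => by
      obtain ⟨N, n1, n2⟩ := Solv.exists_coatom_ge a
      by_contra e
      push Not at e
      exact e.1 (b.eq (((a1 g N n1 (le_sup_left.trans (b.le.trans n2)) fun e' => e.2.1 (e' ▸ n2)).sup
        (a1 h N n1 (le_sup_right.trans (b.le.trans n2)) fun e' => e.2.2 (e' ▸ n2))).of_le b.le n2)).symm
    obtain ⟨Z, z1, z2⟩ : ∃ Z : Subgroup G, Z ≠ ⊤ ∧ ∀ H, H ≠ ⊤ → Full (cj(g, A) ⊔ cj(h, A)) H → H ≤ Z := by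
      by_cases u : cj(h, A) ≤ cj(g, M)
      · refine ⟨_, (isCoatom_cj m1 g).1, fun H a b => (t3 H a b).elim (fun e => e ▸ sup_le (am g) u) fun e => e.elim id
          fun e => by_contra fun e' => h2.2 ⟨fun e'' => e' (e'' ▸ e), le_sup_left.trans (b.le.trans e), u⟩⟩
      by_cases v : cj(g, A) ≤ cj(h, M)
      · exact ⟨_, (isCoatom_cj m1 h).1, fun H a b => (t3 H a b).elim (fun e => e ▸ sup_le v (am h)) fun e => e.elim
          (fun e => absurd (le_sup_right.trans (b.le.trans e)) u) id⟩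
      · exact ⟨_, t2, fun H a b => (t3 H a b).elim Eq.le fun e => e.elim
          (fun e => absurd (le_sup_right.trans (b.le.trans e)) u) fun e => absurd (le_sup_left.trans (b.le.trans e)) v⟩
    refine e (ih _ Z (by
      rw [← card_cj g A]
      exact Comp.card_lt_of_lt (left_lt_sup.2 fun e => h2.1 (eq_of_le_of_card_ge e (by rw [card_cj, card_cj])).symm))
      (Full.of_le (by simpa only [cj_top] using hA.cj g) le_sup_left le_top) t2 z1 z2 K L k1 l1 (t1.trans inf_le_left)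
      (t1.trans inf_le_right))
  have e0 : ∀ K, IsCoatom K → A ≤ K → K ≠ M → ∃ k ∈ K, cj(k, A) ≠ A ∧ cj(k, M) ≠ M ∧ A ≤ cj(k, M) ∧ cj(k, A) ≤ M :=
    fun K k1 k2 k3 => by
    obtain ⟨_, ⟨k, k4, rfl⟩, k5, k6⟩ := Solv.exists_le_normalizer_sSup K {X | ∃ k ∈ K, cj(k, A) = X} {A}
      (by rintro _ ⟨k, hk, rfl⟩; exact (a0 K k1 k2 k3).cj (le_normalizer hk))
      (by rintro _ ⟨k, hk, rfl⟩ g hg; exact ⟨g * k, mul_mem hg hk, cj_mul _ _ _⟩)
      ⟨by rintro _ rfl; exact ⟨1, one_mem _, cj_one _⟩, fun h => k3 ((k1.le_iff.1 (le_trans (fun k hk =>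
        cj_eq_self_iff.1 (h ⟨k, hk, rfl⟩)) b0)).resolve_left m1.1).symm⟩
    rw [sSup_singleton] at k6
    have := (c0 k 1 K M k1 m1 k3 (le_inf (cj_le_of_mem k2 (le_normalizer k4)) (k6.trans b0))
      (by rw [cj_one]; exact le_inf k2 (y2.trans m2))).resolve_left (by rwa [cj_one])
    simp only [cj_one] at this
    exact ⟨k, k4, k5, this.1, this.2.2, this.2.1⟩
  obtain ⟨c, -, -, c2, c3, c4⟩ := e0 K0 k1 k2 k3
  have c5 := isCoatom_cj m1 c
  have am1 := y2.trans m2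
  have f0 : ∀ g, cj(g, A) ≤ M ⊓ cj(c, M) → ∀ h, cj(h, A) ≤ M ⊓ cj(c, M) → cj(h, A) ≤ cj(g, M) := fun g a h b =>
    (c0 g h _ _ m1 c5 c2.symm a b).elim (fun e => e ▸ am g) fun e => e.2.2
  have f1 : ∀ y ∈ M, cj(y * c, A) ≤ cj(c, M) → cj(y, A) = A := fun y hy h => by
    have h1 : A ≤ cj(y * c, M) := by
      simpa only [cj_one] using f0 (y * c) (le_inf (by rw [cj_mul]; exact cj_le_of_mem c4 (le_normalizer hy)) h) 1
        (by rw [cj_one]; exact le_inf am1 c3)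
    have := c0 y 1 M cj(y * c, M) m1 (isCoatom_cj m1 _) (fun e => c2 (by
      rw [← cj_inj (g := y), ← cj_mul, ← e, cj_eq_self_of_mem hy])) (le_inf (cj_le_of_mem am1 (le_normalizer hy))
      (by rw [cj_mul]; exact cj_mono y c3)) (by rw [cj_one]; exact le_inf am1 h1)
    simp only [cj_one, cj_eq_self_of_mem hy, ne_eq, not_true, false_and, or_false] at this
    exact this
  set W := sSup {X | ∃ g, cj(g, A) = X ∧ X ≤ M ⊓ cj(c, M)} with hW
  have w1 : W ≤ M ⊓ cj(c, M) := sSup_le fun X ⟨_, _, h⟩ => h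
  have w2 : ∀ y, cj(y, A) ≤ M ⊓ cj(c, M) → cj(y * c, A) ≤ M ⊓ cj(c, M) → y ∈ Nm(W) := fun y a b => by
    refine cj_eq_self_iff.1 (eq_of_le_of_card_ge (sSup_le ?_) (card_cj _ _).le).symm
    rintro _ ⟨g, rfl, h⟩
    rw [le_cj_iff, ← cj_mul]
    refine le_sSup ⟨_, rfl, ?_⟩
    rw [cj_mul, cj_le_iff, inv_inv, cj_inf, ← cj_mul]
    exact le_inf (f0 y a g h) (f0 _ b g h)
  obtain ⟨k, k4, k5, k6, k7, k8⟩ := e0 _ c5 c3 c2
  have k9 := le_inf k8 (cj_le_of_mem c3 (le_normalizer k4))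
  have c6 := le_inf c4 (am c)
  have k10 : k ∈ Nm(W) := w2 k k9 (by
    rw [(c0 (k * c) c _ _ (isCoatom_cj m1 k) c5 (fun e => c2 (by rw [← cj_inj (g := k), cj_eq_self_of_mem k4, e]))
      (by rw [cj_mul]; exact le_inf (cj_mono k c4) (cj_le_of_mem (am c) (le_normalizer k4)))
      (le_inf (f0 k k9 c c6) (am c))).resolve_right fun h => h.1 (by rw [cj_mul, cj_eq_self_of_mem k4])]
    exact c6)
  obtain ⟨L, l1, l2⟩ := Solv.exists_coatom_ge (nt W (le_sSup ⟨1, cj_one _, le_inf am1 c3⟩)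
    (w1.trans_lt (inf_le_left.trans_lt m1.lt_top)).ne)
  have l3 : L ≠ M := fun e => k6 (cj_eq_self_of_mem (e ▸ l2 k10))
  have s0 : ∀ y ∈ M, cj(y * c, A) ≤ M := fun y hy => by rw [cj_mul]; exact cj_le_of_mem c4 (le_normalizer hy)
  obtain ⟨_, ⟨y, hy, rfl⟩, x1, x2⟩ := Solv.exists_le_normalizer_sSup M {X | ∃ y ∈ M, cj(y * c, A) = X}
    {X | (∃ y ∈ M, cj(y * c, A) = X) ∧ X ≤ cj(c, M)}
    (by rintro _ ⟨y, hy, rfl⟩; exact a1 _ M m1 (s0 y hy) fun e => c2 (by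
      rw [← cj_inj (g := y), ← cj_mul, ← e, cj_eq_self_of_mem hy]))
    (by rintro _ ⟨y, hy, rfl⟩ g hg; exact ⟨g * y, mul_mem hg hy, by rw [mul_assoc, cj_mul]; rfl⟩)
    ⟨fun X h => h.1, fun h => b1 fun y hy => cj_eq_self_iff.1 (f1 y hy (h ⟨y, hy, rfl⟩).2)⟩
  refine x1 ⟨⟨y, hy, rfl⟩, (c0 (y * c) c L M l1 m1 l3 (le_inf (le_trans (fun z hz => ?_) l2) (s0 y hy)) (le_inf
    ((le_sSup ⟨c, rfl, c6⟩ : _ ≤ W).trans (le_normalizer.trans l2)) c4)).elim (fun e => e ▸ am c) fun e => e.2.1⟩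
  have z1 : cj(z * c, A) ≤ cj(c, M) := by
    rw [cj_mul]
    exact (cj_le_of_mem (le_sSup (by exact And.intro ⟨1, one_mem _, by rw [one_mul]⟩ (am c))) (x2 hz)).trans (sSup_le fun X h => h.2)
  exact w2 z (by rw [f1 z (s0 y hy hz) z1]; exact le_inf am1 c3) (le_inf (s0 z (s0 y hy hz)) z1)

theorem flavell (hA : Full A ⊤) (h0 : A ≠ ⊤) : sSup {H | H ≠ ⊤ ∧ Full A H} = ⊤ ∨
    ∃ M, IsCoatom M ∧ A ≤ M ∧ ∀ K, IsCoatom K → A ≤ K → K = M :=
  or_iff_not_imp_left.2 fun h => flavell_aux _ A _ rfl hA h0 h fun _ a b => le_sSup ⟨a, b⟩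

theorem full_top_iff : normalClosure (A : Set G) = ⊤ ↔ Full A ⊤ :=
  haveI := normal_iff_top_le_normalizer.2 (le_normalizer_sup_commutator A ⊤)
  ⟨fun h => top_le_iff.1 (h.ge.trans (normalClosure_le_normal (le_sup_left : A ≤ _))),
    fun h => top_le_iff.1 (h.ge.trans (sup_commutator_le le_normalClosure le_normalizer_of_normal))⟩

theorem engel_gen (k : ℕ) (G : Type u) [Group G] [Finite G] : ∀ a : G, Full (zpowers a) ⊤ →
    zpowers a ⊔ closure (Set.range (fun x => ⁅x, a⁆)^[k]) = ⊤ := by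
  induction G, ‹Group G›, ‹Finite G› using Solv.card_induction' with | h G ih => ?_
  intro a ha
  by_contra h
  rcases flavell ha (fun e => h (top_le_iff.1 (e ▸ le_sup_left))) with h1 | ⟨M, m1, m2, m3⟩
  · refine h (top_le_iff.1 (h1 ▸ sSup_le fun H ⟨h2, h3⟩ => ?_))
    have a1 : a ∈ H := h3.le (mem_zpowers a)
    have a2 : (zpowers a).subgroupOf H = zpowers ⟨a, a1⟩ := map_injective H.subtype_injective (by
      rw [map_subgroupOf_eq_of_le h3.le, MonoidHom.map_zpowers]; rfl)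
    have := congrArg (map H.subtype) (ih H (Solv.card_lt_of_ne_top h2) ⟨a, a1⟩ (full_top_iff.1 (a2 ▸ (full_iff' h3.le).2 h3)))
    rw [map_subtype_top, Subgroup.map_sup, MonoidHom.map_zpowers, MonoidHom.map_closure] at this
    refine this.ge.trans (sup_le_sup_left (Subgroup.closure_mono ?_) _)
    rintro _ ⟨_, ⟨x, rfl⟩, rfl⟩
    exact ⟨x, (Function.Semiconj.iterate_right (f := H.subtype) (ga := fun x => ⁅x, ⟨a, a1⟩⁆) (gb := fun x => ⁅x, a⁆)
      (fun x => map_commutatorElement _ _ _) k x).symm⟩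
  · obtain ⟨K, k1, k2⟩ := Solv.exists_coatom_ge h
    rw [m3 K k1 (le_sup_left.trans k2)] at k2
    have h1 : ∀ x, ⁅x, a⁆ ∈ M → x ∈ M := fun x hx => by
      have h2 := cj_eq_self_iff.1 (m3 _ (isCoatom_cj m1 x⁻¹) (zpowers_le.2 (mem_cj.2 (by
        simpa only [commutatorElement_def, inv_inv, inv_mul_cancel_right] using mul_mem hx (m2 (mem_zpowers a))))))
      rcases m1.le_iff.1 (le_normalizer (H := M)) with e | e
      · exact absurd (top_le_iff.1 (ha.ge.trans (sup_commutator_le m2 e.ge))) m1.1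
      · exact inv_mem_iff.1 (e.le h2)
    have h2 : ∀ n x, (fun x => ⁅x, a⁆)^[n] x ∈ M → x ∈ M := fun n => by
      induction n with
      | zero => exact fun _ h => h
      | succ n ih => exact fun x h => h1 x (ih _ h)
    exact m1.1 (eq_top_iff.2 fun x _ => h2 k x (k2 (mem_sup_right (subset_closure ⟨x, rfl⟩))))

end Cfsg.Agent.Zip2
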